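import Groth.Agent.DescLib.AffineDesc

/-!
# Properties local on the target and finite disjoint unions; effectivity from the affine case
-/

universe w u

set_option autoImplicit false
set_option backward.isDefEq.respectTransparency false
set_option backward.isDefEq.respectTransparency.types false

open CategoryTheory CategoryTheory.Limits AlgebraicGeometry Opposite Desc

namespace Groth.Agent.DescLib

variable {σ : Type w} [Small.{u} σ] {Y V : σ → Scheme.{u}} (q : ∀ j, Y j ⟶ V j)

/-- A disjoint union of morphisms pulls back to its components. -/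
lemma isPullback_sigmaMap (j : σ) :
    IsPullback (Sigma.ι Y j) (q j) (Limits.Sigma.map q) (Sigma.ι V j) := by
  have hc : CommSq (Sigma.ι Y j) (q j) (Limits.Sigma.map q) (Sigma.ι V j) := ⟨Sigma.ι_map _ _⟩
  refine IsPullback.of_iso_pullback hc (IsOpenImmersion.isoOfRangeEq (Sigma.ι Y j) (pullback.fst _ _) ?_) ?_ ?_
  · rw [Scheme.Pullback.range_fst]
    ext z
    constructor
    · rintro ⟨y, rfl⟩
      exact ⟨q j y, by rw [← Scheme.Hom.comp_apply, ← Scheme.Hom.comp_apply, Sigma.ι_map]⟩
    · rintro ⟨v, hv⟩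
      obtain ⟨k, y, rfl⟩ := (sigmaOpenCover Y).exists_eq z
      have e : Sigma.ι V k (q k y) = Sigma.ι V j v := by
        refine Eq.trans ?_ hv.symm
        exact congrArg (fun (φ : Y k ⟶ ∐ V) => φ y) (Sigma.ι_map q k).symm
      obtain rfl := (Sigma.mk.inj_iff.1 ((sigmaι_eq_iff _ _ _ _ _).1 e)).1
      exact ⟨y, rfl⟩
  · exact IsOpenImmersion.isoOfRangeEq_hom_fac _ _ _
  · rw [← cancel_mono (Sigma.ι V j), Category.assoc, ← pullback.condition,
      IsOpenImmersion.isoOfRangeEq_hom_fac_assoc, Sigma.ι_map]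

/-- A property local on the target is stable under disjoint unions. -/
lemma prop_sigmaMap (P : MorphismProperty Scheme.{u}) [IsZariskiLocalAtTarget P] {σ : Type u}
    {Y V : σ → Scheme.{u}} (q : ∀ j, Y j ⟶ V j) (h : ∀ j, P (q j)) : P (Limits.Sigma.map q) :=
  IsZariskiLocalAtTarget.of_openCover (sigmaOpenCover V) fun j =>
    (P.arrow_mk_iso_iff (Arrow.isoMk (isPullback_sigmaMap q j).isoPullback (Iso.refl _)
      ((isPullback_sigmaMap q j).isoPullback_hom_snd.trans (Category.comp_id _).symm))).1 (h j)

lemma prop_sigmaMap' (P : MorphismProperty Scheme.{u}) [IsZariskiLocalAtTarget P] (m : ℕ)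
    (Y V : Fin m → Scheme.{u}) (q : ∀ j, Y j ⟶ V j) (h : ∀ j, P (q j)) : P (Limits.Sigma.map q) :=
  IsZariskiLocalAtTarget.of_openCover (sigmaOpenCover V) fun j =>
    (P.arrow_mk_iso_iff (Arrow.isoMk (isPullback_sigmaMap q j).isoPullback (Iso.refl _)
      ((isPullback_sigmaMap q j).isoPullback_hom_snd.trans (Category.comp_id _).symm))).1 (h j)

/-- Effectivity for a single covering morphism from the case of affine schemes. -/
theorem effective_single (P : MorphismProperty Scheme.{u}) [P.IsStableUnderBaseChange] [IsZariskiLocalAtTarget P]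
    (h3 : ∀ (X S : Scheme.{u}) (p : X ⟶ S), IsAffine X → IsAffine S → Flat p → Surjective p →
      ∀ D : Desc.SchDD p, P D.obj.hom → ∃ U : Over S, Nonempty ((Desc.toDD p).obj U ≅ D))
    {X S : Scheme.{u}} (p : X ⟶ S) [Surjective p] [Flat p] [QuasiCompact p]
    (D : SchDD p) (hD : P D.obj.hom) : ∃ U : Over S, Nonempty ((toDD p).obj U ≅ D) :=
  (isEffective_ofSchDD_iff p D).1 (effective_of_affine_case P (prop_sigmaMap' P) h3 (fun _ : PUnit.{u + 1} => p)
    (by rw [Presieve.ofArrows_pUnit]; exact p.singleton_mem_fpqcPrecoverage) _ fun _ => hD)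

/-- Descent data affine over the covering are effective. -/
theorem effective_of_isAffineHom {X S : Scheme.{u}} (p : X ⟶ S) [Surjective p] [Flat p] [QuasiCompact p]
    (D : SchDD p) [h : IsAffineHom D.obj.hom] : ∃ U : Over S, Nonempty ((toDD p).obj U ≅ D) :=
  effective_single @IsAffineHom (fun X S p _ _ _ _ D (hD : IsAffineHom D.obj.hom) =>
    haveI : IsAffine D.obj.left := isAffine_of_isAffineHom D.obj.hom
    effective_affine p D) p D h

end Groth.Agent.DescLib
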