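import Groth.Agent.EtFound.Descent
import Mathlib.AlgebraicGeometry.Morphisms.Immersion
import Mathlib.AlgebraicGeometry.Morphisms.UniversallyOpen

/-!
# Descent of immersions
-/

set_option autoImplicit false
set_option backward.isDefEq.respectTransparency false
set_option backward.isDefEq.respectTransparency.types false
universe u

open CategoryTheory CategoryTheory.Limits AlgebraicGeometry

namespace Groth.Agent.DescLib

/-- A morphism which becomes an immersion after a base change along which closed immersions descend,
and whose range is locally closed, is an immersion. -/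
theorem isImmersion_of_pullback_fst {X Y Z : Scheme.{u}} (Q : MorphismProperty Scheme.{u})
    [Q.IsStableUnderBaseChange] [MorphismProperty.DescendsAlong @IsClosedImmersion Q]
    (f : X ⟶ Z) (g : Y ⟶ Z) (hf : Q f) [IsImmersion (pullback.fst f g)]
    (hR : IsLocallyClosed (Set.range g)) : IsImmersion g := by
  let U : Z.Opens := ⟨coborder (Set.range g), hR.isOpen_coborder⟩
  let g' : Y ⟶ U := IsOpenImmersion.lift U.ι g (by simpa [U] using subset_coborder)
  have hg' : g' ≫ U.ι = g := IsOpenImmersion.lift_fac _ _ _
  let f' := pullback.snd f U.ι
  have : IsImmersion (pullback.fst f (g' ≫ U.ι)) := by rwa [hg']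
  have : IsImmersion (pullback.fst f' g' ≫ pullback.fst f U.ι) := by
    rw [← pullbackLeftPullbackSndIso_hom_fst]
    infer_instance
  have himm : IsImmersion (pullback.fst f' g') := .of_comp _ (pullback.fst f U.ι)
  have hclosed : IsClosed (Set.range g') := by
    have e : Set.range g' = U.ι ⁻¹' (Set.range g) := by
      rw [← hg', Scheme.Hom.comp_base, TopCat.coe_comp, Set.range_comp,
        Set.preimage_image_eq _ U.ι.isOpenEmbedding.injective]
    rw [e]
    exact isClosed_preimage_val_coborder
  have : IsClosedImmersion (pullback.fst f' g') :=
    IsClosedImmersion.of_isPreimmersion _ (by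
      rw [Scheme.Pullback.range_fst]
      exact hclosed.preimage f'.continuous)
  have : IsClosedImmersion g' :=
    MorphismProperty.of_pullback_fst_of_descendsAlong (P := @IsClosedImmersion) (Q := Q) (f := f')
      (MorphismProperty.pullback_snd _ _ hf) this
  rw [← hg']
  infer_instance

/-- Local closedness descends along open surjections. -/
theorem isLocallyClosed_of_preimage {X Y : Scheme.{u}} (f : X ⟶ Y) (ho : IsOpenMap f)
    (hs : Function.Surjective f) {E : Set Y} (h : IsLocallyClosed (f ⁻¹' E)) : IsLocallyClosed E := by
  rw [isLocallyClosed_iff_isOpen_coborder, ← Set.image_preimage_eq (coborder E) hs,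
    ← coborder_preimage ho f.continuous]
  exact ho _ h.isOpen_coborder

end Groth.Agent.DescLib
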