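import Mathlib.RingTheory.Flat.FaithfullyFlat.Algebra
import Mathlib.RingTheory.TensorProduct.Maps

/-!
# Exactness of the Amitsur complex in low degree
-/

universe u

set_option autoImplicit false
set_option backward.isDefEq.respectTransparency false
set_option backward.isDefEq.respectTransparency.types false

open TensorProduct

namespace Groth.Agent.DescLib

variable {R A : Type u} [CommRing R] [CommRing A] [Algebra R A] [Module.FaithfullyFlat R A]

/-- An element lies in a range as soon as it does after tensoring with a faithfully flat algebra. -/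
lemma mem_range_of_one_tmul_mem {M N : Type u} [AddCommGroup M] [Module R M] [AddCommGroup N] [Module R N]
    (g : M →ₗ[R] N) (x : N) (h : (1 : A) ⊗ₜ[R] x ∈ LinearMap.range (g.lTensor A)) : x ∈ LinearMap.range g := by
  rw [← Submodule.Quotient.mk_eq_zero (LinearMap.range g)]
  apply Module.FaithfullyFlat.tensorProduct_mk_injective (A := R) (B := A) (N ⧸ LinearMap.range g)
  obtain ⟨z, hz⟩ := h
  have := congrArg ((LinearMap.range g).mkQ.lTensor A) hz
  rw [← LinearMap.comp_apply, ← LinearMap.lTensor_comp, LinearMap.range_mkQ_comp, LinearMap.lTensor_zero,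
    LinearMap.zero_apply] at this
  simpa using this.symm

theorem amitsur_degree_zero (M : Type u) [AddCommGroup M] [Module R M] (x : A ⊗[R] M)
    (hx : TensorProduct.mk R A (A ⊗[R] M) 1 x = LinearMap.lTensor A (TensorProduct.mk R A M 1) x) :
    x ∈ LinearMap.range (TensorProduct.mk R A M 1) :=
  mem_range_of_one_tmul_mem _ x ⟨x, hx.symm⟩

theorem amitsur_degree_one (M : Type u) [AddCommGroup M] [Module R M] :
    Function.Exact
      (LinearMap.lTensor M (Algebra.TensorProduct.includeRight : A →ₐ[R] A ⊗[R] A).toLinearMap -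
        LinearMap.lTensor M
          (Algebra.TensorProduct.includeLeft : A →ₐ[R] A ⊗[R] A).toLinearMap)
      (LinearMap.lTensor M
          (Algebra.TensorProduct.includeRight : A ⊗[R] A →ₐ[R] A ⊗[R] (A ⊗[R] A)).toLinearMap -
        LinearMap.lTensor M
          (Algebra.TensorProduct.map (AlgHom.id R A)
            (Algebra.TensorProduct.includeRight : A →ₐ[R] A ⊗[R] A)).toLinearMap +
        LinearMap.lTensor M
          (Algebra.TensorProduct.map (AlgHom.id R A)
            (Algebra.TensorProduct.includeLeft : A →ₐ[R] A ⊗[R] A)).toLinearMap) := by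
  rw [LinearMap.exact_iff]
  set d₁ := LinearMap.lTensor M (Algebra.TensorProduct.includeRight : A →ₐ[R] A ⊗[R] A).toLinearMap -
        LinearMap.lTensor M (Algebra.TensorProduct.includeLeft : A →ₐ[R] A ⊗[R] A).toLinearMap
  set d₂ := LinearMap.lTensor M
          (Algebra.TensorProduct.includeRight : A ⊗[R] A →ₐ[R] A ⊗[R] (A ⊗[R] A)).toLinearMap -
        LinearMap.lTensor M
          (Algebra.TensorProduct.map (AlgHom.id R A)
            (Algebra.TensorProduct.includeRight : A →ₐ[R] A ⊗[R] A)).toLinearMap +
        LinearMap.lTensor M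
          (Algebra.TensorProduct.map (AlgHom.id R A)
            (Algebra.TensorProduct.includeLeft : A →ₐ[R] A ⊗[R] A)).toLinearMap
  refine le_antisymm (fun x hx => ?_) ?_
  · let ψ := (TensorProduct.leftComm R M A (A ⊗[R] A)).toLinearMap
    let z := (TensorProduct.leftComm R M A A).toLinearMap
    have key : ψ (d₂ x) = (1 : A) ⊗ₜ[R] x - d₁.lTensor A (z x) := by
      clear hx
      induction x using TensorProduct.induction_on with
      | zero => simp
      | add p q hp hq => simp only [map_add, TensorProduct.tmul_add] at hp hq ⊢; rw [hp, hq]; abel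
      | tmul m y =>
        induction y using TensorProduct.induction_on with
        | zero => simp
        | add p q hp hq => simp only [TensorProduct.tmul_add, map_add] at hp hq ⊢; rw [hp, hq]; abel
        | tmul a b =>
          simp [ψ, z, d₁, d₂, TensorProduct.tmul_sub]
          abel
    rw [LinearMap.mem_ker.1 hx, map_zero, eq_comm, sub_eq_zero] at key
    exact mem_range_of_one_tmul_mem d₁ x ⟨z x, key.symm⟩
  · rintro _ ⟨y, rfl⟩
    rw [LinearMap.mem_ker]
    induction y using TensorProduct.induction_on with
    | zero => simp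
    | add p q hp hq => simp only [map_add, hp, hq, add_zero]
    | tmul m a =>
      simp [d₁, d₂, Algebra.TensorProduct.one_def]

theorem existsUnique_baseChange (M N : Type u) [AddCommGroup M] [Module R M] [AddCommGroup N] [Module R N]
    (f : A ⊗[R] M →ₗ[A] A ⊗[R] N)
    (hf : ∀ m : M,
      LinearMap.rTensor N (Algebra.TensorProduct.includeLeft : A →ₐ[R] A ⊗[R] A).toLinearMap (f (1 ⊗ₜ[R] m)) =
        LinearMap.rTensor N (Algebra.TensorProduct.includeRight : A →ₐ[R] A ⊗[R] A).toLinearMap (f (1 ⊗ₜ[R] m))) :
    ∃! h : M →ₗ[R] N, h.baseChange A = f := by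
  have hinj := Module.FaithfullyFlat.tensorProduct_mk_injective (A := R) (B := A) N
  let φ : M →ₗ[R] A ⊗[R] N := (f.restrictScalars R) ∘ₗ TensorProduct.mk R A M 1
  have hφ : ∀ m, φ m ∈ LinearMap.range (TensorProduct.mk R A N 1) := fun m => by
    refine amitsur_degree_zero N _ ?_
    have e : ∀ x : A ⊗[R] N,
        TensorProduct.assoc R A A N (LinearMap.rTensor N
          (Algebra.TensorProduct.includeRight : A →ₐ[R] A ⊗[R] A).toLinearMap x) =
            TensorProduct.mk R A (A ⊗[R] N) 1 x ∧
        TensorProduct.assoc R A A N (LinearMap.rTensor N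
          (Algebra.TensorProduct.includeLeft : A →ₐ[R] A ⊗[R] A).toLinearMap x) =
            LinearMap.lTensor A (TensorProduct.mk R A N 1) x := fun x => by
      induction x using TensorProduct.induction_on with
      | zero => simp
      | tmul a n => simp
      | add p q hp hq => simp only [map_add, hp.1, hq.1, hp.2, hq.2, and_self]
    rw [← (e _).1, ← (e _).2]
    exact congrArg _ (hf m).symm
  let h : M →ₗ[R] N := (LinearEquiv.ofInjective _ hinj).symm.toLinearMap ∘ₗ φ.codRestrict _ hφ
  have hh : ∀ m, (1 : A) ⊗ₜ[R] h m = f (1 ⊗ₜ[R] m) := fun m =>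
    congrArg Subtype.val ((LinearEquiv.ofInjective _ hinj).apply_symm_apply (φ.codRestrict _ hφ m))
  refine ⟨h, ?_, fun k hk => LinearMap.ext fun m => hinj ?_⟩
  · refine TensorProduct.AlgebraTensorModule.curry_injective (LinearMap.ext_ring (LinearMap.ext fun m => ?_))
    simpa using hh m
  · show (1 : A) ⊗ₜ[R] k m = 1 ⊗ₜ[R] h m
    rw [hh, ← hk, LinearMap.baseChange_tmul]

end Groth.Agent.DescLib
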