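import Groth.Agent.DescLib.EtaleFibre
import Groth.Prelude.Def_Flat
import Groth.Agent.AlgSpDec.More
import Mathlib.AlgebraicGeometry.Morphisms.QuasiFinite

/-!
# Local dimension and étale morphisms
-/

universe u

set_option autoImplicit false
set_option backward.isDefEq.respectTransparency false
set_option backward.isDefEq.respectTransparency.types false

open CategoryTheory CategoryTheory.Limits AlgebraicGeometry TopologicalSpace Order

namespace Groth.Agent.DescLib

section

attribute [local instance] specializationOrder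

lemma coheight_apply {X Y : Scheme.{u}} (f : X ⟶ Y) (hg : GeneralizingMap f)
    (hd : ∀ y, _root_.IsDiscrete (f ⁻¹' {y})) (x : X) : coheight (f x) = coheight x := by
  have hfib : ∀ ⦃a b : X⦄, b ⤳ a → f a = f b → a = b := fun a b hab e => by
    have := (hd (f a)).to_subtype
    exact congrArg Subtype.val (show (⟨b, e.symm⟩ : f ⁻¹' {f a}) = ⟨a, rfl⟩ from
      (specializes_iff_eq).1 ((subtype_specializes_iff (⟨b, e.symm⟩ : f ⁻¹' {f a}) ⟨a, rfl⟩).2 hab)).symm
  have hmono : StrictMono f := fun a b hab => lt_of_le_of_ne ((show b ⤳ a from hab.le).map f.continuous)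
    fun e => hab.ne (hfib hab.le e)
  refine le_antisymm ?_ (coheight_le_coheight_apply_of_strictMono _ hmono x)
  refine coheight_le_iff'.mpr fun p hp => ?_
  induction p using RelSeries.inductionOn generalizing x with
  | singleton x => simp
  | cons p y hy ih =>
    simp only [RelSeries.head_cons] at hp
    have hlt : f x < p.head := hp ▸ hy
    obtain ⟨x', hx', he⟩ := hg (show p.head ⤳ f x from hlt.le)
    have hlt' : x < x' := lt_of_le_of_ne hx' fun e => hlt.ne (e ▸ he)
    have h1 := ih x' he.symm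
    have h2 := coheight_add_one_le hlt'
    simp only [RelSeries.cons_length, Nat.cast_add, Nat.cast_one]
    exact le_trans (add_le_add h1 le_rfl) h2

theorem localDim_apply {X Y : Scheme.{u}} (f : X ⟶ Y) (hg : GeneralizingMap f) (ho : IsOpenMap f)
    (hd : ∀ y, _root_.IsDiscrete (f ⁻¹' {y})) (x : X) : FlatMor.localDim Y (f x) = FlatMor.localDim X x := by
  refine le_antisymm (le_iInf fun ⟨V, hV⟩ => ?_) (le_iInf fun ⟨W, hW⟩ => ?_)
  · let W : TopologicalSpace.Opens Y := ⟨f '' (V : Set X), ho _ V.2⟩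
    refine le_trans (iInf_le _ ⟨W, ⟨x, hV, rfl⟩⟩) ?_
    rw [Groth.Agent.AlgSpDec.krullDim_open, Groth.Agent.AlgSpDec.krullDim_open]
    refine iSup_le ?_
    rintro ⟨_, v, hv, rfl⟩
    rw [coheight_apply f hg hd]
    exact le_iSup (fun w : (V : Set X) => (coheight (w : X) : WithBot ℕ∞)) ⟨v, hv⟩
  · let V : TopologicalSpace.Opens X := ⟨f ⁻¹' (W : Set Y), W.2.preimage f.continuous⟩
    refine le_trans (iInf_le _ ⟨V, hW⟩) ?_
    rw [Groth.Agent.AlgSpDec.krullDim_open, Groth.Agent.AlgSpDec.krullDim_open]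
    refine iSup_le fun v => ?_
    rw [← coheight_apply f hg hd]
    exact le_iSup (fun w : (W : Set Y) => (coheight (w : Y) : WithBot ℕ∞)) ⟨f v, v.2⟩

end

theorem localDim_eq_of_etale {X Y : Scheme.{u}} (f : X ⟶ Y) [Etale f] (x : X) :
    FlatMor.localDim X x = FlatMor.localDim Y (f x) :=
  (localDim_apply f (Flat.generalizingMap f) f.isOpenMap (fun y => f.isDiscrete_preimage_singleton y) x).symm

lemma fibreDimAt_eq {U V : Scheme.{u}} (h : U ⟶ V) (x : U) {y : V} (hy : h x = y) (z : h.fiber y)
    (hz : h.fiberι y z = x) : FlatMor.fibreDimAt h x = FlatMor.localDim (h.fiber y) z := by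
  subst hy
  show FlatMor.localDim (h.fiber (h x)) (h.asFiber x) = _
  congr 1
  exact (h.fiberι (h x)).injective (by rw [hz, Scheme.Hom.fiberι_asFiber])

theorem fibreDimAt_eq_of_etale {U U' V V' : Scheme.{u}} (h : U ⟶ V) (h' : U' ⟶ V') (a : U' ⟶ U)
    (b : V' ⟶ V) [Etale a] [Etale b] (comm : h' ≫ b = a ≫ h) (u' : U') :
    FlatMor.fibreDimAt h (a u') = FlatMor.fibreDimAt h' u' := by
  let v' := h' u'
  let φ : h'.fiber v' ⟶ h.fiber (b v') :=
    pullback.lift (h'.fiberι v' ≫ a) (h'.fiberToSpecResidueField v' ≫ Spec.map (b.residueFieldMap v')) (by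
      rw [Category.assoc, ← comm, Category.assoc, Scheme.Hom.SpecMap_residueFieldMap_fromSpecResidueField,
        ← Category.assoc, ← Category.assoc]
      exact congrArg (fun m => m ≫ b) (IsPullback.of_hasPullback h' (V'.fromSpecResidueField v')).w)
  have : Etale φ := etale_fiberMap h h' a b comm v' φ (pullback.lift_fst _ _ _) (pullback.lift_snd _ _ _)
  have hy : h (a u') = b v' := by rw [← Scheme.Hom.comp_apply, ← comm, Scheme.Hom.comp_apply]
  have hz : h.fiberι (b v') (φ (h'.asFiber u')) = a u' := by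
    rw [← Scheme.Hom.comp_apply, show φ ≫ h.fiberι (b v') = h'.fiberι v' ≫ a from pullback.lift_fst _ _ _,
      Scheme.Hom.comp_apply, Scheme.Hom.fiberι_asFiber]
  rw [fibreDimAt_eq h (a u') hy _ hz, ← localDim_eq_of_etale φ]
  rfl

end Groth.Agent.DescLib
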