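import Groth.Agent.DescLib.Sieve

/-!
# The canonical descent datum functor: full and faithful
-/

universe w u

set_option autoImplicit false
set_option backward.isDefEq.respectTransparency false
set_option backward.isDefEq.respectTransparency.types false

open CategoryTheory CategoryTheory.Limits AlgebraicGeometry Opposite Desc

namespace Groth.Agent.DescLib

variable {S : Scheme.{u}} {ι : Type w} {X : ι → Scheme.{u}} {f : ∀ i, X i ⟶ S}

theorem toDDFam_faithful
    (hsep : ∀ ⦃T Z : Scheme.{u}⦄ (x : T ⟶ S) (a a' : T ⟶ Z),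
      (∀ ⦃T' : Scheme.{u}⦄ (t : T' ⟶ T), factorSieve f (x) t → t ≫ a = t ≫ a') → a = a') :
    (toDDFam f).Faithful := by
  refine ⟨fun {U U' a a'} e => Over.OverMorphism.ext (hsep U.hom _ _ fun T t ⟨i, x', h⟩ => ?_)⟩
  have ei := congrArg (fun c : (toDDFam f).obj U ⟶ (toDDFam f).obj U' =>
    pullback.lift x' t h ≫ (c.hom i).left ≫ pullback.snd _ _) e
  simpa [toDDFam, canonicalDDFam] using ei

theorem toDDFam_full (hcov : factorSieve f (𝟙 S) ∈ Scheme.fpqcTopology S) : (toDDFam f).Full := by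
  refine ⟨fun {U U'} b => ?_⟩
  have hR : ∀ {T : Scheme.{u}} (x : T ⟶ S), factorSieve f x ∈ Scheme.fpqcTopology T := fun x => by
    simpa using factorSieve_mem_comp f hcov x
  let pt {T : Scheme.{u}} (t : T ⟶ U.left) (i : ι) (x' : T ⟶ X i) (h : x' ≫ f i = t ≫ U.hom) :
      T ⟶ U'.left := pullback.lift x' t h ≫ (b.hom i).left ≫ pullback.snd (f i) U'.hom
  have hind : ∀ {T : Scheme.{u}} (t : T ⟶ U.left) (i₁ i₂ : ι) (x₁ : T ⟶ X i₁) (x₂ : T ⟶ X i₂)
      (h₁ : x₁ ≫ f i₁ = t ≫ U.hom) (h₂ : x₂ ≫ f i₂ = t ≫ U.hom), pt t i₁ x₁ h₁ = pt t i₂ x₂ h₂ := by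
    intro T t i₁ i₂ x₁ x₂ h₁ h₂
    let v : Lifts (((toDDFam f).obj U).obj i₁) x₁ := ⟨pullback.lift x₁ t h₁, pullback.lift_fst _ _ _⟩
    have e := congrArg (fun z => z ≫ pullback.snd (f i₂) U'.hom)
      (b.comm x₁ x₂ (h₁.trans h₂.symm) v (b.push v) rfl)
    simp only [toDDFam, canonicalDDFam, Equiv.coe_fn_mk, canMapFam_val, SchDDFam.Hom.push, v,
      pullback.lift_snd, Category.assoc] at e
    exact e
  have hpt : ∀ {T T' : Scheme.{u}} (g : T' ⟶ T) (t : T ⟶ U.left) (i : ι) (x' : T ⟶ X i)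
      (h : x' ≫ f i = t ≫ U.hom) (h' : (g ≫ x') ≫ f i = (g ≫ t) ≫ U.hom),
      pt (g ≫ t) i (g ≫ x') h' = g ≫ pt t i x' h := by
    intro T T' g t i x' h h'
    simp only [pt]
    rw [← Category.assoc g]
    congr 1
    apply pullback.hom_ext <;> simp
  obtain ⟨a, ha⟩ := exists_glue _ (hR U.hom)
    (fun T t ht => pt t ht.choose ht.choose_spec.choose ht.choose_spec.choose_spec)
    (fun T T' g t ht t' ht' e => by
      subst e
      rw [← hpt g t _ _ ht.choose_spec.choose_spec (by simp [ht.choose_spec.choose_spec])]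
      exact hind _ _ _ _ _ _ _)
  have ha' : ∀ {T : Scheme.{u}} (t : T ⟶ U.left) (i : ι) (x' : T ⟶ X i) (h : x' ≫ f i = t ≫ U.hom),
      t ≫ a = pt t i x' h := fun t i x' h => (ha t ⟨i, x', h⟩).trans (hind _ _ _ _ _ _ _)
  have hov : a ≫ U'.hom = U.hom := by
    refine hom_ext_of_covering _ (hR U.hom) _ _ fun T t ⟨i, x', h⟩ => ?_
    have hb : (b.hom i).left ≫ pullback.fst (f i) U'.hom = pullback.fst (f i) U.hom := Over.w (b.hom i)
    rw [← Category.assoc t, ha' t i x' h]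
    simp only [pt, Category.assoc, ← pullback.condition, reassoc_of% hb, pullback.lift_fst_assoc, h]
  refine ⟨Over.homMk a hov, SchDDFam.hom_ext (funext fun i => Over.OverMorphism.ext (pullback.hom_ext ?_ ?_))⟩
  · exact (pullback.lift_fst _ _ _).trans ((Category.comp_id _).trans (Over.w (b.hom i)).symm)
  · refine (pullback.lift_snd _ _ _).trans ((ha' _ i (pullback.fst _ _) pullback.condition).trans ?_)
    simp only [pt]
    rw [show pullback.lift (pullback.fst (f i) U.hom) (pullback.snd _ _) pullback.condition = 𝟙 _ from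
      pullback.hom_ext (by simp) (by simp), Category.id_comp]

theorem toDDFam_full_faithful (hcov : factorSieve f (𝟙 S) ∈ Scheme.fpqcTopology S) :
    (toDDFam f).Full ∧ (toDDFam f).Faithful :=
  ⟨toDDFam_full hcov, toDDFam_faithful fun _ _ x a a' h => hom_ext_of_covering _
    (by simpa using factorSieve_mem_comp f hcov x) a a' h⟩

theorem toDD_full {X₀ : Scheme.{u}} (p : X₀ ⟶ S)
    (hcov : factorSieve (fun _ : PUnit.{u + 1} => p) (𝟙 S) ∈ Scheme.fpqcTopology S) : (toDD p).Full := by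
  have := toDDFam_full hcov
  have : (SchDDFam.toSchDD.{u} p).IsEquivalence := (SchDDFam.oneEquiv.{u} p).isEquivalence_functor
  exact inferInstanceAs ((toDDFam (fun _ : PUnit.{u + 1} => p)) ⋙ SchDDFam.toSchDD p).Full

theorem toDD_faithful {X₀ : Scheme.{u}} (p : X₀ ⟶ S)
    (hsep : ∀ ⦃T Z : Scheme.{u}⦄ (x : T ⟶ S) (a a' : T ⟶ Z),
      pullback.fst x p ≫ a = pullback.fst x p ≫ a' → a = a') : (toDD p).Faithful := by
  have : (toDDFam (fun _ : PUnit.{u + 1} => p)).Faithful :=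
    toDDFam_faithful fun _ _ x a a' h => hsep x a a' (h _ ⟨⟨⟩, pullback.snd _ _, pullback.condition.symm⟩)
  have : (SchDDFam.toSchDD.{u} p).IsEquivalence := (SchDDFam.oneEquiv.{u} p).isEquivalence_functor
  exact inferInstanceAs ((toDDFam (fun _ : PUnit.{u + 1} => p)) ⋙ SchDDFam.toSchDD p).Faithful

end Groth.Agent.DescLib
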