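import Groth.Agent.DescLib.IndQAEff
import Groth.Agent.GrpdLib.InvOpen

/-!
# Descent along finite locally free morphisms
-/

universe u

set_option autoImplicit false
set_option backward.isDefEq.respectTransparency false
set_option backward.isDefEq.respectTransparency.types false

open CategoryTheory CategoryTheory.Limits AlgebraicGeometry Opposite Desc TopologicalSpace
open Groth.Agent.DescLib.IndQA

namespace Groth.Agent.DescLib

variable {X S : Scheme.{u}} (p : X ⟶ S) (D : SchDD p)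

/-- A stable open carries a descent datum. -/
theorem exists_subDatum (O : D.obj.left.Opens) (hOst : pullback.fst (sv p D) p ⁻¹ᵁ O = d₁ p D ⁻¹ᵁ O) :
    ∃ (D' : SchDD p) (j : D' ⟶ D), IsOpenImmersion j.hom.left ∧ Set.range j.hom.left = (O : Set D.obj.left) := by
  have hOst' : ∀ {T : Scheme.{u}} (a : T ⟶ D.obj.left) (x : T ⟶ X) (e : a ≫ sv p D = x ≫ p) (t : T),
      a t ∈ O → IndQA.tr p D a x e t ∈ O := fun a x e t ht => by
    rw [← lift_d₁ p D a x e, Scheme.Hom.comp_apply]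
    show pullback.lift a x e t ∈ d₁ p D ⁻¹ᵁ O
    rw [← hOst]
    show pullback.fst (sv p D) p (pullback.lift a x e t) ∈ O
    rw [← Scheme.Hom.comp_apply, pullback.lift_fst]
    exact ht
  let vO : O.toScheme ⟶ X := O.ι ≫ D.obj.hom
  have hptO : ∀ {T : Scheme.{u}} {x₀ : T ⟶ X} (a : Lifts (Over.mk vO) x₀) (x₁ : T ⟶ X), x₀ ≫ p = x₁ ≫ p →
      (a.1 ≫ O.ι) ≫ sv p D = x₁ ≫ p := fun {T x₀} a x₁ h => by
    rw [← Category.assoc, Category.assoc a.1, show a.1 ≫ O.ι ≫ D.obj.hom = x₀ from a.2, h]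
  have hτO : ∀ {T : Scheme.{u}} {x₀ : T ⟶ X} (x₁ : T ⟶ X) (h : x₀ ≫ p = x₁ ≫ p) (a : Lifts (Over.mk vO) x₀),
      ∃ b : Lifts (Over.mk vO) x₁, b.1 ≫ O.ι = IndQA.tr p D (a.1 ≫ O.ι) x₁ (hptO a x₁ h) := fun {T x₀} x₁ h a => by
    have hs : Set.range (IndQA.tr p D (a.1 ≫ O.ι) x₁ (hptO a x₁ h)) ⊆ Set.range O.ι := by
      rintro _ ⟨t, rfl⟩
      rw [O.range_ι]
      exact hOst' _ _ _ t (a.1 t).2
    refine ⟨⟨IsOpenImmersion.lift O.ι _ hs, ?_⟩, IsOpenImmersion.lift_fac _ _ _⟩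
    show _ ≫ O.ι ≫ D.obj.hom = x₁
    rw [IsOpenImmersion.lift_fac_assoc, tr_hom]
  choose σ hσ using @hτO
  have σ_comp : ∀ {T : Scheme.{u}} {x₀ : T ⟶ X} (x₁ x₂ : T ⟶ X) (h : x₀ ≫ p = x₁ ≫ p) (h' : x₁ ≫ p = x₂ ≫ p)
      (a : Lifts (Over.mk vO) x₀), σ x₂ h' (σ x₁ h a) = σ x₂ (h.trans h') a := fun x₁ x₂ h h' a => by
    refine Subtype.ext ((cancel_mono O.ι).1 ?_)
    rw [hσ x₂ (h.trans h') a]
    refine (hσ x₂ h' _).trans ((IndQA.tr_congr p D (hσ x₁ h a) rfl _ ((IndQA.tr_sv p D _ _ _).trans h')).trans ?_)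
    exact IndQA.tr_comp p D _ _ _ _ _ _
  have σ_self : ∀ {T : Scheme.{u}} {x₀ : T ⟶ X} (h : x₀ ≫ p = x₀ ≫ p) (a : Lifts (Over.mk vO) x₀),
      σ x₀ h a = a := fun h a => by
    refine Subtype.ext ((cancel_mono O.ι).1 ?_)
    rw [hσ]
    exact IndQA.tr_self p D _ _ ((Category.assoc _ _ _).trans a.2) _
  let DO : SchDD p :=
    { obj := Over.mk vO
      φ := fun T x₀ x₁ h =>
        { toFun := σ x₁ h
          invFun := σ x₀ h.symm
          left_inv := fun a => (σ_comp x₁ x₀ h h.symm a).trans (σ_self rfl a)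
          right_inv := fun a => (σ_comp x₀ x₁ h.symm h a).trans (σ_self rfl a) }
      φ_natural := fun T T' q x₀ x₁ h h' a a' ha => by
        show (σ (q ≫ x₁) h' a').1 = q ≫ (σ x₁ h a).1
        rw [← cancel_mono O.ι, Category.assoc, hσ, hσ]
        exact (IndQA.tr_nat p D q _ _ _ _ _ (by rw [ha, Category.assoc]) rfl _).symm
      φ_self := fun T x a => σ_self rfl a
      φ_comp := fun T x₀ x₁ x₂ h h' a => σ_comp x₁ x₂ h h' a }
  let jD : DO ⟶ D := ⟨Over.homMk O.ι rfl, fun T x₀ x₁ h a b hb => by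
    show (D.φ x₀ x₁ h b).1 = (σ x₁ h a).1 ≫ O.ι
    rw [hσ]
    have e : b.1 ≫ sv p D = x₁ ≫ p := by rw [hb]; exact hptO a x₁ h
    exact (GlueFam.φ_val ((SchDDFam.ofSchDD.{u} p).obj D) (i := PUnit.unit) (k := PUnit.unit) h b e).trans
      (IndQA.tr_congr p D hb rfl _ _)⟩
  exact ⟨DO, jD, inferInstanceAs (IsOpenImmersion O.ι), O.range_ι⟩

lemma indQA_of_isAffineHom {A B : Scheme.{u}} (g : A ⟶ B) [IsAffineHom g] : MoreMor.IsIndQuasiAffineHom g := by
  rw [MorLib.IQA.indQA_iff]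
  intro V hV W hW hle
  haveI : IsAffine (g ⁻¹ᵁ V : Scheme.{u}) := hV.preimage g
  exact MorLib.IQA.qa_of_le hle hW

/-- Descent along a finite locally free surjection when every orbit lies in an affine open. -/
theorem effective_of_orbits [Surjective p] [IsFinite p] [Flat p] [LocallyOfFinitePresentation p]
    (h : ∀ v : D.obj.left, ∃ U : D.obj.left.Opens, IsAffineOpen U ∧
      ∀ r, pullback.fst (sv p D) p r = v → d₁ p D r ∈ U) :
    ∃ W : Over S, Nonempty ((toDD p).obj W ≅ D) := by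
  refine effective_of_locally_effective p D fun v => ?_
  obtain ⟨U, hU, hvU⟩ := h v
  obtain ⟨_, ⟨Y', hY', rfl⟩, hvY, -⟩ :=
    S.isBasis_affineOpens.exists_subset_of_mem_open (Set.mem_univ (sv p D v)) isOpen_univ
  replace hY' : IsAffineOpen Y' := hY'
  haveI hf : IsFinite (pullback.fst (sv p D) p) := MorphismProperty.pullback_fst _ _ inferInstance
  haveI : IsFinite (groupoid p D).s := hf
  haveI : Flat (groupoid p D).s := inferInstanceAs (Flat (pullback.fst (sv p D) p))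
  haveI : LocallyOfFinitePresentation (groupoid p D).s :=
    inferInstanceAs (LocallyOfFinitePresentation (pullback.fst (sv p D) p))
  obtain ⟨f, hOf, hfY⟩ := GrpdLib.exists_basicOpen_of_finite hU
    (((pullback.fst (sv p D) p).finite_preimage_singleton v).image (d₁ p D)) (sv p D ⁻¹ᵁ Y')
    (fun _ ⟨r, hr, e⟩ => e ▸ hvU r hr) (fun _ ⟨r, hr, e⟩ => by
      rw [← e]
      show sv p D (d₁ p D r) ∈ Y'
      rw [← Scheme.Hom.comp_apply, d₁_sv, Scheme.Hom.comp_apply, show pullback.fst (sv p D) p r = v from hr]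
      exact hvY)
  obtain ⟨W, hW, hvW, hinv, hWle⟩ := GrpdLib.exists_invariant_affineOpen (G := groupoid p D) v
    (D.obj.left.basicOpen f) (hU.basicOpen f) fun r hr => hOf ⟨r, hr, rfl⟩
  let W₀ : D.obj.left.Opens := W
  obtain ⟨D', j, hj, hr⟩ := exists_subDatum p D W₀ hinv
  refine ⟨D', j, hj, (show v ∈ Set.range j.hom.left by rw [hr]; exact hvW), ?_⟩
  haveI := hj
  haveI : IsAffine (W₀ : Scheme.{u}) := hW
  haveI : IsAffine D'.obj.left :=
    .of_isIso (IsOpenImmersion.isoOfRangeEq j.hom.left W₀.ι (hr.trans W₀.range_ι.symm)).hom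
  let X' : X.Opens := p ⁻¹ᵁ Y'
  haveI : IsAffine (X' : Scheme.{u}) := hY'.preimage p
  have hrange : Set.range D'.obj.hom ⊆ Set.range X'.ι := by
    rw [X'.range_ι]
    rintro _ ⟨w, rfl⟩
    show D'.obj.hom w ∈ X'
    rw [← Over.w j.hom, Scheme.Hom.comp_apply]
    exact hfY (hWle (by
      show j.hom.left w ∈ (W₀ : Set D.obj.left)
      rw [← hr]
      exact ⟨w, rfl⟩))
  let g : D'.obj.left ⟶ X'.toScheme := IsOpenImmersion.lift X'.ι D'.obj.hom hrange
  have hg : g ≫ X'.ι = D'.obj.hom := IsOpenImmersion.lift_fac _ _ _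
  haveI : IsAffineHom g := inferInstance
  have hq : IndQA.indQA D'.obj.hom := by
    rw [← hg]
    exact MorLib.IQA.indQA_comp g X'.ι (indQA_of_isAffineHom g) (MorLib.IQA.indQA_of_isImmersion _)
  exact effective_single IndQA.indQA (fun _ _ p _ _ _ _ D h => effective_indQA_hom p D h) p D' hq

end Groth.Agent.DescLib
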