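import Groth.Agent.DescLib.IndQADesc
import Groth.Agent.DescLib.SigmaLocal

/-!
# Descent data ind-quasi-affine over an fpqc covering are effective
-/

universe u

set_option autoImplicit false
set_option backward.isDefEq.respectTransparency false
set_option backward.isDefEq.respectTransparency.types false

open CategoryTheory CategoryTheory.Limits AlgebraicGeometry Opposite Desc TopologicalSpace

namespace Groth.Agent.DescLib.IndQA

/-- Ind-quasi-affine morphisms as a morphism property. -/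
def indQA : MorphismProperty Scheme.{u} := fun _ _ f => MoreMor.IsIndQuasiAffineHom f

instance : (indQA.{u}).IsStableUnderBaseChange := ⟨fun h hf => MorLib.IQA.indQA_baseChange h hf⟩

instance : IsZariskiLocalAtTarget indQA.{u} := by
  refine .mk' (fun f U hf => MorLib.IQA.indQA_baseChange (isPullback_morphismRestrict f U).flip hf)
    fun {X Y} f ι U hU hf => MorLib.IQA.indQA_of_cover f fun y => ?_
  obtain ⟨i, hi⟩ := Opens.mem_iSup.1 (hU.ge (Opens.mem_top y))
  obtain ⟨V, hV, hyV, hVU⟩ := Opens.isBasis_iff_nbhd.1 Y.isBasis_affineOpens hi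
  refine ⟨V, hyV, fun W hW hWV => ?_⟩
  have h1 : MoreMor.IsIndQuasiAffineHom ((f ⁻¹ᵁ U i).ι ≫ f) := by
    rw [← morphismRestrict_ι]
    exact MorLib.IQA.indQA_comp _ _ (hf i) (MorLib.IQA.indQA_of_isImmersion _)
  have hWU : W ≤ f ⁻¹ᵁ U i := hWV.trans (f.preimage_mono hVU)
  haveI := (MorLib.IQA.indQA_iff _).1 h1 V hV ((f ⁻¹ᵁ U i).ι ⁻¹ᵁ W)
    ((f ⁻¹ᵁ U i).ι.isOpenEmbedding.isInducing.isCompact_preimage' hW
      (by rw [Scheme.Opens.range_ι]; exact hWU))
    fun x hx => hWV hx
  exact MorLib.IQA.qa_of_iso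
    (X.isoOfEq (show W = (f ⁻¹ᵁ U i).ι ''ᵁ ((f ⁻¹ᵁ U i).ι ⁻¹ᵁ W) by
        rw [Scheme.Hom.image_preimage_eq_opensRange_inf, Scheme.Opens.opensRange_ι, inf_eq_right.2 hWU]) ≪≫
      ((f ⁻¹ᵁ U i).ι.isoImage _).symm)

/-- A descent datum between affine schemes with ind-quasi-affine structure morphism is effective. -/
theorem effective_indQA_hom {X S : Scheme.{u}} (p : X ⟶ S) [IsAffine X] [IsAffine S] [Flat p] [Surjective p]
    (D : SchDD p) (hD : MoreMor.IsIndQuasiAffineHom D.obj.hom) :
    ∃ U : Over S, Nonempty ((toDD p).obj U ≅ D) := by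
  refine effective_indQA p D fun W hW => ?_
  exact (MorLib.IQA.indQA_iff _).1 hD ⊤ (isAffineOpen_top X) W hW fun x _ => trivial

/-- Descent data ind-quasi-affine over an fpqc covering are effective. -/
theorem isEffective_of_indQA {ι : Type u} {S : Scheme.{u}} {X : ι → Scheme.{u}} (f : ∀ i, X i ⟶ S)
    (hf : Presieve.ofArrows X f ∈ Scheme.fpqcPrecoverage S) (D : SchDDFam f)
    (hD : ∀ i, MoreMor.IsIndQuasiAffineHom (D.obj i).hom) : D.IsEffective :=
  effective_of_affine_case indQA (prop_sigmaMap' indQA)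
    (fun _ _ p _ _ _ _ D h => effective_indQA_hom p D h) f hf D hD

end Groth.Agent.DescLib.IndQA
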