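import Groth.Agent.DescLib.Flat
import Mathlib.RingTheory.Unramified.Finite
import Mathlib.RingTheory.Etale.Basic
import Mathlib.RingTheory.Flat.Localization
import Mathlib.RingTheory.Flat.Stability
import Mathlib.RingTheory.Smooth.Flat

/-!
# Flatness over a base is inherited over an étale algebra
-/

universe u

set_option autoImplicit false
set_option backward.isDefEq.respectTransparency false
set_option backward.isDefEq.respectTransparency.types false

open TensorProduct

namespace Groth.Agent.DescLib

theorem flat_over_unramified (R E M : Type u) [CommRing R] [CommRing E] [Algebra R E]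
    [Algebra.FormallyUnramified R E] [Algebra.EssFiniteType R E] [AddCommGroup M] [Module R M] [Module E M]
    [IsScalarTower R E M] [Module.Flat R M] : Module.Flat E M := by
  let e := Algebra.FormallyUnramified.elem R E
  let sm : M → E →ₗ[R] M := fun x => (LinearMap.toSpanSingleton E M x).restrictScalars R
  let ψ₀ : M → E ⊗[R] M := fun x => (sm x).lTensor E e
  have hadd : ∀ x y, ψ₀ (x + y) = ψ₀ x + ψ₀ y := fun x y => by
    have : sm (x + y) = sm x + sm y := LinearMap.ext fun a => smul_add a x y
    simp only [ψ₀, this, LinearMap.lTensor_add, LinearMap.add_apply]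
  have hsmul : ∀ (a : E) x, ψ₀ (a • x) = a • ψ₀ x := fun a x => by
    have h1 : ∀ z : E ⊗[R] E, (sm (a • x)).lTensor E z = (sm x).lTensor E ((1 ⊗ₜ a) * z) := fun z => by
      induction z using TensorProduct.induction_on with
      | zero => simp
      | tmul b c => simp [sm, mul_comm a c, mul_smul]
      | add p q hp hq => simp only [map_add, mul_add, hp, hq]
    have h2 : ∀ z : E ⊗[R] E, (sm x).lTensor E ((a ⊗ₜ 1) * z) = a • (sm x).lTensor E z := fun z => by
      induction z using TensorProduct.induction_on with
      | zero => simp
      | tmul b c => simp [sm, TensorProduct.smul_tmul']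
      | add p q hp hq => simp only [map_add, mul_add, smul_add, hp, hq]
    simp only [ψ₀]
    rw [h1, Algebra.FormallyUnramified.one_tmul_mul_elem, h2]
  let ψ : M →ₗ[E] E ⊗[R] M := { toFun := ψ₀, map_add' := hadd, map_smul' := hsmul }
  let μ : E ⊗[R] M →ₗ[E] M := LinearMap.liftBaseChange E LinearMap.id
  refine Module.Flat.of_retract ψ μ (LinearMap.ext fun x => ?_)
  show μ (ψ₀ x) = x
  have : ∀ z : E ⊗[R] E, μ ((sm x).lTensor E z) = Algebra.TensorProduct.lmul' R z • x := fun z => by
    induction z using TensorProduct.induction_on with
    | zero => simp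
    | tmul b c => simp [μ, sm, mul_smul]
    | add p q hp hq => simp only [map_add, add_smul, hp, hq]
  rw [this, Algebra.FormallyUnramified.lmul_elem, one_smul]

theorem flat_iff_flat_of_etale_local (R S R' S' : Type u) [CommRing R] [CommRing S] [CommRing R'] [CommRing S']
    [IsLocalRing R] [IsLocalRing S] [IsLocalRing R'] [IsLocalRing S']
    [Algebra R S] [Algebra R R'] [Algebra S S'] [IsLocalHom (algebraMap S S')] [Algebra R' S'] [Algebra R S']
    [IsScalarTower R R' S'] [IsScalarTower R S S']
    (E : Type u) [CommRing E] [Algebra R E] [Algebra.Etale R E] (P : Ideal E) [P.IsPrime]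
    [Algebra E R'] [IsScalarTower R E R'] [IsLocalization.AtPrime R' P]
    (F : Type u) [CommRing F] [Algebra S F] [Algebra.Etale S F] (Q : Ideal F) [Q.IsPrime]
    [Algebra F S'] [IsScalarTower S F S'] [IsLocalization.AtPrime S' Q] :
    Module.Flat R S ↔ Module.Flat R' S' := by
  have := IsLocalization.flat R' P.primeCompl
  have := IsLocalization.flat S' Q.primeCompl
  have : Module.Flat R R' := Module.Flat.trans R E R'
  have : Module.Flat S S' := Module.Flat.trans S F S'
  constructor
  · intro h
    have : Module.Flat R S' := Module.Flat.trans R S S'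
    letI : Algebra E S' := ((algebraMap R' S').comp (algebraMap E R')).toAlgebra
    haveI : IsScalarTower E R' S' := IsScalarTower.of_algebraMap_eq' rfl
    haveI : IsScalarTower R E S' := IsScalarTower.of_algebraMap_eq' (by
      rw [IsScalarTower.algebraMap_eq E R' S', RingHom.comp_assoc, ← IsScalarTower.algebraMap_eq R E R',
        ← IsScalarTower.algebraMap_eq R R' S'])
    exact (Module.flat_iff_of_isLocalization R' P.primeCompl S').2 (flat_over_unramified R E S')
  · intro h
    have : Module.Flat R S' := Module.Flat.trans R R' S'
    haveI : Module.FaithfullyFlat S S' := Module.FaithfullyFlat.of_flat_of_isLocalHom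
    exact flat_of_universallyInjective (IsScalarTower.toAlgHom R S S').toLinearMap
      fun N _ _ => lTensor_injective_of_faithfullyFlat R S S' N

end Groth.Agent.DescLib
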