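import Groth.Agent.SGA1Q.Subm
import Mathlib.AlgebraicGeometry.Morphisms.Flat
import Mathlib.AlgebraicGeometry.Morphisms.FlatDescent

/-!
# Separatedness along universally closed surjections; fpqc morphisms are universally submersive
-/

set_option autoImplicit false
set_option backward.isDefEq.respectTransparency false
set_option backward.isDefEq.respectTransparency.types false
universe u

open CategoryTheory CategoryTheory.Limits AlgebraicGeometry

namespace Groth.Agent.DescLib

theorem univSubmersive_of_flat {X Y : Scheme.{u}} (f : X ⟶ Y) [Flat f] [Surjective f] [QuasiCompact f] :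
    SGA1.UnivSubmersive f := by
  intro X' Y' i₁ i₂ f' h
  haveI : Flat f' := MorphismProperty.of_isPullback h.flip (by infer_instance)
  haveI : Surjective f' := MorphismProperty.of_isPullback h.flip (by infer_instance)
  haveI : QuasiCompact f' := MorphismProperty.of_isPullback h.flip (by infer_instance)
  exact Flat.isQuotientMap_of_surjective f'

/-- Separatedness descends along universally closed surjections. -/
theorem isSeparated_of_comp_surjective {X Y Z : Scheme.{u}} (f : X ⟶ Y) (g : Y ⟶ Z) [UniversallyClosed f]
    [Surjective f] [IsSeparated (f ≫ g)] : IsSeparated g := by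
  let m : pullback (f ≫ g) (f ≫ g) ⟶ pullback g g :=
    pullback.map _ _ _ _ f f (𝟙 Z) (Category.comp_id _) (Category.comp_id _)
  haveI : UniversallyClosed m :=
    MorphismProperty.pullbackMap (P := @UniversallyClosed) (i₁ := f) (i₂ := f) ‹_› ‹_› rfl rfl
  have e : pullback.diagonal (f ≫ g) ≫ m = f ≫ pullback.diagonal g := by
    apply pullback.hom_ext <;> simp [m]
  refine ⟨IsClosedImmersion.of_isPreimmersion _ ?_⟩
  have hr : Set.range (pullback.diagonal g) = m '' Set.range (pullback.diagonal (f ≫ g)) := by
    rw [← Set.range_comp, ← TopCat.coe_comp, ← Scheme.Hom.comp_base, e, Scheme.Hom.comp_base, TopCat.coe_comp,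
      Set.range_comp, Set.range_eq_univ.2 f.surjective, Set.image_univ]
  rw [hr]
  exact m.isClosedMap _ (pullback.diagonal (f ≫ g)).isClosedEmbedding.isClosed_range

end Groth.Agent.DescLib
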