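import Groth.Agent.DescLib.Amitsur
import Mathlib.Algebra.Category.CommAlgCat.Basic
import Mathlib.Algebra.BigOperators.Fin

/-!
# The Amitsur complex in all degrees

`T n` is the `(n+1)`-fold tensor power of `A` over `R`, built by recursion, `incl n j` its coprojections,
`face n i` the cofaces and `D n` the alternating sum of the cofaces.
-/

universe u

set_option autoImplicit false
set_option backward.isDefEq.respectTransparency false
set_option backward.isDefEq.respectTransparency.types false

open TensorProduct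

namespace Groth.Agent.DescLib.AmitsurAll

variable (R A : Type u) [CommRing R] [CommRing A] [Algebra R A]

/-- The `(n+1)`-fold tensor power of `A` over `R`. -/
noncomputable def T : ℕ → CommAlgCat.{u} R
  | 0 => CommAlgCat.of R A
  | n + 1 => CommAlgCat.of R (A ⊗[R] T n)

/-- The coprojections. -/
noncomputable def incl : (n : ℕ) → Fin (n + 1) → (A →ₐ[R] T R A n)
  | 0, _ => AlgHom.id R A
  | n + 1, j => Fin.cases (Algebra.TensorProduct.includeLeft : A →ₐ[R] A ⊗[R] T R A n)
      (fun k => (Algebra.TensorProduct.includeRight : T R A n →ₐ[R] A ⊗[R] T R A n).comp (incl n k)) j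

variable {R A}

/-- The universal property: the lift. -/
noncomputable def lift : {n : ℕ} → {S : Type u} → [CommRing S] → [Algebra R S] →
    (Fin (n + 1) → (A →ₐ[R] S)) → (T R A n →ₐ[R] S)
  | 0, _, _, _, f => f 0
  | n + 1, S, _, _, f => (Algebra.TensorProduct.lift (f 0) (lift fun k => f k.succ)
      fun _ _ => Commute.all _ _ : A ⊗[R] T R A n →ₐ[R] S)

@[simp]
lemma lift_incl {n : ℕ} {S : Type u} [CommRing S] [Algebra R S] (f : Fin (n + 1) → (A →ₐ[R] S))
    (j : Fin (n + 1)) (a : A) : lift f (incl R A n j a) = f j a := by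
  induction n with
  | zero => obtain rfl : j = 0 := Fin.fin_one_eq_zero j; rfl
  | succ n ih =>
    induction j using Fin.cases with
    | zero =>
      show Algebra.TensorProduct.lift _ _ _ (a ⊗ₜ[R] (1 : T R A n)) = _
      simp
    | succ k =>
      show Algebra.TensorProduct.lift _ _ _ ((1 : A) ⊗ₜ[R] (incl R A n k a)) = _
      simp [ih]

lemma hom_ext {n : ℕ} {S : Type u} [CommRing S] [Algebra R S] {f g : T R A n →ₐ[R] S}
    (h : ∀ (j : Fin (n + 1)) (a : A), f (incl R A n j a) = g (incl R A n j a)) : f = g := by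
  induction n with
  | zero => exact AlgHom.ext fun a => h 0 a
  | succ n ih =>
    refine Algebra.TensorProduct.ext (A := A) (B := T R A n) ?_ ?_
    · exact AlgHom.ext fun a => h 0 a
    · exact ih (f := f.comp (Algebra.TensorProduct.includeRight : T R A n →ₐ[R] A ⊗[R] T R A n))
        (g := g.comp (Algebra.TensorProduct.includeRight : T R A n →ₐ[R] A ⊗[R] T R A n))
        fun j a => h j.succ a

/-- The cofaces. -/
noncomputable def face (R A : Type u) [CommRing R] [CommRing A] [Algebra R A] (n : ℕ) (i : Fin (n + 2)) :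
    T R A n →ₐ[R] T R A (n + 1) :=
  lift fun j => incl R A (n + 1) (i.succAbove j)

lemma face_zero (n : ℕ) : face R A n 0 =
    (Algebra.TensorProduct.includeRight : T R A n →ₐ[R] A ⊗[R] T R A n) := by
  refine hom_ext fun j a => ?_
  rw [face, lift_incl, Fin.succAbove_zero]
  rfl

lemma face_succ (n : ℕ) (i : Fin (n + 2)) : face R A (n + 1) i.succ =
    (Algebra.TensorProduct.map (AlgHom.id R A) (face R A n i) :
      A ⊗[R] T R A n →ₐ[R] A ⊗[R] T R A (n + 1)) := by
  refine hom_ext fun j a => ?_
  rw [face, lift_incl]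
  induction j using Fin.cases with
  | zero =>
    rw [Fin.succ_succAbove_zero]
    show a ⊗ₜ[R] (1 : T R A (n + 1)) = Algebra.TensorProduct.map _ _ (a ⊗ₜ[R] (1 : T R A n))
    simp
  | succ k =>
    rw [Fin.succ_succAbove_succ]
    show (1 : A) ⊗ₜ[R] incl R A (n + 1) (i.succAbove k) a =
      Algebra.TensorProduct.map _ _ ((1 : A) ⊗ₜ[R] (incl R A n k a))
    simp [face]

variable (R A) in
/-- The differential. -/
noncomputable def D (n : ℕ) : T R A n →ₗ[R] T R A (n + 1) :=
  ∑ i : Fin (n + 2), (-1 : ℤ) ^ (i : ℕ) • (face R A n i).toLinearMap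

lemma D_succ_apply (n : ℕ) (x : A ⊗[R] T R A n) :
    D R A (n + 1) x =
      ((1 : A) ⊗ₜ[R] (show T R A (n + 1) from x) : A ⊗[R] T R A (n + 1)) -
        (LinearMap.lTensor A (D R A n) x : A ⊗[R] T R A (n + 1)) := by
  rw [D, LinearMap.sum_apply, Fin.sum_univ_succ]
  have h : (LinearMap.lTensor A (D R A n) x : A ⊗[R] T R A (n + 1)) =
      ∑ i : Fin (n + 2), (-1 : ℤ) ^ (i : ℕ) •
        (Algebra.TensorProduct.map (AlgHom.id R A) (face R A n i) x : A ⊗[R] T R A (n + 1)) := by
    induction x using TensorProduct.induction_on with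
    | zero => simp
    | tmul a t =>
      simp only [D, LinearMap.lTensor_tmul, LinearMap.sum_apply, TensorProduct.tmul_sum,
        LinearMap.smul_apply, Algebra.TensorProduct.map_tmul, AlgHom.id_apply, AlgHom.toLinearMap_apply]
      exact Finset.sum_congr rfl fun i _ => TensorProduct.tmul_smul _ _ _
    | add y z hy hz => simp only [map_add, hy, hz, smul_add, Finset.sum_add_distrib]
  rw [h, sub_eq_add_neg, ← Finset.sum_neg_distrib]
  congr 1
  · simp only [Fin.val_zero, pow_zero, one_smul, AlgHom.toLinearMap_apply, face_zero]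
    rfl
  · refine Finset.sum_congr rfl fun i _ => ?_
    simp only [LinearMap.smul_apply, AlgHom.toLinearMap_apply, Fin.val_succ, pow_succ, mul_neg, mul_one,
      neg_smul, face_succ]
    rfl

variable (R A) in
/-- Contracting homotopy after tensoring with `A`. -/
noncomputable def h (M : Type u) [AddCommGroup M] [Module R M] : A ⊗[R] (A ⊗[R] M) →ₗ[R] A ⊗[R] M :=
  (LinearMap.mul' R A).rTensor M ∘ₗ (TensorProduct.assoc R A A M).symm.toLinearMap

lemma h_tmul {M : Type u} [AddCommGroup M] [Module R M] (a b : A) (m : M) :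
    h R A M (a ⊗ₜ[R] (b ⊗ₜ[R] m)) = (a * b) ⊗ₜ[R] m := by
  simp [h]

lemma exact_D [Module.FaithfullyFlat R A] (n : ℕ) (x : T R A (n + 1)) (hx : D R A (n + 1) x = 0) :
    x ∈ LinearMap.range (D R A n) := by
  refine mem_range_of_one_tmul_mem (R := R) (A := A) (D R A n) x ⟨h R A (T R A n) ((1 : A) ⊗ₜ[R] x), ?_⟩
  have key : ∀ z : A ⊗[R] (A ⊗[R] T R A n),
      h R A (T R A (n + 1)) (LinearMap.lTensor A (D R A (n + 1)) z) +
        LinearMap.lTensor A (D R A n) (h R A (T R A n) z) = (z : A ⊗[R] T R A (n + 1)) := by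
    intro z
    induction z using TensorProduct.induction_on with
    | zero => simp
    | add y z hy hz =>
      rw [map_add, map_add, map_add, map_add, add_add_add_comm, hy, hz]
    | tmul a w =>
      rw [LinearMap.lTensor_tmul, D_succ_apply, TensorProduct.tmul_sub, map_sub]
      rw [show h R A (T R A (n + 1)) (a ⊗ₜ[R] ((1 : A) ⊗ₜ[R] w)) = (a * 1) ⊗ₜ[R] w from h_tmul a 1 w, mul_one]
      have : h R A (T R A (n + 1)) (a ⊗ₜ[R] LinearMap.lTensor A (D R A n) w) =
          LinearMap.lTensor A (D R A n) (h R A (T R A n) (a ⊗ₜ[R] w)) := by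
        induction w using TensorProduct.induction_on with
        | zero => simp
        | tmul b t => rw [LinearMap.lTensor_tmul, h_tmul, h_tmul, LinearMap.lTensor_tmul]
        | add y z hy hz => simp only [map_add, TensorProduct.tmul_add, hy, hz]
      rw [this, sub_add_cancel]
  have := key ((1 : A) ⊗ₜ[R] x)
  rw [LinearMap.lTensor_tmul, hx, TensorProduct.tmul_zero, map_zero, zero_add] at this
  exact this

end Groth.Agent.DescLib.AmitsurAll
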