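import Groth.Agent.DescLib.Flat
import Groth.Agent.S9407
import Mathlib.AlgebraicGeometry.Morphisms.Smooth
import Mathlib.AlgebraicGeometry.Properties

/-!
# Reducedness in smooth and flat covers
-/

universe w u

set_option autoImplicit false
set_option backward.isDefEq.respectTransparency false
set_option backward.isDefEq.respectTransparency.types false

open CategoryTheory AlgebraicGeometry

namespace Groth.Agent.DescLib

theorem isReduced_of_jointly_surjective {ι : Type w} {S : Scheme.{u}} {X : ι → Scheme.{u}} (f : ∀ i, X i ⟶ S)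
    [∀ i, Flat (f i)] [∀ i, IsReduced (X i)] (hf : ∀ s, ∃ i, s ∈ Set.range (f i)) : IsReduced S := by
  have : ∀ s, _root_.IsReduced (S.presheaf.stalk s) := fun s => by
    obtain ⟨i, x, rfl⟩ := hf s
    exact isReduced_of_injective ((f i).stalkMap x).hom (faithfullyFlat_stalkMap (f i) x).injective
  exact isReduced_of_isReduced_stalk S

theorem isReduced_of_smooth_of_isReduced {X S : Scheme.{u}} (f : X ⟶ S) [Smooth f] [IsReduced S] : IsReduced X := by
  have key : ∀ x : X, ∃ V : X.Opens, IsAffineOpen V ∧ x ∈ V ∧ _root_.IsReduced Γ(X, V) := by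
    intro x
    obtain ⟨U, hU, hxU, -⟩ := exists_isAffineOpen_mem_and_subset (x := f x) (U := ⊤) trivial
    obtain ⟨V, hV, hxV, hVU⟩ := exists_isAffineOpen_mem_and_subset (x := x) (U := f ⁻¹ᵁ U) hxU
    have h := HasRingHomProperty.appLE @Smooth f inferInstance ⟨U, hU⟩ ⟨V, hV⟩ hVU
    algebraize [(f.appLE U V hVU).hom]
    exact ⟨V, hV, hxV, Groth.Agent.S9407.result Γ(S, U) Γ(X, V)⟩
  choose V hV hx hr using key
  have : ∀ x, IsReduced (Scheme.Opens.toScheme (V x)) := fun x => by
    have := hr x
    exact isReduced_of_isOpenImmersion (hV x).isoSpec.hom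
  exact @IsReduced.of_openCover _ (X.openCoverOfIsOpenCover V
    (.mk (top_unique fun x _ => TopologicalSpace.Opens.mem_iSup.mpr ⟨x, hx x⟩))) this

end Groth.Agent.DescLib
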