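import Groth.Agent.DescLib.Sieve

/-!
# Pullback of descent data along a morphism of families over the identity: full and faithful
-/

universe w' w u

set_option autoImplicit false
set_option backward.isDefEq.respectTransparency false
set_option backward.isDefEq.respectTransparency.types false

open CategoryTheory CategoryTheory.Limits AlgebraicGeometry Opposite Desc

namespace Groth.Agent.DescLib

variable {S : Scheme.{u}} {ι : Type w} {X : ι → Scheme.{u}} {f : ∀ i, X i ⟶ S}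
  {ι' : Type w'} {X' : ι' → Scheme.{u}} {f' : ∀ j, X' j ⟶ S}
  {α : ι' → ι} {p' : ∀ j, X' j ⟶ X (α j)} (w : ∀ j, p' j ≫ f (α j) = f' j ≫ 𝟙 S)

include w in
lemma factor_compat {T : Scheme.{u}} {i : ι} {j : ι'} {y : T ⟶ X i} {x' : T ⟶ X' j}
    (h : x' ≫ f' j = y ≫ f i) : y ≫ f i = (x' ≫ p' j) ≫ f (α j) := by
  rw [Category.assoc, w, Category.comp_id, h]

lemma lifts_ext_apply {V Y : Scheme.{u}} {W : Over Y} {a : V ⟶ Y} {x y : Lifts W a} (h : x = y) : x.1 = y.1 :=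
  congrArg Subtype.val h

section

variable {D D' : SchDDFam f}

/-- A morphism of pulled back data acting on points of the original data over a factored point. -/
noncomputable def tr (b : (pullDDFam w).obj D ⟶ (pullDDFam w).obj D') {T : Scheme.{u}} {j : ι'}
    (x : T ⟶ X' j) (v : Lifts (D.obj (α j)) (x ≫ p' j)) : Lifts (D'.obj (α j)) (x ≫ p' j) :=
  liftsPullbackEquiv (D'.obj (α j)) (p' j) x
    (b.push ((liftsPullbackEquiv (D.obj (α j)) (p' j) x).symm v))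

variable (b : (pullDDFam w).obj D ⟶ (pullDDFam w).obj D')

lemma tr_comm {T : Scheme.{u}} {j₁ j₂ : ι'} (x₁ : T ⟶ X' j₁) (x₂ : T ⟶ X' j₂)
    (h : x₁ ≫ f' j₁ = x₂ ≫ f' j₂) (v : Lifts (D.obj (α j₁)) (x₁ ≫ p' j₁)) :
    D'.φ (x₁ ≫ p' j₁) (x₂ ≫ p' j₂) (pull_compat w x₁ x₂ h) (tr w b x₁ v) =
      tr w b x₂ (D.φ (x₁ ≫ p' j₁) (x₂ ≫ p' j₂) (pull_compat w x₁ x₂ h) v) := by
  have key : ((pullDDFam w).obj D').φ x₁ x₂ h
        (b.push ((liftsPullbackEquiv (D.obj (α j₁)) (p' j₁) x₁).symm v)) =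
      b.push (((pullDDFam w).obj D).φ x₁ x₂ h ((liftsPullbackEquiv (D.obj (α j₁)) (p' j₁) x₁).symm v)) :=
    Subtype.ext (b.comm x₁ x₂ h _ _ rfl)
  have key' := congrArg (liftsPullbackEquiv (D'.obj (α j₂)) (p' j₂) x₂) key
  simp only [pullDDFam, pullDDFamObj, Equiv.trans_apply, Equiv.apply_symm_apply] at key'
  exact key'

lemma tr_natural {T T' : Scheme.{u}} (g : T' ⟶ T) {j : ι'} (x : T ⟶ X' j)
    (v : Lifts (D.obj (α j)) (x ≫ p' j)) (v' : Lifts (D.obj (α j)) ((g ≫ x) ≫ p' j))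
    (hv : v'.1 = g ≫ v.1) : (tr w b (g ≫ x) v').1 = g ≫ (tr w b x v).1 := by
  simp only [tr, liftsPullbackEquiv, SchDDFam.Hom.push, Equiv.coe_fn_mk, Equiv.coe_fn_symm_mk]
  rw [← Category.assoc g, ← Category.assoc g]
  congr 2
  apply pullback.hom_ext <;> simp [hv]

/-- The candidate preimage on points that lie in the factor sieve. -/
noncomputable def img {T : Scheme.{u}} {i : ι} (y : T ⟶ X i) (v : Lifts (D.obj i) y) (j : ι')
    (x' : T ⟶ X' j) (h : x' ≫ f' j = y ≫ f i) : Lifts (D'.obj i) y :=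
  D'.φ (x' ≫ p' j) y (factor_compat w h).symm (tr w b x' (D.φ y (x' ≫ p' j) (factor_compat w h) v))

lemma img_indep {T : Scheme.{u}} {i : ι} (y : T ⟶ X i) (v : Lifts (D.obj i) y) (j₁ j₂ : ι')
    (x₁ : T ⟶ X' j₁) (x₂ : T ⟶ X' j₂) (h₁ : x₁ ≫ f' j₁ = y ≫ f i) (h₂ : x₂ ≫ f' j₂ = y ≫ f i) :
    img w b y v j₁ x₁ h₁ = img w b y v j₂ x₂ h₂ := by
  unfold img
  have e : D.φ (x₁ ≫ p' j₁) (x₂ ≫ p' j₂) (pull_compat w x₁ x₂ (h₁.trans h₂.symm))
      (D.φ y (x₁ ≫ p' j₁) (factor_compat w h₁) v) = D.φ y (x₂ ≫ p' j₂) (factor_compat w h₂) v :=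
    D.φ_comp y (x₁ ≫ p' j₁) (x₂ ≫ p' j₂) _ _ v
  rw [← e, ← tr_comm w b x₁ x₂ (h₁.trans h₂.symm), D'.φ_comp]

lemma img_natural {T T' : Scheme.{u}} (g : T' ⟶ T) {i : ι} (y : T ⟶ X i) (v : Lifts (D.obj i) y)
    (y' : T' ⟶ X i) (hy : g ≫ y = y') (v' : Lifts (D.obj i) y') (hv : v'.1 = g ≫ v.1) (j : ι')
    (x' : T ⟶ X' j) (h : x' ≫ f' j = y ≫ f i) (h' : (g ≫ x') ≫ f' j = y' ≫ f i) :
    (img w b y' v' j (g ≫ x') h').1 = g ≫ (img w b y v j x' h).1 := by
  refine D'.φ_natural g (x' ≫ p' j) y _ ((g ≫ x') ≫ p' j) y' (by rw [Category.assoc]) hy _ _ _ ?_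
  refine tr_natural w b g x' _ _ ?_
  exact D.φ_natural g y (x' ≫ p' j) _ y' ((g ≫ x') ≫ p' j) hy (by rw [Category.assoc]) _ _ _ hv

lemma img_comm {T : Scheme.{u}} {i₀ i₁ : ι} (y₀ : T ⟶ X i₀) (y₁ : T ⟶ X i₁)
    (h : y₀ ≫ f i₀ = y₁ ≫ f i₁) (v : Lifts (D.obj i₀) y₀) (j : ι') (x' : T ⟶ X' j)
    (h₀ : x' ≫ f' j = y₀ ≫ f i₀) :
    D'.φ y₀ y₁ h (img w b y₀ v j x' h₀) = img w b y₁ (D.φ y₀ y₁ h v) j x' (h₀.trans h) := by
  unfold img
  rw [D'.φ_comp, D.φ_comp]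

end

/-- Full: a morphism of pulled back data descends if the factor sieves are fpqc coverings. -/
theorem pullDDFam_full (hcov : ∀ i, factorSieve f' (f i) ∈ Scheme.fpqcTopology (X i)) :
    (pullDDFam w).Full := by
  refine ⟨fun {D D'} b => ?_⟩
  have hR : ∀ i, factorSieve f' ((D.obj i).hom ≫ f i) ∈ Scheme.fpqcTopology (D.obj i).left :=
    fun i => factorSieve_mem_comp f' (hcov i) _
  have hglue : ∀ i, ∃ a : (D.obj i).left ⟶ (D'.obj i).left,
      ∀ ⦃T : Scheme.{u}⦄ (y : T ⟶ X i) (v : Lifts (D.obj i) y) (j : ι') (x' : T ⟶ X' j)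
        (h : x' ≫ f' j = y ≫ f i), v.1 ≫ a = (img w b y v j x' h).1 := by
    intro i
    have hw : ∀ {T : Scheme.{u}} (t : T ⟶ (D.obj i).left),
        factorSieve f' ((D.obj i).hom ≫ f i) t → ∃ (j : ι') (x' : T ⟶ X' j), x' ≫ f' j = (t ≫ (D.obj i).hom) ≫ f i :=
      fun t ⟨j, x', h⟩ => ⟨j, x', by rw [h, Category.assoc]⟩
    obtain ⟨a, ha⟩ := exists_glue _ (hR i)
      (fun T t ht => (img w b (t ≫ (D.obj i).hom) ⟨t, rfl⟩ (hw t ht).choose (hw t ht).choose_spec.choose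
        (hw t ht).choose_spec.choose_spec).1)
      (fun T T' g t ht t' ht' e => by
        subst e
        have h' : (g ≫ (hw t ht).choose_spec.choose) ≫ f' (hw t ht).choose = ((g ≫ t) ≫ (D.obj i).hom) ≫ f i := by
          rw [Category.assoc, (hw t ht).choose_spec.choose_spec]; simp
        rw [img_indep w b _ _ _ _ _ _ (hw (g ≫ t) ht').choose_spec.choose_spec h']
        exact img_natural w b g _ _ _ (by rw [Category.assoc]) _ rfl _ _ _ _)
    refine ⟨a, fun T y v j x' h => ?_⟩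
    obtain ⟨v, rfl⟩ := v
    have ht : factorSieve f' ((D.obj i).hom ≫ f i) v := ⟨j, x', by rw [h, Category.assoc]⟩
    rw [ha v ht, img_indep w b _ _ _ _ _ _ (hw v ht).choose_spec.choose_spec h]
  choose a ha using hglue
  have hover : ∀ i, a i ≫ (D'.obj i).hom = (D.obj i).hom := by
    intro i
    refine hom_ext_of_covering _ (hR i) _ _ fun T t ht => ?_
    obtain ⟨j, x', h⟩ := ht
    rw [← Category.assoc t, ha i (t ≫ (D.obj i).hom) ⟨t, rfl⟩ j x' (by rw [h, Category.assoc])]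
    exact (img w b _ _ j x' _).2
  let A : D ⟶ D' := ⟨fun i => Over.homMk (a i) (hover i), fun T i₀ i₁ y₀ y₁ h v u hu => by
    refine hom_ext_of_covering _ (factorSieve_mem_comp f' (hcov i₀) y₀) _ _ fun T' g hg => ?_
    obtain ⟨j, x', hx⟩ := hg
    have hx₀ : x' ≫ f' j = (g ≫ y₀) ≫ f i₀ := by rw [hx, Category.assoc]
    have hh : (g ≫ y₀) ≫ f i₀ = (g ≫ y₁) ≫ f i₁ := by rw [Category.assoc, h, Category.assoc]
    let gv : Lifts (D.obj i₀) (g ≫ y₀) := ⟨g ≫ v.1, by rw [Category.assoc, v.2]⟩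
    let gu : Lifts (D'.obj i₀) (g ≫ y₀) := ⟨g ≫ u.1, by rw [Category.assoc, u.2]⟩
    have e₁ := D'.φ_natural g y₀ y₁ h (g ≫ y₀) (g ≫ y₁) rfl rfl hh u gu rfl
    have e₂ := D.φ_natural g y₀ y₁ h (g ≫ y₀) (g ≫ y₁) rfl rfl hh v gv rfl
    have e₃ : gu = img w b _ gv j x' hx₀ := Subtype.ext (by
      rw [← ha i₀ _ gv j x' hx₀]
      show g ≫ u.1 = (g ≫ v.1) ≫ a i₀
      rw [hu, Category.assoc]; rfl)
    show g ≫ _ = g ≫ _ ≫ a i₁
    rw [← e₁, ← Category.assoc, ← e₂, e₃, img_comm w b (g ≫ y₀) (g ≫ y₁) hh gv j x' hx₀, ha i₁]⟩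
  refine ⟨A, SchDDFam.hom_ext (funext fun j => Over.OverMorphism.ext (pullback.hom_ext ?_ ?_))⟩
  · let v : Lifts (D.obj (α j)) (pullback.snd (D.obj (α j)).hom (p' j) ≫ p' j) :=
      ⟨pullback.fst _ _, pullback.condition⟩
    have h0 : pullback.snd (D.obj (α j)).hom (p' j) ≫ f' j =
        (pullback.snd (D.obj (α j)).hom (p' j) ≫ p' j) ≫ f (α j) := by
      rw [Category.assoc, w, Category.comp_id]
    refine (pullback.lift_fst _ _ _).trans ((ha (α j) _ v j _ h0).trans ?_)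
    unfold img
    rw [D.φ_self, D'.φ_self]
    simp only [tr, liftsPullbackEquiv, SchDDFam.Hom.push, Equiv.coe_fn_mk, Equiv.coe_fn_symm_mk]
    rw [show pullback.lift (pullback.fst (D.obj (α j)).hom (p' j)) (pullback.snd _ _) pullback.condition = 𝟙 _ from
      pullback.hom_ext (by simp) (by simp), Category.id_comp]
  · exact (pullback.lift_snd _ _ _).trans ((Category.comp_id _).trans (Over.w (b.hom j)).symm)

/-- Faithful: morphisms agree after pullback only if they agree on the factor sieves. -/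
theorem pullDDFam_faithful
    (hsep : ∀ (i : ι) ⦃T Z : Scheme.{u}⦄ (y : T ⟶ X i) (a a' : T ⟶ Z),
      (∀ ⦃T' : Scheme.{u}⦄ (t : T' ⟶ T), factorSieve f' (y ≫ f i) t → t ≫ a = t ≫ a') → a = a') :
    (pullDDFam w).Faithful := by
  refine ⟨fun {D D' a a'} e => ?_⟩
  refine SchDDFam.hom_ext (funext fun i => Over.OverMorphism.ext (hsep i (D.obj i).hom _ _ fun T t ht => ?_))
  obtain ⟨j, x', h⟩ := ht
  have hc : (t ≫ (D.obj i).hom) ≫ f i = (x' ≫ p' j) ≫ f (α j) := factor_compat w (by rw [h, Category.assoc])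
  let v : Lifts (D.obj i) (t ≫ (D.obj i).hom) := ⟨t, rfl⟩
  have key : (D.φ _ _ hc v).1 ≫ (a.hom (α j)).left = (D.φ _ _ hc v).1 ≫ (a'.hom (α j)).left := by
    have ej := congrArg (fun c : (pullDDFam w).obj D ⟶ (pullDDFam w).obj D' =>
      ((liftsPullbackEquiv (D.obj (α j)) (p' j) x').symm (D.φ _ _ hc v)).1 ≫ (c.hom j).left ≫
        pullback.fst _ _) e
    simpa [pullDDFam, pullDDFamObj, liftsPullbackEquiv] using ej
  have ca := a.comm _ _ hc v (a.push v) rfl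
  have ca' := a'.comm _ _ hc v (a'.push v) rfl
  have e2 : D'.φ _ _ hc (a.push v) = D'.φ _ _ hc (a'.push v) := Subtype.ext (by rw [ca, ca', key])
  exact congrArg Subtype.val ((D'.φ _ _ hc).injective e2)

theorem pullDDFam_full_faithful (hcov : ∀ i, factorSieve f' (f i) ∈ Scheme.fpqcTopology (X i)) :
    (pullDDFam w).Full ∧ (pullDDFam w).Faithful :=
  ⟨pullDDFam_full w hcov, pullDDFam_faithful w fun i _ _ y a a' h =>
    hom_ext_of_covering _ (factorSieve_mem_comp f' (hcov i) y) a a' h⟩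

end Groth.Agent.DescLib
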