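import Groth.Agent.DescLib.GlueFam
import Groth.Agent.DescLib.Pull

/-!
# Descent data relative to a Zariski refinement come from the coarser family
-/

universe w u

set_option autoImplicit false
set_option backward.isDefEq.respectTransparency false
set_option backward.isDefEq.respectTransparency.types false

open CategoryTheory CategoryTheory.Limits AlgebraicGeometry Opposite Desc

namespace Groth.Agent.DescLib.GlueFam

variable {S : Scheme.{u}} {ι κ : Type u} {U : ι → Scheme.{u}} {V : κ → Scheme.{u}} {u : ∀ i, U i ⟶ S}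
  (D : SchDDFam u) {v : ∀ j, V j ⟶ S} {α : ι → κ} {g : ∀ i, U i ⟶ V (α i)} (w : ∀ i, g i ≫ v (α i) = u i)

/-- The covering of the `j`-th member. -/
noncomputable def chart (g : ∀ i, U i ⟶ V (α i)) (j : κ) (b : {i // α i = j}) : U b.1 ⟶ V j :=
  g b.1 ≫ eqToHom (congrArg V b.2)

include w in
lemma chart_v (j : κ) (b : {i // α i = j}) : chart g j b ≫ v j = u b.1 := by
  obtain ⟨i, rfl⟩ := b
  simp [chart, w]

lemma chart_self (i : ι) : chart g (α i) ⟨i, rfl⟩ = g i := by simp [chart]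

section

variable (G : ∀ j, Glued D (fun b : {i // α i = j} => b.1) (chart g j))

/-- The cover of a test scheme induced by a point of the glued scheme. -/
noncomputable def cov {T : Scheme.{u}} {j : κ} (p : T ⟶ (G j).Z) : T.OpenCover :=
  haveI := (G j).inc_open
  Scheme.Cover.mkOfCovers {i // α i = j} (fun b => pullback p ((G j).inc b)) (fun b => pullback.fst _ _)
    fun x => by
      obtain ⟨b, y, hy⟩ := (G j).inc_surj (p x)
      obtain ⟨z, hz, -⟩ := Scheme.Pullback.exists_preimage_pullback x y hy.symm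
      exact ⟨b, z, hz⟩

include w in
lemma inc_e {T : Scheme.{u}} {j : κ} {p : T ⟶ (G j).Z} {k : ι} {x : T ⟶ U k} (e : p ≫ (G j).π ≫ v j = x ≫ u k)
    {T' : Scheme.{u}} (t : T' ⟶ T) {b : {i // α i = j}} (a : T' ⟶ (D.obj b.1).left)
    (h : t ≫ p = a ≫ (G j).inc b) : a ≫ (D.obj b.1).hom ≫ u b.1 = (t ≫ x) ≫ u k := by
  rw [← chart_v w j b, ← reassoc_of% (G j).inc_π b, ← reassoc_of% h, e, Category.assoc]

include w in
lemma eq_tr_of_inc {T : Scheme.{u}} {j : κ} {b b' : {i // α i = j}} (a : T ⟶ (D.obj b.1).left)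
    (a' : T ⟶ (D.obj b'.1).left) (h : a ≫ (G j).inc b = a' ≫ (G j).inc b')
    (e : a ≫ (D.obj b.1).hom ≫ u b.1 = (a' ≫ (D.obj b'.1).hom) ≫ u b'.1) :
    tr D a (a' ≫ (D.obj b'.1).hom) e = a' := by
  have := (G j).inc_open b'
  have hx : a ≫ (D.obj b.1).hom ≫ chart g j b = (a' ≫ (D.obj b'.1).hom) ≫ chart g j b' := by
    rw [← (G j).inc_π, reassoc_of% h, (G j).inc_π, Category.assoc]
  rw [← cancel_mono ((G j).inc b'), ← h]
  exact ((G j).compat b b' a _ hx e).symm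

include w in
lemma exists_Φ {T : Scheme.{u}} {j : κ} (p : T ⟶ (G j).Z) {k : ι} (x : T ⟶ U k)
    (e : p ≫ (G j).π ≫ v j = x ≫ u k) :
    ∃ q : T ⟶ (D.obj k).left, q ≫ (D.obj k).hom = x ∧
      ∀ ⦃T' : Scheme.{u}⦄ (t : T' ⟶ T) (b : {i // α i = j}) (a : T' ⟶ (D.obj b.1).left)
        (h : t ≫ p = a ≫ (G j).inc b), t ≫ q = tr D a (t ≫ x) (inc_e D w G e t a h) := by
  let q : ∀ b : {i // α i = j}, pullback p ((G j).inc b) ⟶ (D.obj k).left := fun b =>
    tr D (pullback.snd _ _) (pullback.fst _ _ ≫ x) (inc_e D w G e _ _ pullback.condition)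
  have hq : ∀ b b', pullback.fst ((cov D G p).f b) ((cov D G p).f b') ≫ q b = pullback.snd _ _ ≫ q b' := by
    intro (b : {i // α i = j}) (b' : {i // α i = j})
    let P := pullback (pullback.fst p ((G j).inc b)) (pullback.fst p ((G j).inc b'))
    let t : P ⟶ T := pullback.fst _ _ ≫ pullback.fst _ _
    let a : P ⟶ (D.obj b.1).left := pullback.fst _ _ ≫ pullback.snd _ _
    let a' : P ⟶ (D.obj b'.1).left := pullback.snd _ _ ≫ pullback.snd _ _
    have ha : t ≫ p = a ≫ (G j).inc b := by simp only [t, a, Category.assoc, pullback.condition (f := p)]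
    have ha' : t ≫ p = a' ≫ (G j).inc b' := by
      rw [show t = pullback.snd _ _ ≫ pullback.fst _ _ from pullback.condition]
      simp only [a', Category.assoc, pullback.condition (f := p)]
    have e' : a ≫ (D.obj b.1).hom ≫ u b.1 = (a' ≫ (D.obj b'.1).hom) ≫ u b'.1 := by
      rw [inc_e D w G e t a ha, ← inc_e D w G e t a' ha']
      exact (Category.assoc _ _ _).symm
    refine Eq.trans (tr_nat D _ _ _ _ a (t ≫ x) rfl (Category.assoc _ _ _).symm (inc_e D w G e t a ha))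
      (Eq.trans ?_ (tr_nat D _ _ _ _ a' (t ≫ x) rfl (by simp only [t]; rw [pullback.condition, Category.assoc])
        (inc_e D w G e t a' ha')).symm)
    have ht := eq_tr_of_inc D w G a a' (ha.symm.trans ha') e'
    have e1 : tr D a (a' ≫ (D.obj b'.1).hom) e' ≫ (D.obj b'.1).hom ≫ u b'.1 = (t ≫ x) ≫ u k := by
      rw [ht]; exact inc_e D w G e t a' ha'
    rw [← tr_comp D a _ _ e' e1]
    simp only [ht]
  refine ⟨(cov D G p).glueMorphisms q hq, (cov D G p).hom_ext _ _ fun b => ?_, fun T' t b a h => ?_⟩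
  · rw [Scheme.Cover.ι_glueMorphisms_assoc]
    exact tr_hom D _ _ _
  · have : t = pullback.lift t a h ≫ (cov D G p).f b := (pullback.lift_fst _ _ _).symm
    refine (congrArg (· ≫ (cov D G p).glueMorphisms q hq) this).trans ?_
    rw [Category.assoc, Scheme.Cover.ι_glueMorphisms]
    exact tr_nat D _ _ _ _ _ _ (pullback.lift_snd _ _ _) (by rw [pullback.lift_fst_assoc]) _

/-- The point of the `k`-th member defined by a point of a glued scheme. -/
noncomputable def Φ {T : Scheme.{u}} {j : κ} (p : T ⟶ (G j).Z) {k : ι} (x : T ⟶ U k)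
    (e : p ≫ (G j).π ≫ v j = x ≫ u k) : T ⟶ (D.obj k).left := (exists_Φ D w G p x e).choose

lemma Φ_hom {T : Scheme.{u}} {j : κ} (p : T ⟶ (G j).Z) {k : ι} (x : T ⟶ U k)
    (e : p ≫ (G j).π ≫ v j = x ≫ u k) : Φ D w G p x e ≫ (D.obj k).hom = x :=
  (exists_Φ D w G p x e).choose_spec.1

lemma Φ_spec {T : Scheme.{u}} {j : κ} (p : T ⟶ (G j).Z) {k : ι} (x : T ⟶ U k)
    (e : p ≫ (G j).π ≫ v j = x ≫ u k) {T' : Scheme.{u}} (t : T' ⟶ T) (b : {i // α i = j})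
    (a : T' ⟶ (D.obj b.1).left) (h : t ≫ p = a ≫ (G j).inc b) :
    t ≫ Φ D w G p x e = tr D a (t ≫ x) (inc_e D w G e t a h) :=
  (exists_Φ D w G p x e).choose_spec.2 t b a h

lemma eq_Φ {T : Scheme.{u}} {j : κ} (p : T ⟶ (G j).Z) {k : ι} (x : T ⟶ U k)
    (e : p ≫ (G j).π ≫ v j = x ≫ u k) (q : T ⟶ (D.obj k).left)
    (hq : ∀ ⦃T' : Scheme.{u}⦄ (t : T' ⟶ T) (b : {i // α i = j}) (a : T' ⟶ (D.obj b.1).left)
      (h : t ≫ p = a ≫ (G j).inc b), t ≫ q = tr D a (t ≫ x) (inc_e D w G e t a h)) :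
    q = Φ D w G p x e :=
  (cov D G p).hom_ext _ _ fun b => (hq _ b _ pullback.condition).trans (Φ_spec D w G p x e _ b _ pullback.condition).symm

lemma Φ_nat {T T' : Scheme.{u}} (s : T' ⟶ T) {j : κ} (p : T ⟶ (G j).Z) {k : ι} (x : T ⟶ U k)
    (e : p ≫ (G j).π ≫ v j = x ≫ u k) (p' : T' ⟶ (G j).Z) (x' : T' ⟶ U k) (hp : s ≫ p = p') (hx : s ≫ x = x')
    (e' : p' ≫ (G j).π ≫ v j = x' ≫ u k) : s ≫ Φ D w G p x e = Φ D w G p' x' e' := by
  subst hp hx
  refine eq_Φ D w G _ _ e' _ fun T'' t b a h => ?_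
  rw [← Category.assoc, Φ_spec D w G p x e (t ≫ s) b a (by rw [Category.assoc]; exact h)]
  simp only [Category.assoc]

lemma Φ_inc {T : Scheme.{u}} {j : κ} (b : {i // α i = j}) (a : T ⟶ (D.obj b.1).left) {k : ι} (x : T ⟶ U k)
    (e : (a ≫ (G j).inc b) ≫ (G j).π ≫ v j = x ≫ u k) (e' : a ≫ (D.obj b.1).hom ≫ u b.1 = x ≫ u k) :
    Φ D w G (a ≫ (G j).inc b) x e = tr D a x e' := by
  have := Φ_spec D w G (a ≫ (G j).inc b) x e (𝟙 _) b a (Category.id_comp _)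
  simpa using this

lemma tr_Φ {T : Scheme.{u}} {j : κ} (p : T ⟶ (G j).Z) {k l : ι} (x : T ⟶ U k) (z : T ⟶ U l)
    (e : p ≫ (G j).π ≫ v j = x ≫ u k) (e₁ : Φ D w G p x e ≫ (D.obj k).hom ≫ u k = z ≫ u l)
    (e₂ : p ≫ (G j).π ≫ v j = z ≫ u l) : tr D (Φ D w G p x e) z e₁ = Φ D w G p z e₂ := by
  refine eq_Φ D w G _ _ e₂ _ fun T' t b a h => ?_
  have ha := inc_e D w G e t a h
  have e₃ : tr D a (t ≫ x) ha ≫ (D.obj k).hom ≫ u k = (t ≫ z) ≫ u l := by
    rw [← Category.assoc, tr_hom, Category.assoc, Category.assoc, ← e, e₂]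
  rw [tr_nat D t _ _ _ (tr D a (t ≫ x) ha) (t ≫ z) (Φ_spec D w G p x e t b a h) rfl e₃]
  exact tr_comp D a _ _ ha e₃ _

lemma Φ_self {T : Scheme.{u}} {j : κ} (p : T ⟶ (G j).Z) (b : {i // α i = j}) (x : T ⟶ U b.1)
    (hx : p ≫ (G j).π = x ≫ chart g j b) (e : p ≫ (G j).π ≫ v j = x ≫ u b.1) :
    Φ D w G p x e ≫ (G j).inc b = p := by
  refine (cov D G p).hom_ext _ _ fun b' => ?_
  show pullback.fst p ((G j).inc b') ≫ _ = pullback.fst p ((G j).inc b') ≫ p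
  rw [reassoc_of% Φ_spec D w G p x e _ b' _ pullback.condition, pullback.condition]
  refine ((G j).compat b' b (pullback.snd p ((G j).inc b')) (pullback.fst p ((G j).inc b') ≫ x) ?_ _).symm
  rw [← (G j).inc_π, ← reassoc_of% (pullback.condition (f := p) (g := (G j).inc b')), hx, Category.assoc]

variable [∀ j b, IsOpenImmersion (chart g j b)] (hsurj : ∀ j (y : V j), ∃ b z, chart g j b z = y)

/-- The cover of a test scheme induced by a point of a member of the coarser family. -/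
noncomputable def cov' {T : Scheme.{u}} {j : κ} (x : T ⟶ V j) : T.OpenCover :=
  Scheme.Cover.mkOfCovers {i // α i = j} (fun b => pullback x (chart g j b)) (fun b => pullback.fst _ _)
    fun t => by
      obtain ⟨b, y, hy⟩ := hsurj j (x t)
      obtain ⟨z, hz, -⟩ := Scheme.Pullback.exists_preimage_pullback t y hy.symm
      exact ⟨b, z, hz⟩

include w in
lemma x_e {T : Scheme.{u}} {j j' : κ} {p : T ⟶ (G j).Z} {x₁ : T ⟶ V j'} (e : p ≫ (G j).π ≫ v j = x₁ ≫ v j')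
    {T' : Scheme.{u}} (t : T' ⟶ T) (b : {i // α i = j'}) (x : T' ⟶ U b.1) (h : t ≫ x₁ = x ≫ chart g j' b) :
    (t ≫ p) ≫ (G j).π ≫ v j = x ≫ u b.1 := by
  rw [Category.assoc, e, reassoc_of% h, chart_v w]

include w hsurj in
lemma exists_Ψ {T : Scheme.{u}} {j j' : κ} (p : T ⟶ (G j).Z) (x₁ : T ⟶ V j')
    (e : p ≫ (G j).π ≫ v j = x₁ ≫ v j') :
    ∃ q : T ⟶ (G j').Z, q ≫ (G j').π = x₁ ∧
      ∀ ⦃T' : Scheme.{u}⦄ (t : T' ⟶ T) (b : {i // α i = j'}) (x : T' ⟶ U b.1) (h : t ≫ x₁ = x ≫ chart g j' b),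
        t ≫ q = Φ D w G (t ≫ p) x (x_e D w G e t b x h) ≫ (G j').inc b := by
  let q : ∀ b : {i // α i = j'}, pullback x₁ (chart g j' b) ⟶ (G j').Z := fun b =>
    Φ D w G (pullback.fst _ _ ≫ p) (pullback.snd _ _) (x_e D w G e _ b _ pullback.condition) ≫ (G j').inc b
  have hq : ∀ b b', pullback.fst ((cov' hsurj x₁).f b) ((cov' hsurj x₁).f b') ≫ q b = pullback.snd _ _ ≫ q b' := by
    intro (b : {i // α i = j'}) (b' : {i // α i = j'})
    let P := pullback (pullback.fst x₁ (chart g j' b)) (pullback.fst x₁ (chart g j' b'))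
    let t : P ⟶ T := pullback.fst _ _ ≫ pullback.fst _ _
    let x : P ⟶ U b.1 := pullback.fst _ _ ≫ pullback.snd _ _
    let x' : P ⟶ U b'.1 := pullback.snd _ _ ≫ pullback.snd _ _
    have hx : t ≫ x₁ = x ≫ chart g j' b := by simp only [t, x, Category.assoc, pullback.condition (f := x₁)]
    have hx' : t ≫ x₁ = x' ≫ chart g j' b' := by
      rw [show t = pullback.snd _ _ ≫ pullback.fst _ _ from pullback.condition]
      simp only [x', Category.assoc, pullback.condition (f := x₁)]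
    refine ((Category.assoc _ _ _).symm.trans (congrArg (· ≫ (G j').inc b) (Φ_nat D w G _ _ _ _ (t ≫ p) x
      (Category.assoc _ _ _).symm rfl (x_e D w G e t b x hx)))).trans
      (Eq.trans ?_ ((Category.assoc _ _ _).symm.trans (congrArg (· ≫ (G j').inc b') (Φ_nat D w G _ _ _ _ (t ≫ p) x'
      (by simp only [t]; rw [pullback.condition, Category.assoc]) rfl (x_e D w G e t b' x' hx')))).symm)
    have e1 : Φ D w G (t ≫ p) x (x_e D w G e t b x hx) ≫ (D.obj b.1).hom ≫ u b.1 = x' ≫ u b'.1 := by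
      rw [← Category.assoc, Φ_hom, ← x_e D w G e t b x hx, x_e D w G e t b' x' hx']
    rw [← tr_Φ D w G (t ≫ p) x x' (x_e D w G e t b x hx) e1]
    exact (G j').compat b b' _ x' (by rw [← Category.assoc, Φ_hom, ← hx, hx']) _
  refine ⟨(cov' hsurj x₁).glueMorphisms q hq, (cov' hsurj x₁).hom_ext _ _ fun b => ?_, fun T' t b x h => ?_⟩
  · rw [Scheme.Cover.ι_glueMorphisms_assoc]
    show (Φ D w G _ _ _ ≫ (G j').inc b) ≫ (G j').π = pullback.fst x₁ (chart g j' b) ≫ x₁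
    rw [Category.assoc, (G j').inc_π, ← Category.assoc, Φ_hom, pullback.condition]
  · have : t = pullback.lift t x h ≫ (cov' hsurj x₁).f b := (pullback.lift_fst _ _ _).symm
    refine (congrArg (· ≫ (cov' hsurj x₁).glueMorphisms q hq) this).trans ?_
    rw [Category.assoc, Scheme.Cover.ι_glueMorphisms]
    refine (Category.assoc _ _ _).symm.trans (congrArg (· ≫ (G j').inc b) ?_)
    exact Φ_nat D w G _ _ _ _ _ _ (by rw [pullback.lift_fst_assoc]) (pullback.lift_snd _ _ _) _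

/-- Transport between the glued schemes. -/
noncomputable def Ψ {T : Scheme.{u}} {j j' : κ} (p : T ⟶ (G j).Z) (x₁ : T ⟶ V j')
    (e : p ≫ (G j).π ≫ v j = x₁ ≫ v j') : T ⟶ (G j').Z := (exists_Ψ D w G hsurj p x₁ e).choose

lemma Ψ_π {T : Scheme.{u}} {j j' : κ} (p : T ⟶ (G j).Z) (x₁ : T ⟶ V j')
    (e : p ≫ (G j).π ≫ v j = x₁ ≫ v j') : Ψ D w G hsurj p x₁ e ≫ (G j').π = x₁ :=
  (exists_Ψ D w G hsurj p x₁ e).choose_spec.1

lemma Ψ_spec {T : Scheme.{u}} {j j' : κ} (p : T ⟶ (G j).Z) (x₁ : T ⟶ V j')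
    (e : p ≫ (G j).π ≫ v j = x₁ ≫ v j') {T' : Scheme.{u}} (t : T' ⟶ T) (b : {i // α i = j'}) (x : T' ⟶ U b.1)
    (h : t ≫ x₁ = x ≫ chart g j' b) :
    t ≫ Ψ D w G hsurj p x₁ e = Φ D w G (t ≫ p) x (x_e D w G e t b x h) ≫ (G j').inc b :=
  (exists_Ψ D w G hsurj p x₁ e).choose_spec.2 t b x h

lemma eq_Ψ {T : Scheme.{u}} {j j' : κ} (p : T ⟶ (G j).Z) (x₁ : T ⟶ V j')
    (e : p ≫ (G j).π ≫ v j = x₁ ≫ v j') (q : T ⟶ (G j').Z)
    (hq : ∀ ⦃T' : Scheme.{u}⦄ (t : T' ⟶ T) (b : {i // α i = j'}) (x : T' ⟶ U b.1)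
      (h : t ≫ x₁ = x ≫ chart g j' b), t ≫ q = Φ D w G (t ≫ p) x (x_e D w G e t b x h) ≫ (G j').inc b) :
    q = Ψ D w G hsurj p x₁ e :=
  (cov' hsurj x₁).hom_ext _ _ fun b => (hq _ b _ pullback.condition).trans
    (Ψ_spec D w G hsurj p x₁ e _ b _ pullback.condition).symm

lemma Φ_Ψ {T : Scheme.{u}} {j j' : κ} (p : T ⟶ (G j).Z) (x₁ : T ⟶ V j') (e : p ≫ (G j).π ≫ v j = x₁ ≫ v j')
    {l : ι} (z : T ⟶ U l) (e₁ : Ψ D w G hsurj p x₁ e ≫ (G j').π ≫ v j' = z ≫ u l)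
    (e₂ : p ≫ (G j).π ≫ v j = z ≫ u l) :
    Φ D w G (Ψ D w G hsurj p x₁ e) z e₁ = Φ D w G p z e₂ := by
  refine (eq_Φ D w G _ _ e₁ _ fun T' t b a h => ?_).symm
  have hx : t ≫ x₁ = (a ≫ (D.obj b.1).hom) ≫ chart g j' b := by
    rw [← Ψ_π D w G hsurj p x₁ e, reassoc_of% h, (G j').inc_π, Category.assoc]
  have := (G j').inc_open b
  have ha : Φ D w G (t ≫ p) (a ≫ (D.obj b.1).hom) (x_e D w G e t b _ hx) = a := by
    rw [← cancel_mono ((G j').inc b), ← Ψ_spec D w G hsurj p x₁ e t b _ hx, h]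
  rw [Φ_nat D w G t p z e₂ (t ≫ p) (t ≫ z) rfl rfl (by rw [Category.assoc, e₂, Category.assoc])]
  have e3 := inc_e D w G e₁ t a h
  rw [← tr_Φ D w G (t ≫ p) _ (t ≫ z) (x_e D w G e t b _ hx) (by rw [ha]; exact e3)]
  simp only [ha]

lemma Ψ_comp {T : Scheme.{u}} {j j' j'' : κ} (p : T ⟶ (G j).Z) (x₁ : T ⟶ V j') (x₂ : T ⟶ V j'')
    (e : p ≫ (G j).π ≫ v j = x₁ ≫ v j') (e₁ : Ψ D w G hsurj p x₁ e ≫ (G j').π ≫ v j' = x₂ ≫ v j'')
    (e₂ : p ≫ (G j).π ≫ v j = x₂ ≫ v j'') :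
    Ψ D w G hsurj (Ψ D w G hsurj p x₁ e) x₂ e₁ = Ψ D w G hsurj p x₂ e₂ := by
  refine eq_Ψ D w G hsurj _ _ e₂ _ fun T' t b x h => ?_
  rw [Ψ_spec D w G hsurj _ _ e₁ t b x h]
  congr 1
  have hΨ : t ≫ Ψ D w G hsurj p x₁ e =
      Ψ D w G hsurj (t ≫ p) (t ≫ x₁) (by rw [Category.assoc, e, Category.assoc]) := by
    refine eq_Ψ D w G hsurj _ _ _ _ fun T'' s b' x' h' => ?_
    rw [← Category.assoc, Ψ_spec D w G hsurj p x₁ e (s ≫ t) b' x' (by rw [Category.assoc]; exact h')]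
    simp only [Category.assoc]
  have e4 : t ≫ Ψ D w G hsurj p x₁ e = _ := hΨ
  refine ((Φ_nat D w G (𝟙 _) _ _ _ _ _ (by rw [Category.id_comp, hΨ]) (Category.id_comp _) ?_).trans
    (Φ_Ψ D w G hsurj _ _ _ x ?_ (x_e D w G e₂ t b x h))) |> (Category.id_comp _).symm.trans
  all_goals rw [← hΨ]; exact x_e D w G e₁ t b x h

lemma Ψ_self {T : Scheme.{u}} {j : κ} (p : T ⟶ (G j).Z) (x : T ⟶ V j) (hx : p ≫ (G j).π = x)
    (e : p ≫ (G j).π ≫ v j = x ≫ v j) : Ψ D w G hsurj p x e = p := by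
  subst hx
  refine (eq_Ψ D w G hsurj _ _ e p fun T' t b x h => ?_).symm
  exact (Φ_self D w G (t ≫ p) b x (by rw [Category.assoc]; exact h) _).symm

lemma Ψ_nat {T T' : Scheme.{u}} (s : T' ⟶ T) {j j' : κ} (p : T ⟶ (G j).Z) (x₁ : T ⟶ V j')
    (e : p ≫ (G j).π ≫ v j = x₁ ≫ v j') (p' : T' ⟶ (G j).Z) (y₁ : T' ⟶ V j') (hp : s ≫ p = p')
    (hx : s ≫ x₁ = y₁) (e' : p' ≫ (G j).π ≫ v j = y₁ ≫ v j') :
    s ≫ Ψ D w G hsurj p x₁ e = Ψ D w G hsurj p' y₁ e' := by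
  subst hp hx
  refine eq_Ψ D w G hsurj _ _ e' _ fun T'' t b' x' h' => ?_
  rw [← Category.assoc, Ψ_spec D w G hsurj p x₁ e (t ≫ s) b' x' (by rw [Category.assoc]; exact h')]
  simp only [Category.assoc]

include w in
omit [∀ j b, IsOpenImmersion (chart g j b)] in
lemma lift_e {T : Scheme.{u}} {j j' : κ} {x₀ : T ⟶ V j} {x₁ : T ⟶ V j'} (h : x₀ ≫ v j = x₁ ≫ v j')
    (p : Lifts (Over.mk (G j).π) x₀) : p.1 ≫ (G j).π ≫ v j = x₁ ≫ v j' := by
  rw [← Category.assoc, show p.1 ≫ (G j).π = x₀ from p.2, h]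

lemma Ψ_e {T : Scheme.{u}} {j j' j'' : κ} {p : T ⟶ (G j).Z} {x₁ : T ⟶ V j'}
    (e : p ≫ (G j).π ≫ v j = x₁ ≫ v j') {x₂ : T ⟶ V j''} (h : x₁ ≫ v j' = x₂ ≫ v j'') :
    Ψ D w G hsurj p x₁ e ≫ (G j').π ≫ v j' = x₂ ≫ v j'' := by
  rw [← Category.assoc, Ψ_π, h]

/-- The glued descent datum. -/
noncomputable def glueDD : SchDDFam v where
  obj j := Over.mk (G j).π
  φ T j j' x₀ x₁ h :=
    { toFun := fun p => ⟨Ψ D w G hsurj p.1 x₁ (lift_e D w G h p), Ψ_π D w G hsurj _ _ _⟩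
      invFun := fun p => ⟨Ψ D w G hsurj p.1 x₀ (lift_e D w G h.symm p), Ψ_π D w G hsurj _ _ _⟩
      left_inv := fun p => Subtype.ext ((Ψ_comp D w G hsurj p.1 x₁ x₀ (lift_e D w G h p)
        (Ψ_e D w G hsurj _ h.symm) (lift_e D w G rfl p)).trans
        (Ψ_self D w G hsurj p.1 x₀ p.2 _))
      right_inv := fun p => Subtype.ext ((Ψ_comp D w G hsurj p.1 x₀ x₁ (lift_e D w G h.symm p)
        (Ψ_e D w G hsurj _ h) (lift_e D w G rfl p)).trans
        (Ψ_self D w G hsurj p.1 x₁ p.2 _)) }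
  φ_natural T T' s j j' x₀ x₁ h y₀ y₁ _ hy₁ h' p p' hp :=
    (Ψ_nat D w G hsurj s p.1 x₁ (lift_e D w G h p) p'.1 y₁ hp.symm hy₁ (lift_e D w G h' p')).symm
  φ_self T j x p := Subtype.ext (Ψ_self D w G hsurj p.1 x p.2 (lift_e D w G rfl p))
  φ_comp T j j' j'' x₀ x₁ x₂ h h' p := Subtype.ext (Ψ_comp D w G hsurj p.1 x₁ x₂ (lift_e D w G h p)
    (Ψ_e D w G hsurj _ h') (lift_e D w G (h.trans h') p))

theorem nonempty_pull_iso :
    Nonempty ((pullDDFam (f := v) (f' := u) (α := α) (p := 𝟙 S) (p' := g)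
      (fun i => (w i).trans (Category.comp_id (u i)).symm)).obj (glueDD D w G hsurj) ≅ D) := by
  have he : ∀ (i : ι) {T : Scheme.{u}} (x : T ⟶ U i) (p : Lifts (Over.mk (G (α i)).π) (x ≫ g i)),
      p.1 ≫ (G (α i)).π ≫ v (α i) = x ≫ u i := fun i T x p => by
    rw [← Category.assoc, show p.1 ≫ (G (α i)).π = x ≫ g i from p.2, Category.assoc, w]
  let e₂ : ∀ (i : ι) ⦃T : Scheme.{u}⦄ (x : T ⟶ U i),
      Lifts (Over.mk (G (α i)).π) (x ≫ g i) ≃ Lifts (D.obj i) x := fun i T x =>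
    { toFun := fun p => ⟨Φ D w G p.1 x (he i x p), Φ_hom D w G _ _ _⟩
      invFun := fun a => ⟨a.1 ≫ (G (α i)).inc ⟨i, rfl⟩, by
        show (a.1 ≫ (G (α i)).inc ⟨i, rfl⟩) ≫ (G (α i)).π = x ≫ g i
        rw [Category.assoc, (G (α i)).inc_π, chart_self, ← Category.assoc, a.2]⟩
      left_inv := fun p => Subtype.ext (Φ_self D w G p.1 ⟨i, rfl⟩ x (by rw [chart_self]; exact p.2) (he i x p))
      right_inv := fun a => Subtype.ext ((Φ_inc D w G ⟨i, rfl⟩ a.1 x (by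
          rw [Category.assoc, reassoc_of% (G (α i)).inc_π, chart_v w, ← Category.assoc, a.2])
        (by rw [← Category.assoc, a.2])).trans
        (tr_self D a.1 x a.2 _)) }
  refine (exists_iso_of_points
    (A := (pullDDFam (f := v) (f' := u) (α := α) (p := 𝟙 S) (p' := g)
      (fun i => (w i).trans (Category.comp_id (u i)).symm)).obj (glueDD D w G hsurj)) (B := D)
    (fun i T x => (liftsPullbackEquiv ((glueDD D w G hsurj).obj (α i)) (g i) x).trans (e₂ i x)) ?_ ?_).elim fun I _ => ⟨I⟩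
  · intro i T T' s x y hy p p' hp
    exact (Φ_nat D w G s _ x (he i x _) _ y (lpe_natural _ _ s x y p p' hp).symm hy (he i y _)).symm
  · intro T i k x₀ x₁ h p
    refine Subtype.ext ?_
    simp only [pullDDFam, pullDDFamObj, Equiv.trans_apply, Equiv.apply_symm_apply]
    let p₀ := liftsPullbackEquiv ((glueDD D w G hsurj).obj (α i)) (g i) x₀ p
    have e1 : Φ D w G p₀.1 x₀ (he i x₀ p₀) ≫ (D.obj i).hom ≫ u i = x₁ ≫ u k := by
      rw [← Category.assoc, Φ_hom, h]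
    have e2 : p₀.1 ≫ (G (α i)).π ≫ v (α i) = x₁ ≫ u k := (he i x₀ p₀).trans h
    refine (φ_val D h ⟨Φ D w G p₀.1 x₀ (he i x₀ p₀), Φ_hom D w G _ _ _⟩ e1).trans
      ((tr_Φ D w G p₀.1 x₀ x₁ _ e1 e2).trans ?_)
    exact (Φ_Ψ D w G hsurj p₀.1 (x₁ ≫ g k) (by rw [e2, Category.assoc, w]) x₁ (by rw [← Category.assoc, Ψ_π, Category.assoc, w]) e2).symm

end

include w in
theorem isEquivalence (hcov : ∀ j, Presieve.ofArrows (fun i : {i // α i = j} => U i.1)
      (fun i => g i.1 ≫ eqToHom (congrArg V i.2)) ∈ Scheme.zariskiPrecoverage (V j))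
    (hff : (pullDDFam (f := v) (f' := u) (α := α) (p := 𝟙 S) (p' := g)
      (fun i => (w i).trans (Category.comp_id (u i)).symm)).Full ∧
      (pullDDFam (f := v) (f' := u) (α := α) (p := 𝟙 S) (p' := g)
      (fun i => (w i).trans (Category.comp_id (u i)).symm)).Faithful) :
    (pullDDFam (f := v) (f' := u) (α := α) (p := 𝟙 S) (p' := g)
      (fun i => (w i).trans (Category.comp_id (u i)).symm)).IsEquivalence := by
  have := hff.1
  have := hff.2
  haveI : ∀ j b, IsOpenImmersion (chart g j b) := fun j b => ((Scheme.ofArrows_mem_precoverage_iff _).1 (hcov j)).2 b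
  have hs : ∀ j (y : V j), ∃ b z, chart g j b z = y := fun j y =>
    ((Scheme.ofArrows_mem_precoverage_iff _).1 (hcov j)).1 y
  have : (pullDDFam (f := v) (f' := u) (α := α) (p := 𝟙 S) (p' := g)
      (fun i => (w i).trans (Category.comp_id (u i)).symm)).EssSurj := ⟨fun D => by
    let G : ∀ j, Glued D (fun b : {i // α i = j} => b.1) (chart g j) := fun j =>
      (exists_glued D (fun b : {i // α i = j} => b.1) (v j) (chart g j) (chart_v w j)).some
    exact ⟨glueDD D w G hs, nonempty_pull_iso D w G hs⟩⟩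
  exact { }

end Groth.Agent.DescLib.GlueFam
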