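import Groth.Agent.DescLib.DescCharts
import Groth.Agent.FpqcDescLib.Basic
import Groth.Agent.S9851
import Mathlib.AlgebraicGeometry.Limits

/-!
# Effective descent: locality on the base and on the descended scheme, reduction to affine schemes
-/

universe w' w u

set_option autoImplicit false
set_option backward.isDefEq.respectTransparency false
set_option backward.isDefEq.respectTransparency.types false

open CategoryTheory CategoryTheory.Limits AlgebraicGeometry Opposite Desc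

namespace Groth.Agent.DescLib

variable {S : Scheme.{u}}

/-- Covering sieves for a single flat quasi-compact surjection. -/
lemma factorSieve_single_mem {X : Scheme.{u}} (p : X ⟶ S) [Surjective p] [Flat p] [QuasiCompact p]
    {T : Scheme.{u}} (s : T ⟶ S) :
    factorSieve (fun _ : PUnit.{u + 1} => p) s ∈ Scheme.fpqcTopology T := by
  refine factorSieve_mem_of_cover _ ?_ s
  rw [Presieve.ofArrows_pUnit]
  exact p.singleton_mem_fpqcPrecoverage

/-- The family version of effectivity for a one-member family. -/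
lemma isEffective_ofSchDD_iff {X : Scheme.{u}} (p : X ⟶ S) (D : SchDD p) :
    (SchDDFam.IsEffective ((SchDDFam.ofSchDD.{u} p).obj D)) ↔
      ∃ U : Over S, Nonempty ((toDD p).obj U ≅ D) := by
  constructor
  · rintro ⟨U, ⟨I⟩⟩
    exact ⟨U, ⟨(SchDDFam.toSchDD.{u} p).mapIso I⟩⟩
  · rintro ⟨U, ⟨I⟩⟩
    exact ⟨U, ⟨(SchDDFam.ofSchDD.{u} p).mapIso I⟩⟩

lemma rep_of_exists {X : Scheme.{u}} (p : X ⟶ S) [Surjective p] [Flat p] [QuasiCompact p] (D : SchDD p)
    (h : ∃ U : Over S, Nonempty ((toDD p).obj U ≅ D)) : Rep ((SchDDFam.ofSchDD.{u} p).obj D) :=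
  rep_of_isEffective (factorSieve_single_mem p) ((isEffective_ofSchDD_iff p D).2 h)

lemma exists_of_rep {X : Scheme.{u}} (p : X ⟶ S) (D : SchDD p)
    (h : Rep ((SchDDFam.ofSchDD.{u} p).obj D)) : ∃ U : Over S, Nonempty ((toDD p).obj U ≅ D) :=
  (isEffective_ofSchDD_iff p D).1 (isEffective_of_rep h)

section zariski

variable {ι : Type w} {X : ι → Scheme.{u}} {f : ∀ i, X i ⟶ S}

/-- Representability is local on the base for the Zariski topology. -/
theorem rep_of_local (D : SchDDFam f) {κ : Type u} (V : κ → S.Opens) (hV : ∀ x, ∃ a, x ∈ V a)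
    (h : ∀ a, RepOn D (V a).ι) : Rep D := by
  choose U c₀ hu using h
  let C : κ → Chart D := fun a =>
    { O := fun T s _ => s ⁻¹ᵁ V a
      O_res := fun T T' s c g s' hs => by subst hs; rfl
      U := Over.mk ((U a).hom ≫ (V a).ι)
      c₀ := c₀ a
      O₀ := preimage_ι_eq_top _ _
      univ := fun T s c hs => by
        obtain ⟨x, rfl⟩ : ∃ x : T ⟶ (V a).toScheme, x ≫ (V a).ι = s :=
          ⟨IsOpenImmersion.lift _ s (range_subset_of_preimage_eq_top _ s hs), IsOpenImmersion.lift_fac _ _ _⟩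
        obtain ⟨p, hp, huniq⟩ := hu a x c
        refine ⟨⟨p.1, (Category.assoc _ _ _).symm.trans (congrArg (· ≫ (V a).ι) p.2)⟩, hp, fun q hq => ?_⟩
        have hq2 : q.1 ≫ (U a).hom = x := by
          rw [← cancel_mono (V a).ι, Category.assoc]; exact q.2
        have e := congrArg Subtype.val (huniq ⟨q.1, hq2⟩ hq)
        exact Subtype.ext e }
  exact rep_of_charts (C := C) fun T s c x => hV (s x)

end zariski

section sub

variable {X : Scheme.{u}} {p : X ⟶ S} [Surjective p] [Flat p] [QuasiCompact p]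
  {D D' : SchDDFam (fun _ : PUnit.{u + 1} => p)} (a : D' ⟶ D) [IsOpenImmersion (a.hom ⟨⟩).left]

lemma pt_mem_iff {T : Scheme.{u}} {s : T ⟶ S} (c : Compat D s)
    (z z' : (pullback s p : Scheme.{u})) (h : pullback.fst s p z = pullback.fst s p z')
    (hz : (c.pt (i := PUnit.unit) (pullback.fst s p) (pullback.snd s p) pullback.condition.symm).1 z ∈
      (a.hom ⟨⟩).left.opensRange) :
    (c.pt (i := PUnit.unit) (pullback.fst s p) (pullback.snd s p) pullback.condition.symm).1 z' ∈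
      (a.hom ⟨⟩).left.opensRange := by
  obtain ⟨r, hr, hr'⟩ := Scheme.Pullback.exists_preimage_pullback z z' h
  let m := pullback.fst (pullback.fst s p) (pullback.fst s p)
  let n := pullback.snd (pullback.fst s p) (pullback.fst s p)
  let cp := c.pt (i := PUnit.unit) (pullback.fst s p) (pullback.snd s p) pullback.condition.symm
  let O₁ := (m ≫ cp.1) ⁻¹ᵁ (a.hom ⟨⟩).left.opensRange
  have hrO : r ∈ O₁ := by
    show cp.1 (m r) ∈ (a.hom ⟨⟩).left.opensRange
    rw [hr]; exact hz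
  let t := O₁.ι ≫ m ≫ pullback.fst s p
  let y₀ := O₁.ι ≫ m ≫ pullback.snd s p
  let y₁ := O₁.ι ≫ n ≫ pullback.snd s p
  have ht : t = O₁.ι ≫ n ≫ pullback.fst s p := congrArg (O₁.ι ≫ ·) pullback.condition
  have h₀ : y₀ ≫ p = t ≫ s := by simp [t, y₀, pullback.condition]
  have h₁ : y₁ ≫ p = t ≫ s := by rw [ht]; simp [y₁, pullback.condition]
  have e₀ := c.nat (i := PUnit.unit) (O₁.ι ≫ m) (pullback.fst s p) (pullback.snd s p) pullback.condition.symm t y₀
    (Category.assoc _ _ _) (Category.assoc _ _ _) h₀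
  have e₁ := c.nat (i := PUnit.unit) (O₁.ι ≫ n) (pullback.fst s p) (pullback.snd s p) pullback.condition.symm t y₁
    ((Category.assoc _ _ _).trans ht.symm) (Category.assoc _ _ _) h₁
  obtain ⟨b, hb⟩ : ∃ b, b ≫ (a.hom ⟨⟩).left = (c.pt t y₀ h₀).1 := by
    refine ⟨IsOpenImmersion.lift _ _ ?_, IsOpenImmersion.lift_fac _ _ _⟩
    rintro _ ⟨x, rfl⟩
    rw [e₀]
    exact x.2
  let b' : Lifts (D'.obj ⟨⟩) y₀ := ⟨b, by
    rw [← Over.w (a.hom ⟨⟩), ← Category.assoc, hb]; exact (c.pt t y₀ h₀).2⟩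
  have e₂ := a.comm (i := PUnit.unit) (j := PUnit.unit) y₀ y₁ (h₀.trans h₁.symm) b' (c.pt t y₀ h₀) hb.symm
  rw [c.comp (i := PUnit.unit) (k := PUnit.unit) t y₀ y₁ h₀ h₁] at e₂
  refine ⟨(D'.φ (i := PUnit.unit) (j := PUnit.unit) y₀ y₁ (h₀.trans h₁.symm) b').1 ⟨r, hrO⟩, ?_⟩
  rw [← Scheme.Hom.comp_apply, ← e₂, e₁]
  show cp.1 (n r) = cp.1 z'
  rw [hr']

/-- The locus where a compatible family lands in an open subdatum. -/
theorem exists_locus : ∃ O : ∀ ⦃T : Scheme.{u}⦄ ⦃s : T ⟶ S⦄, Compat D s → T.Opens,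
    (∀ ⦃T T' : Scheme.{u}⦄ ⦃s : T ⟶ S⦄ (c : Compat D s) (g : T' ⟶ T) (s' : T' ⟶ S) (hs : g ≫ s = s'),
      O (c.res g s' hs) = g ⁻¹ᵁ O c) ∧
    (∀ ⦃T : Scheme.{u}⦄ ⦃s : T ⟶ S⦄ (c : Compat D s), O c = ⊤ ↔ ∃ c' : Compat D' s, c'.map a = c) ∧
    (∀ ⦃T : Scheme.{u}⦄ ⦃s : T ⟶ S⦄ (c c' : Compat D' s), c.map a = c'.map a → c = c') ∧
    ∀ ⦃T : Scheme.{u}⦄ ⦃s : T ⟶ S⦄ (c : Compat D s) (z : (pullback s p : Scheme.{u})),
      (c.pt (i := PUnit.unit) (pullback.fst s p) (pullback.snd s p) pullback.condition.symm).1 z ∈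
        (a.hom ⟨⟩).left.opensRange → pullback.fst s p z ∈ O c := by
  let j := (a.hom ⟨⟩).left
  let A : ∀ ⦃T : Scheme.{u}⦄ ⦃s : T ⟶ S⦄, Compat D s → (pullback s p).Opens := fun T s c =>
    (c.pt (i := PUnit.unit) (pullback.fst s p) (pullback.snd s p) pullback.condition.symm).1 ⁻¹ᵁ j.opensRange
  have hsat : ∀ ⦃T : Scheme.{u}⦄ ⦃s : T ⟶ S⦄ (c : Compat D s) (z z' : (pullback s p : Scheme.{u})),
      pullback.fst s p z = pullback.fst s p z' → z ∈ A c → z' ∈ A c := fun T s c => pt_mem_iff a c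
  let O : ∀ ⦃T : Scheme.{u}⦄ ⦃s : T ⟶ S⦄, Compat D s → T.Opens := fun T s c =>
    ⟨pullback.fst s p '' (A c : Set (pullback s p : Scheme.{u})), by
      rw [← (Flat.isQuotientMap_of_surjective (pullback.fst s p)).isOpen_preimage]
      have : pullback.fst s p ⁻¹' (pullback.fst s p '' (A c : Set (pullback s p : Scheme.{u}))) = A c := by
        refine Set.Subset.antisymm ?_ (Set.subset_preimage_image _ _)
        rintro z ⟨z', hz', e⟩
        exact hsat c z' z e hz'
      rw [this]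
      exact (A c).isOpen⟩
  have hOres : ∀ ⦃T T' : Scheme.{u}⦄ ⦃s : T ⟶ S⦄ (c : Compat D s) (g : T' ⟶ T) (s' : T' ⟶ S) (hs : g ≫ s = s'),
      O (c.res g s' hs) = g ⁻¹ᵁ O c := by
    intro T T' s c g s' hs
    let m : pullback s' p ⟶ pullback s p := pullback.lift (pullback.fst s' p ≫ g) (pullback.snd s' p)
      (by rw [Category.assoc, hs, pullback.condition])
    have hA : ∀ z, z ∈ A (c.res g s' hs) ↔ m z ∈ A c := fun z => by
      show ((c.pt (pullback.fst s' p ≫ g) (pullback.snd s' p) _).1 z ∈ j.opensRange) ↔ _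
      rw [c.nat (i := PUnit.unit) m (pullback.fst s p) (pullback.snd s p) pullback.condition.symm _ _ (pullback.lift_fst _ _ _)
        (pullback.lift_snd _ _ _) _]
      rfl
    have hm : ∀ z, pullback.fst s p (m z) = g (pullback.fst s' p z) := fun z => by
      rw [← Scheme.Hom.comp_apply, pullback.lift_fst]; rfl
    ext x
    constructor
    · rintro ⟨z, hz, rfl⟩
      exact ⟨m z, (hA z).1 hz, hm z⟩
    · rintro ⟨z, hz, e⟩
      obtain ⟨z', rfl⟩ := (pullback.fst s' p).surjective x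
      exact ⟨z', (hA z').2 (hsat c z _ (e.trans (hm z').symm) hz), rfl⟩
  have hlift : ∀ ⦃T : Scheme.{u}⦄ ⦃s : T ⟶ S⦄ (c : Compat D s), O c = ⊤ →
      ∃ c' : Compat D' s, c'.map a = c := by
    intro T s c hc
    have hr : ∀ ⦃T' : Scheme.{u}⦄ (t : T' ⟶ T) ⦃i : PUnit.{u + 1}⦄ (y : T' ⟶ X) (hy : y ≫ p = t ≫ s),
        ∃ b : Lifts (D'.obj i) y, b.1 ≫ (a.hom i).left = (c.pt (i := i) t y hy).1 := by
      intro T' t i y hy
      obtain ⟨⟩ := i
      have hsub : Set.range (c.pt (i := PUnit.unit) t y hy).1 ⊆ Set.range (a.hom ⟨⟩).left := by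
        rintro _ ⟨x, rfl⟩
        rw [c.nat (i := PUnit.unit) (pullback.lift t y hy.symm) (pullback.fst s p) (pullback.snd s p) pullback.condition.symm t y
          (pullback.lift_fst _ _ _) (pullback.lift_snd _ _ _) hy]
        obtain ⟨z, hz, e⟩ : pullback.fst s p (pullback.lift t y hy.symm x) ∈ O c := hc ▸ trivial
        exact hsat c z _ e hz
      refine ⟨⟨IsOpenImmersion.lift _ _ hsub, ?_⟩, IsOpenImmersion.lift_fac _ _ _⟩
      rw [← Over.w (a.hom ⟨⟩), ← Category.assoc, IsOpenImmersion.lift_fac]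
      exact (c.pt t y hy).2
    choose b hb using hr
    refine ⟨{ pt := fun T' t i y hy => b t (i := i) y hy, nat := ?_, comp := ?_ },
      Compat.ext fun T' t i y hy => hb t y hy⟩
    · intro T' T'' g t i y hy t' y' hg hgy hy'
      obtain ⟨⟩ := i
      rw [← cancel_mono (a.hom ⟨⟩).left, Category.assoc]
      exact (hb t' y' hy').trans ((c.nat g t y hy t' y' hg hgy hy').trans (congrArg (g ≫ ·) (hb t y hy).symm))
    · intro T' t i k y y' hy hy'
      obtain ⟨⟩ := i
      obtain ⟨⟩ := k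
      refine Subtype.ext ?_
      rw [← cancel_mono (a.hom ⟨⟩).left, hb t y' hy', ← a.comm y y' _ (b t y hy) _ (hb t y hy).symm, c.comp]
  have hinj : ∀ ⦃T : Scheme.{u}⦄ ⦃s : T ⟶ S⦄ (c c' : Compat D' s), c.map a = c'.map a → c = c' := by
    intro T s c c' e
    refine Compat.ext fun T' t i y hy => ?_
    obtain ⟨⟩ := i
    rw [← cancel_mono (a.hom ⟨⟩).left]
    exact congrArg (fun d : Compat D s => (d.pt t y hy).1) e
  refine ⟨O, hOres, fun T s c => ⟨hlift c, ?_⟩, hinj, fun T s c z hz => ⟨z, hz, rfl⟩⟩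
  rintro ⟨c', rfl⟩
  ext x
  refine iff_of_true ?_ trivial
  obtain ⟨z, rfl⟩ := (pullback.fst s p).surjective x
  exact ⟨z, ⟨_, (Scheme.Hom.comp_apply _ _ _).symm⟩, rfl⟩

/-- A descent datum embedded in a given one as an open subdatum gives an open subfunctor. -/
theorem exists_chart (h : Rep D') : ∃ C : Chart D, ∀ ⦃T : Scheme.{u}⦄ ⦃s : T ⟶ S⦄ (c : Compat D s)
    (z : (pullback s p : Scheme.{u})),
    (c.pt (i := PUnit.unit) (pullback.fst s p) (pullback.snd s p) pullback.condition.symm).1 z ∈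
      (a.hom ⟨⟩).left.opensRange → pullback.fst s p z ∈ C.O c := by
  obtain ⟨U, c₀, hu⟩ := h
  obtain ⟨O, hOres, hiff, hinj, hmem⟩ := exists_locus a
  refine ⟨{ O := O, O_res := hOres, U := U, c₀ := c₀.map a, O₀ := (hiff _).2 ⟨c₀, rfl⟩,
            univ := fun T s c hc => ?_ }, hmem⟩
  obtain ⟨c', rfl⟩ := (hiff c).1 hc
  obtain ⟨q, hq, huniq⟩ := hu s c'
  refine ⟨q, ?_, fun r hr => huniq r (hinj _ _ ?_)⟩
  · simp only [← Compat.map_res, hq]
  · simp only [Compat.map_res]; exact hr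

include a in
/-- An open subdatum of a representable datum is representable. -/
theorem rep_of_openSub (h : Rep D) : Rep D' := by
  obtain ⟨U, c₀, hu⟩ := h
  obtain ⟨O, hOres, hiff, hinj, -⟩ := exists_locus a
  have h₀ : O (c₀.res (O c₀).ι _ rfl) = ⊤ := by
    rw [hOres]; simpa using preimage_ι_eq_top (O c₀) (𝟙 _)
  obtain ⟨c₁, hc₁⟩ := (hiff _).1 h₀
  refine ⟨Over.mk ((O c₀).ι ≫ U.hom), c₁, fun T s c => ?_⟩
  obtain ⟨q, hq, huniq⟩ := hu s (c.map a)
  have hsub : Set.range q.1 ⊆ Set.range (O c₀).ι := by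
    refine range_subset_of_preimage_eq_top _ _ ?_
    rw [← hOres c₀ q.1 s q.2, hq]
    exact (hiff _).2 ⟨c, rfl⟩
  let l := IsOpenImmersion.lift (O c₀).ι q.1 hsub
  have hl : l ≫ (O c₀).ι = q.1 := IsOpenImmersion.lift_fac _ _ _
  have key : ∀ r : Lifts (Over.mk ((O c₀).ι ≫ U.hom)) s,
      (c₁.res r.1 s r.2).map a = c₀.res (r.1 ≫ (O c₀).ι) s ((Category.assoc _ _ _).trans r.2) := fun r => by
    rw [Compat.map_res, hc₁]
    exact Compat.res_res _ _ _ _ _ _ _ _ rfl _
  refine ⟨⟨l, by show l ≫ (O c₀).ι ≫ U.hom = s; rw [reassoc_of% hl]; exact q.2⟩, hinj _ _ ?_, fun r hr => ?_⟩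
  · exact (key _).trans ((c₀.res_congr hl _ _ q.2).trans hq)
  · have e := huniq ⟨r.1 ≫ (O c₀).ι, (Category.assoc _ _ _).trans r.2⟩ ((key r).symm.trans (congrArg (·.map a) hr))
    refine Subtype.ext ((cancel_mono (O c₀).ι).1 ?_)
    exact (congrArg Subtype.val e).trans hl.symm

end sub

/-- Effectivity is local on the descended scheme. -/
theorem effective_of_locally_effective {X : Scheme.{u}} (p : X ⟶ S) [Surjective p] [Flat p] [QuasiCompact p]
    (D : SchDD p)
    (h : ∀ v : D.obj.left, ∃ (D' : SchDD p) (j : D' ⟶ D), IsOpenImmersion j.hom.left ∧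
      v ∈ Set.range j.hom.left.base ∧ ∃ U' : Over S, Nonempty ((toDD p).obj U' ≅ D')) :
    ∃ U : Over S, Nonempty ((toDD p).obj U ≅ D) := by
  choose D' j hj hv hU using h
  have hC : ∀ v : D.obj.left, ∃ C : Chart ((SchDDFam.ofSchDD.{u} p).obj D), ∀ ⦃T : Scheme.{u}⦄ ⦃s : T ⟶ S⦄
      (c : Compat ((SchDDFam.ofSchDD.{u} p).obj D) s) (z : (pullback s p : Scheme.{u})),
      (c.pt (i := PUnit.unit) (pullback.fst s p) (pullback.snd s p) pullback.condition.symm).1 z ∈
        ((((SchDDFam.ofSchDD.{u} p).map (j v)).hom ⟨⟩).left).opensRange (H := hj v) →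
        pullback.fst s p z ∈ C.O c := fun v =>
    haveI : IsOpenImmersion (((SchDDFam.ofSchDD.{u} p).map (j v)).hom ⟨⟩).left := hj v
    exists_chart _ (rep_of_exists p (D' v) (hU v))
  choose C hC using hC
  refine exists_of_rep p D (rep_of_charts (C := C) fun T s c x => ?_)
  obtain ⟨z, rfl⟩ := (pullback.fst s p).surjective x
  exact ⟨(c.pt (i := PUnit.unit) (pullback.fst s p) (pullback.snd s p) pullback.condition.symm).1 z,
    hC _ c z (hv _)⟩

/-- A property holds for a morphism to a finite disjoint union if it holds over each summand. -/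
lemma prop_of_disjoint_cover (P : MorphismProperty Scheme.{u}) [P.RespectsIso]
    (h2 : ∀ (m : ℕ) (Y V : Fin m → Scheme.{u}) (q : ∀ j, Y j ⟶ V j), (∀ j, P (q j)) → P (Limits.Sigma.map q))
    {m : ℕ} {Y : Fin m → Scheme.{u}} {A B : Scheme.{u}} (i : ∀ j, Y j ⟶ B) [∀ j, IsOpenImmersion (i j)]
    (hc : ∀ b, ∃ j, b ∈ (i j).opensRange) (hd : ∀ j k b, b ∈ (i j).opensRange → b ∈ (i k).opensRange → j = k)
    (π : A ⟶ B) (hP : ∀ j, P (pullback.snd π (i j))) : P π := by
  obtain ⟨h₁⟩ := nonempty_isColimit_cofanMk_of i (eq_top_iff.2 fun b _ => TopologicalSpace.Opens.mem_iSup.2 (hc b))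
    fun j k hjk => by
      rw [Function.onFun_apply, disjoint_iff, eq_bot_iff]
      exact fun b hb => (hjk (hd j k b hb.1 hb.2)).elim
  have hr : ∀ j z, z ∈ (pullback.fst π (i j)).opensRange → π z ∈ (i j).opensRange := by
    rintro j _ ⟨x, rfl⟩
    exact ⟨pullback.snd π (i j) x, by rw [← Scheme.Hom.comp_apply, ← Scheme.Hom.comp_apply, pullback.condition]⟩
  obtain ⟨h₂⟩ := nonempty_isColimit_cofanMk_of (fun j => pullback.fst π (i j))
    (eq_top_iff.2 fun z _ => TopologicalSpace.Opens.mem_iSup.2 (by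
      obtain ⟨j, y, hy⟩ := hc (π z)
      obtain ⟨r, hr, -⟩ := Scheme.Pullback.exists_preimage_pullback z y hy.symm
      exact ⟨j, r, hr⟩))
    fun j k hjk => by
      rw [Function.onFun_apply, disjoint_iff, eq_bot_iff]
      exact fun z hz => (hjk (hd j k _ (hr j z hz.1) (hr k z hz.2))).elim
  refine (P.arrow_mk_iso_iff ?_).1 (h2 m _ _ _ hP)
  refine Arrow.isoMk ((coproductIsCoproduct _).coconePointUniqueUpToIso h₂)
    ((coproductIsCoproduct _).coconePointUniqueUpToIso h₁) (Sigma.hom_ext _ _ fun j => ?_)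
  have a₁ := (coproductIsCoproduct Y).comp_coconePointUniqueUpToIso_hom h₁ ⟨j⟩
  have a₂ := (coproductIsCoproduct fun j => pullback π (i j)).comp_coconePointUniqueUpToIso_hom h₂ ⟨j⟩
  simp only [Cofan.mk_ι_app] at a₁ a₂
  show Sigma.ι _ j ≫ _ ≫ π = Sigma.ι _ j ≫ Limits.Sigma.map _ ≫ _
  rw [reassoc_of% a₂, Sigma.ι_map_assoc, a₁]
  exact pullback.condition

/-- Reduction of effectivity along fpqc coverings to the case of affine schemes. -/
theorem effective_of_affine_case (P : MorphismProperty Scheme.{u}) [P.IsStableUnderBaseChange]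
    (h2 : ∀ (m : ℕ) (Y V : Fin m → Scheme.{u}) (q : ∀ j, Y j ⟶ V j), (∀ j, P (q j)) → P (Limits.Sigma.map q))
    (h3 : ∀ (X S : Scheme.{u}) (p : X ⟶ S), IsAffine X → IsAffine S → Flat p → Surjective p →
      ∀ D : Desc.SchDD p, P D.obj.hom → ∃ U : Over S, Nonempty ((Desc.toDD p).obj U ≅ D))
    {ι : Type u} {U : ι → Scheme.{u}} (u : ∀ i, U i ⟶ S)
    (hu : Presieve.ofArrows U u ∈ Scheme.fpqcPrecoverage S) (D : Desc.SchDDFam u) (hD : ∀ i, P (D.obj i).hom) :
    D.IsEffective := by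
  refine isEffective_of_rep (rep_of_local D (fun W : S.affineOpens => (W.1 : S.Opens))
    (fun x => ?_) fun W => ?_)
  · obtain ⟨W, hW, hx, -⟩ :=
      TopologicalSpace.Opens.isBasis_iff_nbhd.1 S.isBasis_affineOpens (show x ∈ (⊤ : S.Opens) from trivial)
    exact ⟨⟨W, hW⟩, hx⟩
  haveI hqc : QuasiCompactCover (⟨ι, U, u⟩ : PreZeroHypercover.{u} S) :=
    (Scheme.presieve₀_mem_qcPrecoverage_iff (E := ⟨ι, U, u⟩)).1 hu.1
  have hflat : ∀ i, Flat (u i) := ((Scheme.ofArrows_mem_precoverage_iff _).1 hu.2).2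
  obtain ⟨m, a, V, hVa, hVeq⟩ :=
    QuasiCompactCover.exists_isAffineOpen_of_isCompact (⟨ι, U, u⟩ : PreZeroHypercover.{u} S) W.2.isCompact
  change Fin m → ι at a
  let g : ∀ k : ULift.{u} (Fin m), (V k.down).toScheme ⟶ U (a k.down) := fun k => (V k.down).ι
  have hsub : ∀ k : ULift.{u} (Fin m), Set.range (g k ≫ u (a k.down)) ⊆ Set.range W.1.ι := fun k => by
    rintro _ ⟨x, rfl⟩
    rw [W.1.range_ι, ← hVeq]
    exact Set.mem_iUnion.2 ⟨k.down, (g k) x, x.2, rfl⟩
  let u' : ∀ k : ULift.{u} (Fin m), (V k.down).toScheme ⟶ W.1.toScheme := fun k =>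
    IsOpenImmersion.lift W.1.ι (g k ≫ u (a k.down)) (hsub k)
  have hu' : ∀ k, u' k ≫ W.1.ι = g k ≫ u (a k.down) := fun k => IsOpenImmersion.lift_fac _ _ _
  haveI : IsAffine W.1.toScheme := W.2
  haveI : ∀ k : ULift.{u} (Fin m), IsAffine (V k.down).toScheme := fun k => hVa k.down
  let p := Sigma.desc u'
  haveI : Flat p := IsZariskiLocalAtSource.sigmaDesc fun k => by
    haveI := hflat (a k.down)
    refine MorphismProperty.of_postcomp (W' := @IsOpenImmersion) @Flat (u' k) W.1.ι inferInstance ?_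
    rw [hu' k]; infer_instance
  haveI : Surjective p := ⟨fun x => by
    obtain ⟨k, y, hy, e⟩ : ∃ k, ∃ y ∈ (V k : Set (U (a k))), u (a k) y = W.1.ι x := by
      have := x.2
      rw [← SetLike.mem_coe, ← hVeq, Set.mem_iUnion] at this
      obtain ⟨k, y, hy, e⟩ := this
      exact ⟨k, y, hy, e⟩
    refine ⟨Sigma.ι (fun k : ULift.{u} (Fin m) => (V k.down).toScheme) ⟨k⟩ ⟨y, hy⟩, W.1.ι.isOpenEmbedding.injective ?_⟩
    rw [← e, ← Scheme.Hom.comp_apply, ← Scheme.Hom.comp_apply,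
      show Sigma.ι _ _ ≫ p ≫ W.1.ι = g ⟨k⟩ ≫ u (a k) from (Sigma.ι_desc_assoc u' _ W.1.ι).trans (hu' ⟨k⟩)]
    rfl⟩
  have hsingle := @factorSieve_single_mem _ _ p _ _ inferInstance
  have hcov' : ∀ {T : Scheme.{u}} (x : T ⟶ W.1.toScheme), factorSieve u' x ∈ Scheme.fpqcTopology T := fun {T} x => by
    refine Scheme.fpqcTopology.transitive (hsingle x) _ fun T' t ⟨_, y, hy⟩ => ?_
    rw [factorSieve_pullback]
    refine Scheme.fpqcTopology.superset_covering ?_
      (Scheme.fpqcTopology.pullback_stable y (Precoverage.generate_mem_toGrothendieck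
        (Scheme.zariskiPrecoverage_le_fpqcPrecoverage _ (sigmaOpenCover fun k : ULift.{u} (Fin m) =>
          (V k.down).toScheme).mem₀)))
    rintro T'' r ⟨Y, b, c, ⟨k⟩, e⟩
    refine ⟨k, b, ?_⟩
    rw [← hy, ← reassoc_of% e]
    simp [p]
  let D' := (pullDDFam (f := u) (f' := u') (α := fun k => a k.down) (p' := g) (fun k => (hu' k).symm)).obj D
  let F := SchDDFam.ofSchDD.{u} p ⋙
    pullDDFam (f := fun _ : PUnit.{u + 1} => p) (f' := u') (α := fun _ => PUnit.unit)
      (p := 𝟙 W.1.toScheme) (p' := fun k => Sigma.ι (fun k : ULift.{u} (Fin m) => (V k.down).toScheme) k)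
      (fun k => (Sigma.ι_desc u' k).trans (Category.comp_id (u' k)).symm)
  haveI : F.IsEquivalence := Groth.Agent.S9851.result u'
  let E := F.objPreimage D'
  let I : F.obj E ≅ D' := F.objObjPreimageIso D'
  have hPE : P E.obj.hom := by
    refine prop_of_disjoint_cover P h2
      (fun j => Sigma.ι (fun k : ULift.{u} (Fin m) => (V k.down).toScheme) ⟨j⟩) (fun b => ?_) (fun j k b hj hk => ?_)
      _ fun j => ?_
    · obtain ⟨k, y, hy⟩ := (sigmaOpenCover _).exists_eq b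
      exact ⟨k.down, y, hy⟩
    · obtain ⟨x, rfl⟩ := hj
      obtain ⟨y, e⟩ := hk
      exact congrArg ULift.down ((Sigma.mk.inj_iff.1 ((sigmaι_eq_iff _ _ _ _ _).1 e)).1).symm
    · have hj : P (((F.obj E).obj ⟨j⟩).hom) := by
        let e : (F.obj E).obj ⟨j⟩ ≅ D'.obj ⟨j⟩ :=
          { hom := I.hom.hom ⟨j⟩
            inv := I.inv.hom ⟨j⟩
            hom_inv_id := congrArg (fun b : F.obj E ⟶ F.obj E => b.hom ⟨j⟩) I.hom_inv_id
            inv_hom_id := congrArg (fun b : D' ⟶ D' => b.hom ⟨j⟩) I.inv_hom_id }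
        refine (P.arrow_mk_iso_iff (Arrow.isoMk ((Over.forget _).mapIso e) (Iso.refl _) ?_)).2
          (P.pullback_snd _ (g ⟨j⟩) (hD (a j)))
        exact (Over.w (I.hom.hom ⟨j⟩)).trans (Category.comp_id _).symm
      exact hj
  obtain hE := rep_of_exists p E (h3 _ _ p inferInstance inferInstance inferInstance inferInstance E hPE)
  have h₁ := rep_pull_of_repOn (f' := u') (D := (SchDDFam.ofSchDD.{u} p).obj E) (α := fun _ => PUnit.unit)
    (g := fun k => Sigma.ι (fun k : ULift.{u} (Fin m) => (V k.down).toScheme) k)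
    (fun k => (Sigma.ι_desc u' k).trans (Category.comp_id (u' k)).symm) hcov' (repOn_of_rep hE)
  exact repOn_of_rep_pull (fun k => (hu' k).symm) hcov' (rep_of_iso I h₁)

end Groth.Agent.DescLib
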