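import Mathlib.AlgebraicGeometry.ValuativeCriterion
import Mathlib.RingTheory.Valuation.LocalSubring
import Mathlib.RingTheory.Localization.FractionRing

/-!
# Finite chains of primes and valuation rings
-/

universe u

set_option autoImplicit false
set_option backward.isDefEq.respectTransparency false
set_option backward.isDefEq.respectTransparency.types false

open CategoryTheory AlgebraicGeometry IsLocalRing

namespace Groth.Agent.DescLib

variable {A : Type u} [CommRing A]

/-- A finite chain of primes is the contraction of a chain of primes of a valuation ring. -/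
theorem exists_valuationSubring_chain : ∀ (n : ℕ) {K : Type u} [Field K] (φ : A →+* K)
    (P : Fin (n + 1) → Ideal A), (∀ i, (P i).IsPrime) → Monotone P → P 0 = RingHom.ker φ →
    ∃ (V : ValuationSubring K) (h : ∀ a, φ a ∈ V) (Q : Fin (n + 1) → PrimeSpectrum V), Monotone Q ∧
      ∀ i, (Q i).asIdeal.comap (φ.codRestrict V h) = P i := by
  intro n
  induction n with
  | zero =>
    intro K _ φ P _ _ h0
    refine ⟨⊤, fun a => ValuationSubring.mem_top _, fun _ => ⟨⊥, Ideal.isPrime_bot⟩, monotone_const, fun i => ?_⟩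
    rw [Fin.fin_one_eq_zero i, h0]
    ext a
    simp [RingHom.mem_ker, Ideal.mem_comap, Subtype.ext_iff]
  | succ n ih =>
    intro K _ φ P hP hmono h0
    haveI := hP (Fin.succ 0)
    have hu : ∀ s : (P (Fin.succ 0)).primeCompl, IsUnit (φ s) := fun s => isUnit_iff_ne_zero.2 fun e =>
      s.2 (hmono (Fin.zero_le _) (h0 ▸ e : (s : A) ∈ P 0))
    obtain ⟨B, hB, hloc⟩ := IsLocalRing.exists_factor_valuationRing
      (IsLocalization.lift (S := Localization.AtPrime (P (Fin.succ 0))) hu)
    have hφB : ∀ a, φ a ∈ B := fun a => by simpa using hB (algebraMap A _ a)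
    let ψ : A →+* ResidueField B := (residue B).comp (φ.codRestrict B hφB)
    have hψ : RingHom.ker ψ = P (Fin.succ 0) := by
      ext a
      rw [RingHom.mem_ker, RingHom.comp_apply, residue_eq_zero_iff, mem_maximalIdeal, mem_nonunits_iff,
        show φ.codRestrict B hφB a = (IsLocalization.lift (S := Localization.AtPrime (P (Fin.succ 0))) hu).codRestrict
          B.toSubring hB (algebraMap A _ a) from Subtype.ext (by simp)]
      have hun : ∀ b, IsUnit ((IsLocalization.lift (S := Localization.AtPrime (P (Fin.succ 0))) hu).codRestrict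
          B.toSubring hB b) ↔ IsUnit b := fun b => ⟨fun h => hloc.map_nonunit b h, fun h => h.map _⟩
      exact (not_congr (hun _)).trans
        ((not_congr (IsLocalization.AtPrime.isUnit_to_map_iff _ (P (Fin.succ 0)) a)).trans
          (by simp [Ideal.primeCompl]))
    obtain ⟨W, hW, Q, hQm, hQ⟩ := ih ψ (fun i => P i.succ) (fun i => hP _)
      (fun i j hij => hmono (Fin.succ_le_succ_iff.2 hij)) hψ.symm
    let R : Subring K := (W.toSubring.comap (residue B)).map B.subtype
    have hR : ∀ x : K, x ∈ R ∨ x⁻¹ ∈ R := by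
      intro x
      rcases eq_or_ne x 0 with rfl | hx0
      · exact Or.inl R.zero_mem
      have key : ∀ y : B, residue B y ∈ W → (y : K) ∈ R := fun y hy => ⟨y, hy, rfl⟩
      have hm : ∀ y : B, ¬ IsUnit y → (y : K) ∈ R := fun y hy => key y (by
        rw [(residue_eq_zero_iff y).2 hy]; exact W.zero_mem)
      rcases B.mem_or_inv_mem x with hx | hx
      · by_cases hu : IsUnit (⟨x, hx⟩ : B)
        · rcases W.mem_or_inv_mem (residue B ⟨x, hx⟩) with h | h
          · exact Or.inl (key ⟨x, hx⟩ h)
          · obtain ⟨v, hv⟩ := hu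
            have e : ((v⁻¹ : Bˣ) : B).1 = x⁻¹ := by
              apply eq_inv_of_mul_eq_one_left
              have := congrArg Subtype.val (Units.inv_mul v)
              rw [hv] at this
              exact this
            refine Or.inr (e ▸ key _ ?_)
            rwa [map_units_inv, hv]
        · exact Or.inl (hm _ hu)
      · by_cases hu : IsUnit (⟨x⁻¹, hx⟩ : B)
        · rcases W.mem_or_inv_mem (residue B ⟨x⁻¹, hx⟩) with h | h
          · exact Or.inr (key ⟨x⁻¹, hx⟩ h)
          · obtain ⟨v, hv⟩ := hu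
            have e : ((v⁻¹ : Bˣ) : B).1 = x := by
              have := congrArg Subtype.val (Units.inv_mul v)
              rw [hv] at this
              calc ((v⁻¹ : Bˣ) : B).1 = ((v⁻¹ : Bˣ) : B).1 * x⁻¹ * x := by field_simp
                _ = x := by rw [show ((v⁻¹ : Bˣ) : B).1 * x⁻¹ = 1 from this, one_mul]
            refine Or.inl (e ▸ key _ ?_)
            rwa [map_units_inv, hv]
        · exact Or.inr (hm _ hu)
    let V := ValuationSubring.ofSubring R hR
    have hVB : ∀ v : V, (v : K) ∈ B := by rintro ⟨_, y, -, rfl⟩; exact y.2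
    have hVW : ∀ v : V, residue B ⟨v, hVB v⟩ ∈ W := by rintro ⟨_, y, hy, rfl⟩; exact hy
    have hV : ∀ a, φ a ∈ V := fun a => ⟨⟨φ a, hφB a⟩, hW a, rfl⟩
    let π : V →+* W :=
      { toFun := fun v => ⟨residue B ⟨v, hVB v⟩, hVW v⟩
        map_one' := Subtype.ext (map_one (residue B))
        map_mul' := fun a b => Subtype.ext (map_mul (residue B) ⟨a, hVB a⟩ ⟨b, hVB b⟩)
        map_zero' := Subtype.ext (map_zero (residue B))
        map_add' := fun a b => Subtype.ext (map_add (residue B) ⟨a, hVB a⟩ ⟨b, hVB b⟩) }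
    refine ⟨V, hV, Fin.cons ⟨⊥, Ideal.isPrime_bot⟩ (fun i => PrimeSpectrum.comap π (Q i)), ?_, ?_⟩
    · intro i j hij
      refine Fin.cases ?_ (fun i hij => ?_) i hij
      · intro _
        exact PrimeSpectrum.asIdeal_le_asIdeal _ _ |>.1 bot_le
      · refine Fin.cases ?_ (fun j hij => ?_) j hij
        · intro h
          exact absurd h (not_le.2 (Fin.succ_pos i))
        · simp only [Fin.cons_succ]
          exact (PrimeSpectrum.asIdeal_le_asIdeal _ _).1 (Ideal.comap_mono (hQm (Fin.succ_le_succ_iff.1 hij)))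
    · refine Fin.cases ?_ (fun i => ?_)
      · rw [h0]
        ext a
        simp [RingHom.mem_ker, Ideal.mem_comap, Subtype.ext_iff]
      · rw [← hQ i, Fin.cons_succ, PrimeSpectrum.comap_asIdeal, Ideal.comap_comap]
        rfl

/-- A finite chain of specializations of a scheme comes from a valuation ring. -/
theorem exists_valuationRing_chain {Y : Scheme.{u}} {n : ℕ} (y : Fin (n + 1) → Y)
    (hy : ∀ i j, i ≤ j → y i ⤳ y j) :
    ∃ (V : Type u) (_ : CommRing V) (_ : IsDomain V) (_ : ValuationRing V) (g : Spec (CommRingCat.of V) ⟶ Y)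
      (q : Fin (n + 1) → Spec (CommRingCat.of V)), (∀ i j, i ≤ j → q i ⤳ q j) ∧ ∀ i, g (q i) = y i := by
  obtain ⟨U, hU, hyU, -⟩ := exists_isAffineOpen_mem_and_subset (x := y (Fin.last n)) (U := ⊤) trivial
  have hmem : ∀ i, y i ∈ U := fun i => (hy i _ (Fin.le_last i)).mem_open U.2 hyU
  let P : Fin (n + 1) → Ideal Γ(Y, U) := fun i => (hU.primeIdealOf ⟨y i, hmem i⟩).asIdeal
  have hP : ∀ i, (P i).IsPrime := fun i => (hU.primeIdealOf ⟨y i, hmem i⟩).isPrime
  have hmono : Monotone P := fun i j hij => by
    refine (PrimeSpectrum.le_iff_specializes _ _).2 (hU.fromSpec.isOpenEmbedding.isInducing.specializes_iff.1 ?_)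
    change hU.fromSpec _ ⤳ hU.fromSpec _
    rw [hU.fromSpec_primeIdealOf, hU.fromSpec_primeIdealOf]
    exact hy i j hij
  haveI := hP 0
  let φ : Γ(Y, U) →+* FractionRing (Γ(Y, U) ⧸ P 0) := (algebraMap _ _).comp (Ideal.Quotient.mk (P 0))
  have h0 : P 0 = RingHom.ker φ := by
    ext a
    rw [RingHom.mem_ker, RingHom.comp_apply, IsFractionRing.to_map_eq_zero_iff, Ideal.Quotient.eq_zero_iff_mem]
  obtain ⟨V, hV, Q, hQm, hQ⟩ := exists_valuationSubring_chain n φ P hP hmono h0
  refine ⟨V, inferInstance, inferInstance, inferInstance,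
    Spec.map (CommRingCat.ofHom (φ.codRestrict V hV)) ≫ hU.fromSpec, Q,
    fun i j hij => (PrimeSpectrum.le_iff_specializes _ _).1 (hQm hij), fun i => ?_⟩
  have e : (Spec.map (CommRingCat.ofHom (φ.codRestrict V hV))) (Q i) = hU.primeIdealOf ⟨y i, hmem i⟩ :=
    PrimeSpectrum.ext (hQ i)
  rw [Scheme.Hom.comp_apply, e]
  exact hU.fromSpec_primeIdealOf ⟨y i, hmem i⟩

end Groth.Agent.DescLib
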