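import Groth.Prelude.Def_W4c2submetdescSubtr
import Groth.Agent.DescLib.ValChain
import Groth.Agent.ProConsLib.Image
import Groth.Agent.H23.RedSub
import Mathlib.AlgebraicGeometry.Morphisms.UniversallyOpen
import Mathlib.AlgebraicGeometry.FunctionField
import Mathlib.RingTheory.Flat.TorsionFree
import Mathlib.RingTheory.Valuation.ValuationRing

/-!
# Lifting pairs of points over valuation rings
-/

universe u

set_option autoImplicit false
set_option backward.isDefEq.respectTransparency false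
set_option backward.isDefEq.respectTransparency.types false

open CategoryTheory CategoryTheory.Limits AlgebraicGeometry IsLocalRing Topology

namespace Groth.Agent.DescLib

theorem isProConstructible_singleton {X : Scheme.{u}} (z : X) : ProCons.IsProConstructible ({z} : Set X) := by
  refine Groth.Agent.ProConsLib.isProConstructible_of_affine fun x => ?_
  obtain ⟨V, hV, hxV, -⟩ := exists_isAffineOpen_mem_and_subset (x := x) (U := ⊤) trivial
  refine ⟨V, hV, hxV, ?_⟩
  obtain ⟨_, _, _, _⟩ := Groth.Agent.ProConsLib.spectral_opens hV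
  haveI : T0Space (V : Set X) := inferInstance
  by_cases hz : z ∈ V
  · refine ⟨{T | IsConstructible T ∧ (⟨z, hz⟩ : (V : Set X)) ∈ T}, fun T hT => hT.1, ?_⟩
    ext w
    refine ⟨fun h T hT => ?_, fun h => ?_⟩
    · obtain rfl : w = ⟨z, hz⟩ := Subtype.ext h
      exact hT.2
    · by_contra hne
      have hne' : w ≠ ⟨z, hz⟩ := fun e => hne (congrArg Subtype.val e)
      obtain ⟨O, hO, hO'⟩ := exists_isOpen_xor'_mem hne'
      rcases hO' with ⟨hwO, hzO⟩ | ⟨hzO, hwO⟩
      · obtain ⟨U, ⟨hU, hUc⟩, hwU, hUO⟩ := PrespectralSpace.isTopologicalBasis.exists_subset_of_mem_open hwO hO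
        exact h Uᶜ ⟨(hUc.isConstructible hU).compl, fun hzU => hzO (hUO hzU)⟩ hwU
      · obtain ⟨U, ⟨hU, hUc⟩, hzU, hUO⟩ := PrespectralSpace.isTopologicalBasis.exists_subset_of_mem_open hzO hO
        exact hwO (hUO (h U ⟨hUc.isConstructible hU, hzU⟩))
  · refine ⟨{∅}, fun T hT => ?_, ?_⟩
    · rw [Set.mem_singleton_iff.1 hT]
      exact IsConstructible.empty
    · ext w
      simp only [Set.sInter_singleton, Set.mem_preimage, Set.mem_empty_iff_false, iff_false]
      intro (h : w.1 = z)
      exact hz (h ▸ w.2)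

theorem exists_specializes_of_mem_closure_preimage_singleton {X Y : Scheme.{u}} (f : X ⟶ Y) (y' : Y) {x : X}
    (hx : x ∈ closure (f ⁻¹' {y'})) : ∃ x', f x' = y' ∧ x' ⤳ x := by
  obtain ⟨x', hx', h⟩ := Groth.Agent.ProConsLib.exists_specializes_of_mem_closure
    (Groth.Agent.ProConsLib.preimage (isProConstructible_singleton y') f) hx
  exact ⟨x', hx', h⟩

theorem isSSubtrusive_of_flat_surjective {X Y : Scheme.{u}} (f : X ⟶ Y) [Flat f] [Surjective f] :
    Subtr.IsSSubtrusive f := by
  intro y y' h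
  obtain ⟨x, rfl⟩ := f.surjective y
  obtain ⟨x', hx', e⟩ := Flat.generalizingMap f h
  exact ⟨x, x', hx', rfl, e⟩

theorem univSSubtrusive_of_closed_flat {X Y Z : Scheme.{u}} (f : X ⟶ Y) (i : Z ⟶ X) [Flat (i ≫ f)]
    [Surjective (i ≫ f)] : Subtr.UnivSSubtrusive f := by
  intro X' Y' a b f' sq
  let Z' := pullback i a
  have sq' : IsPullback (pullback.fst i a) (pullback.snd i a ≫ f') (i ≫ f) b :=
    (IsPullback.of_hasPullback i a).paste_vert sq.flip
  haveI : Flat (pullback.snd i a ≫ f') := MorphismProperty.of_isPullback sq' ‹_›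
  haveI : Surjective (pullback.snd i a ≫ f') := MorphismProperty.of_isPullback sq' ‹_›
  intro y y' h
  obtain ⟨z, z', hz, e1, e2⟩ := isSSubtrusive_of_flat_surjective (pullback.snd i a ≫ f') h
  exact ⟨pullback.snd i a z, pullback.snd i a z', hz.map (pullback.snd i a).continuous,
    by rwa [Scheme.Hom.comp_apply] at e1, by rwa [Scheme.Hom.comp_apply] at e2⟩

theorem isSSubtrusive_of_univ {X Y : Scheme.{u}} {f : X ⟶ Y} (h : Subtr.UnivSSubtrusive f) :
    Subtr.IsSSubtrusive f :=
  h _ _ _ IsPullback.of_id_snd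

section val

variable {V : Type u} [CommRing V] [IsDomain V] [ValuationRing V]

/-- The generic point of a valuation ring. -/
noncomputable abbrev etaPt (V : Type u) [CommRing V] [IsDomain V] : Spec (CommRingCat.of V) :=
  (⟨⊥, Ideal.isPrime_bot⟩ : PrimeSpectrum V)

lemma eta_specializes (y : Spec (CommRingCat.of V)) : etaPt V ⤳ y :=
  (PrimeSpectrum.le_iff_specializes _ _).1 ((PrimeSpectrum.asIdeal_le_asIdeal _ _).1 bot_le)

lemma eq_eta {y : Spec (CommRingCat.of V)} (h : y ⤳ etaPt V) : y = etaPt V :=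
  (h.antisymm (eta_specializes y)).eq

theorem flat_of_dominant_affine {W : Scheme.{u}} [IsAffine W] [IsIntegral W] (h : W ⟶ Spec (CommRingCat.of V))
    (he : h (genericPoint W) = etaPt V) : Flat h := by
  obtain ⟨φ, hφ⟩ := Spec.map_surjective (W.isoSpec.inv ≫ h)
  rw [← MorphismProperty.cancel_left_of_respectsIso @Flat W.isoSpec.inv, ← hφ,
    HasRingHomProperty.Spec_iff (P := @Flat)]
  have hg : (Spec.map φ) (W.isoSpec.hom (genericPoint W)) = etaPt V := by
    rw [hφ, ← Scheme.Hom.comp_apply, Iso.hom_inv_id_assoc, he]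
  have hinj : Function.Injective φ.hom := by
    rw [RingHom.injective_iff_ker_eq_bot, eq_bot_iff]
    intro v hv
    have hv' : v ∈ (PrimeSpectrum.comap φ.hom (W.isoSpec.hom (genericPoint W))).asIdeal := by
      show φ.hom v ∈ (W.isoSpec.hom (genericPoint W) : PrimeSpectrum Γ(W, ⊤)).asIdeal
      rw [RingHom.mem_ker.1 hv]
      exact Submodule.zero_mem _
    rw [show PrimeSpectrum.comap φ.hom (W.isoSpec.hom (genericPoint W)) = etaPt V from hg] at hv'
    exact hv'
  letI := φ.hom.toAlgebra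
  haveI : IsDomain Γ(W, ⊤) := inferInstance
  refine (Module.Flat.flat_iff_torsion_eq_bot_of_isBezout.2 ?_ : Module.Flat V Γ(W, ⊤))
  rw [eq_bot_iff]
  rintro a ⟨⟨v, hv⟩, hva⟩
  have hva' : φ.hom v * a = 0 := hva
  refine (mul_eq_zero.1 hva').resolve_left fun h0 => nonZeroDivisors.ne_zero hv (hinj ?_)
  rw [h0, map_zero]

theorem flat_of_dominant_integral {Z : Scheme.{u}} [IsIntegral Z] (h : Z ⟶ Spec (CommRingCat.of V))
    (he : h (genericPoint Z) = etaPt V) : Flat h := by
  rw [IsZariskiLocalAtSource.iff_of_iSup_eq_top (P := @Flat) (ι := {U : Z.affineOpens // Nonempty (U.1 : Scheme.{u})})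
    (fun U => U.1.1) (top_unique fun z _ => ?_)]
  · intro ⟨U, hU⟩
    haveI : IsAffine (U.1 : Scheme.{u}) := U.2
    haveI : IsIntegral (U.1 : Scheme.{u}) := isIntegral_of_isOpenImmersion U.1.ι
    refine flat_of_dominant_affine _ ?_
    rw [Scheme.Hom.comp_apply, genericPoint_eq_of_isOpenImmersion U.1.ι, he]
  · obtain ⟨U, hU, hzU, -⟩ := exists_isAffineOpen_mem_and_subset (x := z) (U := ⊤) trivial
    exact TopologicalSpace.Opens.mem_iSup.2 ⟨⟨⟨U, hU⟩, ⟨⟨z, hzU⟩⟩⟩, hzU⟩

theorem surjective_of_flat {Z : Scheme.{u}} (h : Z ⟶ Spec (CommRingCat.of V)) [Flat h] (z : Z)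
    (hz : h z = closedPoint V) : Surjective h := ⟨fun y => by
  obtain ⟨z', -, e⟩ := Flat.generalizingMap h (show y ⤳ h z by rw [hz]; exact specializes_closedPoint y)
  exact ⟨z', e⟩⟩

theorem tfae_over_valuationRing {X : Scheme.{u}} (f : X ⟶ Spec (CommRingCat.of V)) :
    List.TFAE [
      Subtr.UnivSSubtrusive f,
      Subtr.IsSSubtrusive f,
      ∀ y : Spec (CommRingCat.of V), ∃ x : X,
        x ∈ closure (f ⁻¹' {(⟨⊥, Ideal.isPrime_bot⟩ : PrimeSpectrum V)}) ∧ f x = y,
      ∃ x x' : X, x' ⤳ x ∧ f x = IsLocalRing.closedPoint V ∧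
        f x' = (⟨⊥, Ideal.isPrime_bot⟩ : PrimeSpectrum V),
      ∃ (W : Type u) (_ : CommRing W) (_ : IsDomain W) (_ : ValuationRing W)
        (g : Spec (CommRingCat.of W) ⟶ X), Surjective (g ≫ f),
      ∃ (Z : Scheme.{u}) (i : Z ⟶ X), IsClosedImmersion i ∧ Flat (i ≫ f) ∧ Surjective (i ≫ f)] := by
  tfae_have 1 → 2 := isSSubtrusive_of_univ
  tfae_have 2 → 3 := fun h y => by
    obtain ⟨x, x', hx, e1, e2⟩ := h (eta_specializes y)
    exact ⟨x, hx.mem_closed isClosed_closure (subset_closure e2), e1⟩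
  tfae_have 3 → 4 := fun h => by
    obtain ⟨x, hx, e⟩ := h (closedPoint V)
    obtain ⟨x', e', hx'⟩ := exists_specializes_of_mem_closure_preimage_singleton f _ hx
    exact ⟨x, x', hx', e, e'⟩
  tfae_have 4 → 5 := fun ⟨x, x', hx, e, e'⟩ => by
    obtain ⟨W, i1, i2, i3, g, q, hq, hgq⟩ := exists_valuationRing_chain (n := 1) ![x', x] (fun i j hij => by
      match i, j with
      | 0, 0 => exact specializes_rfl
      | 0, 1 => exact hx
      | 1, 0 => exact absurd hij (by decide)
      | 1, 1 => exact specializes_rfl)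
    refine ⟨W, i1, i2, i3, g, ?_⟩
    have h0 : (g ≫ f) (q 0) = etaPt V := by rw [Scheme.Hom.comp_apply, hgq]; exact e'
    have h1 : (g ≫ f) (q 1) = closedPoint V := by rw [Scheme.Hom.comp_apply, hgq]; exact e
    have hgen : (g ≫ f) (genericPoint (Spec (CommRingCat.of W))) = etaPt V :=
      eq_eta (h0 ▸ (genericPoint_specializes (q 0)).map (g ≫ f).continuous)
    haveI := flat_of_dominant_integral (g ≫ f) hgen
    exact surjective_of_flat (g ≫ f) (q 1) h1
  tfae_have 5 → 4 := fun ⟨W, _, _, _, g, hg⟩ => by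
    obtain ⟨w, hw⟩ := hg.surj (closedPoint V)
    obtain ⟨w', hw'⟩ := hg.surj (etaPt V)
    rw [Scheme.Hom.comp_apply] at hw
    refine ⟨g w, g (genericPoint (Spec (CommRingCat.of W))), (genericPoint_specializes w).map g.continuous, hw,
      eq_eta ?_⟩
    have := (genericPoint_specializes w').map (g ≫ f).continuous
    rw [hw', Scheme.Hom.comp_apply] at this
    exact this
  tfae_have 4 → 6 := fun ⟨x, x', hx, e, e'⟩ => by
    let C : TopologicalSpace.Closeds X := ⟨closure {x'}, isClosed_closure⟩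
    let I := Scheme.IdealSheafData.vanishingIdeal C
    haveI : IsReduced I.subscheme := Groth.Agent.H23.RedSub.isReduced_vanishingIdeal _
    have hr : Set.range I.subschemeι = closure {x'} := Groth.Agent.H23.RedSub.range_vanishingIdeal _
    obtain ⟨ζ, hζ⟩ : x' ∈ Set.range I.subschemeι := hr.symm ▸ subset_closure rfl
    obtain ⟨z, hz⟩ : x ∈ Set.range I.subschemeι := hr.symm ▸ hx.mem_closed isClosed_closure (subset_closure rfl)
    have hgen : ∀ w : I.subscheme, ζ ⤳ w := fun w => by
      rw [← I.subschemeι.isClosedEmbedding.isInducing.specializes_iff, hζ, specializes_iff_mem_closure, ← hr]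
      exact ⟨w, rfl⟩
    haveI : IrreducibleSpace I.subscheme := by
      rw [irreducibleSpace_def, Set.top_eq_univ,
        show (Set.univ : Set I.subscheme) = closure {ζ} from
          (Set.eq_univ_of_forall fun w => (hgen w).mem_closure).symm]
      exact isIrreducible_singleton.closure
    haveI : IsIntegral I.subscheme := isIntegral_of_irreducibleSpace_of_isReduced _
    have hη : genericPoint I.subscheme = ζ := ((genericPoint_specializes ζ).antisymm (hgen _)).eq
    haveI : Flat (I.subschemeι ≫ f) := flat_of_dominant_integral _ (by rw [hη, Scheme.Hom.comp_apply, hζ]; exact e')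
    exact ⟨I.subscheme, I.subschemeι, inferInstance, inferInstance,
      surjective_of_flat _ z (by rw [Scheme.Hom.comp_apply, hz]; exact e)⟩
  tfae_have 6 → 1 := fun ⟨Z, i, _, _, _⟩ => univSSubtrusive_of_closed_flat f i
  tfae_finish

end val

theorem isSSubtrusive_of_valuationRing_base {X Y : Scheme.{u}} (f : X ⟶ Y)
    (h : ∀ (V : Type u) [CommRing V] [IsDomain V] [ValuationRing V] (g : Spec (CommRingCat.of V) ⟶ Y),
      Subtr.IsSSubtrusive (pullback.snd f g)) : Subtr.IsSSubtrusive f := by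
  intro y y' hy
  obtain ⟨V, i1, i2, i3, g, q, hq, hgq⟩ := exists_valuationRing_chain (n := 1) ![y', y] (fun i j hij => by
    match i, j with
    | 0, 0 => exact specializes_rfl
    | 0, 1 => exact hy
    | 1, 0 => exact absurd hij (by decide)
    | 1, 1 => exact specializes_rfl)
  obtain ⟨p, p', hp, e, e'⟩ := h V g (hq 0 1 (by decide))
  refine ⟨pullback.fst f g p, pullback.fst f g p', hp.map (pullback.fst f g).continuous, ?_, ?_⟩
  · rw [← Scheme.Hom.comp_apply, pullback.condition, Scheme.Hom.comp_apply, e, hgq]; rfl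
  · rw [← Scheme.Hom.comp_apply, pullback.condition, Scheme.Hom.comp_apply, e', hgq]; rfl

theorem univSSubtrusive_iff_valuationRing {X Y : Scheme.{u}} (f : X ⟶ Y) :
    Subtr.UnivSSubtrusive f ↔
      ∀ (V : Type u) [CommRing V] [IsDomain V] [ValuationRing V] (g : Spec (CommRingCat.of V) ⟶ Y),
        Subtr.IsSSubtrusive (pullback.snd f g) := by
  refine ⟨fun h V _ _ _ g => h _ _ _ (IsPullback.of_hasPullback f g).flip, fun h X' Y' a b f' sq => ?_⟩
  refine isSSubtrusive_of_valuationRing_base f' fun V _ _ _ g => ?_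
  have s := (IsPullback.of_hasPullback f' g).paste_horiz sq.flip
  intro y y' hy
  obtain ⟨p, p', hp, e, e'⟩ := h V (g ≫ b) hy
  refine ⟨s.isoPullback.inv p, s.isoPullback.inv p', hp.map s.isoPullback.inv.continuous, ?_, ?_⟩
  · rw [← Scheme.Hom.comp_apply, s.isoPullback_inv_snd, e]
  · rw [← Scheme.Hom.comp_apply, s.isoPullback_inv_snd, e']

end Groth.Agent.DescLib
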