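import Groth.Agent.DescLib.DescEff
import Mathlib.RingTheory.Flat.Equalizer

/-!
# Descent data whose scheme is affine are effective
-/

universe u

set_option autoImplicit false
set_option backward.isDefEq.respectTransparency false
set_option backward.isDefEq.respectTransparency.types false

open CategoryTheory CategoryTheory.Limits AlgebraicGeometry Opposite Desc TensorProduct

namespace Groth.Agent.DescLib

/-- Equalizers of rings are preserved by flat base change, in terms of pushouts. -/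
lemma equalizer_baseChange {A B E C Q E' C' Q' : CommRingCat.{u}} (b : A ⟶ B) (hb : b.hom.Flat)
    (a : A ⟶ C) (q : A ⟶ Q) (e : A ⟶ E) (α β : C ⟶ Q) (ε : E ⟶ C)
    (hα : a ≫ α = q) (hβ : a ≫ β = q) (hε : e ≫ ε = a)
    (hinj : Function.Injective ε) (hr : ∀ c, α c = β c → ∃ x, ε x = c) (heq : ε ≫ α = ε ≫ β)
    {iE : E ⟶ E'} {jE : B ⟶ E'} (hE : IsPushout e b iE jE)
    {iC : C ⟶ C'} {jC : B ⟶ C'} (hC : IsPushout a b iC jC)
    {iQ : Q ⟶ Q'} {jQ : B ⟶ Q'} (hQ : IsPushout q b iQ jQ)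
    (ε' : E' ⟶ C') (hε₁ : iE ≫ ε' = ε ≫ iC) (hε₂ : jE ≫ ε' = jC)
    (α' β' : C' ⟶ Q') (hα₁ : iC ≫ α' = α ≫ iQ) (hα₂ : jC ≫ α' = jQ)
    (hβ₁ : iC ≫ β' = β ≫ iQ) (hβ₂ : jC ≫ β' = jQ) :
    Function.Injective ε' ∧ ∀ c, α' c = β' c → ∃ x, ε' x = c := by
  letI := b.hom.toAlgebra
  letI := a.hom.toAlgebra
  letI := q.hom.toAlgebra
  letI := e.hom.toAlgebra
  haveI : Module.Flat A B := hb
  let α₀ : C →ₐ[A] Q := ⟨α.hom, fun r => congr($hα r)⟩
  let β₀ : C →ₐ[A] Q := ⟨β.hom, fun r => congr($hβ r)⟩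
  let ε₀ : E →ₐ[A] C := ⟨ε.hom, fun r => congr($hε r)⟩
  let iso : E ≃ₐ[A] AlgHom.equalizer α₀ β₀ := AlgEquiv.ofBijective
    (ε₀.codRestrict _ fun x => congr($heq x))
    ⟨fun x y h => hinj (congrArg Subtype.val h), fun ⟨c, hc⟩ => (hr c hc).imp fun x hx => Subtype.ext hx⟩
  let eE := (CommRingCat.isPushout_tensorProduct A B E).isoIsPushout _ _ hE.flip
  let eC := (CommRingCat.isPushout_tensorProduct A B C).isoIsPushout _ _ hC.flip
  let eQ := (CommRingCat.isPushout_tensorProduct A B Q).isoIsPushout _ _ hQ.flip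
  have hnat : ∀ {M N M' N' : CommRingCat.{u}} {m : A ⟶ M} {n : A ⟶ N} {iM : M ⟶ M'} {jM : B ⟶ M'}
      {iN : N ⟶ N'} {jN : B ⟶ N'} (hM : IsPushout m b iM jM) (hN : IsPushout n b iN jN) (g : M ⟶ N) (g' : M' ⟶ N'),
      iM ≫ g' = g ≫ iN → jM ≫ g' = jN →
      letI := m.hom.toAlgebra
      letI := n.hom.toAlgebra
      ∀ (g₀ : M →ₐ[A] N), (∀ x, g₀ x = g x) → ∀ z : B ⊗[A] M,
        g' (((CommRingCat.isPushout_tensorProduct A B M).isoIsPushout _ _ hM.flip).hom z) =
          ((CommRingCat.isPushout_tensorProduct A B N).isoIsPushout _ _ hN.flip).hom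
            (Algebra.TensorProduct.map (AlgHom.id A B) g₀ z) := by
    intro M N M' N' m n iM jM iN jN hM hN g g' h₁ h₂ g₀ hg z
    letI := m.hom.toAlgebra
    letI := n.hom.toAlgebra
    induction z using TensorProduct.induction_on with
    | zero => simp
    | add x y hx hy => simp only [map_add, hx, hy]
    | tmul y x =>
      have l₁ := (CommRingCat.isPushout_tensorProduct A B M).inl_isoIsPushout_hom _ _ hM.flip
      have r₁ := (CommRingCat.isPushout_tensorProduct A B M).inr_isoIsPushout_hom _ _ hM.flip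
      have l₂ := (CommRingCat.isPushout_tensorProduct A B N).inl_isoIsPushout_hom _ _ hN.flip
      have r₂ := (CommRingCat.isPushout_tensorProduct A B N).inr_isoIsPushout_hom _ _ hN.flip
      have e1 : (y ⊗ₜ[A] x : B ⊗[A] M) = y ⊗ₜ 1 * 1 ⊗ₜ x := by simp
      have e2 : (y ⊗ₜ[A] g₀ x : B ⊗[A] N) = y ⊗ₜ 1 * 1 ⊗ₜ g₀ x := by simp
      rw [Algebra.TensorProduct.map_tmul, AlgHom.id_apply, e1, e2, map_mul, map_mul, map_mul]
      refine congr_arg₂ (· * ·) ?_ ?_
      · exact (congrArg g' congr($l₁ y)).trans ((congr($h₂ y)).trans congr($l₂ y).symm)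
      · exact (congrArg g' congr($r₁ x)).trans ((congr($h₁ x)).trans ((congrArg iN (hg x).symm).trans
          congr($r₂ (g₀ x)).symm))
  have hεz := hnat hE hC ε ε' hε₁ hε₂ ε₀ (fun _ => rfl)
  have hαz := hnat hC hQ α α' hα₁ hα₂ α₀ (fun _ => rfl)
  have hβz := hnat hC hQ β β' hβ₁ hβ₂ β₀ (fun _ => rfl)
  have hfac : ∀ z, Algebra.TensorProduct.map (AlgHom.id A B) ε₀ z =
      (AlgHom.tensorEqualizerEquiv A B α₀ β₀ (Algebra.TensorProduct.map (AlgHom.id A B) iso.toAlgHom z)).1 := by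
    intro z
    rw [AlgHom.tensorEqualizerEquiv_apply, AlgHom.coe_tensorEqualizer, ← AlgHom.comp_apply,
      ← Algebra.TensorProduct.map_comp]
    rfl
  have hbij : Function.Bijective (Algebra.TensorProduct.map (AlgHom.id A B) iso.toAlgHom) :=
    (Algebra.TensorProduct.congr AlgEquiv.refl iso).bijective
  refine ⟨fun x y hxy => ?_, fun c hc => ?_⟩
  · obtain ⟨x, rfl⟩ := eE.commRingCatIsoToRingEquiv.surjective x
    obtain ⟨y, rfl⟩ := eE.commRingCatIsoToRingEquiv.surjective y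
    have h := eC.commRingCatIsoToRingEquiv.injective ((hεz x).symm.trans (hxy.trans (hεz y)))
    rw [hfac, hfac] at h
    exact congrArg _ (hbij.1 ((AlgHom.tensorEqualizerEquiv A B α₀ β₀).injective (Subtype.ext h)))
  · obtain ⟨c, rfl⟩ := eC.commRingCatIsoToRingEquiv.surjective c
    have h := eQ.commRingCatIsoToRingEquiv.injective ((hαz c).symm.trans (hc.trans (hβz c)))
    obtain ⟨w, hw⟩ := (AlgHom.tensorEqualizerEquiv A B α₀ β₀).surjective ⟨c, h⟩
    obtain ⟨z, rfl⟩ := hbij.2 w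
    refine ⟨eE.commRingCatIsoToRingEquiv z, (hεz z).trans ?_⟩
    rw [hfac, hw]
    rfl

/-- A descent datum between affine schemes with affine underlying scheme is effective. -/
theorem effective_affine {X S : Scheme.{u}} (p : X ⟶ S) [IsAffine X] [IsAffine S] [Flat p]
    (D : SchDD p) [IsAffine D.obj.left] : ∃ U : Over S, Nonempty ((toDD p).obj U ≅ D) := by
  let D₁ := (SchDDFam.ofSchDD.{u} p).obj D
  let V := D.obj.left
  let v : V ⟶ X := D.obj.hom
  let s : V ⟶ S := v ≫ p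
  let R := pullback s p
  let d₀ : R ⟶ V := pullback.fst s p
  have eR : d₀ ≫ v ≫ p = pullback.snd s p ≫ p := pullback.condition
  let d₁ : R ⟶ V := GlueFam.tr D₁ (i := PUnit.unit) (k := PUnit.unit) d₀ (pullback.snd s p) eR
  have hd₁ : d₁ ≫ v = pullback.snd s p := GlueFam.tr_hom D₁ (i := PUnit.unit) (k := PUnit.unit) _ _ eR
  have hd₁s : d₁ ≫ s = d₀ ≫ s := by rw [← Category.assoc, hd₁]; exact eR.symm
  haveI : IsAffine R := inferInstanceAs (IsAffine (pullback s p))
  haveI : IsAffine (pullback (d₀ ≫ s) p) := inferInstance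
  let E : Subring Γ(V, ⊤) := RingHom.eqLocus d₀.appTop.hom d₁.appTop.hom
  let ε : CommRingCat.of E ⟶ Γ(V, ⊤) := CommRingCat.ofHom E.subtype
  have hsE : ∀ r, s.appTop r ∈ E := fun r => by
    show d₀.appTop (s.appTop r) = d₁.appTop (s.appTop r)
    rw [← CommRingCat.comp_apply, ← Scheme.Hom.comp_appTop, ← hd₁s]
    rfl
  let e : Γ(S, ⊤) ⟶ CommRingCat.of E := CommRingCat.ofHom (s.appTop.hom.codRestrict E hsE)
  let U : Over S := Over.mk (Spec.map e ≫ S.isoSpec.inv)
  let π : V ⟶ U.left := V.isoSpec.hom ≫ Spec.map ε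
  have hπ : π ≫ U.hom = s := by
    show (V.isoSpec.hom ≫ Spec.map ε) ≫ Spec.map e ≫ S.isoSpec.inv = s
    rw [Category.assoc, ← Spec.map_comp_assoc, show e ≫ ε = s.appTop from rfl, Scheme.isoSpec_inv_naturality,
      Iso.hom_inv_id_assoc]
  haveI : IsAffine U.left := inferInstanceAs (IsAffine (Spec (CommRingCat.of E)))
  let ψ : Γ(U.left, ⊤) ⟶ CommRingCat.of E := (Scheme.ΓSpecIso (CommRingCat.of E)).hom
  have hψ : π.appTop = ψ ≫ ε := by
    have : V.isoSpec.hom = V.toSpecΓ := rfl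
    simp only [π, ψ, Scheme.Hom.comp_appTop, this, Scheme.toSpecΓ_appTop]
    exact Scheme.ΓSpecIso_naturality ε
  have hψ' : Function.Bijective ψ := (Scheme.ΓSpecIso (CommRingCat.of E)).commRingCatIsoToRingEquiv.bijective
  have hdd : d₀ ≫ π = d₁ ≫ π := ext_of_isAffine (by
    ext z
    simp only [Scheme.Hom.comp_appTop, hψ]
    exact (ψ z).2)
  let πB : pullback s p ⟶ pullback U.hom p :=
    pullback.map _ _ _ _ π (𝟙 X) (𝟙 S) (by rw [Category.comp_id, hπ]) (by simp)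
  let D₀ : pullback (d₀ ≫ s) p ⟶ pullback s p :=
    pullback.map _ _ _ _ d₀ (𝟙 X) (𝟙 S) (by simp) (by simp)
  let D₁' : pullback (d₀ ≫ s) p ⟶ pullback s p :=
    pullback.map _ _ _ _ d₁ (𝟙 X) (𝟙 S) (by simp [hd₁s]) (by simp)
  have hflat : p.appTop.hom.Flat := HasRingHomProperty.appTop (P := @Flat) p inferInstance
  obtain ⟨hinj, hrange⟩ := equalizer_baseChange p.appTop hflat s.appTop (d₀ ≫ s).appTop U.hom.appTop
    d₀.appTop d₁.appTop π.appTop (by simp [Scheme.Hom.comp_appTop])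
    (by rw [← Scheme.Hom.comp_appTop, hd₁s])
    (by rw [← Scheme.Hom.comp_appTop, hπ])
    (by rw [hψ]; exact Subtype.val_injective.comp hψ'.1)
    (fun c hc => by
      obtain ⟨x, hx⟩ := hψ'.2 ⟨c, hc⟩
      exact ⟨x, by rw [hψ]; exact congrArg Subtype.val hx⟩)
    (by rw [← Scheme.Hom.comp_appTop, hdd, Scheme.Hom.comp_appTop])
    (isPushout_appTop_of_isPullback (IsPullback.of_hasPullback U.hom p))
    (isPushout_appTop_of_isPullback (IsPullback.of_hasPullback s p))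
    (isPushout_appTop_of_isPullback (IsPullback.of_hasPullback (d₀ ≫ s) p))
    πB.appTop (by rw [← Scheme.Hom.comp_appTop, pullback.lift_fst, Scheme.Hom.comp_appTop])
    (by rw [← Scheme.Hom.comp_appTop, pullback.lift_snd, Category.comp_id])
    D₀.appTop D₁'.appTop
    (by rw [← Scheme.Hom.comp_appTop, pullback.lift_fst, Scheme.Hom.comp_appTop])
    (by rw [← Scheme.Hom.comp_appTop, pullback.lift_snd, Category.comp_id])
    (by rw [← Scheme.Hom.comp_appTop, pullback.lift_fst, Scheme.Hom.comp_appTop])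
    (by rw [← Scheme.Hom.comp_appTop, pullback.lift_snd, Category.comp_id])
  have hr : D₀ ≫ d₁ = D₁' ≫ d₁ := by
    have e₀ := eR
    let x₁ := pullback.fst (d₀ ≫ s) p ≫ pullback.snd s p
    let x₂ := pullback.snd (d₀ ≫ s) p
    let a := pullback.fst (d₀ ≫ s) p ≫ d₀
    have h₁ : a ≫ v ≫ p = x₁ ≫ p := by simp only [a, x₁, Category.assoc, eR]
    have h₂ : a ≫ v ≫ p = x₂ ≫ p := by
      simp only [a, x₂, Category.assoc]; exact pullback.condition
    have hb : pullback.fst (d₀ ≫ s) p ≫ d₁ = GlueFam.tr D₁ (i := PUnit.unit) (k := PUnit.unit) a x₁ h₁ :=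
      GlueFam.tr_nat D₁ _ _ _ _ _ _ rfl rfl _
    have h₃ : (pullback.fst (d₀ ≫ s) p ≫ d₁) ≫ v ≫ p = x₂ ≫ p := by
      rw [Category.assoc, show d₁ ≫ v ≫ p = d₀ ≫ s from hd₁s]; exact pullback.condition
    have hl : D₀ ≫ d₁ = GlueFam.tr D₁ (i := PUnit.unit) (k := PUnit.unit) a x₂ h₂ :=
      GlueFam.tr_nat D₁ _ _ _ _ _ _ (pullback.lift_fst _ _ _)
        ((pullback.lift_snd _ _ _).trans (Category.comp_id _)) _
    have hl' : D₁' ≫ d₁ = GlueFam.tr D₁ (i := PUnit.unit) (k := PUnit.unit) (pullback.fst (d₀ ≫ s) p ≫ d₁) x₂ h₃ :=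
      GlueFam.tr_nat D₁ _ _ _ _ _ _ (pullback.lift_fst _ _ _)
        ((pullback.lift_snd _ _ _).trans (Category.comp_id _)) _
    rw [hl, hl']
    refine (GlueFam.tr_comp D₁ a x₁ x₂ h₁ (hb ▸ h₃) h₂).symm.trans ?_
    simp only [← hb]
  have hd : ∀ z, ∃ x, πB.appTop x = d₁.appTop z := fun z => hrange _ (by
    rw [← CommRingCat.comp_apply, ← CommRingCat.comp_apply, ← Scheme.Hom.comp_appTop,
      ← Scheme.Hom.comp_appTop, hr])
  let ρ₀ : Γ(V, ⊤) →+* Γ(pullback U.hom p, ⊤) :=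
    { toFun := fun z => (hd z).choose
      map_one' := hinj (by rw [(hd 1).choose_spec, map_one, map_one])
      map_mul' := fun x y => hinj (by
        rw [(hd (x * y)).choose_spec, map_mul, map_mul, (hd x).choose_spec, (hd y).choose_spec])
      map_zero' := hinj (by rw [(hd 0).choose_spec, map_zero, map_zero])
      map_add' := fun x y => hinj (by
        rw [(hd (x + y)).choose_spec, map_add, map_add, (hd x).choose_spec, (hd y).choose_spec]) }
  let θ' : pullback U.hom p ⟶ V :=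
    (pullback U.hom p).toSpecΓ ≫ Spec.map (CommRingCat.ofHom ρ₀) ≫ V.isoSpec.inv
  have hθ' : πB ≫ θ' = d₁ := by
    have h0 : CommRingCat.ofHom ρ₀ ≫ πB.appTop = d₁.appTop := by
      ext z; exact (hd z).choose_spec
    simp only [θ', ← Category.assoc, Scheme.toSpecΓ_naturality]
    simp only [Category.assoc, ← Spec.map_comp_assoc, h0]
    rw [Scheme.isoSpec_inv_naturality]
    exact (pullback s p).isoSpec.hom_inv_id_assoc d₁
  have hepi : ∀ {W : Scheme.{u}} [IsAffine W] (g g' : pullback U.hom p ⟶ W), πB ≫ g = πB ≫ g' → g = g' := by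
    intro W _ g g' hgg
    refine ext_of_isAffine ?_
    ext z
    refine hinj ?_
    rw [← CommRingCat.comp_apply, ← CommRingCat.comp_apply, ← Scheme.Hom.comp_appTop, ← Scheme.Hom.comp_appTop, hgg]
  let θ : V ⟶ pullback U.hom p := pullback.lift π v hπ
  have hθθ' : θ ≫ θ' = 𝟙 V := by
    let σ : V ⟶ R := pullback.lift (𝟙 V) v (Category.id_comp _)
    have : θ = σ ≫ πB := pullback.hom_ext (by simp [θ, σ, πB]; exact (Category.id_comp _).symm) (by simp [θ, σ, πB])
    rw [this, Category.assoc, hθ']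
    exact (GlueFam.tr_nat D₁ σ _ _ _ (𝟙 V) v (pullback.lift_fst _ _ _) (pullback.lift_snd _ _ _)
      (Category.id_comp _)).trans (GlueFam.tr_self D₁ (𝟙 V) v (Category.id_comp _) _)
  have hθ'θ : θ' ≫ θ = 𝟙 _ := hepi _ _ (by
    rw [reassoc_of% hθ', Category.comp_id]
    exact pullback.hom_ext (by simp [θ, πB, ← hdd, d₀]) (by simp [θ, πB, hd₁]))
  have hτπ : ∀ {T : Scheme.{u}} (a : T ⟶ V) (x : T ⟶ X) (ha : a ≫ v ≫ p = x ≫ p),
      GlueFam.tr D₁ (i := PUnit.unit) (k := PUnit.unit) a x ha ≫ π = a ≫ π := by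
    intro T a x ha
    rw [← GlueFam.tr_nat D₁ (pullback.lift a x ha) d₀ (pullback.snd s p) eR a x (pullback.lift_fst _ _ _)
      (pullback.lift_snd _ _ _) ha, Category.assoc]
    show pullback.lift a x ha ≫ d₁ ≫ π = _
    rw [← hdd, pullback.lift_fst_assoc]
  let sw : pullback p U.hom ≅ pullback U.hom p := pullbackSymmetry _ _
  have hθ'v : θ' ≫ v = pullback.snd U.hom p := by
    refine Eq.trans ?_ (Category.id_comp _)
    refine Eq.trans ?_ (congrArg (· ≫ pullback.snd U.hom p) hθ'θ)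
    exact (congrArg (θ' ≫ ·) (pullback.lift_snd π v hπ).symm).trans (Category.assoc _ _ _).symm
  have hθ'π : θ' ≫ π = pullback.fst U.hom p := by
    refine Eq.trans ?_ (Category.id_comp _)
    refine Eq.trans ?_ (congrArg (· ≫ pullback.fst U.hom p) hθ'θ)
    exact (congrArg (θ' ≫ ·) (pullback.lift_fst π v hπ).symm).trans (Category.assoc _ _ _).symm
  haveI : IsIso θ := ⟨θ', hθθ', hθ'θ⟩
  let e : ∀ (i : PUnit.{u + 1}) ⦃T : Scheme.{u}⦄ (x : T ⟶ X),
      Lifts (((toDDFam (fun _ : PUnit.{u + 1} => p)).obj U).obj i) x ≃ Lifts (D₁.obj i) x := fun i T x =>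
    { toFun := fun w => ⟨w.1 ≫ sw.hom ≫ θ', by
        show (w.1 ≫ sw.hom ≫ θ') ≫ v = x
        rw [Category.assoc, Category.assoc, hθ'v, pullbackSymmetry_hom_comp_snd]
        exact w.2⟩
      invFun := fun a => ⟨a.1 ≫ θ ≫ sw.inv, by
        show (a.1 ≫ θ ≫ sw.inv) ≫ pullback.fst p U.hom = x
        rw [Category.assoc, Category.assoc, pullbackSymmetry_inv_comp_fst, pullback.lift_snd]
        exact a.2⟩
      left_inv := fun w => Subtype.ext (by simp [reassoc_of% hθ'θ])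
      right_inv := fun a => Subtype.ext (by simp [hθθ']; rfl) }
  obtain ⟨I, -⟩ := exists_iso_of_points (A := (toDDFam (fun _ : PUnit.{u + 1} => p)).obj U) (B := D₁) e
    (fun i T T' g x y hy w w' hw => by
      show w'.1 ≫ sw.hom ≫ θ' = g ≫ w.1 ≫ sw.hom ≫ θ'
      rw [hw, Category.assoc])
    (fun T i k x₀ x₁ h w => by
      refine Subtype.ext ?_
      have h0 : (w.1 ≫ sw.hom ≫ θ') ≫ v = x₀ := (e i x₀ w).2
      have h1 : (w.1 ≫ sw.hom ≫ θ') ≫ v ≫ p = x₁ ≫ p := by rw [← Category.assoc, h0]; exact h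
      refine (GlueFam.φ_val D₁ h (e i x₀ w) h1).trans ?_
      rw [← cancel_mono θ]
      refine pullback.hom_ext ?_ ?_
      · simp only [Category.assoc, θ, pullback.lift_fst]
        refine (hτπ _ _ h1).trans ?_
        show _ = (_ ≫ sw.hom ≫ θ') ≫ π
        simp [hθ'π, sw, toDDFam, canonicalDDFam]
      · simp only [Category.assoc, θ, pullback.lift_snd]
        refine (GlueFam.tr_hom D₁ _ x₁ h1).trans ?_
        show _ = (_ ≫ sw.hom ≫ θ') ≫ v
        simp [hθ'v, sw, toDDFam, canonicalDDFam])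
  exact ⟨U, ⟨(SchDDFam.toSchDD.{u} p).mapIso I⟩⟩

end Groth.Agent.DescLib
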