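import Groth.Agent.S2363
import Groth.Agent.LC.CanonComplete
import Groth.Agent.Hensel.HenselizationLoc
import Groth.Agent.CILib.Basic
import Mathlib.FieldTheory.IsAlgClosed.AlgebraicClosure

/-!
# Complete flat extensions of Noetherian local rings with algebraically closed residue field
-/

universe u

set_option autoImplicit false

open IsLocalRing

namespace Groth.Agent.DescLib

/-- A Noetherian local ring has a faithfully flat complete extension with algebraically closed residue field. -/
theorem exists_complete_algClosed_extension (A : Type u) [CommRing A] [IsNoetherianRing A] [IsLocalRing A] :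
    ∃ (C : Type u) (_ : CommRing C) (_ : IsNoetherianRing C) (_ : IsLocalRing C) (_ : Algebra A C),
      IsAdicComplete (maximalIdeal C) C ∧ IsAlgClosed (ResidueField C) ∧ Module.FaithfullyFlat A C := by
  obtain ⟨B, _, _, hN, hL, hl, hF, e, -⟩ :=
    S2363.result (A := A) (AlgebraicClosure (ResidueField A))
  haveI : IsNoetherianRing B := hN
  haveI : IsLocalRing B := hL
  haveI : IsLocalHom (algebraMap A B) := hl
  haveI : Module.Flat A B := hF
  have hm : (maximalIdeal A).map (algebraMap A B) = maximalIdeal B :=
    eq_maximalIdeal (Ideal.Quotient.maximal_of_isField _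
      (MulEquiv.isField (Field.toIsField _) e.toMulEquiv))
  let eB : AlgebraicClosure (ResidueField A) ≃+* ResidueField B :=
    e.symm.trans (Ideal.quotEquivOfEq hm)
  let eC : AlgebraicClosure (ResidueField A) ≃+* ResidueField (AdicCompletion (maximalIdeal B) B) :=
    eB.trans (RingEquiv.ofBijective _ (AdicCompletion.residueField_map_bijective B))
  haveI := LC.Canon.faithfullyFlat_completion (R := B)
  haveI : Module.FaithfullyFlat A B := Module.FaithfullyFlat.of_flat_of_isLocalHom
  exact ⟨AdicCompletion (maximalIdeal B) B, inferInstance, LC.Canon.isNoetherianRing_completion (R := B),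
    inferInstance, inferInstance, inferInstance,
    IsAlgClosed.of_ringEquiv _ _ eC, Module.FaithfullyFlat.trans A B _⟩

/-- The same, with the dimension unchanged. -/
theorem exists_complete_algClosed_extension_dim (A : Type u) [CommRing A] [IsNoetherianRing A] [IsLocalRing A] :
    ∃ (C : Type u) (_ : CommRing C) (_ : IsNoetherianRing C) (_ : IsLocalRing C) (_ : Algebra A C),
      IsAdicComplete (maximalIdeal C) C ∧ IsAlgClosed (ResidueField C) ∧ Module.FaithfullyFlat A C ∧
        ringKrullDim C = ringKrullDim A := by
  obtain ⟨B, _, _, hN, hL, hl, hF, e, -⟩ :=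
    S2363.result (A := A) (AlgebraicClosure (ResidueField A))
  haveI : IsNoetherianRing B := hN
  haveI : IsLocalRing B := hL
  haveI : IsLocalHom (algebraMap A B) := hl
  haveI : Module.Flat A B := hF
  have hm : (maximalIdeal A).map (algebraMap A B) = maximalIdeal B :=
    eq_maximalIdeal (Ideal.Quotient.maximal_of_isField _
      (MulEquiv.isField (Field.toIsField _) e.toMulEquiv))
  let eB : AlgebraicClosure (ResidueField A) ≃+* ResidueField B :=
    e.symm.trans (Ideal.quotEquivOfEq hm)
  let eC : AlgebraicClosure (ResidueField A) ≃+* ResidueField (AdicCompletion (maximalIdeal B) B) :=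
    eB.trans (RingEquiv.ofBijective _ (AdicCompletion.residueField_map_bijective B))
  haveI := LC.Canon.faithfullyFlat_completion (R := B)
  haveI := LC.Canon.isNoetherianRing_completion (R := B)
  haveI : Module.FaithfullyFlat A B := Module.FaithfullyFlat.of_flat_of_isLocalHom
  refine ⟨AdicCompletion (maximalIdeal B) B, inferInstance, inferInstance, inferInstance, inferInstance,
    inferInstance, IsAlgClosed.of_ringEquiv _ _ eC, Module.FaithfullyFlat.trans A B _, ?_⟩
  rw [← Hensel.ringKrullDim_eq_of_flat_of_map_maximalIdeal_eq (R := A) (S := B) hm]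
  exact CILib.ringKrullDim_adicCompletion B

end Groth.Agent.DescLib
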