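import Groth.Agent.DescLib.Iso
import Mathlib.AlgebraicGeometry.Gluing

/-!
# Gluing a descent datum along open coverings of the members of a coarser family
-/

universe w u

set_option autoImplicit false
set_option backward.isDefEq.respectTransparency false
set_option backward.isDefEq.respectTransparency.types false

open CategoryTheory CategoryTheory.Limits AlgebraicGeometry Opposite Desc

namespace Groth.Agent.DescLib.GlueFam

variable {S : Scheme.{u}} {ι : Type u} {U : ι → Scheme.{u}} {u : ∀ i, U i ⟶ S} (D : SchDDFam u)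

/-- Transport of a point of the `i`-th member to the `k`-th one. -/
noncomputable def tr {P : Scheme.{u}} {i k : ι} (a : P ⟶ (D.obj i).left) (x : P ⟶ U k)
    (e : a ≫ (D.obj i).hom ≫ u i = x ≫ u k) : P ⟶ (D.obj k).left :=
  (D.φ (a ≫ (D.obj i).hom) x ((Category.assoc _ _ _).trans e) ⟨a, rfl⟩).1

lemma tr_hom {P : Scheme.{u}} {i k : ι} (a : P ⟶ (D.obj i).left) (x : P ⟶ U k)
    (e : a ≫ (D.obj i).hom ≫ u i = x ≫ u k) : tr D a x e ≫ (D.obj k).hom = x :=
  (D.φ (a ≫ (D.obj i).hom) x ((Category.assoc _ _ _).trans e) ⟨a, rfl⟩).2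

lemma φ_val {P : Scheme.{u}} {i k : ι} {x₀ : P ⟶ U i} {x₁ : P ⟶ U k} (h : x₀ ≫ u i = x₁ ≫ u k)
    (p : Lifts (D.obj i) x₀) (e : p.1 ≫ (D.obj i).hom ≫ u i = x₁ ≫ u k) :
    (D.φ x₀ x₁ h p).1 = tr D p.1 x₁ e := by
  obtain ⟨a, rfl⟩ := p
  rfl

lemma tr_nat {P P' : Scheme.{u}} (q : P' ⟶ P) {i k : ι} (a : P ⟶ (D.obj i).left) (x : P ⟶ U k)
    (e : a ≫ (D.obj i).hom ≫ u i = x ≫ u k) (a' : P' ⟶ (D.obj i).left) (x' : P' ⟶ U k)
    (ha : q ≫ a = a') (hx : q ≫ x = x') (e' : a' ≫ (D.obj i).hom ≫ u i = x' ≫ u k) :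
    q ≫ tr D a x e = tr D a' x' e' := by
  subst ha hx
  exact (D.φ_natural q (a ≫ (D.obj i).hom) x _ ((q ≫ a) ≫ (D.obj i).hom) (q ≫ x) (Category.assoc _ _ _).symm rfl
    _ ⟨a, rfl⟩ ⟨q ≫ a, rfl⟩ rfl).symm

lemma tr_comp {P : Scheme.{u}} {i k l : ι} (a : P ⟶ (D.obj i).left) (x : P ⟶ U k) (z : P ⟶ U l)
    (e : a ≫ (D.obj i).hom ≫ u i = x ≫ u k) (e₁ : tr D a x e ≫ (D.obj k).hom ≫ u k = z ≫ u l)
    (e₂ : a ≫ (D.obj i).hom ≫ u i = z ≫ u l) : tr D (tr D a x e) z e₁ = tr D a z e₂ := by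
  have h : x ≫ u k = z ≫ u l := e.symm.trans e₂
  refine Eq.trans ?_ (congrArg Subtype.val
    (D.φ_comp (a ≫ (D.obj i).hom) x z ((Category.assoc _ _ _).trans e) h ⟨a, rfl⟩))
  exact (φ_val D h (D.φ (a ≫ (D.obj i).hom) x ((Category.assoc _ _ _).trans e) ⟨a, rfl⟩) e₁).symm

lemma tr_self {P : Scheme.{u}} {i : ι} (a : P ⟶ (D.obj i).left) (x : P ⟶ U i)
    (hx : a ≫ (D.obj i).hom = x) (e : a ≫ (D.obj i).hom ≫ u i = x ≫ u i) : tr D a x e = a := by
  subst hx
  exact congrArg Subtype.val (D.φ_self _ _)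

/-- The result of gluing the members indexed by `β` over the scheme `Vj`. -/
structure Glued {β : Type u} (c : β → ι) {Vj : Scheme.{u}} (h : ∀ b, U (c b) ⟶ Vj) where
  /-- The glued scheme. -/
  Z : Scheme.{u}
  /-- Its structure map. -/
  π : Z ⟶ Vj
  /-- The charts. -/
  inc : ∀ b, (D.obj (c b)).left ⟶ Z
  inc_open : ∀ b, IsOpenImmersion (inc b)
  inc_surj : ∀ z : Z, ∃ b y, inc b y = z
  inc_π : ∀ b, inc b ≫ π = (D.obj (c b)).hom ≫ h b
  compat : ∀ ⦃P : Scheme.{u}⦄ (b b' : β) (a : P ⟶ (D.obj (c b)).left) (x : P ⟶ U (c b'))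
    (_ : a ≫ (D.obj (c b)).hom ≫ h b = x ≫ h b') (e : a ≫ (D.obj (c b)).hom ≫ u (c b) = x ≫ u (c b')),
    a ≫ inc b = tr D a x e ≫ inc b'

lemma exists_desc (G : Scheme.GlueData.{u}) {Y : Scheme.{u}} (k : ∀ i, G.U i ⟶ Y)
    (hk : ∀ i j, G.f i j ≫ k i = (G.t i j ≫ G.f j i) ≫ k j) : ∃ π : G.glued ⟶ Y, ∀ i, G.ι i ≫ π = k i :=
  ⟨Multicoequalizer.desc _ _ k (fun p => hk p.1 p.2), fun _ => Multicoequalizer.π_desc _ _ _ _ _⟩

theorem exists_glued {β : Type u} (c : β → ι) {Vj : Scheme.{u}} (vj : Vj ⟶ S) (h : ∀ b, U (c b) ⟶ Vj)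
    (hv : ∀ b, h b ≫ vj = u (c b)) [∀ b, IsOpenImmersion (h b)] : Nonempty (Glued D c h) := by
  let W : β → Scheme.{u} := fun b => (D.obj (c b)).left
  let y : ∀ b, W b ⟶ U (c b) := fun b => (D.obj (c b)).hom
  have he : ∀ {P : Scheme.{u}} {b b' : β} (a : P ⟶ W b) (x : P ⟶ U (c b')), a ≫ y b ≫ h b = x ≫ h b' →
      a ≫ (D.obj (c b)).hom ≫ u (c b) = x ≫ u (c b') := fun {P b b'} a x hx => by
    simp only [← hv, ← Category.assoc] at hx ⊢
    exact congrArg (· ≫ vj) hx
  let F : ∀ b b', pullback (y b ≫ h b) (h b') ⟶ W b := fun b b' => pullback.fst _ _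
  let τ : ∀ b b', pullback (y b ≫ h b) (h b') ⟶ W b' := fun b b' =>
    tr D (pullback.fst (y b ≫ h b) (h b')) (pullback.snd _ _) (he _ _ pullback.condition)
  have hτ : ∀ b b', τ b b' ≫ y b' ≫ h b' = (pullback.fst (y b ≫ h b) (h b') ≫ y b) ≫ h b := fun b b' => by
    simp only [τ, y, ← Category.assoc, tr_hom]
    rw [Category.assoc]
    exact pullback.condition.symm
  let t : ∀ b b', pullback (y b ≫ h b) (h b') ⟶ pullback (y b' ≫ h b') (h b) := fun b b' =>
    pullback.lift (τ b b') (pullback.fst _ _ ≫ y b) (hτ b b')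
  -- the triple overlaps
  let τ' : ∀ i j k, pullback (F i j) (F i k) ⟶ W j := fun i j k => pullback.fst _ _ ≫ τ i j
  have hτ' : ∀ i j k, τ' i j k ≫ y j ≫ h j = (pullback.fst (F i j) (F i k) ≫ F i j) ≫ y i ≫ h i := fun i j k => by
    simp only [τ', Category.assoc, hτ, F]
  let t' : ∀ i j k, pullback (F i j) (F i k) ⟶ pullback (F j k) (F j i) := fun i j k =>
    pullback.lift (pullback.lift (τ' i j k) (pullback.snd (F i j) (F i k) ≫ pullback.snd _ _) (by
        rw [hτ', pullback.condition, Category.assoc, Category.assoc]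
        simp only [F, pullback.condition]))
      (pullback.fst _ _ ≫ t i j) (by simp [F, τ', t])
  have hτ'tr : ∀ i j k (e), τ' i j k = tr D (pullback.fst (F i j) (F i k) ≫ F i j)
      (pullback.fst (F i j) (F i k) ≫ pullback.snd _ _) e := fun i j k e => tr_nat D _ _ _ _ _ _ rfl rfl _
  let G : Scheme.GlueData.{u} :=
    { J := β
      U := W
      V := fun p => pullback (y p.1 ≫ h p.1) (h p.2)
      f := F
      f_id := fun i => by
        refine ⟨⟨pullback.lift (𝟙 _) (y i) (by rw [Category.id_comp]), ?_, pullback.lift_fst _ _ _⟩⟩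
        refine pullback.hom_ext ?_ ?_
        · simp [F]
        · rw [← cancel_mono (h i)]
          simp [F, pullback.condition]
      t := t
      t_id := fun i => by
        have hsnd : pullback.fst (y i ≫ h i) (h i) ≫ y i = pullback.snd _ _ := by
          rw [← cancel_mono (h i), Category.assoc, pullback.condition]
        refine pullback.hom_ext ?_ ?_
        · simp only [t, τ, pullback.lift_fst, Category.id_comp]
          exact tr_self D _ _ hsnd _
        · simp only [t, pullback.lift_snd, Category.id_comp, hsnd]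
      t' := t'
      t_fac := fun i j k => by simp [t']
      cocycle := fun i j k => by
        haveI : Mono (F i j) := inferInstanceAs (Mono (pullback.fst _ _))
        rw [← cancel_mono (pullback.fst (F i j) (F i k)), ← cancel_mono (F i j)]
        have h1 : t' i j k ≫ pullback.fst (F j k) (F j i) ≫ F j k = τ' i j k := by simp [t', F]
        have h2 : t' i j k ≫ pullback.fst (F j k) (F j i) ≫ pullback.snd _ _ =
            pullback.snd (F i j) (F i k) ≫ pullback.snd _ _ := by simp [t']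
        have h3 : t' i j k ≫ pullback.snd (F j k) (F j i) ≫ pullback.snd _ _ =
            pullback.fst (F i j) (F i k) ≫ pullback.fst _ _ ≫ y i := by simp [t', t]
        have e0 : ∀ (i j k : β), (pullback.fst (F i j) (F i k) ≫ F i j) ≫ (D.obj (c i)).hom ≫ u (c i) =
            (pullback.fst (F i j) (F i k) ≫ pullback.snd _ _) ≫ u (c j) := fun i j k =>
          he _ _ (by simp only [Category.assoc, F]; rw [pullback.condition])
        let a0 : pullback (F i j) (F i k) ⟶ W i := pullback.fst (F i j) (F i k) ≫ F i j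
        let x1 : pullback (F i j) (F i k) ⟶ U (c j) := pullback.fst (F i j) (F i k) ≫ pullback.snd _ _
        let x2 : pullback (F i j) (F i k) ⟶ U (c k) := pullback.snd (F i j) (F i k) ≫ pullback.snd _ _
        have e01 : a0 ≫ (D.obj (c i)).hom ≫ u (c i) = x1 ≫ u (c j) := e0 i j k
        have e02 : a0 ≫ (D.obj (c i)).hom ≫ u (c i) = x2 ≫ u (c k) := by
          refine he _ _ ?_
          simp only [a0, x2, pullback.condition]
          simp only [Category.assoc, F, pullback.condition]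
        have e00 : a0 ≫ (D.obj (c i)).hom ≫ u (c i) = (a0 ≫ y i) ≫ u (c i) := (Category.assoc _ _ _).symm
        have e12 : tr D a0 x1 e01 ≫ (D.obj (c j)).hom ≫ u (c j) = x2 ≫ u (c k) := by
          rw [← Category.assoc, tr_hom]
          exact e01.symm.trans e02
        have e20 : tr D a0 x2 e02 ≫ (D.obj (c k)).hom ≫ u (c k) = (a0 ≫ y i) ≫ u (c i) := by
          rw [← Category.assoc, tr_hom]
          exact e02.symm.trans e00
        have h4 : t' j k i ≫ pullback.fst (F k i) (F k j) ≫ F k i = τ' j k i := by simp [t', F]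
        have h5 : t' j k i ≫ pullback.fst (F k i) (F k j) ≫ pullback.snd _ _ =
            pullback.snd (F j k) (F j i) ≫ pullback.snd _ _ := by simp [t']
        have hA : (t' i j k ≫ t' j k i) ≫ pullback.fst (F k i) (F k j) ≫ F k i = tr D a0 x2 e02 := by
          rw [Category.assoc, h4, hτ'tr j k i (e0 j k i),
            tr_nat D (t' i j k) _ _ _ _ _ (h1.trans (hτ'tr i j k e01)) h2 e12]
          exact tr_comp D a0 x1 x2 e01 e12 e02
        have hX : (t' i j k ≫ t' j k i) ≫ pullback.fst (F k i) (F k j) ≫ pullback.snd _ _ = a0 ≫ y i := by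
          rw [Category.assoc, h5, h3]
          simp [a0, F]
        simp only [Category.assoc, Category.id_comp]
        rw [show t' k i j ≫ pullback.fst (F i j) (F i k) ≫ F i j = τ' k i j by simp [t', F],
          hτ'tr k i j (e0 k i j), ← Category.assoc (t' i j k), tr_nat D _ _ _ _ _ _ hA hX e20,
          tr_comp D a0 x2 (a0 ≫ y i) e02 e20 e00]
        exact tr_self D a0 _ rfl _
      f_open := fun i j => inferInstanceAs (IsOpenImmersion (pullback.fst _ _)) }
  have hπ : ∀ p : G.J × G.J, F p.1 p.2 ≫ y p.1 ≫ h p.1 = (t p.1 p.2 ≫ F p.2 p.1) ≫ y p.2 ≫ h p.2 := by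
    rintro ⟨i, j⟩
    simp only [t, F, pullback.lift_fst, hτ, Category.assoc]
  obtain ⟨π, hπ'⟩ := exists_desc G (fun i => y i ≫ h i) fun i j => hπ (i, j)
  refine ⟨⟨G.glued, π, G.ι, fun b => G.ι_isOpenImmersion b, fun z => G.ι_jointly_surjective z, hπ', ?_⟩⟩
  intro P b b' a x hx e
  let l : P ⟶ pullback (y b ≫ h b) (h b') := pullback.lift a x hx
  have hg := congrArg (l ≫ ·) (G.glue_condition b b')
  simp only [G, t, F, pullback.lift_fst_assoc, l] at hg
  refine hg.symm.trans ?_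
  rw [← Category.assoc]
  congr 1
  exact tr_nat D _ _ _ _ _ _ (pullback.lift_fst _ _ _) (pullback.lift_snd _ _ _) _

end Groth.Agent.DescLib.GlueFam
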