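import Groth.Agent.DescLib.Descends
import Groth.Agent.DescLib.GlueFam

/-!
# A functor of compatible families covered by representable open subfunctors is representable
-/

universe w u

set_option autoImplicit false
set_option backward.isDefEq.respectTransparency false
set_option backward.isDefEq.respectTransparency.types false

open CategoryTheory CategoryTheory.Limits AlgebraicGeometry Opposite Desc

namespace Groth.Agent.DescLib

variable {S : Scheme.{u}} {ι : Type w} {X : ι → Scheme.{u}} {f : ∀ i, X i ⟶ S} {D : SchDDFam f}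

namespace Compat

variable {T : Scheme.{u}} {s : T ⟶ S}

lemma ext_of_cover (𝒰 : T.OpenCover) {c c' : Compat D s}
    (h : ∀ k, c.res (𝒰.f k) _ rfl = c'.res (𝒰.f k) _ rfl) : c = c' := by
  refine ext fun T' t i y hy => Scheme.Cover.hom_ext (𝒰.pullback₁ t) _ _ fun k => ?_
  show pullback.fst t (𝒰.f k) ≫ _ = pullback.fst t (𝒰.f k) ≫ _
  have hy' : (pullback.fst t (𝒰.f k) ≫ y) ≫ f i = (pullback.fst t (𝒰.f k) ≫ t) ≫ s := by simp [hy]
  have hy'' : (pullback.fst t (𝒰.f k) ≫ y) ≫ f i = pullback.snd t (𝒰.f k) ≫ 𝒰.f k ≫ s := by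
    rw [hy', pullback.condition, Category.assoc]
  rw [← c.nat _ t y hy (pullback.fst t (𝒰.f k) ≫ t) _ rfl rfl hy',
    ← c'.nat _ t y hy (pullback.fst t (𝒰.f k) ≫ t) _ rfl rfl hy']
  refine ((c.pt_congr pullback.condition rfl hy' (by rw [Category.assoc]; exact hy'')).trans
    ?_).trans (c'.pt_congr pullback.condition rfl hy' (by rw [Category.assoc]; exact hy'')).symm
  exact congrArg (fun d : Compat D (𝒰.f k ≫ s) => (d.pt (pullback.snd t (𝒰.f k)) _ hy'').1) (h k)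

lemma exists_glue_cover (𝒰 : T.OpenCover) (c : ∀ k, Compat D (𝒰.f k ≫ s))
    (h : ∀ k l ⦃T' : Scheme.{u}⦄ (a : T' ⟶ 𝒰.X k) (b : T' ⟶ 𝒰.X l) (_ : a ≫ 𝒰.f k = b ≫ 𝒰.f l) ⦃i : ι⦄
      (y : T' ⟶ X i) (h₁ : y ≫ f i = a ≫ 𝒰.f k ≫ s) (h₂ : y ≫ f i = b ≫ 𝒰.f l ≫ s),
      ((c k).pt a y h₁).1 = ((c l).pt b y h₂).1) :
    ∃ d : Compat D s, ∀ k, d.res (𝒰.f k) _ rfl = c k := by
  have hp : ∀ ⦃T' : Scheme.{u}⦄ (t : T' ⟶ T) ⦃i : ι⦄ (y : T' ⟶ X i), y ≫ f i = t ≫ s →
      ∃ p : Lifts (D.obj i) y, ∀ ⦃T'' : Scheme.{u}⦄ (r : T'' ⟶ T') (k : 𝒰.I₀) (a : T'' ⟶ 𝒰.X k)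
        (_ : a ≫ 𝒰.f k = r ≫ t) (hy : (r ≫ y) ≫ f i = a ≫ 𝒰.f k ≫ s),
        r ≫ p.1 = ((c k).pt a (r ≫ y) hy).1 := by
    intro T' t i y hy
    let P : ∀ k, pullback t (𝒰.f k) ⟶ (D.obj i).left := fun k =>
      ((c k).pt (pullback.snd _ _) (pullback.fst _ _ ≫ y) (by
        rw [Category.assoc, hy, ← Category.assoc, pullback.condition, Category.assoc])).1
    have hP : ∀ k l, pullback.fst ((𝒰.pullback₁ t).f k) ((𝒰.pullback₁ t).f l) ≫ P k = pullback.snd _ _ ≫ P l := by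
      intro (k : 𝒰.I₀) (l : 𝒰.I₀)
      let m := pullback.fst (pullback.fst t (𝒰.f k)) (pullback.fst t (𝒰.f l))
      let n := pullback.snd (pullback.fst t (𝒰.f k)) (pullback.fst t (𝒰.f l))
      have hmn : n ≫ pullback.fst _ _ = m ≫ pullback.fst _ _ := pullback.condition.symm
      have hab : (m ≫ pullback.snd _ _) ≫ 𝒰.f k = (n ≫ pullback.snd _ _) ≫ 𝒰.f l := by
        simp only [Category.assoc, ← pullback.condition (f := t), reassoc_of% hmn]
      have h₁ : (m ≫ pullback.fst _ _ ≫ y) ≫ f i = (m ≫ pullback.snd _ _) ≫ 𝒰.f k ≫ s := by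
        simp only [Category.assoc, hy, ← pullback.condition_assoc (f := t)]
      refine (((c k).nat m _ _ _ _ _ rfl rfl h₁).symm.trans (h k l _ _ hab _ h₁ ?_)).trans
        ((c l).nat n _ _ _ _ _ rfl (by rw [reassoc_of% hmn]) _)
      rw [h₁]
      simp only [← Category.assoc]
      exact congrArg (· ≫ s) (by simpa only [Category.assoc] using hab)
    have hover : Scheme.Cover.glueMorphisms (𝒰.pullback₁ t) P hP ≫ (D.obj i).hom = y :=
      Scheme.Cover.hom_ext (𝒰.pullback₁ t) _ _ fun k => by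
        rw [Scheme.Cover.ι_glueMorphisms_assoc]
        exact ((c k).pt _ _ _).2
    refine ⟨⟨_, hover⟩, fun T'' r k a ha hya => ?_⟩
    have e : r = pullback.lift r a ha.symm ≫ (𝒰.pullback₁ t).f k := (pullback.lift_fst _ _ _).symm
    refine (congrArg (· ≫ Scheme.Cover.glueMorphisms (𝒰.pullback₁ t) P hP) e).trans ?_
    rw [Category.assoc, Scheme.Cover.ι_glueMorphisms]
    exact ((c k).nat _ _ _ _ a (r ≫ y) (pullback.lift_snd _ _ _) (by rw [pullback.lift_fst_assoc]) hya).symm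
  choose p hp using hp
  have hp' : ∀ ⦃T' : Scheme.{u}⦄ (t : T' ⟶ T) ⦃i : ι⦄ (y : T' ⟶ X i) (h : y ≫ f i = t ≫ s) (k : 𝒰.I₀)
      {T'' : Scheme.{u}} (r : T'' ⟶ T') (a : T'' ⟶ 𝒰.X k) (ha : a ≫ 𝒰.f k = r ≫ t) (y' : T'' ⟶ X i)
      (hy' : r ≫ y = y') (hya : y' ≫ f i = a ≫ 𝒰.f k ≫ s), r ≫ (p t y h).1 = ((c k).pt a y' hya).1 := by
    intro T' t i y h k T'' r a ha y' hy' hya
    subst hy'
    exact hp t y h r k a ha hya
  refine ⟨{ pt := p, nat := ?_, comp := ?_ }, fun k => ext fun T' t i y hy => ?_⟩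
  · intro T' T'' g t i y hy t' y' hg hgy hy'
    subst hg hgy
    refine Scheme.Cover.hom_ext (𝒰.pullback₁ (g ≫ t)) _ _ fun k => ?_
    show pullback.fst (g ≫ t) (𝒰.f k) ≫ _ = pullback.fst (g ≫ t) (𝒰.f k) ≫ _
    have hya : (pullback.fst (g ≫ t) (𝒰.f k) ≫ g ≫ y) ≫ f i = pullback.snd _ _ ≫ 𝒰.f k ≫ s := by
      rw [← pullback.condition_assoc]; simp [hy]
    refine (hp' (g ≫ t) (g ≫ y) hy' k _ _ pullback.condition.symm _ rfl hya).trans
      (Eq.trans ?_ (Category.assoc _ _ _))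
    exact (hp' t y hy k _ (pullback.snd _ _) (by rw [Category.assoc]; exact pullback.condition.symm) _
      (Category.assoc _ _ _) hya).symm
  · intro T' t i l y y' hy hy'
    refine Subtype.ext (Scheme.Cover.hom_ext (𝒰.pullback₁ t) _ _ fun k => ?_)
    show pullback.fst t (𝒰.f k) ≫ _ = pullback.fst t (𝒰.f k) ≫ _
    have hya : (pullback.fst t (𝒰.f k) ≫ y) ≫ f i = pullback.snd _ _ ≫ 𝒰.f k ≫ s := by
      rw [← pullback.condition_assoc]; simp [hy]
    have hya' : (pullback.fst t (𝒰.f k) ≫ y') ≫ f l = pullback.snd _ _ ≫ 𝒰.f k ≫ s := by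
      rw [← pullback.condition_assoc]; simp [hy']
    rw [hp' t y' hy' k _ _ pullback.condition.symm _ rfl hya', ← (c k).comp _ _ _ hya hya']
    exact (D.φ_natural _ y y' _ _ _ rfl rfl _ (p t y hy) _
      (hp' t y hy k _ _ pullback.condition.symm _ rfl hya).symm).symm
  · show (p (t ≫ 𝒰.f k) y _).1 = _
    rw [← Category.id_comp (p (t ≫ 𝒰.f k) y _).1]
    exact hp' _ _ _ k (𝟙 T') t (Category.id_comp _).symm y (Category.id_comp _) hy

end Compat

/-- A representable open subfunctor of the functor of compatible families. -/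
structure Chart (D : SchDDFam f) where
  /-- the locus -/
  O : ∀ ⦃T : Scheme.{u}⦄ ⦃s : T ⟶ S⦄, Compat D s → T.Opens
  O_res : ∀ ⦃T T' : Scheme.{u}⦄ ⦃s : T ⟶ S⦄ (c : Compat D s) (g : T' ⟶ T) (s' : T' ⟶ S) (hs : g ≫ s = s'),
    O (c.res g s' hs) = g ⁻¹ᵁ O c
  /-- the representing scheme -/
  U : Over S
  /-- the universal family -/
  c₀ : Compat D U.hom
  O₀ : O c₀ = ⊤
  univ : ∀ ⦃T : Scheme.{u}⦄ ⦃s : T ⟶ S⦄ (c : Compat D s), O c = ⊤ → ∃! p : Lifts U s, c₀.res p.1 s p.2 = c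

section

variable {κ : Type u} (C : κ → Chart D)

/-- Two points of charts define the same family. -/
def Same {T : Scheme.{u}} {k l : κ} (a : T ⟶ (C k).U.left) (b : T ⟶ (C l).U.left) : Prop :=
  ∃ h : b ≫ (C l).U.hom = a ≫ (C k).U.hom, (C k).c₀.res a _ rfl = (C l).c₀.res b _ h

variable {C}

lemma Same.symm {T : Scheme.{u}} {k l : κ} {a : T ⟶ (C k).U.left} {b : T ⟶ (C l).U.left} (h : Same C a b) :
    Same C b a := by
  obtain ⟨h, e⟩ := h
  refine ⟨h.symm, Compat.ext fun T' t i y hy => ?_⟩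
  exact (congrArg (fun d : Compat D (a ≫ (C k).U.hom) => (d.pt t y (hy.trans (congrArg (t ≫ ·) h))).1) e).symm

lemma Same.trans {T : Scheme.{u}} {k l m : κ} {a : T ⟶ (C k).U.left} {b : T ⟶ (C l).U.left}
    {c : T ⟶ (C m).U.left} (h : Same C a b) (h' : Same C b c) : Same C a c := by
  obtain ⟨h, e⟩ := h
  obtain ⟨h', e'⟩ := h'
  refine ⟨h'.trans h, Compat.ext fun T' t i y hy => ?_⟩
  exact (congrArg (fun d : Compat D (a ≫ (C k).U.hom) => (d.pt t y hy).1) e).trans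
    (congrArg (fun d : Compat D (b ≫ (C l).U.hom) => (d.pt t y (hy.trans (congrArg (t ≫ ·) h.symm))).1) e')

lemma Same.comp {T T' : Scheme.{u}} {k l : κ} {a : T ⟶ (C k).U.left} {b : T ⟶ (C l).U.left} (h : Same C a b)
    (g : T' ⟶ T) : Same C (g ≫ a) (g ≫ b) := by
  obtain ⟨h, e⟩ := h
  refine ⟨by simp [h], Compat.ext fun T'' t i y hy => ?_⟩
  refine ((C k).c₀.pt_congr (Category.assoc _ _ _).symm rfl _ ?_).trans ((congrArg
    (fun d : Compat D (a ≫ (C k).U.hom) => (d.pt (t ≫ g) y (by rw [hy]; simp)).1) e).trans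
    ((C l).c₀.pt_congr (Category.assoc _ _ _) rfl _ _))
  rw [hy]; simp

lemma Same.of_eq {T : Scheme.{u}} {k : κ} {a b : T ⟶ (C k).U.left} (h : a = b) : Same C a b := by
  subst h; exact ⟨rfl, rfl⟩

lemma Same.eq {T : Scheme.{u}} {k : κ} {a b : T ⟶ (C k).U.left} (h : Same C a b) : a = b := by
  obtain ⟨h, e⟩ := h
  have := ((C k).univ ((C k).c₀.res a _ rfl) (by rw [(C k).O_res, (C k).O₀]; rfl)).unique
    (y₁ := ⟨a, rfl⟩) (y₂ := ⟨b, h⟩) rfl e.symm
  exact congrArg Subtype.val this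

lemma Same.preimage {T : Scheme.{u}} {k l : κ} {a : T ⟶ (C k).U.left} {b : T ⟶ (C l).U.left} (h : Same C a b)
    (m : κ) : a ⁻¹ᵁ (C m).O (C k).c₀ = b ⁻¹ᵁ (C m).O (C l).c₀ := by
  obtain ⟨h, e⟩ := h
  rw [← (C m).O_res _ a _ rfl, e, (C m).O_res]

lemma exists_same {T : Scheme.{u}} {k : κ} (a : T ⟶ (C k).U.left) (l : κ)
    (h : a ⁻¹ᵁ (C l).O (C k).c₀ = ⊤) : ∃ b : T ⟶ (C l).U.left, Same C a b := by
  obtain ⟨p, hp, -⟩ := (C l).univ ((C k).c₀.res a _ rfl) (by rw [(C l).O_res]; exact h)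
  exact ⟨p.1, p.2, hp.symm⟩

lemma preimage_ι_eq_top {Y : Scheme.{u}} (O : Y.Opens) {T : Scheme.{u}} (a : T ⟶ O.toScheme) :
    (a ≫ O.ι) ⁻¹ᵁ O = ⊤ := by
  ext x
  exact iff_of_true (O.range_ι ▸ ⟨a x, rfl⟩ : (O.ι (a x)) ∈ (O : Set Y)) trivial

lemma range_subset_of_preimage_eq_top {Y T : Scheme.{u}} (O : Y.Opens) (a : T ⟶ Y) (h : a ⁻¹ᵁ O = ⊤) :
    Set.range a ⊆ Set.range O.ι := by
  rintro _ ⟨x, rfl⟩
  rw [O.range_ι]
  exact (h ▸ trivial : x ∈ a ⁻¹ᵁ O)

/-- Charts covering all families give a representing scheme. -/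
theorem rep_of_charts (hcover : ∀ ⦃T : Scheme.{u}⦄ ⦃s : T ⟶ S⦄ (c : Compat D s) (x : T), ∃ k, x ∈ (C k).O c) :
    Rep D := by
  let O : κ → κ → Scheme.{u} := fun k l => ((C l).O (C k).c₀).toScheme
  let F : ∀ k l, O k l ⟶ (C k).U.left := fun k l => ((C l).O (C k).c₀).ι
  have hF : ∀ k l {T : Scheme.{u}} (a : T ⟶ O k l), (a ≫ F k l) ⁻¹ᵁ (C l).O (C k).c₀ = ⊤ :=
    fun k l T a => preimage_ι_eq_top _ a
  have hlift : ∀ {T : Scheme.{u}} {k : κ} (a : T ⟶ (C k).U.left) (l : κ), a ⁻¹ᵁ (C l).O (C k).c₀ = ⊤ →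
      ∃ e : T ⟶ O k l, e ≫ F k l = a := fun a l h =>
    ⟨IsOpenImmersion.lift _ a (range_subset_of_preimage_eq_top _ a h), IsOpenImmersion.lift_fac _ _ _⟩
  have ht : ∀ k l, ∃ t : O k l ⟶ O l k, Same C (F k l) (t ≫ F l k) := by
    intro k l
    obtain ⟨b, hb⟩ := exists_same (F k l) l (by simpa using hF k l (𝟙 _))
    obtain ⟨t, rfl⟩ := hlift b k (by rw [← hb.preimage k, (C k).O₀]; rfl)
    exact ⟨t, hb⟩
  choose t ht using ht
  have ht' : ∀ i j k, ∃ t' : pullback (F i j) (F i k) ⟶ pullback (F j k) (F j i),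
      t' ≫ pullback.snd _ _ = pullback.fst _ _ ≫ t i j := by
    intro i j k
    have h1 : Same C (pullback.snd (F i j) (F i k) ≫ F i k) (pullback.fst (F i j) (F i k) ≫ t i j ≫ F j i) :=
      (Same.of_eq pullback.condition.symm).trans ((ht i j).comp _)
    obtain ⟨e, he⟩ := hlift (pullback.fst (F i j) (F i k) ≫ t i j ≫ F j i) k
      (by rw [← h1.preimage k]; exact hF i k _)
    exact ⟨pullback.lift e (pullback.fst _ _ ≫ t i j) (by rw [he, Category.assoc]), pullback.lift_snd _ _ _⟩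
  choose t' ht' using ht'
  have hsame : ∀ i j k, Same C (pullback.fst (F i j) (F i k) ≫ F i j)
      (t' i j k ≫ pullback.fst (F j k) (F j i) ≫ F j k) := fun i j k => by
    refine ((ht i j).comp (pullback.fst (F i j) (F i k))).trans (Same.of_eq ?_)
    rw [pullback.condition, reassoc_of% ht' i j k]
  let G : Scheme.GlueData.{u} :=
    { J := κ
      U := fun k => (C k).U.left
      V := fun p => O p.1 p.2
      f := F
      f_id := fun i => by
        have : IsIso ((C i).O (C i).c₀).ι := isIso_of_isOpenImmersion_of_opensRange_eq_top _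
          (by rw [Scheme.Opens.opensRange_ι, (C i).O₀])
        exact this
      t := t
      t_id := fun i => by
        haveI : Mono (F i i) := inferInstanceAs (Mono ((C i).O (C i).c₀).ι)
        rw [← cancel_mono (F i i), Category.id_comp]
        exact (ht i i).eq.symm
      t' := t'
      t_fac := ht'
      cocycle := fun i j k => by
        haveI : Mono (F i j) := inferInstanceAs (Mono ((C j).O (C i).c₀).ι)
        haveI : Mono (F i k) := inferInstanceAs (Mono ((C k).O (C i).c₀).ι)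
        rw [← cancel_mono (pullback.fst (F i j) (F i k)), ← cancel_mono (F i j), Category.id_comp]
        refine ((hsame i j k).trans (((hsame j k i).comp (t' i j k)).trans ?_)).eq.symm
        simpa only [Category.assoc] using (hsame k i j).comp (t' i j k ≫ t' j k i)
      f_open := fun i j => inferInstanceAs (IsOpenImmersion ((C j).O (C i).c₀).ι) }
  have hiff : ∀ {T : Scheme.{u}} {k l : κ} (a : T ⟶ (C k).U.left) (b : T ⟶ (C l).U.left),
      a ≫ G.ι k = b ≫ G.ι l ↔ Same C a b := by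
    intro T k l a b
    constructor
    · intro e
      obtain ⟨m, hm₁, hm₂⟩ := PullbackCone.IsLimit.lift' (G.vPullbackConeIsLimit k l) a b e
      refine (Same.of_eq hm₁.symm).trans (((ht k l).comp m).trans (Same.of_eq ?_))
      exact hm₂
    · intro h
      obtain ⟨e, rfl⟩ := hlift a l (by rw [h.preimage l, (C l).O₀]; rfl)
      have hb := (((ht k l).comp e).symm.trans h).eq
      rw [← hb]
      have := congrArg (e ≫ ·) (G.glue_condition k l)
      simp only [G] at this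
      rw [Category.assoc, Category.assoc, Category.assoc]
      exact this.symm
  obtain ⟨π, hπ⟩ := GlueFam.exists_desc G (fun k => (C k).U.hom) fun i j => (ht i j).1.symm
  have hco : ∀ k, G.openCover.f k ≫ π = (C k).U.hom := hπ
  obtain ⟨c₀, hc₀⟩ := Compat.exists_glue_cover G.openCover (s := π)
    (fun k => (C k).c₀.res (𝟙 _) (G.openCover.f k ≫ π) (by rw [hco]; exact Category.id_comp _))
    (fun k l T' a b e i y h₁ h₂ => by
      obtain ⟨h, he⟩ := (hiff a b).1 e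
      have := congrArg (fun d : Compat D (a ≫ (C k).U.hom) =>
        (d.pt (𝟙 _) y (by rw [h₁, hco, Category.id_comp])).1) he
      exact (((C k).c₀.pt_congr (Category.comp_id a) rfl _ (by rw [h₁, hco])).trans
        (((C k).c₀.pt_congr (Category.id_comp a).symm rfl _ _).trans this)).trans
        ((C l).c₀.pt_congr ((Category.id_comp b).trans (Category.comp_id b).symm) rfl _ _))
  have hres : ∀ {T : Scheme.{u}} {k : κ} (a : T ⟶ (C k).U.left) (s : T ⟶ S) (h : (a ≫ G.ι k) ≫ π = s)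
      (h' : a ≫ (C k).U.hom = s), c₀.res (a ≫ G.ι k) s h = (C k).c₀.res a s h' := by
    intro T k a s h h'
    have := congrArg (fun d : Compat D (G.openCover.f k ≫ π) => d.res a s (by rw [hco]; exact h')) (hc₀ k)
    simp only [Compat.res_res _ _ _ _ _ _ _ (a ≫ G.ι k) rfl h,
      Compat.res_res _ _ _ _ _ _ _ a (Category.comp_id a) h'] at this
    exact this
  refine ⟨Over.mk π, c₀, fun T s c => ?_⟩
  let 𝒰 : T.OpenCover := Scheme.Cover.mkOfCovers κ (fun k => ((C k).O c).toScheme) (fun k => ((C k).O c).ι)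
    fun x => by
      obtain ⟨k, hk⟩ := hcover c x
      exact ⟨k, ⟨x, hk⟩, rfl⟩
  have hcls : ∀ k : κ, ∃ p : Lifts (C k).U (((C k).O c).ι ≫ s),
      (C k).c₀.res p.1 _ p.2 = c.res ((C k).O c).ι _ rfl :=
    fun k => ((C k).univ _ (by rw [(C k).O_res]; simpa using preimage_ι_eq_top ((C k).O c) (𝟙 _))).exists
  choose p hp using hcls
  have hagree : ∀ {T' : Scheme.{u}} (k l : κ) (a : T' ⟶ ((C k).O c).toScheme) (b : T' ⟶ (C l).U.left)
      (hb : b ≫ (C l).U.hom = a ≫ ((C k).O c).ι ≫ s)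
      (_ : (C l).c₀.res b _ hb = c.res (a ≫ ((C k).O c).ι) _ (Category.assoc _ _ _)), Same C (a ≫ (p k).1) b := by
    intro T' k l a b hb e
    refine ⟨by rw [hb, Category.assoc, (p k).2], Compat.ext fun T'' t i y hy => ?_⟩
    have hy' : y ≫ f i = t ≫ a ≫ ((C k).O c).ι ≫ s := by rw [hy, Category.assoc, (p k).2]
    have e1 := congrArg (fun d : Compat D (((C k).O c).ι ≫ s) => (d.pt (t ≫ a) y (by rw [hy']; simp)).1) (hp k)
    have e2 := congrArg (fun d : Compat D (a ≫ ((C k).O c).ι ≫ s) => (d.pt t y hy').1) e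
    exact ((((C k).c₀.pt_congr (Category.assoc _ _ _).symm rfl _ _).trans e1).trans
      (c.pt_congr (Category.assoc _ _ _) rfl _ _)).trans e2.symm
  obtain ⟨q, hq⟩ : ∃ q : T ⟶ G.glued, ∀ k, ((C k).O c).ι ≫ q = (p k).1 ≫ G.ι k := by
    refine ⟨𝒰.glueMorphisms (fun k => (p k).1 ≫ G.ι k) ?_, fun k => 𝒰.ι_glueMorphisms _ _ k⟩
    intro (k : κ) (l : κ)
    rw [← Category.assoc, ← Category.assoc, hiff]
    refine hagree k l _ _ ?_ ?_
    · rw [Category.assoc, (p l).2, ← Category.assoc, ← Category.assoc]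
      exact congrArg (· ≫ s) pullback.condition.symm
    · refine Compat.ext fun T'' t i y hy => ?_
      let n := pullback.snd ((C k).O c).ι ((C l).O c).ι
      have hy' : y ≫ f i = (t ≫ n) ≫ ((C l).O c).ι ≫ s := by
        rw [hy]; simp only [n, Category.assoc]
        exact congrArg (t ≫ ·) (pullback.condition_assoc s)
      refine (((C l).c₀.pt_congr (Category.assoc _ _ _).symm rfl _ _).trans
        (congrArg (fun d : Compat D (((C l).O c).ι ≫ s) => (d.pt (t ≫ n) y hy').1) (hp l))).trans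
        (c.pt_congr ?_ rfl _ _)
      simp only [n, Category.assoc]
      exact congrArg (t ≫ ·) pullback.condition.symm
  have hqs : q ≫ π = s := 𝒰.hom_ext _ _ fun k => by
    show ((C k).O c).ι ≫ q ≫ π = ((C k).O c).ι ≫ s
    rw [reassoc_of% hq k, hπ, (p k).2]
  refine ⟨⟨q, hqs⟩, Compat.ext_of_cover 𝒰 fun k => ?_, fun p' hp' => Subtype.ext (𝒰.hom_ext _ _ fun k => ?_)⟩
  · show (c₀.res q s hqs).res ((C k).O c).ι (((C k).O c).ι ≫ s) rfl = c.res ((C k).O c).ι _ rfl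
    rw [← hp k, ← hres (p k).1 _ (by rw [Category.assoc, hπ]; exact (p k).2) (p k).2]
    exact Compat.res_res _ _ _ _ _ _ _ _ (hq k) _
  · show ((C k).O c).ι ≫ p'.1 = ((C k).O c).ι ≫ q
    rw [hq k]
    refine Scheme.Cover.hom_ext (G.openCover.pullback₁ (((C k).O c).ι ≫ p'.1)) _ _ fun l => ?_
    show pullback.fst _ (G.ι l) ≫ _ = pullback.fst _ (G.ι l) ≫ _
    rw [pullback.condition, ← Category.assoc (pullback.fst _ _), eq_comm, hiff]
    let a := pullback.fst (((C k).O c).ι ≫ p'.1) (G.ι l)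
    let b := pullback.snd (((C k).O c).ι ≫ p'.1) (G.ι l)
    have hab : (a ≫ ((C k).O c).ι) ≫ p'.1 = b ≫ G.ι l := by
      rw [Category.assoc]; exact pullback.condition
    have hb : b ≫ (C l).U.hom = a ≫ ((C k).O c).ι ≫ s := by
      rw [← hπ l, ← Category.assoc b, ← hab, Category.assoc, Category.assoc]
      exact congrArg (a ≫ ((C k).O c).ι ≫ ·) p'.2
    refine hagree k l a b hb ?_
    rw [← hres b _ (by rw [Category.assoc, hπ]; exact hb) hb]
    refine Eq.trans ?_ (congrArg (fun z : Compat D s => z.res (a ≫ ((C k).O c).ι) _ (Category.assoc _ _ _)) hp')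
    exact (c₀.res_congr hab.symm _ _ (by rw [Category.assoc _ p'.1]; simp only [Category.assoc]; exact congrArg (a ≫ ((C k).O c).ι ≫ ·) p'.2)).trans
      (Compat.res_res _ _ _ _ _ _ _ _ rfl _).symm

end

end Groth.Agent.DescLib
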