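import Groth.Agent.DescLib.DescFinite
import Groth.Agent.MorLib.UnivHomeo

/-!
# Descent along flat quasi-compact radicial surjections
-/

universe u

set_option autoImplicit false
set_option backward.isDefEq.respectTransparency false
set_option backward.isDefEq.respectTransparency.types false

open CategoryTheory CategoryTheory.Limits AlgebraicGeometry Opposite Desc TopologicalSpace
open Groth.Agent.DescLib.IndQA

namespace Groth.Agent.DescLib

variable {X S : Scheme.{u}} (p : X ⟶ S) (D : SchDD p)

/-- Along a universally injective morphism the groupoid of a datum moves no point. -/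
lemma d₁_apply_of_universallyInjective [UniversallyInjective p] (r : (pullback (sv p D) p : Scheme.{u})) :
    d₁ p D r = pullback.fst (sv p D) p r := by
  let φ := (pullback (sv p D) p).fromSpecResidueField r
  let a := φ ≫ pullback.fst (sv p D) p
  let x := φ ≫ pullback.snd (sv p D) p
  have e : a ≫ sv p D = x ≫ p := by simp only [a, x, Category.assoc, pullback.condition]
  have hui : UniversallyInjective p := inferInstance
  have hinj : UniversallyInjective p ↔
      ∀ (K : Type u) [Field K], Function.Injective (fun g : Spec (.of K) ⟶ X ↦ g ≫ p) :=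
    (tfae_universallyInjective p).out 0 1 rfl rfl
  have hx : a ≫ D.obj.hom = x := hinj.1 hui _
    (show (a ≫ D.obj.hom) ≫ p = x ≫ p by rw [Category.assoc]; exact e)
  have h1 : φ ≫ d₁ p D = a :=
    (IndQA.tr_nat p D φ _ _ pullback.condition a x rfl rfl e).trans (IndQA.tr_self p D a x hx e)
  have h2 := congr($(h1) (IsLocalRing.closedPoint _))
  simp only [a, φ, Scheme.Hom.comp_apply, Scheme.fromSpecResidueField_apply] at h2
  exact h2

/-- Descent data along flat quasi-compact radicial surjections are effective. -/
theorem effective_of_universallyInjective [Flat p] [Surjective p] [QuasiCompact p] [UniversallyInjective p] :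
    ∃ W : Over S, Nonempty ((toDD p).obj W ≅ D) := by
  refine effective_of_locally_effective p D fun v => ?_
  obtain ⟨_, ⟨V, hV, rfl⟩, hvV, -⟩ :=
    S.isBasis_affineOpens.exists_subset_of_mem_open (Set.mem_univ (sv p D v)) isOpen_univ
  let X' : X.Opens := p ⁻¹ᵁ V
  haveI : IsAffine (V : Scheme.{u}) := hV
  haveI : UniversallyInjective (p ∣_ V) :=
    IsZariskiLocalAtTarget.restrict (P := @UniversallyInjective) inferInstance V
  haveI : IsSeparated (p ∣_ V) := MorLib.isSeparated_of_universallyInjective _
  haveI : (X' : Scheme.{u}).IsSeparated := ⟨by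
    rw [← terminal.comp_from (p ∣_ V)]
    infer_instance⟩
  obtain ⟨_, ⟨W₁, hW, rfl⟩, hvW, hWX⟩ :=
    D.obj.left.isBasis_affineOpens.exists_subset_of_mem_open
      (show v ∈ (D.obj.hom ⁻¹ᵁ X' : Set D.obj.left) from hvV) (D.obj.hom ⁻¹ᵁ X').isOpen
  let W : D.obj.left.Opens := W₁
  replace hW : IsAffineOpen W := hW
  obtain ⟨D', j, hj, hr⟩ := exists_subDatum p D W (Opens.ext (Set.ext fun r => by
    show pullback.fst (sv p D) p r ∈ W ↔ d₁ p D r ∈ W
    rw [d₁_apply_of_universallyInjective]))
  refine ⟨D', j, hj, (show v ∈ Set.range j.hom.left by rw [hr]; exact hvW), ?_⟩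
  haveI := hj
  haveI : IsAffine (W : Scheme.{u}) := hW
  haveI : IsAffine D'.obj.left :=
    .of_isIso (IsOpenImmersion.isoOfRangeEq j.hom.left W.ι (hr.trans W.range_ι.symm)).hom
  have hrange : Set.range D'.obj.hom ⊆ Set.range X'.ι := by
    rw [X'.range_ι]
    rintro _ ⟨w, rfl⟩
    show D'.obj.hom w ∈ X'
    rw [← Over.w j.hom, Scheme.Hom.comp_apply]
    exact hWX (by
      show j.hom.left w ∈ (W : Set D.obj.left)
      rw [← hr]
      exact ⟨w, rfl⟩)
  let g : D'.obj.left ⟶ X'.toScheme := IsOpenImmersion.lift X'.ι D'.obj.hom hrange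
  have hg : g ≫ X'.ι = D'.obj.hom := IsOpenImmersion.lift_fac _ _ _
  haveI : IsAffineHom (g ≫ terminal.from X'.toScheme) := inferInstance
  haveI : IsAffineHom g := IsAffineHom.of_comp g (terminal.from X'.toScheme)
  have hq : IndQA.indQA D'.obj.hom := by
    rw [← hg]
    exact MorLib.IQA.indQA_comp g X'.ι (indQA_of_isAffineHom g) (MorLib.IQA.indQA_of_isImmersion _)
  exact effective_single IndQA.indQA (fun _ _ p _ _ _ _ D h => effective_indQA_hom p D h) p D' hq

end Groth.Agent.DescLib
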