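import Groth.Agent.DescLib.Iso
import Groth.Agent.DescLib.Pull
import Mathlib.AlgebraicGeometry.Gluing

/-!
# Effectivity of descent data as representability of the functor of compatible families of points
-/

universe w' w u

set_option autoImplicit false
set_option backward.isDefEq.respectTransparency false
set_option backward.isDefEq.respectTransparency.types false

open CategoryTheory CategoryTheory.Limits AlgebraicGeometry Opposite Desc

namespace Groth.Agent.DescLib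

variable {S : Scheme.{u}} {ι : Type w} {X : ι → Scheme.{u}} {f : ∀ i, X i ⟶ S}

/-- A point of the descended scheme over `s`: points of the members, compatible with the gluing. -/
structure Compat (D : SchDDFam f) {T : Scheme.{u}} (s : T ⟶ S) where
  /-- the points -/
  pt : ∀ ⦃T' : Scheme.{u}⦄ (t : T' ⟶ T) ⦃i : ι⦄ (y : T' ⟶ X i), y ≫ f i = t ≫ s → Lifts (D.obj i) y
  nat : ∀ ⦃T' T'' : Scheme.{u}⦄ (g : T'' ⟶ T') (t : T' ⟶ T) ⦃i : ι⦄ (y : T' ⟶ X i) (h : y ≫ f i = t ≫ s)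
    (t' : T'' ⟶ T) (y' : T'' ⟶ X i) (_ : g ≫ t = t') (_ : g ≫ y = y') (h' : y' ≫ f i = t' ≫ s),
    (pt t' y' h').1 = g ≫ (pt t y h).1
  comp : ∀ ⦃T' : Scheme.{u}⦄ (t : T' ⟶ T) ⦃i k : ι⦄ (y : T' ⟶ X i) (y' : T' ⟶ X k) (h : y ≫ f i = t ≫ s)
    (h' : y' ≫ f k = t ≫ s), D.φ y y' (h.trans h'.symm) (pt t y h) = pt t y' h'

namespace Compat

variable {D : SchDDFam f} {T : Scheme.{u}} {s : T ⟶ S}

lemma ext {c c' : Compat D s}
    (h : ∀ ⦃T' : Scheme.{u}⦄ (t : T' ⟶ T) ⦃i : ι⦄ (y : T' ⟶ X i) (hy : y ≫ f i = t ≫ s),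
      (c.pt t y hy).1 = (c'.pt t y hy).1) : c = c' := by
  obtain ⟨p, hp, hp'⟩ := c
  obtain ⟨q, hq, hq'⟩ := c'
  obtain rfl : p = q := by
    funext T' t i y hy
    exact Subtype.ext (h t y hy)
  rfl

lemma pt_congr (c : Compat D s) {T' : Scheme.{u}} {t t' : T' ⟶ T} (ht : t = t') {i : ι} {y y' : T' ⟶ X i}
    (hy : y = y') (h : y ≫ f i = t ≫ s) (h' : y' ≫ f i = t' ≫ s) : (c.pt t y h).1 = (c.pt t' y' h').1 := by
  subst ht hy; rfl

/-- Restriction along a morphism of test schemes. -/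
def res (c : Compat D s) {T' : Scheme.{u}} (g : T' ⟶ T) (s' : T' ⟶ S) (hs : g ≫ s = s') : Compat D s' where
  pt T'' t i y h := c.pt (t ≫ g) y (by rw [h, Category.assoc, hs])
  nat T'' T''' k t i y h t' y' hk hy h' := c.nat k (t ≫ g) y _ (t' ≫ g) y' (by rw [← hk, Category.assoc]) hy _
  comp T'' t i k y y' h h' := c.comp (t ≫ g) y y' _ _

@[simp] lemma res_pt (c : Compat D s) {T' : Scheme.{u}} (g : T' ⟶ T) (s' : T' ⟶ S) (hs : g ≫ s = s')
    {T'' : Scheme.{u}} (t : T'' ⟶ T') {i : ι} (y : T'' ⟶ X i) (h : y ≫ f i = t ≫ s') :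
    (c.res g s' hs).pt t y h = c.pt (t ≫ g) y (by rw [h, Category.assoc, hs]) := rfl

lemma res_id (c : Compat D s) (hs : 𝟙 T ≫ s = s) : c.res (𝟙 T) s hs = c :=
  ext fun T' t i y hy => c.pt_congr (Category.comp_id t) rfl _ _

lemma res_res (c : Compat D s) {T' T'' : Scheme.{u}} (g : T' ⟶ T) (s' : T' ⟶ S) (hs : g ≫ s = s')
    (k : T'' ⟶ T') (s'' : T'' ⟶ S) (hk : k ≫ s' = s'') (m : T'' ⟶ T) (hm : k ≫ g = m) (hs'' : m ≫ s = s'') :
    (c.res g s' hs).res k s'' hk = c.res m s'' hs'' :=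
  ext fun T₁ t i y hy => c.pt_congr (by rw [Category.assoc, hm]) rfl _ _

lemma res_congr (c : Compat D s) {T' : Scheme.{u}} {g g' : T' ⟶ T} (hg : g = g') (s' : T' ⟶ S)
    (hs : g ≫ s = s') (hs' : g' ≫ s = s') : c.res g s' hs = c.res g' s' hs' := by
  subst hg; rfl

/-- The family spanned by a point of a member. -/
def ofPoint (D : SchDDFam f) {T : Scheme.{u}} {i : ι} {y : T ⟶ X i} (a : Lifts (D.obj i) y) (s : T ⟶ S)
    (hs : y ≫ f i = s) : Compat D s where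
  pt T' t k y' h := D.φ (t ≫ y) y' (by rw [h, ← hs, Category.assoc]) ⟨t ≫ a.1, by rw [Category.assoc, a.2]⟩
  nat T' T'' g t k y' h t' y'' hg hy h' :=
    D.φ_natural g _ _ _ (t' ≫ y) y'' (by rw [← hg, Category.assoc]) hy _ _ _
      (by show t' ≫ a.1 = g ≫ t ≫ a.1; rw [← hg, Category.assoc])
  comp T' t k l y' y'' h h' := D.φ_comp _ _ _ _ _ _

lemma ofPoint_pt_self {i : ι} {y : T ⟶ X i} (a : Lifts (D.obj i) y) (hs : y ≫ f i = s)
    (h : y ≫ f i = 𝟙 T ≫ s) : ((ofPoint D a s hs).pt (𝟙 T) y h).1 = a.1 := by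
  show (D.φ (𝟙 T ≫ y) y _ ⟨𝟙 T ≫ a.1, _⟩).1 = a.1
  have key : ∀ (z : T ⟶ X i) (hz : z ≫ f i = y ≫ f i) (b : Lifts (D.obj i) z), z = y → b.1 = a.1 →
      (D.φ z y hz b).1 = a.1 := by
    intro z hz b e eb
    subst e
    rw [D.φ_self]; exact eb
  exact key _ _ _ (Category.id_comp y) (Category.id_comp _)

lemma eq_ofPoint (c : Compat D s) {i : ι} (y : T ⟶ X i) (h : y ≫ f i = 𝟙 T ≫ s) :
    ofPoint D (c.pt (𝟙 T) y h) s (by rw [h, Category.id_comp]) = c := by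
  refine ext fun T' t k y' hy' => ?_
  have e : (⟨t ≫ (c.pt (𝟙 T) y h).1, by rw [Category.assoc, (c.pt (𝟙 T) y h).2]⟩ : Lifts (D.obj i) (t ≫ y)) =
      c.pt t (t ≫ y) (by rw [Category.assoc, h, Category.id_comp]) :=
    Subtype.ext (c.nat t (𝟙 T) y h t (t ≫ y) (Category.comp_id _) rfl _).symm
  show (D.φ (t ≫ y) y' _ ⟨_, _⟩).1 = _
  rw [e, c.comp t (t ≫ y) y' _ hy']

/-- Image under a morphism of descent data. -/
def map (c : Compat D s) {D' : SchDDFam f} (a : D ⟶ D') : Compat D' s where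
  pt T' t i y h := a.push (c.pt t y h)
  nat T' T'' g t i y h t' y' hg hy h' := by
    show (c.pt t' y' h').1 ≫ _ = g ≫ (c.pt t y h).1 ≫ _
    rw [c.nat g t y h t' y' hg hy h', Category.assoc]
  comp T' t i k y y' h h' := Subtype.ext (by
    rw [a.comm y y' _ (c.pt t y h) _ rfl, c.comp t y y' h h']
    rfl)

lemma map_res (c : Compat D s) {D' : SchDDFam f} (a : D ⟶ D') {T' : Scheme.{u}} (g : T' ⟶ T) (s' : T' ⟶ S)
    (hs : g ≫ s = s') : (c.res g s' hs).map a = (c.map a).res g s' hs := rfl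

lemma map_map (c : Compat D s) {D' D'' : SchDDFam f} (a : D ⟶ D') (b : D' ⟶ D'') :
    (c.map a).map b = c.map (a ≫ b) :=
  ext fun T' t i y hy => by simp [map, SchDDFam.Hom.push]

lemma map_id (c : Compat D s) : c.map (𝟙 D) = c :=
  ext fun T' t i y hy => by simp [map, SchDDFam.Hom.push]

end Compat

/-- The functor of compatible families, restricted to schemes over `S'`, is representable. -/
def RepOn (D : SchDDFam f) {S' : Scheme.{u}} (j : S' ⟶ S) : Prop :=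
  ∃ (U : Over S') (c₀ : Compat D (U.hom ≫ j)), ∀ ⦃T : Scheme.{u}⦄ (x : T ⟶ S') (c : Compat D (x ≫ j)),
    ∃! p : Lifts U x, c₀.res p.1 (x ≫ j) (by rw [← Category.assoc, p.2]) = c

/-- The functor of compatible families is representable. -/
def Rep (D : SchDDFam f) : Prop :=
  ∃ (U : Over S) (c₀ : Compat D U.hom), ∀ ⦃T : Scheme.{u}⦄ (s : T ⟶ S) (c : Compat D s),
    ∃! p : Lifts U s, c₀.res p.1 s p.2 = c

theorem repOn_of_rep {D : SchDDFam f} (h : Rep D) : RepOn D (𝟙 S) := by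
  obtain ⟨U, c₀, hu⟩ := h
  refine ⟨U, c₀.res (𝟙 _) _ (by simp), fun T x c => ?_⟩
  obtain ⟨p, hp, huniq⟩ := hu x (c.res (𝟙 T) x (by simp))
  have key : ∀ q : Lifts U x, (c₀.res q.1 x q.2).res (𝟙 T) (x ≫ 𝟙 S) (by simp) =
      (c₀.res (𝟙 _) (U.hom ≫ 𝟙 S) (by simp)).res q.1 (x ≫ 𝟙 S) (by rw [← Category.assoc, q.2]) := fun q => by
    rw [Compat.res_res _ _ _ _ _ _ _ q.1 (Category.id_comp _) (by simp [q.2])]
    exact (Compat.res_res _ _ _ _ _ _ _ q.1 (Category.comp_id _) _).symm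
  refine ⟨p, ?_, fun q hq => huniq q ?_⟩
  · refine (key p).symm.trans ((congrArg (fun z : Compat D x => z.res (𝟙 T) (x ≫ 𝟙 S) (by simp)) hp).trans ?_)
    exact (Compat.res_res _ _ _ _ _ _ _ (𝟙 T) (Category.comp_id _) (Category.id_comp _)).trans (Compat.res_id _ _)
  · have e := congrArg (fun z : Compat D (x ≫ 𝟙 S) => z.res (𝟙 T) x (by simp)) ((key q).trans hq)
    simpa only [Compat.res_res _ _ _ _ _ _ _ (𝟙 T) (Category.comp_id _) (Category.id_comp x), Compat.res_id] using e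

theorem rep_of_repOn {D : SchDDFam f} (h : RepOn D (𝟙 S)) : Rep D := by
  obtain ⟨U, c₀, hu⟩ := h
  refine ⟨U, c₀.res (𝟙 _) _ (by simp), fun T s c => ?_⟩
  obtain ⟨p, hp, huniq⟩ := hu s (c.res (𝟙 T) (s ≫ 𝟙 S) (by simp))
  have key : ∀ q : Lifts U s, ((c₀.res (𝟙 _) U.hom (by simp)).res q.1 s q.2).res (𝟙 T) (s ≫ 𝟙 S) (by simp) =
      c₀.res q.1 (s ≫ 𝟙 S) (by rw [← Category.assoc, q.2]) := fun q => by
    rw [Compat.res_res _ _ _ _ _ _ _ q.1 (Category.comp_id _) (by simp [q.2])]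
    exact Compat.res_res _ _ _ _ _ _ _ q.1 (Category.id_comp _) _
  refine ⟨p, ?_, fun q hq => huniq q ?_⟩
  · have e := congrArg (fun z : Compat D (s ≫ 𝟙 S) => z.res (𝟙 T) s (by simp)) ((key p).trans hp)
    simpa only [Compat.res_res _ _ _ _ _ _ _ (𝟙 T) (Category.comp_id _) (Category.id_comp s), Compat.res_id] using e
  · simp only [← key q, hq]

/-- Representability is invariant under isomorphisms. -/
theorem rep_of_iso {D D' : SchDDFam f} (I : D ≅ D') (h : Rep D) : Rep D' := by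
  obtain ⟨U, c₀, hu⟩ := h
  refine ⟨U, c₀.map I.hom, fun T s c => ?_⟩
  obtain ⟨p, hp, huniq⟩ := hu s (c.map I.inv)
  refine ⟨p, ?_, fun q hq => huniq q ?_⟩
  · simp only [← Compat.map_res, hp, Compat.map_map, I.inv_hom_id, Compat.map_id]
  · simp only [← hq, Compat.map_res, Compat.map_map, I.hom_inv_id, Compat.map_id]

/-- A representing scheme descends the datum. -/
theorem isEffective_of_rep {D : SchDDFam f} (h : Rep D) : D.IsEffective := by
  obtain ⟨U, c₀, hu⟩ := h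
  have hl : ∀ {i : ι} {T : Scheme.{u}} (y : T ⟶ X i) (v : Lifts (((toDDFam f).obj U).obj i) y),
      (v.1 ≫ pullback.snd (f i) U.hom) ≫ U.hom = y ≫ f i := fun {i T} y v => by
    have e : v.1 ≫ pullback.fst (f i) U.hom = y := v.2
    rw [Category.assoc, ← pullback.condition, ← Category.assoc, e]
  have he : ∀ {i : ι} {T : Scheme.{u}} (y : T ⟶ X i), y ≫ f i = 𝟙 T ≫ y ≫ f i :=
    fun y => (Category.id_comp _).symm
  let e : ∀ (i : ι) ⦃T : Scheme.{u}⦄ (y : T ⟶ X i),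
      Lifts (((toDDFam f).obj U).obj i) y ≃ Lifts (D.obj i) y := fun i T y =>
    { toFun := fun v => (c₀.res (v.1 ≫ pullback.snd (f i) U.hom) (y ≫ f i) (hl y v)).pt (𝟙 T) y (he y)
      invFun := fun a => ⟨pullback.lift y (hu _ (Compat.ofPoint D a (y ≫ f i) rfl)).choose.1
          (hu _ (Compat.ofPoint D a (y ≫ f i) rfl)).choose.2.symm, pullback.lift_fst _ _ _⟩
      left_inv := fun v => Subtype.ext (pullback.hom_ext (by
          rw [pullback.lift_fst]; exact v.2.symm) (by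
          rw [pullback.lift_snd]
          refine congrArg Subtype.val ((hu _ _).choose_spec.2 ⟨_, hl y v⟩ ?_).symm
          exact (Compat.eq_ofPoint (c₀.res (v.1 ≫ pullback.snd (f i) U.hom) (y ≫ f i) (hl y v)) y (he y)).symm))
      right_inv := fun a => Subtype.ext (by
        have hp := (hu _ (Compat.ofPoint D a (y ≫ f i) rfl)).choose_spec.1
        refine Eq.trans ?_ (Compat.ofPoint_pt_self a rfl (he y))
        rw [← hp]
        exact c₀.pt_congr (by rw [pullback.lift_snd]) rfl _ _) }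
  obtain ⟨I, -⟩ := exists_iso_of_points (A := (toDDFam f).obj U) (B := D) e
    (fun i T T' g x y hy v v' hv => by
      refine c₀.nat g _ x _ _ y ?_ hy _
      rw [hv]; simp)
    (fun T i k x₀ x₁ h v => by
      refine (c₀.comp (𝟙 T ≫ v.1 ≫ pullback.snd (f i) U.hom) x₀ x₁ _
        (by rw [Category.id_comp, hl x₀ v, h])).trans (Subtype.ext (c₀.pt_congr ?_ rfl _ _))
      simp [toDDFam, canonicalDDFam])
  exact ⟨U, ⟨I⟩⟩

/-- An effective datum is representable, for a covering family. -/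
theorem rep_of_isEffective {D : SchDDFam f}
    (hcov : ∀ {T : Scheme.{u}} (s : T ⟶ S), factorSieve f s ∈ Scheme.fpqcTopology T) (h : D.IsEffective) :
    Rep D := by
  obtain ⟨U, ⟨I⟩⟩ := h
  refine rep_of_iso I ⟨U, { pt := fun T t i y h => ⟨pullback.lift y t h, pullback.lift_fst _ _ _⟩
                            nat := fun T T' g t i y h t' y' hg hy h' => pullback.hom_ext (by simp [hy])
                              (by simp [hg])
                            comp := fun T t i k y y' h h' => Subtype.ext (pullback.hom_ext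
                              (by simp [toDDFam, canonicalDDFam]) (by simp [toDDFam, canonicalDDFam])) },
    fun T s c => ?_⟩
  have hind : ∀ {T' : Scheme.{u}} (t : T' ⟶ T) (i k : ι) (y : T' ⟶ X i) (y' : T' ⟶ X k) (h : y ≫ f i = t ≫ s)
      (h' : y' ≫ f k = t ≫ s),
      (c.pt t y h).1 ≫ pullback.snd (f i) U.hom = (c.pt t y' h').1 ≫ pullback.snd (f k) U.hom := by
    intro T' t i k y y' h h'
    rw [← c.comp t y y' h h']
    simp [toDDFam, canonicalDDFam]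
  obtain ⟨a, ha⟩ := exists_glue _ (hcov s)
    (fun T' t ht => (c.pt t ht.choose_spec.choose ht.choose_spec.choose_spec).1 ≫ pullback.snd _ _)
    (fun T' T'' g t ht t' ht' e => by
      subst e
      rw [hind (g ≫ t) _ ht.choose _ (g ≫ ht.choose_spec.choose) ht'.choose_spec.choose_spec
        (by rw [Category.assoc, ht.choose_spec.choose_spec, Category.assoc]),
        c.nat g t _ ht.choose_spec.choose_spec (g ≫ t) _ rfl rfl _, Category.assoc]
      )
  have ha' : ∀ {T' : Scheme.{u}} (t : T' ⟶ T) (i : ι) (y : T' ⟶ X i) (h : y ≫ f i = t ≫ s),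
      t ≫ a = (c.pt t y h).1 ≫ pullback.snd (f i) U.hom := fun t i y h => (ha t ⟨i, y, h⟩).trans (hind _ _ _ _ _ _ _)
  have hov : a ≫ U.hom = s := hom_ext_of_covering _ (hcov s) _ _ fun T' t ⟨i, y, h⟩ => by
    rw [← Category.assoc, ha' t i y h, Category.assoc, ← pullback.condition, ← Category.assoc,
      show (c.pt t y h).1 ≫ pullback.fst (f i) U.hom = y from (c.pt t y h).2, h]
  refine ⟨⟨a, hov⟩, Compat.ext fun T' t i y hy => pullback.hom_ext ?_ ?_, fun q hq => Subtype.ext ?_⟩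
  · exact (pullback.lift_fst _ _ _).trans (c.pt t y hy).2.symm
  · exact (pullback.lift_snd _ _ _).trans (ha' t i y hy)
  · refine hom_ext_of_covering _ (hcov s) _ _ fun T' t ⟨i, y, h⟩ => ?_
    rw [ha' t i y h, ← hq]
    exact (pullback.lift_snd _ _ _).symm

section pull

variable {S' : Scheme.{u}} {ι' : Type w'} {X' : ι' → Scheme.{u}} {f' : ∀ k, X' k ⟶ S'}
  {α : ι' → ι} {j : S' ⟶ S} {g : ∀ k, X' k ⟶ X (α k)} (w : ∀ k, g k ≫ f (α k) = f' k ≫ j) {D : SchDDFam f}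

/-- A compatible family gives one for the pulled back datum. -/
noncomputable def Compat.pull {T : Scheme.{u}} {x : T ⟶ S'} {s : T ⟶ S} (hs : x ≫ j = s) (c : Compat D s) :
    Compat ((pullDDFam w).obj D) x where
  pt T' t k z h := (liftsPullbackEquiv (D.obj (α k)) (g k) z).symm
    (c.pt t (z ≫ g k) (by rw [Category.assoc, w, ← Category.assoc, h, Category.assoc, hs]))
  nat T' T'' r t k z h t' z' hr hz h' :=
    lpe_symm_natural _ _ r z z' hz _ _ (c.nat r t _ _ t' _ hr (by rw [← hz, Category.assoc]) _)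
  comp T' t k l z z' h h' := by
    simp only [pullDDFam, pullDDFamObj, Equiv.trans_apply, Equiv.apply_symm_apply]
    exact congrArg _ (c.comp t _ _ _ _)

lemma Compat.pull_res {T T' : Scheme.{u}} {x : T ⟶ S'} {s : T ⟶ S} (hs : x ≫ j = s) (c : Compat D s)
    (r : T' ⟶ T) (x' : T' ⟶ S') (hx : r ≫ x = x') (s' : T' ⟶ S) (hs₁ : r ≫ s = s') (hs₂ : x' ≫ j = s') :
    (c.res r s' hs₁).pull w hs₂ = (c.pull w hs).res r x' hx :=
  Compat.ext fun _ _ _ _ _ => rfl

lemma Compat.pull_injective (hcov : ∀ {T : Scheme.{u}} (x : T ⟶ S'), factorSieve f' x ∈ Scheme.fpqcTopology T)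
    {T : Scheme.{u}} {x : T ⟶ S'} {s : T ⟶ S} (hs : x ≫ j = s) :
    Function.Injective (Compat.pull w hs (D := D)) := by
  intro c c' e
  refine Compat.ext fun T' t i y hy => hom_ext_of_covering _ (hcov (t ≫ x)) _ _ fun T'' r ⟨k, z, hz⟩ => ?_
  have hz' : z ≫ f' k = (r ≫ t) ≫ x := by rw [hz, Category.assoc]
  have hh : (z ≫ g k) ≫ f (α k) = (r ≫ t) ≫ s := by
    rw [Category.assoc, w, ← Category.assoc, hz', Category.assoc, hs]
  have e1 : c.pt (r ≫ t) (z ≫ g k) hh = c'.pt (r ≫ t) (z ≫ g k) hh := by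
    have := congrArg (fun q : Compat ((pullDDFam w).obj D) x =>
      liftsPullbackEquiv (D.obj (α k)) (g k) z (q.pt (r ≫ t) z hz')) e
    simpa only [Compat.pull, Equiv.apply_symm_apply] using this
  rw [← c.nat r t y hy (r ≫ t) (r ≫ y) rfl rfl (by rw [Category.assoc, hy, Category.assoc]),
    ← c'.nat r t y hy (r ≫ t) (r ≫ y) rfl rfl (by rw [Category.assoc, hy, Category.assoc]),
    ← c.comp (r ≫ t) (z ≫ g k) (r ≫ y) hh, ← c'.comp (r ≫ t) (z ≫ g k) (r ≫ y) hh, e1]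

lemma Compat.pull_surjective (hcov : ∀ {T : Scheme.{u}} (x : T ⟶ S'), factorSieve f' x ∈ Scheme.fpqcTopology T)
    {T : Scheme.{u}} {x : T ⟶ S'} {s : T ⟶ S} (hs : x ≫ j = s) :
    Function.Surjective (Compat.pull w hs (D := D)) := by
  intro c'
  let img {T' : Scheme.{u}} (t : T' ⟶ T) ⦃i : ι⦄ (y : T' ⟶ X i) (hy : y ≫ f i = t ≫ s) (k : ι')
      (z : T' ⟶ X' k) (hz : z ≫ f' k = t ≫ x) : Lifts (D.obj i) y :=
    D.φ (z ≫ g k) y (by rw [Category.assoc, w, ← Category.assoc, hz, Category.assoc, hs, hy])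
      (liftsPullbackEquiv (D.obj (α k)) (g k) z (c'.pt t z hz))
  have hind : ∀ {T' : Scheme.{u}} (t : T' ⟶ T) ⦃i : ι⦄ (y : T' ⟶ X i) (hy : y ≫ f i = t ≫ s)
      (k : ι') (z : T' ⟶ X' k) (hz : z ≫ f' k = t ≫ x) (l : ι') (z' : T' ⟶ X' l) (hz' : z' ≫ f' l = t ≫ x),
      img t y hy k z hz = img t y hy l z' hz' := by
    intro T' t i y hy k z hz l z' hz'
    simp only [img]
    rw [← c'.comp t z z' hz hz']
    simp only [pullDDFam, pullDDFamObj, Equiv.trans_apply, Equiv.apply_symm_apply, D.φ_comp]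
  have himg : ∀ {T' T'' : Scheme.{u}} (r : T'' ⟶ T') (t : T' ⟶ T) ⦃i : ι⦄ (y : T' ⟶ X i)
      (hy : y ≫ f i = t ≫ s) (k : ι') (z : T' ⟶ X' k) (hz : z ≫ f' k = t ≫ x) (t' : T'' ⟶ T) (y' : T'' ⟶ X i)
      (ht : r ≫ t = t') (hy₁ : r ≫ y = y') (hy' : y' ≫ f i = t' ≫ s) (hz' : (r ≫ z) ≫ f' k = t' ≫ x),
      (img t' y' hy' k (r ≫ z) hz').1 = r ≫ (img t y hy k z hz).1 := by
    intro T' T'' r t i y hy k z hz t' y' ht hy₁ hy' hz'
    exact D.φ_natural r _ _ _ _ _ (Category.assoc _ _ _).symm hy₁ _ _ _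
      (lpe_natural _ _ r z (r ≫ z) _ _ (c'.nat r t z hz t' (r ≫ z) ht rfl hz'))
  have hglue : ∀ {T' : Scheme.{u}} (t : T' ⟶ T) ⦃i : ι⦄ (y : T' ⟶ X i) (hy : y ≫ f i = t ≫ s),
      ∃ a : Lifts (D.obj i) y, ∀ {T'' : Scheme.{u}} (r : T'' ⟶ T') (k : ι') (z : T'' ⟶ X' k)
        (hz : z ≫ f' k = (r ≫ t) ≫ x),
        r ≫ a.1 = (img (r ≫ t) (r ≫ y) (by rw [Category.assoc, hy, Category.assoc]) k z hz).1 := by
    intro T' t i y hy
    have hR : ∀ ⦃T'' : Scheme.{u}⦄ (r : T'' ⟶ T'), factorSieve f' (t ≫ x) r →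
        ∃ (k : ι') (z : T'' ⟶ X' k), z ≫ f' k = (r ≫ t) ≫ x := fun _ r ⟨k, z, hz⟩ =>
      ⟨k, z, hz.trans (Category.assoc _ _ _).symm⟩
    obtain ⟨a, ha⟩ := exists_glue _ (hcov (t ≫ x))
      (fun T'' r hr => (img (r ≫ t) (r ≫ y) (by rw [Category.assoc, hy, Category.assoc]) (hR r hr).choose
        (hR r hr).choose_spec.choose (hR r hr).choose_spec.choose_spec).1)
      (fun T'' T''' q r hr r' hr' e => by
        subst e
        have hz : (q ≫ (hR r hr).choose_spec.choose) ≫ f' (hR r hr).choose = ((q ≫ r) ≫ t) ≫ x := by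
          rw [Category.assoc, (hR r hr).choose_spec.choose_spec]; simp
        have hy₂ : ((q ≫ r) ≫ y) ≫ f i = ((q ≫ r) ≫ t) ≫ s := by simp only [Category.assoc, hy]
        have hy₃ : (r ≫ y) ≫ f i = (r ≫ t) ≫ s := by simp only [Category.assoc, hy]
        exact (congrArg Subtype.val (hind ((q ≫ r) ≫ t) ((q ≫ r) ≫ y) hy₂ _ _
            (hR (q ≫ r) hr').choose_spec.choose_spec _ _ hz)).trans
          (himg q (r ≫ t) (r ≫ y) hy₃ _ _ _ _ _ (Category.assoc _ _ _).symm (Category.assoc _ _ _).symm hy₂ hz))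
    have ha' : ∀ {T'' : Scheme.{u}} (r : T'' ⟶ T') (k : ι') (z : T'' ⟶ X' k) (hz : z ≫ f' k = (r ≫ t) ≫ x),
        r ≫ a = (img (r ≫ t) (r ≫ y) (by rw [Category.assoc, hy, Category.assoc]) k z hz).1 :=
      fun r k z hz => (ha r ⟨k, z, hz.trans (Category.assoc _ _ _)⟩).trans
        (congrArg Subtype.val (hind (r ≫ t) (r ≫ y) (by simp only [Category.assoc, hy]) _ _ _ _ _ _))
    refine ⟨⟨a, hom_ext_of_covering _ (hcov (t ≫ x)) _ _ fun T'' r hr => ?_⟩, ha'⟩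
    obtain ⟨k, z, hz⟩ := hR r hr
    rw [← Category.assoc, ha' r k z hz]
    exact (img (r ≫ t) (r ≫ y) (by simp only [Category.assoc, hy]) k z hz).2
  choose a ha using @hglue
  refine ⟨{ pt := fun T' t i y hy => a t y hy, nat := ?_, comp := ?_ }, ?_⟩
  · intro T' T'' q t i y hy t' y' hq hy₁ hy'
    subst hq hy₁
    refine hom_ext_of_covering _ (hcov ((q ≫ t) ≫ x)) _ _ fun T₃ r ⟨k, z, hz⟩ => ?_
    have hz₁ : z ≫ f' k = (r ≫ q ≫ t) ≫ x := by rw [hz]; simp
    have hz₂ : z ≫ f' k = ((r ≫ q) ≫ t) ≫ x := by rw [hz]; simp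
    refine (ha _ _ _ r k z hz₁).trans (Eq.trans ?_ ((ha _ _ _ (r ≫ q) k z hz₂).symm.trans (Category.assoc _ _ _)))
    have key : ∀ {t₁ t₂ : T₃ ⟶ T} (et : t₁ = t₂) {y₁ y₂ : T₃ ⟶ X i} (ey : y₁ = y₂) (h₁ : y₁ ≫ f i = t₁ ≫ s)
        (h₂ : y₂ ≫ f i = t₂ ≫ s) (e₁ : z ≫ f' k = t₁ ≫ x) (e₂ : z ≫ f' k = t₂ ≫ x),
        (img t₁ y₁ h₁ k z e₁).1 = (img t₂ y₂ h₂ k z e₂).1 := by
      rintro t₁ t₂ rfl y₁ y₂ rfl h₁ h₂ e₁ e₂
      rfl
    exact key (Category.assoc _ _ _).symm (Category.assoc _ _ _).symm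
      (by simp only [Category.assoc, hy]) (by simp only [Category.assoc, hy]) _ _
  · intro T' t i l y y' hy hy'
    refine Subtype.ext (hom_ext_of_covering _ (hcov (t ≫ x)) _ _ fun T₃ r ⟨k, z, hz⟩ => ?_)
    have hz₁ : z ≫ f' k = (r ≫ t) ≫ x := by rw [hz]; simp
    rw [ha _ _ _ r k z hz₁, ← D.φ_natural r y y' (hy.trans hy'.symm) (r ≫ y) (r ≫ y') rfl rfl
      (by rw [Category.assoc, hy, Category.assoc, hy']) (a t y hy) ⟨r ≫ (a t y hy).1, by rw [Category.assoc, (a t y hy).2]⟩ rfl]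
    have e : (⟨r ≫ (a t y hy).1, by rw [Category.assoc, (a t y hy).2]⟩ : Lifts (D.obj i) (r ≫ y)) =
        img (r ≫ t) (r ≫ y) (by rw [Category.assoc, hy, Category.assoc]) k z hz₁ := Subtype.ext (ha _ _ _ r k z hz₁)
    rw [e]
    simp only [img, D.φ_comp]
  · refine Compat.ext fun T' t k z hz => congrArg Subtype.val
      ((liftsPullbackEquiv (D.obj (α k)) (g k) z).symm_apply_eq.2 (Subtype.ext ?_))
    have hz₁ : z ≫ f' k = (𝟙 T' ≫ t) ≫ x := by rw [hz, Category.id_comp]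
    have hh : (z ≫ g k) ≫ f (α k) = t ≫ s := by rw [Category.assoc, w, ← Category.assoc, hz, Category.assoc, hs]
    show (a t (z ≫ g k) hh).1 = _
    rw [← Category.id_comp (a t (z ≫ g k) hh).1, ha _ _ _ (𝟙 T') k z hz₁]
    simp only [img]
    have key : ∀ {t' : T' ⟶ T} (y : T' ⟶ X (α k)) (hy : (z ≫ g k) ≫ f (α k) = y ≫ f (α k))
        (h' : z ≫ f' k = t' ≫ x), t' = t → y = z ≫ g k →
        (D.φ (z ≫ g k) y hy (liftsPullbackEquiv (D.obj (α k)) (g k) z (c'.pt t' z h'))).1 =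
          (liftsPullbackEquiv (D.obj (α k)) (g k) z (c'.pt t z hz)).1 := by
      rintro t' y hy h' rfl rfl
      rw [D.φ_self]
    exact key _ _ _ (Category.id_comp _) (Category.id_comp _)

/-- Representability passes to the datum over `S'` from the pulled back datum. -/
theorem repOn_of_rep_pull (hcov : ∀ {T : Scheme.{u}} (x : T ⟶ S'), factorSieve f' x ∈ Scheme.fpqcTopology T)
    (h : Rep ((pullDDFam w).obj D)) : RepOn D j := by
  obtain ⟨U, c', hu⟩ := h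
  obtain ⟨c₀, rfl⟩ := Compat.pull_surjective w hcov (x := U.hom) rfl c'
  refine ⟨U, c₀, fun T x c => ?_⟩
  obtain ⟨p, hp, huniq⟩ := hu x (c.pull w rfl)
  have hj : ∀ q : Lifts U x, q.1 ≫ U.hom ≫ j = x ≫ j := fun q => by rw [← Category.assoc, q.2]
  refine ⟨p, Compat.pull_injective w hcov rfl ?_, fun q hq => huniq q ?_⟩
  · exact (Compat.pull_res w rfl c₀ p.1 x p.2 _ (hj p) rfl).trans hp
  · exact (Compat.pull_res w rfl c₀ q.1 x q.2 _ (hj q) rfl).symm.trans (congrArg (Compat.pull w rfl) hq)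

/-- Representability passes to the pulled back datum. -/
theorem rep_pull_of_repOn (hcov : ∀ {T : Scheme.{u}} (x : T ⟶ S'), factorSieve f' x ∈ Scheme.fpqcTopology T)
    (h : RepOn D j) : Rep ((pullDDFam w).obj D) := by
  obtain ⟨U, c₀, hu⟩ := h
  refine ⟨U, c₀.pull w rfl, fun T x c' => ?_⟩
  obtain ⟨c, rfl⟩ := Compat.pull_surjective w hcov (x := x) rfl c'
  obtain ⟨p, hp, huniq⟩ := hu x c
  have hj : ∀ q : Lifts U x, q.1 ≫ U.hom ≫ j = x ≫ j := fun q => by rw [← Category.assoc, q.2]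
  refine ⟨p, ?_, fun q hq => huniq q (Compat.pull_injective w hcov rfl ?_)⟩
  · exact (Compat.pull_res w rfl c₀ p.1 x p.2 _ (hj p) rfl).symm.trans (congrArg (Compat.pull w rfl) hp)
  · exact (Compat.pull_res w rfl c₀ q.1 x q.2 _ (hj q) rfl).trans hq

end pull

end Groth.Agent.DescLib
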