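import Mathlib.AlgebraicGeometry.Morphisms.FormallyUnramified
import Mathlib.AlgebraicGeometry.Morphisms.FlatMono
import Mathlib.AlgebraicGeometry.ResidueField
import Mathlib.AlgebraicGeometry.Morphisms.FlatDescent

/-!
# Loci of agreement of two lifts along an unramified morphism
-/

universe u

set_option autoImplicit false
set_option backward.isDefEq.respectTransparency false
set_option backward.isDefEq.respectTransparency.types false

open CategoryTheory CategoryTheory.Limits AlgebraicGeometry TopologicalSpace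

namespace Groth.Agent.DescLib

variable {Z Y X : Scheme.{u}}

/-- Agreement at the residue field of a point. -/
def AgreeAt (a b : Z ⟶ Y) (z : Z) : Prop :=
  Z.fromSpecResidueField z ≫ a = Z.fromSpecResidueField z ≫ b

lemma hom_ext_of_field_extension {K L : Type u} [Field K] [Field L] (φ : K →+* L)
    (a b : Spec (.of K) ⟶ Y)
    (h : Spec.map (CommRingCat.ofHom φ) ≫ a = Spec.map (CommRingCat.ofHom φ) ≫ b) : a = b := by
  letI := φ.toAlgebra
  have hf : Flat (Spec.map (CommRingCat.ofHom φ)) ∧ Surjective (Spec.map (CommRingCat.ofHom φ)) :=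
    (flat_and_surjective_SpecMap_iff _).2 (RingHom.faithfullyFlat_algebraMap_iff.2 inferInstance)
  haveI := hf.1
  haveI := hf.2
  haveI : Epi (Spec.map (CommRingCat.ofHom φ)) := Flat.epi_of_flat_of_surjective _
  exact (cancel_epi _).1 h

lemma agreeAt_iff_of_field (a b : Z ⟶ Y) {K : Type u} [Field K] (w : Spec (.of K) ⟶ Z) (z : Z)
    (hz : w (IsLocalRing.closedPoint K) = z) : w ≫ a = w ≫ b ↔ AgreeAt a b z := by
  subst hz
  obtain ⟨φ, hφ⟩ : ∃ φ : Z.residueField (w (IsLocalRing.closedPoint K)) ⟶ CommRingCat.of K,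
      Spec.map φ ≫ Z.fromSpecResidueField _ = w :=
    ⟨_, Scheme.descResidueField_stalkClosedPointTo_fromSpecResidueField K Z w⟩
  constructor
  · intro h
    rw [← hφ, Category.assoc, Category.assoc] at h
    exact hom_ext_of_field_extension φ.hom _ _ h
  · intro h
    rw [← hφ, Category.assoc, Category.assoc, h]

lemma agreeAt_comp {Z' : Scheme.{u}} (m : Z' ⟶ Z) (a b : Z ⟶ Y) (z : Z') :
    AgreeAt (m ≫ a) (m ≫ b) z ↔ AgreeAt a b (m z) := by
  refine Iff.trans ?_ (agreeAt_iff_of_field a b (Z'.fromSpecResidueField z ≫ m) (m z) ?_)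
  · rw [AgreeAt, Category.assoc, Category.assoc]
  · show m (Z'.fromSpecResidueField z _) = m z
    exact congrArg m (Scheme.fromSpecResidueField_apply z _)

variable {q : Y ⟶ X} [FormallyUnramified q] [LocallyOfFiniteType q]

/-- Two lifts along an unramified morphism agree on an open. -/
theorem exists_agree_open (a b : Z ⟶ Y) (h : a ≫ q = b ≫ q) :
    ∃ (E : Scheme.{u}) (e : E ⟶ Z), IsOpenImmersion e ∧ e ≫ a = e ≫ b ∧ Set.range e = {z | AgreeAt a b z} := by
  let m : Z ⟶ pullback q q := pullback.lift a b h
  let e := pullback.fst m (pullback.diagonal q)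
  haveI : IsOpenImmersion (pullback.diagonal q) := inferInstance
  haveI he : IsOpenImmersion e := inferInstanceAs (IsOpenImmersion (pullback.fst m (pullback.diagonal q)))
  have hc := pullback.condition (f := m) (g := pullback.diagonal q)
  have e1 := congrArg (· ≫ pullback.fst q q) hc
  have e2 := congrArg (· ≫ pullback.snd q q) hc
  simp only [Category.assoc, m, pullback.lift_fst, pullback.lift_snd, pullback.diagonal_fst,
    pullback.diagonal_snd, Category.comp_id] at e1 e2
  refine ⟨_, e, he, e1.trans e2.symm, Set.ext fun z => ⟨?_, fun hz => ?_⟩⟩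
  · rintro ⟨w, rfl⟩
    refine (agreeAt_comp e a b w).1 ?_
    rw [show e ≫ a = e ≫ b from e1.trans e2.symm]
    rfl
  · let l := pullback.lift (f := m) (g := pullback.diagonal q) (Z.fromSpecResidueField z)
      (Z.fromSpecResidueField z ≫ a) (pullback.hom_ext (by simp [m]) (by simp [m, hz.symm]))
    exact ⟨l (IsLocalRing.closedPoint _), by
      rw [← Scheme.Hom.comp_apply, pullback.lift_fst, Scheme.fromSpecResidueField_apply]⟩

theorem isOpen_agree (a b : Z ⟶ Y) (h : a ≫ q = b ≫ q) : IsOpen {z | AgreeAt a b z} := by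
  obtain ⟨E, e, he, -, hr⟩ := exists_agree_open (q := q) a b h
  rw [← hr]
  exact e.isOpenEmbedding.isOpen_range

/-- Two lifts along an unramified morphism agreeing at every point are equal. -/
theorem eq_of_agree (a b : Z ⟶ Y) (h : a ≫ q = b ≫ q) (hz : ∀ z, AgreeAt a b z) : a = b := by
  obtain ⟨E, e, he, heq, hr⟩ := exists_agree_open (q := q) a b h
  haveI : Surjective e := ⟨fun z => hr.ge (hz z)⟩
  haveI : IsIso e := (isIso_iff_isOpenImmersion_and_surjective _).2 ⟨he, inferInstance⟩
  exact (cancel_epi e).1 heq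

end Groth.Agent.DescLib
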