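import Groth.Agent.DescLib.EtRep
import Groth.Agent.DescLib.EtAgree

/-!
# Charts for etale descent data along universally submersive morphisms
-/

universe w u

set_option autoImplicit false
set_option backward.isDefEq.respectTransparency false
set_option backward.isDefEq.respectTransparency.types false
set_option linter.style.haveILetI false

open CategoryTheory CategoryTheory.Limits AlgebraicGeometry Opposite Desc

namespace Groth.Agent.DescLib

variable {S : Scheme.{u}}

section general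

variable {ι : Type w} {X : ι → Scheme.{u}} {f : ∀ i, X i ⟶ S} {D : SchDDFam f}

/-- An open of the base over which the datum is representable gives a chart. -/
theorem exists_chart_of_repOn {V : S.Opens} {U : Over (V : Scheme.{u})} (h : RepOnBy D V.ι U) :
    ∃ C : Chart D, C.U = Over.mk (U.hom ≫ V.ι) ∧
      ∀ ⦃T : Scheme.{u}⦄ ⦃s : T ⟶ S⦄ (c : Compat D s) (x : T), s x ∈ V → x ∈ C.O c := by
  obtain ⟨c₀, hu⟩ := h
  refine ⟨{ O := fun T s _ => s ⁻¹ᵁ V
            O_res := fun T T' s c g s' hs => by subst hs; rfl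
            U := Over.mk (U.hom ≫ V.ι)
            c₀ := c₀
            O₀ := preimage_ι_eq_top _ _
            univ := fun T s c hs => ?_ }, rfl, fun T s c x hx => hx⟩
  obtain ⟨x, rfl⟩ : ∃ x : T ⟶ V.toScheme, x ≫ V.ι = s :=
    ⟨IsOpenImmersion.lift _ s (range_subset_of_preimage_eq_top _ s hs), IsOpenImmersion.lift_fac _ _ _⟩
  obtain ⟨p, hp, huniq⟩ := hu x c
  refine ⟨⟨p.1, (Category.assoc _ _ _).symm.trans (congrArg (· ≫ V.ι) p.2)⟩, hp, fun q hq => ?_⟩
  have hq2 : q.1 ≫ U.hom = x := by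
    rw [← cancel_mono V.ι, Category.assoc]; exact q.2
  exact Subtype.ext (congrArg Subtype.val (huniq ⟨q.1, hq2⟩ hq) : q.1 = p.1)

/-- A representing scheme covered by etale charts is etale. -/
theorem etale_of_charts {κ : Type u} (C : κ → Chart D) (hC : ∀ k, Etale (C k).U.hom) {W : Over S}
    {c₀ : Compat D W.hom}
    (hu : ∀ ⦃T : Scheme.{u}⦄ (s : T ⟶ S) (c : Compat D s), ∃! p : Lifts W s, c₀.res p.1 s p.2 = c)
    (hcover : ∀ x : W.left, ∃ k, x ∈ (C k).O c₀) : Etale W.hom := by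
  let O : κ → W.left.Opens := fun k => (C k).O c₀
  have htop : ⨆ k, O k = ⊤ :=
    top_le_iff.1 fun x _ => TopologicalSpace.Opens.mem_iSup.2 (hcover x)
  refine IsZariskiLocalAtSource.of_openCover (P := @Etale) (W.left.openCoverOfIsOpenCover O htop) fun k => ?_
  show Etale ((O k).ι ≫ W.hom)
  let ck := c₀.res (O k).ι _ rfl
  have hck : (C k).O ck = ⊤ := by
    rw [(C k).O_res]; exact preimage_ι_eq_top (O k) (𝟙 _) |>.symm.trans (by rw [Category.id_comp]) |>.symm
  obtain ⟨p, hp, -⟩ := (C k).univ ck hck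
  obtain ⟨q, hq, -⟩ := hu (C k).U.hom (C k).c₀
  have hqO : q.1 ⁻¹ᵁ O k = ⊤ := by rw [← (C k).O_res c₀ q.1 _ q.2, hq, (C k).O₀]
  let l := IsOpenImmersion.lift (O k).ι q.1 (range_subset_of_preimage_eq_top _ _ hqO)
  have hl : l ≫ (O k).ι = q.1 := IsOpenImmersion.lift_fac _ _ _
  have hlw : l ≫ (O k).ι ≫ W.hom = (C k).U.hom := by rw [reassoc_of% hl]; exact q.2
  have hpl : p.1 ≫ l = 𝟙 _ := by
    rw [← cancel_mono (O k).ι, Category.assoc, hl, Category.id_comp]
    obtain ⟨r, -, hr⟩ := hu ((O k).ι ≫ W.hom) ck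
    have h1 := hr ⟨p.1 ≫ q.1, by rw [Category.assoc, q.2, p.2]⟩ (by
      refine Eq.trans ?_ hp
      rw [← hq]
      exact (Compat.res_res _ _ _ _ _ _ _ _ rfl _).symm)
    exact congrArg Subtype.val (h1.trans (hr ⟨(O k).ι, rfl⟩ rfl).symm)
  have hlp : l ≫ p.1 = 𝟙 _ := by
    obtain ⟨r, -, hr⟩ := (C k).univ (C k).c₀ (C k).O₀
    have h1 := hr ⟨l ≫ p.1, by rw [Category.assoc, p.2, hlw]⟩ (by
      refine ((Compat.res_res (C k).c₀ p.1 _ p.2 l _ hlw _ rfl (by rw [Category.assoc, p.2, hlw])).symm.trans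
        (congrArg (fun d : Compat D ((O k).ι ≫ W.hom) => d.res l (C k).U.hom hlw) hp)).trans ?_
      exact (Compat.res_res _ _ _ _ _ _ _ q.1 hl q.2).trans hq)
    exact congrArg Subtype.val (h1.trans (hr ⟨𝟙 _, Category.id_comp _⟩ (Compat.res_id _ _)).symm)
  haveI : IsIso p.1 := ⟨l, hpl, hlp⟩
  rw [← p.2]
  exact (MorphismProperty.cancel_left_of_respectsIso @Etale _ _).2 (hC k)

end general

section single

variable {X : Scheme.{u}} {g : X ⟶ S} {D : SchDDFam (fun _ : PUnit.{1} => g)}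

/-- The two points compared by a section chart. -/
noncomputable abbrev ptA {T : Scheme.{u}} {s : T ⟶ S} (c : Compat D s) : pullback s g ⟶ (D.obj ⟨⟩).left :=
  (c.pt (i := PUnit.unit) (pullback.fst s g) (pullback.snd s g) pullback.condition.symm).1

/-- A compatible family on the base gives a chart. -/
theorem exists_chart_of_section (hg : SGA1.UnivSubmersive g) [Etale (D.obj ⟨⟩).hom]
    (c₁ : Compat D (𝟙 S)) : ∃ C : Chart D, C.U = Over.mk (𝟙 S) ∧
      ∀ ⦃T : Scheme.{u}⦄ ⦃s : T ⟶ S⦄ (c : Compat D s) (z : (pullback s g : Scheme.{u})),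
        AgreeAt (ptA c) (ptA (c₁.res s s (Category.comp_id s))) z → pullback.fst s g z ∈ C.O c := by
  have hover : ∀ ⦃T : Scheme.{u}⦄ ⦃s : T ⟶ S⦄ (c : Compat D s), ptA c ≫ (D.obj ⟨⟩).hom =
      ptA (c₁.res s s (Category.comp_id s)) ≫ (D.obj ⟨⟩).hom := fun T s c =>
    (c.pt (i := PUnit.unit) _ _ pullback.condition.symm).2.trans
      ((c₁.res s s (Category.comp_id s)).pt (i := PUnit.unit) _ _ pullback.condition.symm).2.symm
  have hnat : ∀ ⦃T : Scheme.{u}⦄ ⦃s : T ⟶ S⦄ (c : Compat D s) ⦃T' : Scheme.{u}⦄ (w : T' ⟶ pullback s g)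
      (t : T' ⟶ T) (y : T' ⟶ X) (ht : w ≫ pullback.fst s g = t) (hy : w ≫ pullback.snd s g = y)
      (h : y ≫ g = t ≫ s), w ≫ ptA c = (c.pt (i := PUnit.unit) t y h).1 := fun T s c T' w t y ht hy h =>
    (c.nat (i := PUnit.unit) w _ _ pullback.condition.symm t y ht hy h).symm
  let A : ∀ ⦃T : Scheme.{u}⦄ ⦃s : T ⟶ S⦄, Compat D s → Set (pullback s g : Scheme.{u}) := fun T s c =>
    {z | AgreeAt (ptA c) (ptA (c₁.res s s (Category.comp_id s))) z}
  have hsat : ∀ ⦃T : Scheme.{u}⦄ ⦃s : T ⟶ S⦄ (c : Compat D s) (z z' : (pullback s g : Scheme.{u})),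
      pullback.fst s g z = pullback.fst s g z' → z ∈ A c → z' ∈ A c := by
    intro T s c z z' e hz
    obtain ⟨r, hr, hr'⟩ := Scheme.Pullback.exists_preimage_pullback z z' e
    let P := pullback (pullback.fst s g) (pullback.fst s g)
    let w₀ := P.fromSpecResidueField r ≫ pullback.fst (pullback.fst s g) (pullback.fst s g)
    let w₁ := P.fromSpecResidueField r ≫ pullback.snd (pullback.fst s g) (pullback.fst s g)
    let t := w₀ ≫ pullback.fst s g
    have ht : w₁ ≫ pullback.fst s g = t := by simp only [t, w₀, w₁, Category.assoc, pullback.condition]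
    have h₀ : (w₀ ≫ pullback.snd s g) ≫ g = t ≫ s := by
      simp only [t, Category.assoc, pullback.condition]
    have h₁ : (w₁ ≫ pullback.snd s g) ≫ g = t ≫ s := by
      rw [← ht]; simp only [Category.assoc, pullback.condition]
    have hw₀ : w₀ ≫ ptA c = w₀ ≫ ptA (c₁.res s s (Category.comp_id s)) :=
      (agreeAt_iff_of_field _ _ (K := P.residueField r) w₀ z (by
        show pullback.fst (pullback.fst s g) (pullback.fst s g) (P.fromSpecResidueField r _) = z
        rw [← hr]; exact congrArg _ (Scheme.fromSpecResidueField_apply r _))).2 hz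
    rw [hnat c w₀ t _ rfl rfl h₀, hnat _ w₀ t _ rfl rfl h₀] at hw₀
    refine (agreeAt_iff_of_field _ _ (K := P.residueField r) w₁ z' (by
      show pullback.snd (pullback.fst s g) (pullback.fst s g) (P.fromSpecResidueField r _) = z'
      rw [← hr']; exact congrArg _ (Scheme.fromSpecResidueField_apply r _))).1 ?_
    rw [hnat c w₁ t _ ht rfl h₁, hnat _ w₁ t _ ht rfl h₁,
      ← c.comp (i := PUnit.unit) (k := PUnit.unit) t _ _ h₀ h₁,
      ← (c₁.res s s (Category.comp_id s)).comp (i := PUnit.unit) (k := PUnit.unit) t _ _ h₀ h₁]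
    exact congrArg Subtype.val (congrArg _ (Subtype.ext hw₀))
  have hq : ∀ ⦃T : Scheme.{u}⦄ (s : T ⟶ S), Topology.IsQuotientMap (pullback.fst s g) :=
    fun T s => hg _ _ _ (IsPullback.of_hasPullback s g)
  let O : ∀ ⦃T : Scheme.{u}⦄ ⦃s : T ⟶ S⦄, Compat D s → T.Opens := fun T s c =>
    ⟨pullback.fst s g '' A c, by
      rw [← (hq s).isOpen_preimage]
      have : pullback.fst s g ⁻¹' (pullback.fst s g '' A c) = A c := by
        refine Set.Subset.antisymm ?_ (Set.subset_preimage_image _ _)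
        rintro z ⟨z', hz', e⟩
        exact hsat c z' z e hz'
      rw [this]
      exact isOpen_agree (q := (D.obj ⟨⟩).hom) _ _ (hover c)⟩
  refine ⟨{ O := O, O_res := ?_, U := Over.mk (𝟙 S), c₀ := c₁, O₀ := ?_, univ := ?_ }, rfl,
    fun T s c z hz => ⟨z, hz, rfl⟩⟩
  · intro T T' s c l s' hs
    subst hs
    let m : pullback (l ≫ s) g ⟶ pullback s g := pullback.lift (pullback.fst _ _ ≫ l) (pullback.snd _ _)
      (by rw [Category.assoc, pullback.condition])
    have hmA : ∀ d : Compat D s, m ≫ ptA d = ptA (d.res l (l ≫ s) rfl) := fun d =>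
      hnat d m _ _ (pullback.lift_fst _ _ _) (pullback.lift_snd _ _ _) _
    have hA : ∀ z, z ∈ A (c.res l (l ≫ s) rfl) ↔ m z ∈ A c := fun z => by
      show AgreeAt _ _ z ↔ AgreeAt _ _ (m z)
      rw [← agreeAt_comp m, hmA, hmA, Compat.res_res _ _ _ _ _ _ _ (l ≫ s) rfl (Category.comp_id _)]
    have hm : ∀ z, pullback.fst s g (m z) = l (pullback.fst (l ≫ s) g z) := fun z => by
      rw [← Scheme.Hom.comp_apply, pullback.lift_fst]; rfl
    ext x
    constructor
    · rintro ⟨z, hz, rfl⟩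
      exact ⟨m z, (hA z).1 hz, hm z⟩
    · rintro ⟨z, hz, e⟩
      obtain ⟨z', rfl⟩ := (hq (l ≫ s)).surjective x
      exact ⟨z', (hA z').2 (hsat c z _ (e.trans (hm z').symm) hz), rfl⟩
  · ext x
    refine iff_of_true ?_ trivial
    obtain ⟨z, rfl⟩ := (hq (Over.mk (𝟙 S)).hom).surjective x
    refine ⟨z, ?_, rfl⟩
    show _ ≫ _ = _ ≫ _
    congr 2
  · intro T s c hc
    have hall : ∀ z, z ∈ A c := fun z => by
      obtain ⟨z', hz', e⟩ : pullback.fst s g z ∈ O c := hc ▸ trivial
      exact hsat c z' z e hz'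
    have heq : ptA c = ptA (c₁.res s s (Category.comp_id s)) :=
      eq_of_agree (q := (D.obj ⟨⟩).hom) _ _ (hover c) hall
    refine ⟨⟨s, Category.comp_id s⟩, Compat.ext fun T' t i y hy => ?_,
      fun p _ => Subtype.ext ((Category.comp_id p.1).symm.trans p.2)⟩
    obtain ⟨⟩ := i
    rw [← hnat (c₁.res s s (Category.comp_id s)) (pullback.lift t y hy.symm) t y (pullback.lift_fst _ _ _)
      (pullback.lift_snd _ _ _) hy, ← hnat c (pullback.lift t y hy.symm) t y (pullback.lift_fst _ _ _)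
      (pullback.lift_snd _ _ _) hy, heq]

end single

end Groth.Agent.DescLib
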