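import Groth.Agent.DescLib.IndQAEff
import Groth.Agent.EtFound.Descent
import Groth.Agent.MorLib.WeightFlat
import Mathlib.AlgebraicGeometry.Morphisms.LocalFlatDescent

/-!
# Separated étale descent data of finite type along fpqc coverings
-/

universe u

set_option autoImplicit false
set_option backward.isDefEq.respectTransparency false
set_option backward.isDefEq.respectTransparency.types false

open CategoryTheory CategoryTheory.Limits AlgebraicGeometry Opposite Desc TopologicalSpace

namespace Groth.Agent.DescLib

/-- Quasi-compact separated étale data are effective along fpqc coverings. -/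
theorem effective_etale_qc_sep {X S : Scheme.{u}} (p : X ⟶ S) [Flat p] [Surjective p] [QuasiCompact p]
    (D : SchDD p) [QuasiCompact D.obj.hom] [IsSeparated D.obj.hom] [Etale D.obj.hom] :
    ∃ U : Over S, QuasiCompact U.hom ∧ IsSeparated U.hom ∧ Etale U.hom ∧ Nonempty ((toDD p).obj U ≅ D) := by
  haveI : LocallyQuasiFinite D.obj.hom := MorLib.WT.locallyQuasiFinite_of_etale _
  haveI := EtFound.fpqc_quasiCompact.{u}
  haveI := EtFound.fpqc_isSeparated.{u}
  have hq : IndQA.indQA D.obj.hom := MorLib.IQA.indQA_of_locallyQuasiFinite _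
  obtain ⟨U, ⟨e⟩⟩ := effective_single IndQA.indQA
    (fun _ _ p _ _ _ _ D h => IndQA.effective_indQA_hom p D h) p D hq
  have key : ∀ (P : MorphismProperty Scheme.{u}) [P.RespectsIso]
      [P.DescendsAlong (@Surjective ⊓ @Flat ⊓ @QuasiCompact)], P D.obj.hom → P U.hom := fun P _ _ hP => by
    refine MorphismProperty.of_pullback_fst_of_descendsAlong (P := P)
      (Q := (@Surjective ⊓ @Flat ⊓ @QuasiCompact)) ⟨⟨‹Surjective p›, ‹Flat p›⟩, ‹QuasiCompact p›⟩ ?_
    have hw : e.hom.hom.left ≫ D.obj.hom = pullback.fst p U.hom := Over.w e.hom.hom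
    rw [← hw]
    haveI : IsIso e.hom.hom.left := ⟨e.inv.hom.left,
      congrArg CommaMorphism.left (congrArg SchDD.Hom.hom e.hom_inv_id),
      congrArg CommaMorphism.left (congrArg SchDD.Hom.hom e.inv_hom_id)⟩
    exact (P.cancel_left_of_respectsIso _ _).2 hP
  exact ⟨U, key @QuasiCompact inferInstance, key @IsSeparated inferInstance, key @Etale inferInstance, ⟨e⟩⟩

end Groth.Agent.DescLib
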