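import Groth.Agent.DescLib.EtStalk
import Groth.Agent.DescLib.EtDescEff
import Groth.Agent.SGA1Q.Subm

/-!
# Etale effectivity descends along flat quasi-compact surjections of bases
-/

universe u

set_option autoImplicit false
set_option backward.isDefEq.respectTransparency false
set_option backward.isDefEq.respectTransparency.types false
set_option linter.style.haveILetI false

open CategoryTheory CategoryTheory.Limits AlgebraicGeometry Opposite Desc

namespace Groth.Agent.DescLib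

variable {S X : Scheme.{u}} {g : X ⟶ S} {D : SchDDFam (fun _ : PUnit.{1} => g)}

/-- Representing over a composite is representing the pulled back datum. -/
theorem repOnBy_pullOne {S₁ S₂ : Scheme.{u}} {p : S₁ ⟶ S} {l : S₂ ⟶ S₁} {U : Over S₂}
    (h : RepOnBy D (l ≫ p) U) : RepOnBy (pullOne p D) l U := by
  obtain ⟨c₀, hu⟩ := h
  have hres : ∀ {T T' : Scheme.{u}} {x : T ⟶ S₁} (c : Compat D (x ≫ p)) (r : T' ⟶ T) (x' : T' ⟶ S₁)
      (hx : r ≫ x = x'),
      (c.res r (x' ≫ p) (by rw [reassoc_of% hx])).pull (fun _ => pullback.condition) rfl =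
        (c.pull (fun _ => pullback.condition) rfl).res r x' hx := fun c r x' hx => Compat.pull_res _ _ _ _ _ _ _ _ _
  let c₁ : Compat D ((U.hom ≫ l) ≫ p) := c₀.res (𝟙 _) _ (by simp)
  have hd : ∀ {T : Scheme.{u}} {x : T ⟶ S₂} (q : Lifts U x) (e : q.1 ≫ U.hom ≫ l = x ≫ l),
      (c₁.pull (fun _ => pullback.condition) rfl).res q.1 (x ≫ l) e =
        ((c₀.res q.1 (x ≫ l ≫ p) (by rw [reassoc_of% e])).res (𝟙 T) ((x ≫ l) ≫ p) (by simp)).pull
          (fun _ => pullback.condition) rfl := fun q e => by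
    rw [← hres c₁ q.1 _ e]
    congr 1
  refine ⟨c₁.pull (fun _ => pullback.condition) rfl, fun T x c' => ?_⟩
  obtain ⟨c, rfl⟩ := (pullOne_bijective p (x := x ≫ l)).2 c'
  obtain ⟨q, hq, huniq⟩ := hu x (c.res (𝟙 T) (x ≫ l ≫ p) (by simp))
  have back : ∀ z : Compat D ((x ≫ l) ≫ p),
      (z.res (𝟙 T) (x ≫ l ≫ p) (by simp)).res (𝟙 T) ((x ≫ l) ≫ p) (by simp) = z := fun z => by
    rw [Compat.res_res _ _ _ _ _ _ _ (𝟙 T) (Category.id_comp _) (by simp)]
    exact Compat.res_id _ _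
  refine ⟨q, ?_, fun q' hq' => huniq q' ?_⟩
  · refine (hd q _).trans (congrArg (Compat.pull (fun _ => pullback.condition) rfl) ?_)
    exact (congrArg (fun z : Compat D (x ≫ l ≫ p) => z.res (𝟙 T) ((x ≫ l) ≫ p) (by simp)) hq).trans (back c)
  · have h1 := congrArg (fun z : Compat D ((x ≫ l) ≫ p) => z.res (𝟙 T) (x ≫ l ≫ p) (by simp))
      ((pullOne_bijective p (x := x ≫ l)).1 ((hd q' _).symm.trans hq'))
    rwa [Compat.res_res _ _ _ _ _ _ _ (𝟙 T) (Category.id_comp _) (by simp), Compat.res_id] at h1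

/-- A descended scheme of a separated quasi-compact datum is separated and quasi-compact. -/
theorem sep_qc_of_iso {U : Over S} (hg : SGA1.UnivSubmersive g) [QuasiCompact g]
    [QuasiCompact (D.obj ⟨⟩).hom] [IsSeparated (D.obj ⟨⟩).hom]
    (J : (toDDFam (fun _ : PUnit.{1} => g)).obj U ≅ D) : IsSeparated U.hom ∧ QuasiCompact U.hom := by
  haveI : Surjective g :=
    ⟨(hg (𝟙 X) (𝟙 S) g IsPullback.of_id_snd : Topology.IsQuotientMap g).surjective⟩
  let k : pullback g U.hom ⟶ (D.obj ⟨⟩).left := (J.hom.hom ⟨⟩).left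
  have hk : k ≫ (D.obj ⟨⟩).hom = pullback.fst g U.hom := Over.w (J.hom.hom ⟨⟩)
  haveI : IsIso k := ⟨(J.inv.hom ⟨⟩).left,
    congrArg CommaMorphism.left (congrFun (congrArg SchDDFam.Hom.hom J.hom_inv_id) ⟨⟩),
    congrArg CommaMorphism.left (congrFun (congrArg SchDDFam.Hom.hom J.inv_hom_id) ⟨⟩)⟩
  haveI : QuasiCompact (pullback.fst g U.hom) := by rw [← hk]; infer_instance
  haveI : IsSeparated (pullback.fst g U.hom) := by rw [← hk]; infer_instance
  haveI := S5132.result.{u}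
  exact ⟨SGA1Q.isSeparated_of_isPullback (IsPullback.of_hasPullback g U.hom) hg inferInstance,
    MorphismProperty.of_pullback_fst_of_descendsAlong (P := @QuasiCompact)
      (Q := (@Surjective ⊓ @QuasiCompact : MorphismProperty Scheme.{u})) (f := g) ⟨inferInstance, inferInstance⟩
      inferInstance⟩

/-- Etale effectivity descends along flat quasi-compact surjections. -/
theorem EtEff.of_fpqc (hg : SGA1.UnivSubmersive g) [QuasiCompact g] [Etale (D.obj ⟨⟩).hom]
    [QuasiCompact (D.obj ⟨⟩).hom] [IsSeparated (D.obj ⟨⟩).hom] {S₁ S₂ : Scheme.{u}} (l : S₂ ⟶ S₁) [Flat l]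
    [Surjective l] [QuasiCompact l] {p : S₁ ⟶ S} {p' : S₂ ⟶ S} (e : l ≫ p = p') (h : EtEff D p') :
    EtEff D p := by
  obtain ⟨U, hU, ⟨J⟩⟩ := h
  subst e
  have hg' : SGA1.UnivSubmersive (pullback.snd g (l ≫ p)) :=
    MorphismProperty.pullback_snd (P := MorphismProperty.universally _) _ _ hg
  haveI : QuasiCompact ((pullOne (l ≫ p) D).obj ⟨⟩).hom :=
    inferInstanceAs (QuasiCompact (pullback.snd (D.obj ⟨⟩).hom (pullback.fst g (l ≫ p))))
  haveI : IsSeparated ((pullOne (l ≫ p) D).obj ⟨⟩).hom :=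
    inferInstanceAs (IsSeparated (pullback.snd (D.obj ⟨⟩).hom (pullback.fst g (l ≫ p))))
  obtain ⟨hs, hc⟩ := sep_qc_of_iso hg' J
  obtain ⟨V, hV, hW⟩ := exists_repBy_of_repOnBy (p := l)
    (repOnBy_pullOne ((repBy_pullOne_iff (l ≫ p)).1 (repBy_of_iso_etale hg' J)))
    (fun V => Etale V.hom) fun D₁ e => by
      subst e
      obtain ⟨V, -, -, h3, hI⟩ := effective_etale_qc_sep l D₁
      exact ⟨V, h3, hI⟩
  exact ⟨V, hV, iso_of_repBy hW⟩

end Groth.Agent.DescLib
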