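import Groth.Agent.DescLib.EtCharts
import Groth.Agent.DescLib.EtFpqc
import Groth.Agent.HensSec7.Local
import Groth.Agent.Hensel.StrictSchemes
import Groth.Agent.EtFound.ProperHenselLifts

/-!
# Etale descent along proper surjective morphisms over strictly henselian local rings
-/

universe u

set_option autoImplicit false
set_option backward.isDefEq.respectTransparency false
set_option backward.isDefEq.respectTransparency.types false
set_option linter.style.haveILetI false

open CategoryTheory CategoryTheory.Limits AlgebraicGeometry Opposite Desc IsLocalRing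

namespace Groth.Agent.DescLib

lemma univSubmersive_of_universallyClosed {X S : Scheme.{u}} (g : X ⟶ S) [UniversallyClosed g] [Surjective g] :
    SGA1.UnivSubmersive g := fun X' Y' i₁ i₂ f' h => by
  haveI : Surjective f' := MorphismProperty.of_isPullback h.flip ‹Surjective g›
  haveI : UniversallyClosed f' := MorphismProperty.of_isPullback h.flip ‹UniversallyClosed g›
  exact f'.isClosedMap.isQuotientMap f'.continuous f'.surjective

/-- Clopens of finite schemes lift from the closed fibre of a proper scheme over a henselian local ring. -/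
theorem finiteLifts_proper {B : Type u} [CommRing B] [HenselianLocalRing B] {X : Scheme.{u}}
    (g : X ⟶ Spec (CommRingCat.of B)) [IsProper g] :
    HensSec7.FiniteLifts (pullback.snd (HensSec7.closedPointHom B) g) := by
  intro X' h hh
  haveI := hh
  haveI : IsProper (h ≫ g) := inferInstance
  refine (HensCouple7.scheme_lifts_iff h (pullback.snd (HensSec7.closedPointHom B) g)).2 ?_
  rw [Scheme.Pullback.range_snd, HensSec7.range_closedPointHom]
  exact ProperHenselLifts.lifts_proper' (maximalIdeal B) (h ≫ g)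

variable {X S : Scheme.{u}} {g : X ⟶ S} {D : SchDDFam (fun _ : PUnit.{1} => g)}

/-- Pulled back to the source of the map, a datum is effective. -/
theorem etEff_self [Etale (D.obj ⟨⟩).hom] : EtEff D g := by
  let c₀ : Compat D ((D.obj ⟨⟩).hom ≫ g) :=
    Compat.ofPoint D (i := PUnit.unit) (y := (D.obj ⟨⟩).hom) ⟨𝟙 _, Category.id_comp _⟩ _ rfl
  have key : ∀ {T : Scheme.{u}} {x : T ⟶ X} (q : Lifts (D.obj ⟨⟩) x) (e : q.1 ≫ (D.obj ⟨⟩).hom ≫ g = x ≫ g),
      c₀.res q.1 (x ≫ g) e = Compat.ofPoint D q (x ≫ g) rfl := fun {T x} q e =>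
    Compat.ext fun T' t i y hy => by
      obtain ⟨⟩ := i
      exact φ_congr D (by rw [Category.assoc, q.2]) rfl _ _ _ _ (Category.comp_id _)
  suffices hR : RepOnBy D g (D.obj ⟨⟩) by
    obtain ⟨J⟩ := iso_of_repBy ((repBy_pullOne_iff g).2 hR)
    exact ⟨D.obj ⟨⟩, inferInstance, ⟨J⟩⟩
  refine ⟨c₀, fun T x c => ?_⟩
  · have h : x ≫ g = 𝟙 T ≫ x ≫ g := (Category.id_comp _).symm
    refine ⟨c.pt (i := PUnit.unit) (𝟙 T) x h, (key _ _).trans (Compat.eq_ofPoint c (i := PUnit.unit) x h),
      fun q hq => Subtype.ext ?_⟩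
    rw [← hq, key q]
    exact (Compat.ofPoint_pt_self q rfl h).symm

variable {k : Type u} [Field k] [IsSepClosed k]

/-- A field valued point of an etale scheme over a separably closed field factors through a rational point. -/
theorem exists_rational_point {U : Scheme.{u}} (f : U ⟶ Spec (CommRingCat.of k)) [Etale f] :
    ∃ e : U → (Spec (CommRingCat.of k) ⟶ U), (∀ u, e u ≫ f = 𝟙 _) ∧
      ∀ {K : Type u} [Field K] (q : Spec (CommRingCat.of K) ⟶ U), ∃ u, (q ≫ f) ≫ e u = q := by
  haveI : IsSepClosed (ResidueField k) :=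
    IsSepClosed.of_exists_root _ fun p hp hs hd => by
      let e : k ≃+* ResidueField k := RingEquiv.ofBijective (residue k)
        ⟨(residue k).injective, residue_surjective⟩
      obtain ⟨x, hx⟩ := IsSepClosed.exists_root (p.map e.symm.toRingHom)
        (by rw [Polynomial.degree_map]; exact (Polynomial.degree_pos_of_irreducible hs).ne') hd.map
      refine ⟨e x, ?_⟩
      rw [Polynomial.IsRoot, Polynomial.eval_map] at hx
      apply e.symm.injective
      rw [map_zero, ← hx]
      exact (Polynomial.hom_eval₂ p (RingHom.id _) e.symm.toRingHom (e x)).trans (by simp)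
  have hsec : ∀ u : U, ∃ e : Spec (CommRingCat.of k) ⟶ U, e ≫ f = 𝟙 _ ∧ e (closedPoint k) = u := fun u => by
    obtain ⟨e, h1, h2⟩ := (Hensel.strictlyHenselian_iff_exists_section k).1 ⟨inferInstance, inferInstance⟩ U f
      inferInstance u (Subsingleton.elim _ _)
    exact ⟨e, h1, h2⟩
  choose e he hu using hsec
  refine ⟨e, he, fun {K} _ q => ⟨q (closedPoint K), ?_⟩⟩
  let u := q (closedPoint K)
  obtain ⟨ψ, hψ⟩ : ∃ ψ : U.residueField u ⟶ CommRingCat.of K, Spec.map ψ ≫ U.fromSpecResidueField u = q :=
    ⟨_, Scheme.descResidueField_stalkClosedPointTo_fromSpecResidueField K U q⟩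
  obtain ⟨e', he'⟩ : ∃ e' : Spec (CommRingCat.of k) ⟶ Spec (U.residueField u),
      e' ≫ U.fromSpecResidueField u = e u := by
    obtain ⟨χ, hχ⟩ : ∃ χ : U.residueField (e u (closedPoint k)) ⟶ CommRingCat.of k,
        Spec.map χ ≫ U.fromSpecResidueField _ = e u :=
      ⟨_, Scheme.descResidueField_stalkClosedPointTo_fromSpecResidueField k U (e u)⟩
    refine ⟨Spec.map χ ≫ Spec.map (U.residueFieldCongr (hu u).symm).hom, ?_⟩
    rw [Category.assoc]
    exact (congrArg (Spec.map χ ≫ ·) (Scheme.residueFieldCongr_fromSpecResidueField (hu u).symm)).trans hχ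
  have h1 : (e' ≫ U.fromSpecResidueField u) ≫ f = 𝟙 _ := by rw [he', he]
  haveI : Epi e' := by
    obtain ⟨χ, rfl⟩ := Spec.map_surjective e'
    have hf : Flat (Spec.map χ) ∧ Surjective (Spec.map χ) := by
      letI := χ.hom.toAlgebra
      letI : Field (U.residueField u) := inferInstance
      exact (flat_and_surjective_SpecMap_iff _).2 (RingHom.faithfullyFlat_algebraMap_iff.2 inferInstance)
    haveI := hf.1
    haveI := hf.2
    exact Flat.epi_of_flat_of_surjective _
  have h2 : (U.fromSpecResidueField u ≫ f) ≫ e' = 𝟙 _ := by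
    rw [← cancel_epi e', Category.comp_id, ← Category.assoc, ← Category.assoc, h1, Category.id_comp]
  show (q ≫ f) ≫ e u = q
  rw [← he', ← hψ, Category.assoc, Category.assoc, ← Category.assoc f, ← Category.assoc (U.fromSpecResidueField u),
    ← Category.assoc (U.fromSpecResidueField u) f, h2, Category.id_comp]

variable {B : Type u} [CommRing B] [HenselianLocalRing B] [IsSepClosed (ResidueField B)]
  {Y : Scheme.{u}} {h : Y ⟶ Spec (CommRingCat.of B)} {E : SchDDFam (fun _ : PUnit.{1} => h)}

/-- A family at the closed point extends to the whole base. -/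
theorem exists_compat_extend [IsProper h] [Etale (E.obj ⟨⟩).hom] [IsSeparated (E.obj ⟨⟩).hom]
    (cu : Compat E (HensSec7.closedPointHom B)) :
    ∃ c : Compat E (𝟙 (Spec (CommRingCat.of B))),
      c.res (HensSec7.closedPointHom B) _ (Category.comp_id _) = cu := by
  let i := HensSec7.closedPointHom B
  haveI : CompactSpace Y := QuasiCompact.compactSpace_of_compactSpace h
  haveI : QuasiSeparatedSpace Y := quasiSeparatedSpace_of_quasiSeparated h
  let v₀ : pullback i h ⟶ (E.obj ⟨⟩).left :=
    (cu.pt (i := PUnit.unit) (pullback.fst i h) (pullback.snd i h) pullback.condition.symm).1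
  have hv₀ : v₀ ≫ (E.obj ⟨⟩).hom = pullback.snd i h :=
    (cu.pt (i := PUnit.unit) (pullback.fst i h) (pullback.snd i h) pullback.condition.symm).2
  obtain ⟨σ, ⟨hσ, hσ₀⟩, -⟩ := HensSec7.existsUnique_section (finiteLifts_proper h) (E.obj ⟨⟩).hom v₀ hv₀
  have hσ' : ∀ {T : Scheme.{u}} (y : T ⟶ Y), (y ≫ σ) ≫ (E.obj ⟨⟩).hom = y := fun y => by
    rw [Category.assoc, hσ, Category.comp_id]
  have hcu : ∀ {T : Scheme.{u}} (t : T ⟶ Spec (CommRingCat.of (ResidueField B))) (y : T ⟶ Y)
      (e : y ≫ h = t ≫ i), (cu.pt (i := PUnit.unit) t y e).1 = y ≫ σ := fun t y e => by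
    rw [cu.nat (i := PUnit.unit) (pullback.lift t y e.symm) (pullback.fst i h) (pullback.snd i h)
      pullback.condition.symm t y (pullback.lift_fst _ _ _) (pullback.lift_snd _ _ _) e]
    show _ ≫ v₀ = _
    rw [← hσ₀, pullback.lift_snd_assoc]
  -- the cocycle on the self product
  let P := pullback h h
  haveI : IsProper (pullback.fst h h ≫ h) := by
    haveI : IsProper (pullback.fst h h) := MorphismProperty.pullback_fst _ _ inferInstance
    infer_instance
  have hP := finiteLifts_proper (pullback.fst h h ≫ h)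
  let w₀ : Lifts (E.obj ⟨⟩) (pullback.fst h h) := ⟨pullback.fst h h ≫ σ, hσ' _⟩
  let p := pullback.snd (E.obj ⟨⟩).hom (pullback.snd h h)
  have huniv : (E.φ (i := PUnit.unit) (j := PUnit.unit) _ _ pullback.condition w₀).1 = pullback.snd h h ≫ σ := by
    have hl := (E.φ (i := PUnit.unit) (j := PUnit.unit) _ _ (pullback.condition (f := h) (g := h)) w₀).2
    let u₁ : P ⟶ pullback (E.obj ⟨⟩).hom (pullback.snd h h) :=
      pullback.lift _ (𝟙 P) (hl.trans (Category.id_comp _).symm)
    let u₂ : P ⟶ pullback (E.obj ⟨⟩).hom (pullback.snd h h) :=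
      pullback.lift (pullback.snd h h ≫ σ) (𝟙 P) ((hσ' _).trans (Category.id_comp _).symm)
    have e : u₁ = u₂ := HensSec7.section_unique hP p (pullback.lift_snd _ _ _) (pullback.lift_snd _ _ _) (by
      let m := pullback.snd i (pullback.fst h h ≫ h)
      let t := pullback.fst i (pullback.fst h h ≫ h)
      have ey₀ : (m ≫ pullback.fst h h) ≫ h = t ≫ i := by
        rw [Category.assoc]; exact pullback.condition.symm
      have ey₁ : (m ≫ pullback.snd h h) ≫ h = t ≫ i := by
        rw [Category.assoc, ← pullback.condition]; exact pullback.condition.symm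
      refine pullback.hom_ext ?_ (by rw [Category.assoc, Category.assoc, pullback.lift_snd, pullback.lift_snd])
      rw [Category.assoc, Category.assoc, pullback.lift_fst, pullback.lift_fst]
      have c1 := congrArg Subtype.val (cu.comp (i := PUnit.unit) (k := PUnit.unit) t _ _ ey₀ ey₁)
      rw [hcu t _ ey₁] at c1
      refine Eq.trans ?_ (c1.trans (Category.assoc _ _ _))
      exact (E.φ_natural m (i := PUnit.unit) (j := PUnit.unit) _ _ pullback.condition _ _ rfl rfl
        (by rw [ey₀, ey₁]) w₀ _ ((hcu t _ ey₀).trans (Category.assoc _ _ _))).symm)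
    have := congrArg (· ≫ pullback.fst _ _) e
    simpa [u₁, u₂] using this
  refine ⟨{ pt := fun T t i y _ => ⟨y ≫ σ, hσ' y⟩
            nat := fun T T' r t i y _ t' y' _ hy _ => by
              show y' ≫ σ = r ≫ y ≫ σ
              rw [← hy, Category.assoc]
            comp := fun T t i k y y' e e' => ?_ }, Compat.ext fun T t j y e => ?_⟩
  · refine Subtype.ext ?_
    have q₀ : pullback.lift y y' (e.trans e'.symm) ≫ pullback.fst h h = y := pullback.lift_fst _ _ _
    have q₁ : pullback.lift y y' (e.trans e'.symm) ≫ pullback.snd h h = y' := pullback.lift_snd _ _ _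
    show (E.φ (i := PUnit.unit) (j := PUnit.unit) y y' _ ⟨y ≫ σ, hσ' y⟩).1 = y' ≫ σ
    rw [E.φ_natural (pullback.lift y y' (e.trans e'.symm)) (i := PUnit.unit) (j := PUnit.unit) _ _
      pullback.condition y y' q₀ q₁ (e.trans e'.symm) w₀ ⟨y ≫ σ, hσ' y⟩
      ((congrArg (· ≫ σ) q₀.symm).trans (Category.assoc _ _ _)), huniv, reassoc_of% q₁]
  · obtain ⟨⟩ := j
    exact (hcu t y e).symm

/-- Over a strictly henselian base, effectivity off the closed point gives effectivity. -/
theorem etEff_of_finite [IsProper h] [Surjective h] [Etale (E.obj ⟨⟩).hom] [QuasiCompact (E.obj ⟨⟩).hom]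
    [IsSeparated (E.obj ⟨⟩).hom]
    (hEV : ∀ s : Spec (CommRingCat.of B), s ≠ closedPoint B →
      ∃ V : (Spec (CommRingCat.of B)).Opens, s ∈ V ∧ EtEff E V.ι) :
    ∃ W : Over (Spec (CommRingCat.of B)), Etale W.hom ∧
      Nonempty ((toDDFam (fun _ : PUnit.{1} => h)).obj W ≅ E) := by
  have hh := univSubmersive_of_universallyClosed h
  have bc : ∀ {S₁ : Scheme.{u}} (p : S₁ ⟶ Spec (CommRingCat.of B)), SGA1.UnivSubmersive (pullback.snd h p) :=
    fun p => MorphismProperty.pullback_snd (P := MorphismProperty.universally _) _ _ hh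
  let i := HensSec7.closedPointHom B
  haveI : Flat (pullback.fst i h) := by
    haveI : IsReduced (Spec (CommRingCat.of (ResidueField B))) := inferInstance
    infer_instance
  obtain ⟨Uk, hUk, ⟨Jk⟩⟩ : EtEff E i := EtEff.of_fpqc hh (pullback.fst i h) rfl
    (EtEff.comp hh etEff_self (pullback.snd i h) pullback.condition.symm)
  choose V hV Uo hUo hJo using hEV
  obtain ⟨c₀k, huk⟩ := (repBy_pullOne_iff i).1 (repBy_of_iso_etale (bc i) Jk)
  obtain ⟨e, he, hev⟩ := exists_rational_point Uk.hom
  choose c₁ hc₁ using fun u => exists_compat_extend (c₀k.res (e u) i (by rw [← Category.assoc, he, Category.id_comp]))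
  choose Co hCo hCoV using fun s (hs : s ≠ closedPoint B) => exists_chart_of_repOn
    ((repBy_pullOne_iff (V s hs).ι).1 (repBy_of_iso_etale (bc (V s hs).ι) (hJo s hs).some))
  choose Cu hCu hCuA using fun u => exists_chart_of_section hh (c₁ u)
  let C : {s : Spec (CommRingCat.of B) // s ≠ closedPoint B} ⊕ Uk.left → Chart E :=
    fun o => o.elim (fun s => Co s.1 s.2) Cu
  have hcover : ∀ ⦃T : Scheme.{u}⦄ ⦃s : T ⟶ Spec (CommRingCat.of B)⦄ (c : Compat E s) (x : T),
      ∃ o, x ∈ (C o).O c := by
    intro T s c x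
    by_cases hx : s x = closedPoint B
    swap
    · exact ⟨.inl ⟨_, hx⟩, hCoV _ hx c x (hV _ hx)⟩
    let w := T.fromSpecResidueField x ≫ s
    haveI : Surjective (pullback.fst w i) := ⟨fun y => by
      have : w y ∈ Set.range i := by
        rw [HensSec7.range_closedPointHom_eq]
        show s (T.fromSpecResidueField x y) = _
        rw [Scheme.fromSpecResidueField_apply]
        exact hx
      obtain ⟨z, hz⟩ := this
      obtain ⟨p, hp, -⟩ := Scheme.Pullback.exists_preimage_pullback y z hz.symm
      exact ⟨p, hp⟩⟩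
    haveI : IsIso (pullback.fst w i) := isIso_of_isClosedImmersion_of_surjective _
    let l := inv (pullback.fst w i) ≫ pullback.snd w i
    have hl : l ≫ i = w := by rw [Category.assoc, ← pullback.condition, IsIso.inv_hom_id_assoc]
    obtain ⟨q, hq, -⟩ := huk l (c.res (T.fromSpecResidueField x) (l ≫ i) hl.symm)
    obtain ⟨u, hu⟩ := hev (K := T.residueField x) q.1
    refine ⟨.inr u, ?_⟩
    obtain ⟨r⟩ : Nonempty (pullback w h : Scheme.{u}) := by
      obtain ⟨r, -⟩ := (pullback.fst w h).surjective (closedPoint (T.residueField x))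
      exact ⟨r⟩
    let ρ := (pullback w h).fromSpecResidueField r
    let t := ρ ≫ pullback.fst w h
    let y := ρ ≫ pullback.snd w h
    have hy : y ≫ h = (t ≫ T.fromSpecResidueField x) ≫ s := by
      simp only [y, t, Category.assoc]; rw [← pullback.condition]
    let z : Spec ((pullback w h).residueField r) ⟶ pullback s h :=
      pullback.lift (t ≫ T.fromSpecResidueField x) y hy.symm
    have hfst : pullback.fst s h (z (closedPoint _)) = x := by
      rw [← Scheme.Hom.comp_apply, pullback.lift_fst]
      exact Scheme.fromSpecResidueField_apply x _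
    rw [← hfst]
    refine hCuA u c _ ((agreeAt_iff_of_field _ _ (K := (pullback w h).residueField r) z _ rfl).1 ?_)
    have hn : ∀ d : Compat E s, z ≫ ptA d = (d.pt (i := PUnit.unit) (t ≫ T.fromSpecResidueField x) y hy).1 :=
      fun d => (d.nat (i := PUnit.unit) z _ _ pullback.condition.symm _ _ (pullback.lift_fst _ _ _)
        (pullback.lift_snd _ _ _) hy).symm
    rw [hn, hn]
    have hyl : y ≫ h = t ≫ l ≫ i := by rw [hy, hl, Category.assoc]
    have e0 := congrArg (fun d : Compat E (l ≫ i) => (d.pt (i := PUnit.unit) t y hyl).1) hq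
    have e1 := congrArg (fun d : Compat E i =>
      (d.pt (i := PUnit.unit) (t ≫ l) y (by rw [Category.assoc]; exact hyl)).1) (hc₁ u)
    refine e0.symm.trans (Eq.trans ?_ ((e1.symm).trans ((c₁ u).pt_congr ?_ rfl _ _)))
    · refine c₀k.pt_congr ?_ rfl _ _
      have hq2 : q.1 ≫ Uk.hom = l := q.2
      rw [Category.assoc]
      exact congrArg (t ≫ ·) (hu.symm.trans (congrArg (· ≫ e u) hq2))
    · rw [Category.assoc]
      exact (congrArg (t ≫ ·) hl).trans (Category.assoc _ _ _).symm
  obtain ⟨W, c₀, huW⟩ := rep_of_charts (C := C) hcover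
  refine ⟨W, etale_of_charts C (fun o => ?_) huW (fun x => hcover c₀ x), iso_of_repBy ⟨c₀, huW⟩⟩
  cases o with
  | inl s =>
    show Etale (Co s.1 s.2).U.hom
    rw [hCo]
    haveI := hUo s.1 s.2
    exact inferInstanceAs (Etale ((Uo s.1 s.2).hom ≫ (V s.1 s.2).ι))
  | inr u =>
    show Etale (Cu u).U.hom
    rw [hCu]
    exact inferInstanceAs (Etale (𝟙 _))

end Groth.Agent.DescLib
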