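import Groth.Agent.Hensel.Colim
import Groth.Agent.Hensel.Henselization
import Groth.Agent.Hensel.Local
import Mathlib.AlgebraicGeometry.AffineSpace
import Mathlib.AlgebraicGeometry.Morphisms.UniversallyOpen

/-!
# A henselian local ring with prescribed residue field, as a limit of universally open schemes over the base

For a map from a ring `R` to a field `K`, the henselization `B` of `R[X_a : a ∈ K] → K` is a henselian local ring
with residue field `K`, and `Spec B` is a cofiltered limit of affine schemes universally open over `Spec R`.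
-/

universe u

set_option autoImplicit false
set_option backward.isDefEq.respectTransparency false
set_option backward.isDefEq.respectTransparency.types false
set_option linter.style.haveILetI false

open CategoryTheory CategoryTheory.Limits AlgebraicGeometry Opposite IsLocalRing
open Groth.Agent.Hensel

namespace Groth.Agent.DescLib.GeoStage

variable {R K : Type u} [CommRing R] [Field K]

section base

variable (R K)

theorem universallyOpen_C : UniversallyOpen (Spec.map (CommRingCat.ofHom
    (MvPolynomial.C : R →+* MvPolynomial K R))) := by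
  rw [← AffineSpace.SpecIso_inv_over (n := K) (CommRingCat.of R)]
  haveI : UniversallyOpen (𝔸(K; Spec (CommRingCat.of R)) ↘ Spec (CommRingCat.of R)) :=
    ⟨fun X' Y' a b f' sq => by
      show IsOpenMap f'
      rw [← sq.flip.isoIsPullback_hom_snd _ _ (AffineSpace.isPullback_map b)]
      exact (AffineSpace.isOpenMap_over Y').comp (sq.flip.isoIsPullback _ _ (AffineSpace.isPullback_map b)).hom.homeomorph.isOpenMap⟩
  infer_instance

variable [Algebra (MvPolynomial K R) K]

instance isLocalRing : IsLocalRing (Henz (MvPolynomial K R) K) :=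
  haveI : Nontrivial (Henz (MvPolynomial K R) K) :=
    (Henz.proj (MvPolynomial K R) K).toRingHom.domain_nontrivial
  .of_nonunits_add fun a b ha hb => by
    simp only [mem_nonunits_iff, Henz.isUnit_iff, isUnit_iff_ne_zero, not_not] at ha hb ⊢
    rw [map_add, ha, hb, add_zero]

theorem maximalIdeal_eq : maximalIdeal (Henz (MvPolynomial K R) K) =
    RingHom.ker (Henz.proj (MvPolynomial K R) K) := by
  ext x
  rw [IsLocalRing.mem_maximalIdeal, mem_nonunits_iff, Henz.isUnit_iff, isUnit_iff_ne_zero, not_not,
    RingHom.mem_ker]

instance henselian : HenselianLocalRing (Henz (MvPolynomial K R) K) :=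
  haveI : HenselianRing (Henz (MvPolynomial K R) K) (maximalIdeal (Henz (MvPolynomial K R) K)) := by
    rw [maximalIdeal_eq]; exact Henz.henselianRing
  henselianLocalRing_of_henselianRing _

/-- The stages. -/
noncomputable def diag : (NbhdCat (MvPolynomial K R) K)ᵒᵖ ⥤ Scheme.{u} :=
  (nbhdDiagram (MvPolynomial K R) K ⋙ Under.forget _).op ⋙ Scheme.Spec

/-- The cone of the henselian local ring. -/
noncomputable def cone : Cone (diag R K) :=
  Scheme.Spec.mapCone ((Under.forget _).mapCocone (nbhdCocone (MvPolynomial K R) K)).op

/-- It is a limit. -/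
noncomputable def isLimit : IsLimit (cone R K) :=
  haveI : IsConnected (NbhdCat (MvPolynomial K R) K) := IsFiltered.isConnected _
  isLimitOfPreserves Scheme.Spec
    (isColimitOfPreserves (Under.forget _) (isColimitNbhdCocone (MvPolynomial K R) K)).op

instance (i j : (NbhdCat (MvPolynomial K R) K)ᵒᵖ) (f : i ⟶ j) : IsAffineHom ((diag R K).map f) :=
  inferInstanceAs (IsAffineHom (Spec.map _))

instance (i : (NbhdCat (MvPolynomial K R) K)ᵒᵖ) : IsAffine ((diag R K).obj i) :=
  inferInstanceAs (IsAffine (Spec _))

/-- The structure map of a stage. -/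
noncomputable def toBase (i : (NbhdCat (MvPolynomial K R) K)ᵒᵖ) : (diag R K).obj i ⟶ Spec (CommRingCat.of R) :=
  Spec.map (CommRingCat.ofHom (algebraMap (MvPolynomial K R) i.unop.N.B)) ≫
    Spec.map (CommRingCat.ofHom (MvPolynomial.C : R →+* MvPolynomial K R))

instance (i : (NbhdCat (MvPolynomial K R) K)ᵒᵖ) : UniversallyOpen (toBase R K i) := by
  haveI : Etale (Spec.map (CommRingCat.ofHom (algebraMap (MvPolynomial K R) i.unop.N.B))) := by
    rw [HasRingHomProperty.Spec_iff (P := @Etale)]
    exact RingHom.etale_algebraMap.2 inferInstance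
  haveI := universallyOpen_C R K
  exact inferInstanceAs (UniversallyOpen (_ ≫ _))

theorem map_toBase {i j : (NbhdCat (MvPolynomial K R) K)ᵒᵖ} (f : i ⟶ j) :
    (diag R K).map f ≫ toBase R K j = toBase R K i := by
  show Spec.map _ ≫ Spec.map _ ≫ Spec.map _ = Spec.map _ ≫ Spec.map _
  rw [← Category.assoc, ← Spec.map_comp]
  congr 2
  refine CommRingCat.hom_ext (RingHom.ext fun r => ?_)
  exact f.unop.1.commutes _

/-- The structure map of the henselian local ring. -/
noncomputable def limToBase : (cone R K).pt ⟶ Spec (CommRingCat.of R) :=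
  Spec.map (CommRingCat.ofHom (algebraMap (MvPolynomial K R) (Henz (MvPolynomial K R) K))) ≫
    Spec.map (CommRingCat.ofHom (MvPolynomial.C : R →+* MvPolynomial K R))

theorem π_toBase (i : (NbhdCat (MvPolynomial K R) K)ᵒᵖ) : (cone R K).π.app i ≫ toBase R K i = limToBase R K := by
  show Spec.map _ ≫ Spec.map _ ≫ Spec.map _ = Spec.map _ ≫ Spec.map _
  rw [← Category.assoc, ← Spec.map_comp]
  congr 2
  refine CommRingCat.hom_ext (RingHom.ext fun r => ?_)
  exact (Henz.ofB i.unop.N).commutes _

end base

variable (φ : R →+* K)

/-- The evaluation at all elements of the field. -/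
noncomputable abbrev evalAlg : Algebra (MvPolynomial K R) K := (MvPolynomial.eval₂Hom φ id).toAlgebra

theorem exists_residue_equiv : letI := evalAlg φ
    ∃ e : ResidueField (Henz (MvPolynomial K R) K) ≃+* K,
      ∀ r, e (residue _ (algebraMap (MvPolynomial K R) _ (MvPolynomial.C r))) = φ r := by
  letI := evalAlg φ
  let p := (Henz.proj (MvPolynomial K R) K).toRingHom
  let f : ResidueField (Henz (MvPolynomial K R) K) →+* K :=
    Ideal.Quotient.lift _ p fun a ha => by
      rw [maximalIdeal_eq] at ha
      exact ha
  have hs : Function.Surjective f := fun x => ⟨residue _ (algebraMap _ _ (MvPolynomial.X x)), by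
    show p _ = x
    rw [show p _ = algebraMap (MvPolynomial K R) K (MvPolynomial.X x) from AlgHom.commutes _ _]
    exact MvPolynomial.eval₂_X φ id x⟩
  refine ⟨RingEquiv.ofBijective f ⟨f.injective, hs⟩, fun r => ?_⟩
  rw [RingEquiv.ofBijective_apply,
    show f (residue _ (algebraMap (MvPolynomial K R) _ (MvPolynomial.C r))) =
      p (algebraMap (MvPolynomial K R) _ (MvPolynomial.C r)) from rfl]
  rw [show p _ = algebraMap (MvPolynomial K R) K (MvPolynomial.C r) from AlgHom.commutes _ _]
  exact MvPolynomial.eval₂_C φ id r

end Groth.Agent.DescLib.GeoStage
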