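import Groth.Agent.DescLib.EtSpread
import Groth.Agent.Pi1Ext.SpreadLim
import Groth.Agent.S5132

/-!
# Etale effectivity near a point and over the local ring
-/

universe w u

set_option autoImplicit false
set_option backward.isDefEq.respectTransparency false
set_option backward.isDefEq.respectTransparency.types false
set_option linter.style.haveILetI false

open CategoryTheory CategoryTheory.Limits AlgebraicGeometry Opposite Desc
open Groth.Agent.Pi1Ext.SpreadLim

namespace Groth.Agent.DescLib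

variable {S : Scheme.{u}}

/-- Restricting a representing scheme along a further map. -/
theorem RepOnBy.comp {ι : Type w} {X : ι → Scheme.{u}} {f : ∀ i, X i ⟶ S} {D : SchDDFam f} {S₁ S₂ : Scheme.{u}}
    {j : S₁ ⟶ S} {U : Over S₁} (h : RepOnBy D j U) (l : S₂ ⟶ S₁) :
    RepOnBy D (l ≫ j) (Over.mk (pullback.snd U.hom l)) := by
  obtain ⟨c₀, hu⟩ := h
  have he : pullback.fst U.hom l ≫ U.hom ≫ j = pullback.snd U.hom l ≫ l ≫ j := pullback.condition_assoc _
  refine ⟨c₀.res (pullback.fst U.hom l) _ he, fun T x c => ?_⟩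
  obtain ⟨q, hq, huniq⟩ := hu (x ≫ l) (c.res (𝟙 T) ((x ≫ l) ≫ j) (by simp))
  have key : ∀ (r : Lifts (Over.mk (pullback.snd U.hom l)) x)
      (e₁ : r.1 ≫ pullback.snd U.hom l ≫ l ≫ j = x ≫ l ≫ j)
      (e₂ : (r.1 ≫ pullback.fst U.hom l) ≫ U.hom ≫ j = (x ≫ l) ≫ j),
      ((c₀.res (pullback.fst U.hom l) _ he).res r.1 (x ≫ l ≫ j) e₁).res (𝟙 T) ((x ≫ l) ≫ j) (by simp) =
        c₀.res (r.1 ≫ pullback.fst U.hom l) ((x ≫ l) ≫ j) e₂ := fun r e₁ e₂ => by
    rw [Compat.res_res _ _ _ _ _ _ _ r.1 (Category.id_comp _) (by rw [e₁, Category.assoc])]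
    exact Compat.res_res _ _ _ _ _ _ _ _ rfl _
  have back : ∀ z : Compat D (x ≫ l ≫ j),
      (z.res (𝟙 T) ((x ≫ l) ≫ j) (by simp)).res (𝟙 T) (x ≫ l ≫ j) (by simp) = z := fun z => by
    rw [Compat.res_res _ _ _ _ _ _ _ (𝟙 T) (Category.id_comp _) (by simp)]
    exact Compat.res_id _ _
  refine ⟨⟨pullback.lift q.1 x q.2, pullback.lift_snd _ _ _⟩, ?_, fun r hr => ?_⟩
  · refine ((back _).symm.trans ?_).trans (back c)
    refine congrArg (fun z : Compat D ((x ≫ l) ≫ j) => z.res (𝟙 T) (x ≫ l ≫ j) (by simp)) ?_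
    refine (key ⟨pullback.lift q.1 x q.2, pullback.lift_snd _ _ _⟩ _
      (by simp only [pullback.lift_fst]; rw [← Category.assoc, q.2])).trans ?_
    exact (Compat.res_congr _ (pullback.lift_fst _ _ _) _ _ (by rw [← Category.assoc, q.2])).trans hq
  · have hr' : r.1 ≫ pullback.snd U.hom l = x := r.2
    have e₂ : (r.1 ≫ pullback.fst U.hom l) ≫ U.hom = x ≫ l := by
      rw [Category.assoc, pullback.condition, ← Category.assoc, hr']
    have e' := congrArg Subtype.val (huniq ⟨_, e₂⟩ ((key r _ (by rw [← Category.assoc, e₂])).symm.trans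
      (congrArg (fun z : Compat D (x ≫ l ≫ j) => z.res (𝟙 T) ((x ≫ l) ≫ j) (by simp)) hr)))
    exact Subtype.ext (pullback.hom_ext (e'.trans (pullback.lift_fst _ _ _).symm)
      (hr'.trans (pullback.lift_snd _ _ _).symm))

variable {X : Scheme.{u}} {g : X ⟶ S} {D : SchDDFam (fun _ : PUnit.{1} => g)}

/-- Etale effectivity of the datum pulled back along `p`. -/
abbrev EtEff (D : SchDDFam (fun _ : PUnit.{1} => g)) {S₁ : Scheme.{u}} (p : S₁ ⟶ S) : Prop :=
  ∃ U : Over S₁, Etale U.hom ∧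
    Nonempty ((toDDFam (fun _ : PUnit.{1} => pullback.snd g p)).obj U ≅ pullOne p D)

/-- Etale effectivity is stable under further base change. -/
theorem EtEff.comp (hg : SGA1.UnivSubmersive g) {S₁ S₂ : Scheme.{u}} {p : S₁ ⟶ S} (h : EtEff D p)
    (l : S₂ ⟶ S₁) {p' : S₂ ⟶ S} (e : l ≫ p = p') : EtEff D p' := by
  obtain ⟨U, hU, ⟨I⟩⟩ := h
  subst e
  have hg' : SGA1.UnivSubmersive (pullback.snd g p) :=
    MorphismProperty.pullback_snd (P := MorphismProperty.universally _) _ _ hg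
  obtain ⟨J⟩ := iso_of_repBy ((repBy_pullOne_iff _).2
    (((repBy_pullOne_iff p).1 (repBy_of_iso_etale hg' I)).comp l))
  exact ⟨Over.mk (pullback.snd U.hom l), MorphismProperty.pullback_snd _ _ hU, ⟨J⟩⟩

/-- Etale effectivity over the local ring spreads to a neighbourhood. -/
theorem exists_nhd_etEff (hg : SGA1.UnivSubmersive g) [QuasiCompact g]
    [QuasiSeparated g] [Etale (D.obj ⟨⟩).hom] [QuasiCompact (D.obj ⟨⟩).hom] [QuasiSeparated (D.obj ⟨⟩).hom]
    (a : S) (h : EtEff D (S.fromSpecStalk a)) : ∃ W : S.Opens, a ∈ W ∧ EtEff D W.ι := by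
  obtain ⟨U, hU, ⟨J⟩⟩ := h
  let p := S.fromSpecStalk a
  have hg' : SGA1.UnivSubmersive (pullback.snd g p) :=
    MorphismProperty.pullback_snd (P := MorphismProperty.universally _) _ _ hg
  haveI : Surjective (pullback.snd g p) :=
    ⟨(hg _ _ _ (IsPullback.of_hasPullback g p).flip : Topology.IsQuotientMap (pullback.snd g p)).surjective⟩
  let k : pullback (pullback.snd g p) U.hom ⟶ pullback (D.obj ⟨⟩).hom (pullback.fst g p) :=
    (J.hom.hom ⟨⟩).left
  have hk : k ≫ pullback.snd _ _ = pullback.fst (pullback.snd g p) U.hom := Over.w (J.hom.hom ⟨⟩)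
  haveI : IsIso k := ⟨(J.inv.hom ⟨⟩).left,
    congrArg CommaMorphism.left (congrFun (congrArg SchDDFam.Hom.hom J.hom_inv_id) ⟨⟩),
    congrArg CommaMorphism.left (congrFun (congrArg SchDDFam.Hom.hom J.inv_hom_id) ⟨⟩)⟩
  haveI := S5132.result.{u}
  haveI : QuasiCompact U.hom :=
    MorphismProperty.of_pullback_fst_of_descendsAlong (P := @QuasiCompact)
      (Q := (@Surjective ⊓ @QuasiCompact : MorphismProperty Scheme.{u})) (f := pullback.snd g p)
      ⟨inferInstance, inferInstance⟩ (by rw [← hk]; infer_instance)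
  haveI : QuasiSeparated U.hom := by
    haveI : MorphismProperty.DescendsAlong @QuasiSeparated
        (@Surjective ⊓ @QuasiCompact : MorphismProperty Scheme.{u}) := by
      rw [quasiSeparated_eq_diagonal_is_quasiCompact]
      infer_instance
    exact MorphismProperty.of_pullback_fst_of_descendsAlong (P := @QuasiSeparated)
      (Q := (@Surjective ⊓ @QuasiCompact : MorphismProperty Scheme.{u})) (f := pullback.snd g p)
      ⟨inferInstance, inferInstance⟩ (by rw [← hk]; infer_instance)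
  obtain ⟨i, V, hV, hI⟩ := EtSpread.exists_stage_effective (D := D) (c := cone S a) (τ := toX S a) (p := p)
    (U := U) (fun i j φ => map_toX S a φ) (isLimit S a) (fun i => π_toX S a i) J
  refine ⟨i.1, i.2.2, EtEff.comp hg (p := toX S a i) ⟨V, hV, hI⟩ i.2.1.isoSpec.hom ?_⟩
  show i.2.1.isoSpec.hom ≫ i.2.1.isoSpec.inv ≫ i.1.ι = i.1.ι
  rw [Iso.hom_inv_id_assoc]

/-- Etale effectivity near a point is etale effectivity over the local ring. -/
theorem nhd_etEff_iff (hg : SGA1.UnivSubmersive g) [QuasiCompact g]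
    [QuasiSeparated g] [Etale (D.obj ⟨⟩).hom] [QuasiCompact (D.obj ⟨⟩).hom] [QuasiSeparated (D.obj ⟨⟩).hom]
    (a : S) : (∃ W : S.Opens, a ∈ W ∧ EtEff D W.ι) ↔ EtEff D (S.fromSpecStalk a) :=
  ⟨fun ⟨W, ha, h⟩ => h.comp hg (W.fromSpecStalkOfMem a ha) (W.fromSpecStalkOfMem_ι a ha),
    exists_nhd_etEff hg a⟩

end Groth.Agent.DescLib
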