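import Groth.Agent.SGA1Q.Subm
import Groth.Agent.S5128
import Groth.Agent.Pi1X.FEtBasic
import Mathlib.AlgebraicGeometry.Morphisms.UniversallyInjective

/-!
# Descent of morphisms into etale schemes along submersive maps
-/

set_option autoImplicit false
set_option backward.isDefEq.respectTransparency false
set_option backward.isDefEq.respectTransparency.types false
universe u
open CategoryTheory CategoryTheory.Limits AlgebraicGeometry

namespace Groth.Agent.DescLib

/-- `S3709` with the submersiveness hypotheses it uses. -/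
theorem existsUnique_descend_etale {S S' X Y : Scheme.{u}} (g : S' ⟶ S)
    (p : X ⟶ S) (q : Y ⟶ S) [Etale q] (hs : Function.Surjective (pullback.fst p g))
    (hq : Topology.IsQuotientMap (pullback.snd g (pullback.fst p q ≫ p)))
    (f' : pullback p g ⟶ pullback q g) (hf' : f' ≫ pullback.snd q g = pullback.snd p g)
    (hcoc : pullback.map p (pullback.fst g g ≫ g) p g (𝟙 X) (pullback.fst g g) (𝟙 S)
        ((Category.comp_id _).trans (Category.id_comp _).symm) (Category.comp_id _) ≫ f' ≫ pullback.fst q g =
      pullback.map p (pullback.fst g g ≫ g) p g (𝟙 X) (pullback.snd g g) (𝟙 S)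
        ((Category.comp_id _).trans (Category.id_comp _).symm) ((Category.comp_id _).trans pullback.condition) ≫
        f' ≫ pullback.fst q g) :
    ∃! u : X ⟶ Y, u ≫ q = p ∧ f' ≫ pullback.fst q g = pullback.fst p g ≫ u := by
  let h : pullback p g ⟶ X := pullback.fst p g
  let u' : pullback p g ⟶ Y := f' ≫ pullback.fst q g
  have hu' : u' ≫ q = h ≫ p := by
    show (f' ≫ pullback.fst q g) ≫ q = pullback.fst p g ≫ p
    rw [Category.assoc, pullback.condition, reassoc_of% hf', pullback.condition]
  -- the cocycle condition on test schemes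
  have hc : ∀ {W : Scheme.{u}} (τ σ : W ⟶ pullback p g), τ ≫ h = σ ≫ h → τ ≫ u' = σ ≫ u' := by
    intro W τ σ e
    have hl : (τ ≫ pullback.snd p g) ≫ g = (σ ≫ pullback.snd p g) ≫ g := by
      rw [Category.assoc, Category.assoc, ← pullback.condition, reassoc_of% e]
    let l : W ⟶ pullback g g := pullback.lift (τ ≫ pullback.snd p g) (σ ≫ pullback.snd p g) hl
    have hl1 : l ≫ pullback.fst g g = τ ≫ pullback.snd p g := pullback.lift_fst _ _ _
    have hl2 : l ≫ pullback.snd g g = σ ≫ pullback.snd p g := pullback.lift_snd _ _ _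
    let ε : W ⟶ pullback p (pullback.fst g g ≫ g) := pullback.lift (τ ≫ pullback.fst p g) l (by
      rw [← Category.assoc l, hl1, Category.assoc, Category.assoc, pullback.condition])
    have hε1 : ε ≫ pullback.fst p (pullback.fst g g ≫ g) = τ ≫ pullback.fst p g :=
      pullback.lift_fst _ _ _
    have hε2 : ε ≫ pullback.snd p (pullback.fst g g ≫ g) = l := pullback.lift_snd _ _ _
    have e1 : ε ≫ pullback.map p (pullback.fst g g ≫ g) p g (𝟙 X) (pullback.fst g g) (𝟙 S)
        ((Category.comp_id _).trans (Category.id_comp _).symm) (Category.comp_id _) = τ := by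
      apply pullback.hom_ext
      · rw [Category.assoc]
        erw [pullback.lift_fst]
        rw [Category.comp_id, hε1]
      · rw [Category.assoc]
        erw [pullback.lift_snd]
        rw [reassoc_of% hε2, hl1]
    have e2 : ε ≫ pullback.map p (pullback.fst g g ≫ g) p g (𝟙 X) (pullback.snd g g) (𝟙 S)
        ((Category.comp_id _).trans (Category.id_comp _).symm)
        ((Category.comp_id _).trans pullback.condition) = σ := by
      apply pullback.hom_ext
      · rw [Category.assoc]
        erw [pullback.lift_fst]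
        rw [Category.comp_id, hε1]
        exact e
      · rw [Category.assoc]
        erw [pullback.lift_snd]
        rw [reassoc_of% hε2, hl2]
    have h' := congrArg (fun t => ε ≫ t) hcoc
    beta_reduce at h'
    rw [reassoc_of% e1, reassoc_of% e2] at h'
    exact h'
  haveI hsurj : Surjective h := ⟨hs⟩
  let P := pullback p q
  let P' := pullback h (pullback.fst p q)
  let π : P' ⟶ P := pullback.snd h (pullback.fst p q)
  have hπ : Topology.IsQuotientMap π.base := by
    have sq := (IsPullback.of_hasPullback h (pullback.fst p q)).paste_horiz (IsPullback.of_hasPullback p g).flip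
    rw [show π = sq.isoPullback.hom ≫ pullback.snd g (pullback.fst p q ≫ p) from sq.isoPullback_hom_snd.symm]
    exact hq.comp sq.isoPullback.hom.homeomorph.isQuotientMap
  let γ : pullback p g ⟶ P' :=
    pullback.lift (𝟙 _) (pullback.lift h u' hu'.symm)
      ((Category.id_comp h).trans (pullback.lift_fst _ _ _).symm)
  haveI : Etale γ := MorphismProperty.of_postcomp (W := @Etale) (W' := @Etale) γ
    (pullback.fst h (pullback.fst p q)) inferInstance (by
      erw [pullback.lift_fst]
      infer_instance)
  haveI : Mono γ := mono_of_mono_fac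
    (show γ ≫ pullback.fst h (pullback.fst p q) = 𝟙 _ from pullback.lift_fst _ _ _)
  haveI : IsOpenImmersion γ := IsOpenImmersion.of_flat_of_mono γ
  have hγπ : γ ≫ π = pullback.lift h u' hu'.symm := pullback.lift_snd _ _ _
  have hγ1 : γ ≫ pullback.fst h (pullback.fst p q) = 𝟙 _ := pullback.lift_fst _ _ _
  -- saturation
  have hsat : π.base ⁻¹' (π.base '' Set.range γ.base) = Set.range γ.base := by
    refine Set.Subset.antisymm ?_ (Set.subset_preimage_image _ _)
    rintro b ⟨_, ⟨x₁, rfl⟩, e⟩
    obtain ⟨z, hz₁, hz₂⟩ := Scheme.Pullback.exists_preimage_pullback (f := γ ≫ π) (g := π) x₁ b e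
    let τ : pullback (γ ≫ π) π ⟶ pullback p g := pullback.fst _ _
    let σ : pullback (γ ≫ π) π ⟶ pullback p g :=
      pullback.snd (γ ≫ π) π ≫ pullback.fst h (pullback.fst p q)
    have hcond : τ ≫ γ ≫ π = pullback.snd (γ ≫ π) π ≫ π := pullback.condition
    have hτσ : τ ≫ h = σ ≫ h := by
      have h1 := congrArg (fun t => t ≫ pullback.fst p q) hcond
      simp only [Category.assoc, reassoc_of% hγπ, pullback.lift_fst] at h1
      rw [h1]
      show _ = (pullback.snd (γ ≫ π) π ≫ pullback.fst h (pullback.fst p q)) ≫ h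
      rw [Category.assoc, pullback.condition]
    have hb : pullback.snd (γ ≫ π) π = σ ≫ γ := by
      apply pullback.hom_ext
      · rw [Category.assoc, hγ1, Category.comp_id]
      · show pullback.snd (γ ≫ π) π ≫ π = (σ ≫ γ) ≫ π
        rw [← hcond]
        show τ ≫ γ ≫ π = (σ ≫ γ) ≫ π
        rw [Category.assoc]
        refine (congrArg (τ ≫ ·) hγπ).trans (Eq.trans ?_ (congrArg (σ ≫ ·) hγπ).symm)
        show τ ≫ pullback.lift h u' hu'.symm = σ ≫ pullback.lift h u' hu'.symm
        apply pullback.hom_ext
        · refine (Category.assoc _ _ _).trans (Eq.trans ?_ (Category.assoc _ _ _).symm)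
          exact (congrArg (τ ≫ ·) (pullback.lift_fst _ _ _)).trans
            (hτσ.trans (congrArg (σ ≫ ·) (pullback.lift_fst _ _ _)).symm)
        · refine (Category.assoc _ _ _).trans (Eq.trans ?_ (Category.assoc _ _ _).symm)
          exact (congrArg (τ ≫ ·) (pullback.lift_snd _ _ _)).trans
            ((hc τ σ hτσ).trans (congrArg (σ ≫ ·) (pullback.lift_snd _ _ _)).symm)
    exact ⟨σ z, (congr(($hb).base z)).symm.trans hz₂⟩
  let Γ : P.Opens := ⟨π.base '' Set.range γ.base, by
    rw [← hπ.isOpen_preimage, hsat]; exact γ.isOpenEmbedding.isOpen_range⟩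
  have hfac : ∀ {W : Scheme.{u}} (t : W ⟶ P'), Set.range (t ≫ π).base ⊆ Γ →
      t = (t ≫ pullback.fst h (pullback.fst p q)) ≫ γ := by
    intro W t ht
    have hr : Set.range t.base ⊆ Set.range γ.base := by
      rintro _ ⟨w, rfl⟩
      rw [← hsat]
      exact ht ⟨w, rfl⟩
    have e := IsOpenImmersion.lift_fac γ t hr
    conv_rhs => rw [← e]
    rw [Category.assoc, Category.assoc, reassoc_of% hγ1]
    exact e.symm
  haveI : Surjective (Γ.ι ≫ pullback.fst p q) := by
    refine ⟨fun x => ?_⟩
    obtain ⟨x', rfl⟩ := h.surjective x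
    refine ⟨⟨π (γ x'), ⟨γ x', ⟨x', rfl⟩, rfl⟩⟩, ?_⟩
    show pullback.fst p q (π (γ x')) = h x'
    rw [← Scheme.Hom.comp_apply γ π, hγπ, ← Scheme.Hom.comp_apply, pullback.lift_fst]
  haveI hUI : UniversallyInjective (Γ.ι ≫ pullback.fst p q) := by
    rw [UniversallyInjective.iff_diagonal]
    set e := Γ.ι ≫ pullback.fst p q with he
    let W := pullback (pullback.fst e e ≫ e) h
    let w : W ⟶ pullback e e := pullback.fst _ _
    refine ⟨fun c => ?_⟩
    obtain ⟨x', hx'⟩ := h.surjective ((pullback.fst e e ≫ e) c)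
    obtain ⟨z, hz, -⟩ := Scheme.Pullback.exists_preimage_pullback
      (f := pullback.fst e e ≫ e) (g := h) c x' hx'.symm
    have key : ∀ (s : W ⟶ Γ.toScheme) (hs : s ≫ e = w ≫ pullback.fst e e ≫ e),
        s ≫ Γ.ι = pullback.snd (pullback.fst e e ≫ e) h ≫ γ ≫ π := by
      intro s hs
      let t : W ⟶ P' := pullback.lift (pullback.snd _ _) (s ≫ Γ.ι) (by
        rw [Category.assoc, ← he, hs]; exact pullback.condition.symm)
      have ht : t ≫ π = s ≫ Γ.ι := pullback.lift_snd _ _ _
      have htr : Set.range (t ≫ π).base ⊆ Γ := by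
        rw [ht]
        rintro _ ⟨v, rfl⟩
        exact (s v).2
      have := hfac t htr
      rw [← ht, this, show t ≫ pullback.fst h (pullback.fst p q) = pullback.snd _ _ from
        pullback.lift_fst _ _ _, Category.assoc]
    have heq : w ≫ pullback.fst e e = w ≫ pullback.snd e e := by
      rw [← cancel_mono Γ.ι, key _ (by rw [Category.assoc]),
        key _ (by rw [Category.assoc, ← pullback.condition])]
    refine ⟨(w ≫ pullback.fst e e) z, ?_⟩
    have : (w ≫ pullback.fst e e) ≫ pullback.diagonal e = w := by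
      apply pullback.hom_ext
      · simp
      · rw [Category.assoc, pullback.diagonal_snd, Category.comp_id, heq]
    exact (congr(($this).base z)).trans hz
  obtain ⟨⟨u, hu⟩, hrange, -⟩ := (Groth.Agent.S5128.result p q).2 Γ hUI inferInstance
  have hhu : h ≫ u = u' := by
    let t : pullback p g ⟶ P' := pullback.lift (𝟙 _)
      (h ≫ pullback.lift (𝟙 X) u ((Category.id_comp p).trans hu.symm))
      (by rw [Category.id_comp, Category.assoc, pullback.lift_fst, Category.comp_id])
    have ht : t ≫ π = h ≫ pullback.lift (𝟙 X) u ((Category.id_comp p).trans hu.symm) :=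
      pullback.lift_snd _ _ _
    have htr : Set.range (t ≫ π).base ⊆ Γ := by
      rw [ht]
      rintro _ ⟨v, rfl⟩
      exact hrange.le ⟨h v, rfl⟩
    have e := hfac t htr
    rw [show t ≫ pullback.fst h (pullback.fst p q) = 𝟙 _ from pullback.lift_fst _ _ _,
      Category.id_comp] at e
    have e' := congrArg (fun s => s ≫ π ≫ pullback.snd p q) e
    simp only [reassoc_of% ht, reassoc_of% hγπ, pullback.lift_snd] at e'
    exact e'
  refine ⟨u, ⟨hu, hhu.symm⟩, ?_⟩
  rintro v ⟨hv, hv'⟩
  let X₀ : Over S := Over.mk p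
  let Y₀ : Over S := Over.mk q
  let u₁ : X₀ ⟶ Y₀ := Over.homMk u hu
  let v₁ : X₀ ⟶ Y₀ := Over.homMk v hv
  haveI : FormallyUnramified Y₀.hom := inferInstanceAs (FormallyUnramified q)
  haveI : LocallyOfFiniteType Y₀.hom := inferInstanceAs (LocallyOfFiniteType q)
  haveI := Groth.Agent.Pi1X.isOpenImmersion_equalizer_ι_left v₁ u₁
  let T : Over S := Over.mk (h ≫ p)
  let z : T ⟶ X₀ := Over.homMk h
  have hzz : z ≫ v₁ = z ≫ u₁ := by
    ext1
    show h ≫ v = h ≫ u
    rw [hhu, ← hv']
  haveI : Surjective (equalizer.ι v₁ u₁).left := by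
    refine ⟨fun x => ?_⟩
    obtain ⟨y, hy⟩ := h.surjective x
    refine ⟨(equalizer.lift z hzz).left y, ?_⟩
    rw [← Scheme.Hom.comp_apply, ← Over.comp_left, equalizer.lift_ι]
    exact hy
  haveI : IsIso (equalizer.ι v₁ u₁).left :=
    (isIso_iff_isOpenImmersion_and_surjective _).2 ⟨inferInstance, inferInstance⟩
  rw [← cancel_epi (equalizer.ι v₁ u₁).left]
  exact congr($(equalizer.condition v₁ u₁).left)

end Groth.Agent.DescLib
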