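import Groth.Agent.DescLib.DescEff
import Groth.Agent.DescLib.EtaleHom
import Groth.Agent.EtFound.Descent

/-!
# Representability of compatible families for etale data along universally submersive maps
-/

universe w w' u

set_option autoImplicit false
set_option backward.isDefEq.respectTransparency false
set_option backward.isDefEq.respectTransparency.types false

open CategoryTheory CategoryTheory.Limits AlgebraicGeometry Opposite Desc

namespace Groth.Agent.DescLib

variable {S : Scheme.{u}}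

section general

variable {ι : Type w} {X : ι → Scheme.{u}} {f : ∀ i, X i ⟶ S} {D : SchDDFam f}

/-- `U` represents the compatible families of `D` over schemes over `S'`. -/
def RepOnBy (D : SchDDFam f) {S' : Scheme.{u}} (j : S' ⟶ S) (U : Over S') : Prop :=
  ∃ c₀ : Compat D (U.hom ≫ j), ∀ ⦃T : Scheme.{u}⦄ (x : T ⟶ S') (c : Compat D (x ≫ j)),
    ∃! p : Lifts U x, c₀.res p.1 (x ≫ j) (by rw [← Category.assoc, p.2]) = c

/-- `U` represents the compatible families of `D`. -/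
def RepBy (D : SchDDFam f) (U : Over S) : Prop :=
  ∃ c₀ : Compat D U.hom, ∀ ⦃T : Scheme.{u}⦄ (s : T ⟶ S) (c : Compat D s),
    ∃! p : Lifts U s, c₀.res p.1 s p.2 = c

/-- A representing scheme descends the datum. -/
theorem iso_of_repBy {U : Over S} (h : RepBy D U) : Nonempty ((toDDFam f).obj U ≅ D) := by
  obtain ⟨c₀, hu⟩ := h
  have hl : ∀ {i : ι} {T : Scheme.{u}} (y : T ⟶ X i) (v : Lifts (((toDDFam f).obj U).obj i) y),
      (v.1 ≫ pullback.snd (f i) U.hom) ≫ U.hom = y ≫ f i := fun {i T} y v => by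
    have e : v.1 ≫ pullback.fst (f i) U.hom = y := v.2
    rw [Category.assoc, ← pullback.condition, ← Category.assoc, e]
  have he : ∀ {i : ι} {T : Scheme.{u}} (y : T ⟶ X i), y ≫ f i = 𝟙 T ≫ y ≫ f i :=
    fun y => (Category.id_comp _).symm
  let e : ∀ (i : ι) ⦃T : Scheme.{u}⦄ (y : T ⟶ X i),
      Lifts (((toDDFam f).obj U).obj i) y ≃ Lifts (D.obj i) y := fun i T y =>
    { toFun := fun v => (c₀.res (v.1 ≫ pullback.snd (f i) U.hom) (y ≫ f i) (hl y v)).pt (𝟙 T) y (he y)
      invFun := fun a => ⟨pullback.lift y (hu _ (Compat.ofPoint D a (y ≫ f i) rfl)).choose.1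
          (hu _ (Compat.ofPoint D a (y ≫ f i) rfl)).choose.2.symm, pullback.lift_fst _ _ _⟩
      left_inv := fun v => Subtype.ext (pullback.hom_ext (by
          rw [pullback.lift_fst]; exact v.2.symm) (by
          rw [pullback.lift_snd]
          refine congrArg Subtype.val ((hu _ _).choose_spec.2 ⟨_, hl y v⟩ ?_).symm
          exact (Compat.eq_ofPoint (c₀.res (v.1 ≫ pullback.snd (f i) U.hom) (y ≫ f i) (hl y v)) y (he y)).symm))
      right_inv := fun a => Subtype.ext (by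
        have hp := (hu _ (Compat.ofPoint D a (y ≫ f i) rfl)).choose_spec.1
        refine Eq.trans ?_ (Compat.ofPoint_pt_self a rfl (he y))
        rw [← hp]
        exact c₀.pt_congr (by rw [pullback.lift_snd]) rfl _ _) }
  obtain ⟨I, -⟩ := exists_iso_of_points (A := (toDDFam f).obj U) (B := D) e
    (fun i T T' g x y hy v v' hv => by
      refine c₀.nat g _ x _ _ y ?_ hy _
      rw [hv]; simp)
    (fun T i k x₀ x₁ h v => by
      refine (c₀.comp (𝟙 T ≫ v.1 ≫ pullback.snd (f i) U.hom) x₀ x₁ _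
        (by rw [Category.id_comp, hl x₀ v, h])).trans (Subtype.ext (c₀.pt_congr ?_ rfl _ _))
      simp [toDDFam, canonicalDDFam])
  exact ⟨I⟩

/-- Representability is invariant under isomorphisms of data. -/
theorem repBy_of_iso {D' : SchDDFam f} (I : D ≅ D') {U : Over S} (h : RepBy D U) : RepBy D' U := by
  obtain ⟨c₀, hu⟩ := h
  refine ⟨c₀.map I.hom, fun T s c => ?_⟩
  obtain ⟨p, hp, huniq⟩ := hu s (c.map I.inv)
  refine ⟨p, ?_, fun q hq => huniq q ?_⟩
  · simp only [← Compat.map_res, hp, Compat.map_map, I.inv_hom_id, Compat.map_id]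
  · simp only [← hq, Compat.map_res, Compat.map_map, I.hom_inv_id, Compat.map_id]

/-- Restricting a representing scheme. -/
theorem repOnBy_of_repBy {U : Over S} (h : RepBy D U) {S' : Scheme.{u}} (j : S' ⟶ S) :
    RepOnBy D j (Over.mk (pullback.snd U.hom j)) := by
  obtain ⟨c₀, hu⟩ := h
  refine ⟨c₀.res (pullback.fst U.hom j) _ pullback.condition, fun T x c => ?_⟩
  obtain ⟨p, hp, huniq⟩ := hu (x ≫ j) c
  have key : ∀ q : Lifts (Over.mk (pullback.snd U.hom j)) x, ∀ (e₁ : q.1 ≫ pullback.snd U.hom j ≫ j = x ≫ j)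
      (e₂ : (q.1 ≫ pullback.fst U.hom j) ≫ U.hom = x ≫ j),
      (c₀.res (pullback.fst U.hom j) _ pullback.condition).res q.1 (x ≫ j) e₁ =
        c₀.res (q.1 ≫ pullback.fst U.hom j) (x ≫ j) e₂ := fun q e₁ e₂ =>
    Compat.res_res _ _ _ _ _ _ _ _ rfl _
  refine ⟨⟨pullback.lift p.1 x p.2, pullback.lift_snd _ _ _⟩, ?_, fun q hq => ?_⟩
  · refine (key _ _ (by simpa using p.2)).trans (Eq.trans ?_ hp)
    exact Compat.res_congr _ (pullback.lift_fst _ _ _) _ _ _
  · have e₂ : (q.1 ≫ pullback.fst U.hom j) ≫ U.hom = x ≫ j := by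
      have e : q.1 ≫ pullback.snd U.hom j = x := q.2
      rw [Category.assoc, pullback.condition, ← Category.assoc, e]
    have e' := congrArg Subtype.val (huniq ⟨_, e₂⟩ ((key q _ e₂).symm.trans hq))
    exact Subtype.ext (pullback.hom_ext (e'.trans (pullback.lift_fst _ _ _).symm)
      ((q.2 : q.1 ≫ pullback.snd U.hom j = x).trans (pullback.lift_snd _ _ _).symm))

/-- Representing schemes are unique. -/
theorem RepOnBy.iso {S' : Scheme.{u}} {j : S' ⟶ S} {U U' : Over S'} (h : RepOnBy D j U) (h' : RepOnBy D j U') :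
    Nonempty (U ≅ U') := by
  obtain ⟨c₀, hu⟩ := h
  obtain ⟨d₀, hd⟩ := h'
  obtain ⟨a, ha, -⟩ := hd U.hom c₀
  obtain ⟨b, hb, -⟩ := hu U'.hom d₀
  have hba : a.1 ≫ b.1 = 𝟙 _ := by
    obtain ⟨p, -, hp⟩ := hu U.hom c₀
    have h1 := hp ⟨a.1 ≫ b.1, by rw [Category.assoc, b.2, a.2]⟩ (by
      refine Eq.trans ?_ ha
      rw [← hb]
      exact (Compat.res_res _ _ _ _ _ _ _ _ rfl _).symm)
    exact congrArg Subtype.val (h1.trans (hp ⟨𝟙 _, Category.id_comp _⟩ (Compat.res_id _ _)).symm)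
  have hab : b.1 ≫ a.1 = 𝟙 _ := by
    obtain ⟨p, -, hp⟩ := hd U'.hom d₀
    have h1 := hp ⟨b.1 ≫ a.1, by rw [Category.assoc, a.2, b.2]⟩ (by
      refine Eq.trans ?_ hb
      rw [← ha]
      exact (Compat.res_res _ _ _ _ _ _ _ _ rfl _).symm)
    exact congrArg Subtype.val (h1.trans (hp ⟨𝟙 _, Category.id_comp _⟩ (Compat.res_id _ _)).symm)
  exact ⟨Over.isoMk ⟨a.1, b.1, hba, hab⟩ a.2⟩

lemma prop_of_repOnBy_iso {P : MorphismProperty Scheme.{u}} [P.RespectsIso] {S' : Scheme.{u}} {j : S' ⟶ S}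
    {U U' : Over S'} (h : RepOnBy D j U) (h' : RepOnBy D j U') (hP : P U.hom) : P U'.hom := by
  obtain ⟨e⟩ := h'.iso h
  rw [← Over.w e.hom]
  exact (P.cancel_left_of_respectsIso _ _).2 hP

/-- Compatible families glue along a flat quasi-compact surjection. -/
theorem Compat.exists_glue_single {T₁ T : Scheme.{u}} (π : T₁ ⟶ T) [Surjective π] [Flat π] [QuasiCompact π]
    {s : T ⟶ S} {s₁ : T₁ ⟶ S} (hs₁ : π ≫ s = s₁) (c₁ : Compat D s₁)
    (h : ∀ ⦃T' : Scheme.{u}⦄ (a b : T' ⟶ T₁), a ≫ π = b ≫ π → ∀ ⦃i : ι⦄ (y : T' ⟶ X i)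
      (h₁ : y ≫ f i = a ≫ s₁) (h₂ : y ≫ f i = b ≫ s₁), (c₁.pt a y h₁).1 = (c₁.pt b y h₂).1) :
    ∃ c : Compat D s, c.res π s₁ hs₁ = c₁ := by
  subst hs₁
  have hcov : ∀ {T' : Scheme.{u}} (t : T' ⟶ T), factorSieve (fun _ : PUnit.{u + 1} => π) t ∈ Scheme.fpqcTopology T' :=
    fun t => factorSieve_single_mem π t
  have hp : ∀ ⦃T' : Scheme.{u}⦄ (t : T' ⟶ T) ⦃i : ι⦄ (y : T' ⟶ X i), y ≫ f i = t ≫ s →
      ∃ p : Lifts (D.obj i) y, ∀ ⦃T'' : Scheme.{u}⦄ (r : T'' ⟶ T') (a : T'' ⟶ T₁),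
        a ≫ π = r ≫ t → ∀ hh : (r ≫ y) ≫ f i = a ≫ π ≫ s, r ≫ p.1 = (c₁.pt a (r ≫ y) hh).1 := by
    intro T' t i y hy
    have hR : ∀ ⦃T'' : Scheme.{u}⦄ (r : T'' ⟶ T'), factorSieve (fun _ : PUnit.{u + 1} => π) t r →
        ∃ a : T'' ⟶ T₁, a ≫ π = r ≫ t := fun _ r ⟨_, z, hz⟩ => ⟨z, hz⟩
    have hh : ∀ {T'' : Scheme.{u}} (r : T'' ⟶ T') (a : T'' ⟶ T₁), a ≫ π = r ≫ t →
        (r ≫ y) ≫ f i = a ≫ π ≫ s := fun r a e => by rw [reassoc_of% e, Category.assoc, hy]
    obtain ⟨p, hp⟩ := exists_glue _ (hcov t)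
      (fun T'' r hr => (c₁.pt (hR r hr).choose (r ≫ y) (hh r _ (hR r hr).choose_spec)).1)
      (fun T'' T₃ q r hr r' hr' e => by
        subst e
        have e1 : ((q ≫ r) ≫ y) ≫ f i = (q ≫ (hR r hr).choose) ≫ π ≫ s :=
          hh _ _ (by rw [Category.assoc, (hR r hr).choose_spec, Category.assoc])
        refine (h _ (q ≫ (hR r hr).choose) ?_ _ _ e1).trans ?_
        · rw [(hR _ hr').choose_spec, Category.assoc, Category.assoc, (hR r hr).choose_spec]
        · exact c₁.nat q _ _ _ _ _ rfl (Category.assoc _ _ _).symm _)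
    have hp' : ∀ ⦃T'' : Scheme.{u}⦄ (r : T'' ⟶ T') (a : T'' ⟶ T₁), a ≫ π = r ≫ t →
        ∀ hh' : (r ≫ y) ≫ f i = a ≫ π ≫ s, r ≫ p = (c₁.pt a (r ≫ y) hh').1 := fun T'' r a e hh' => by
      rw [hp r ⟨PUnit.unit, a, e⟩]
      exact h _ _ ((hR r ⟨PUnit.unit, a, e⟩).choose_spec.trans e.symm) _ _ _
    refine ⟨⟨p, hom_ext_of_covering _ (hcov t) _ _ fun T'' r hr => ?_⟩, hp'⟩
    obtain ⟨a, e⟩ := hR r hr
    rw [← Category.assoc, hp' r a e (hh r a e)]
    exact (c₁.pt a (r ≫ y) _).2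
  choose p hp using hp
  have hh : ∀ {T' T'' : Scheme.{u}} (t : T' ⟶ T) {i : ι} (y : T' ⟶ X i) (_ : y ≫ f i = t ≫ s) (r : T'' ⟶ T')
      (a : T'' ⟶ T₁), a ≫ π = r ≫ t → (r ≫ y) ≫ f i = a ≫ π ≫ s :=
    fun t _ y hy r a e => by rw [reassoc_of% e, Category.assoc, hy]
  refine ⟨{ pt := fun T' t i y hy => p t y hy, nat := ?_, comp := ?_ }, ?_⟩
  · intro T' T'' q t i y hy t' y' ht hy₁ hy'
    subst ht hy₁
    refine hom_ext_of_covering _ (hcov (q ≫ t)) _ _ fun T₃ r ⟨_, a, e⟩ => ?_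
    have e' : a ≫ π = (r ≫ q) ≫ t := e.trans (Category.assoc _ _ _).symm
    refine (hp _ _ hy' r a e (hh _ _ hy' r a e)).trans (Eq.trans ?_
      ((hp _ _ hy (r ≫ q) a e' (hh _ _ hy _ a e')).symm.trans (Category.assoc _ _ _)))
    exact c₁.pt_congr rfl (Category.assoc _ _ _).symm _ _
  · intro T' t i k y y' hy hy'
    refine Subtype.ext (hom_ext_of_covering _ (hcov t) _ _ fun T'' r ⟨_, a, e⟩ => ?_)
    rw [hp _ _ hy' r a e (hh _ _ hy' r a e), ← c₁.comp a (r ≫ y) (r ≫ y') (hh _ _ hy r a e) (hh _ _ hy' r a e)]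
    exact (D.φ_natural r _ _ _ _ _ rfl rfl _ _ _ (hp _ _ hy r a e (hh _ _ hy r a e)).symm).symm
  · refine Compat.ext fun T' a i y hy => ?_
    show (p (a ≫ π) y _).1 = _
    have h0 : (𝟙 T' ≫ y) ≫ f i = a ≫ π ≫ s := by rw [Category.id_comp, hy]
    rw [← Category.id_comp (p (a ≫ π) y _).1,
      hp (a ≫ π) y _ (𝟙 T') a (Category.id_comp _).symm h0]
    exact c₁.pt_congr rfl (Category.id_comp _) _ _

/-- Compatible families are separated for flat quasi-compact surjections. -/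
theorem Compat.ext_of_fpqc {T₁ T : Scheme.{u}} (π : T₁ ⟶ T) [Surjective π] [Flat π] [QuasiCompact π]
    {s : T ⟶ S} {c c' : Compat D s} (h : c.res π _ rfl = c'.res π _ rfl) : c = c' := by
  refine Compat.ext fun T' t i y hy => hom_ext_of_covering _ (factorSieve_single_mem π t) _ _
    fun T'' r ⟨_, a, e⟩ => ?_
  have hh : (r ≫ y) ≫ f i = a ≫ π ≫ s := by rw [reassoc_of% (show a ≫ π = r ≫ t from e), Category.assoc, hy]
  rw [← c.nat r t y hy (a ≫ π) (r ≫ y) e.symm rfl (by rw [hh, Category.assoc]),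
    ← c'.nat r t y hy (a ≫ π) (r ≫ y) e.symm rfl (by rw [hh, Category.assoc])]
  exact congrArg (fun z : Compat D (π ≫ s) => (z.pt a (r ≫ y) hh).1) h

/-- Representability descends along a flat quasi-compact surjection of bases, given effectivity. -/
theorem exists_repBy_of_repOnBy {S₁ : Scheme.{u}} {p : S₁ ⟶ S} [Surjective p] [Flat p] [QuasiCompact p]
    {U₁ : Over S₁} (h : RepOnBy D p U₁) (P : Over S → Prop)
    (eff : ∀ D₁ : SchDD p, D₁.obj = U₁ → ∃ U : Over S, P U ∧ Nonempty ((toDD p).obj U ≅ D₁)) :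
    ∃ U : Over S, P U ∧ RepBy D U := by
  obtain ⟨c₀, hu⟩ := h
  have hinj : ∀ {T : Scheme.{u}} {x : T ⟶ S₁} (v w : Lifts U₁ x) (s : T ⟶ S) (hv : v.1 ≫ U₁.hom ≫ p = s)
      (hw : w.1 ≫ U₁.hom ≫ p = s), c₀.res v.1 s hv = c₀.res w.1 s hw → v = w := fun {T x} v w s hv hw e => by
    obtain rfl : s = x ≫ p := by rw [← hv, ← Category.assoc, v.2]
    obtain ⟨_, -, hq⟩ := hu x (c₀.res v.1 (x ≫ p) hv)
    exact (hq v rfl).trans (hq w e.symm).symm
  have hex : ∀ {T : Scheme.{u}} {x₀ : T ⟶ S₁} (x₁ : T ⟶ S₁) (_ : x₀ ≫ p = x₁ ≫ p) (v : Lifts U₁ x₀),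
      ∃ w : Lifts U₁ x₁, ∀ (s : T ⟶ S) (hv : v.1 ≫ U₁.hom ≫ p = s) (hw : w.1 ≫ U₁.hom ≫ p = s),
        c₀.res w.1 s hw = c₀.res v.1 s hv := fun {T x₀} x₁ e v => by
    have hv₁ : v.1 ≫ U₁.hom ≫ p = x₁ ≫ p := by rw [← Category.assoc, v.2, e]
    obtain ⟨w, hw, -⟩ := hu x₁ (c₀.res v.1 (x₁ ≫ p) hv₁)
    refine ⟨w, fun s hv hw' => ?_⟩
    obtain rfl : s = x₁ ≫ p := hv.symm.trans hv₁
    exact hw
  choose σ hσ using @hex
  have hs : ∀ {T : Scheme.{u}} {x : T ⟶ S₁} (v : Lifts U₁ x), v.1 ≫ U₁.hom ≫ p = x ≫ p :=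
    fun v => by rw [← Category.assoc, v.2]
  let D₁ : SchDD p :=
    { obj := U₁
      φ := fun T x₀ x₁ e =>
        { toFun := σ x₁ e
          invFun := σ x₀ e.symm
          left_inv := fun v => hinj _ v _ (hs _) (hs v) ((hσ x₀ e.symm _ _ ((hs _).trans e.symm) _).trans
            (hσ x₁ e v _ (hs v) _))
          right_inv := fun v => hinj _ v _ (hs _) (hs v) ((hσ x₁ e _ _ ((hs _).trans e) _).trans
            (hσ x₀ e.symm v _ (hs v) _)) }
      φ_natural := fun T T' r x₀ x₁ e e' v v' hv => by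
        show (σ (r ≫ x₁) e' v').1 = r ≫ (σ x₁ e v).1
        refine congrArg Subtype.val (hinj (σ (r ≫ x₁) e' v')
          ⟨r ≫ (σ x₁ e v).1, by rw [Category.assoc, (σ x₁ e v).2]⟩ _ (hs _) (hs ⟨_, _⟩) ?_)
        refine (hσ (r ≫ x₁) e' v' _ ((hs v').trans e') _).trans ?_
        have h1 := congrArg (fun z : Compat D (x₁ ≫ p) => z.res r ((r ≫ x₁) ≫ p) (Category.assoc _ _ _).symm)
          (hσ x₁ e v _ ((hs v).trans e) (hs _))
        rw [Compat.res_res _ _ _ _ _ _ _ (r ≫ v.1) rfl (by rw [Category.assoc, hs v, e, Category.assoc]),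
          Compat.res_res _ _ _ _ _ _ _ (r ≫ (σ x₁ e v).1) rfl
            (by rw [Category.assoc, hs (σ x₁ e v), Category.assoc])] at h1
        exact (Compat.res_congr _ hv _ _ _).trans h1.symm
      φ_self := fun T x v => hinj _ v _ (hs _) (hs v) (hσ x rfl v _ (hs v) _)
      φ_comp := fun T x₀ x₁ x₂ e e' v => hinj _ _ _ (hs _) (hs _)
        ((hσ x₂ e' _ _ ((hs _).trans e') _).trans ((hσ x₁ e v _ ((hs v).trans (e.trans e')) _).trans
          (hσ x₂ (e.trans e') v _ _ _).symm)) }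
  obtain ⟨U, hP, ⟨I⟩⟩ := eff D₁ rfl
  refine ⟨U, hP, ?_⟩
  let a : pullback p U.hom ⟶ U₁.left := I.hom.hom.left
  have ha : a ≫ U₁.hom = pullback.fst p U.hom := Over.w I.hom.hom
  let b : U₁.left ⟶ pullback p U.hom := I.inv.hom.left
  have hb : b ≫ pullback.fst p U.hom = U₁.hom := Over.w I.inv.hom
  have hba : b ≫ a = 𝟙 _ := congrArg CommaMorphism.left (congrArg SchDD.Hom.hom I.inv_hom_id)
  have hab : a ≫ b = 𝟙 _ := congrArg CommaMorphism.left (congrArg SchDD.Hom.hom I.hom_inv_id)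
  obtain ⟨c, hc⟩ := Compat.exists_glue_single (pullback.snd p U.hom) (s := U.hom)
    (s₁ := pullback.fst p U.hom ≫ p) pullback.condition.symm
    (c₀.res a _ (by rw [← Category.assoc, ha])) (fun T' z z' e i y h₁ h₂ => by
      have hz : (z ≫ pullback.fst p U.hom) ≫ p = (z' ≫ pullback.fst p U.hom) ≫ p := by
        simp only [Category.assoc, pullback.condition, reassoc_of% e]
      let v : Lifts ((toDD p).obj U).obj (z ≫ pullback.fst p U.hom) := ⟨z, rfl⟩
      let w : Lifts U₁ (z ≫ pullback.fst p U.hom) := ⟨z ≫ a, by rw [Category.assoc, ha]⟩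
      have h3 : (σ (z' ≫ pullback.fst p U.hom) hz w).1 = z' ≫ a :=
        (I.hom.comm (z ≫ pullback.fst p U.hom) (z' ≫ pullback.fst p U.hom) hz v w rfl).trans
          (congrArg (· ≫ a) (pullback.hom_ext (pullback.lift_fst _ _ _) ((pullback.lift_snd _ _ _).trans e)))
      have e0 := congrArg (fun q : Compat D ((z' ≫ pullback.fst p U.hom) ≫ p) =>
          (q.pt (𝟙 T') y (by rw [h₂, Category.id_comp, Category.assoc])).1)
        (hσ _ hz w _ ((hs w).trans hz) (hs _))
      simp only [Compat.res_pt] at e0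
      simp only [Compat.res_pt]
      refine (c₀.pt_congr (Category.id_comp _).symm rfl _ _).trans (e0.symm.trans ?_)
      exact c₀.pt_congr ((Category.id_comp _).trans h3) rfl _ _)
  refine ⟨c, fun T s cc => ?_⟩
  let π := pullback.fst s p
  let x := pullback.snd s p
  have hπ : π ≫ s = x ≫ p := pullback.condition
  obtain ⟨q, hq, hquniq⟩ := hu x (cc.res π (x ≫ p) hπ)
  let R := factorSieve (fun _ : PUnit.{u + 1} => π) (𝟙 T)
  have hR : R ∈ Scheme.fpqcTopology T := factorSieve_single_mem π (𝟙 T)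
  have hR' : ∀ ⦃T' : Scheme.{u}⦄ (t : T' ⟶ T), R t → ∃ r : T' ⟶ pullback s p, r ≫ π = t :=
    fun _ t ⟨_, r, e⟩ => ⟨r, e.trans (Category.comp_id _)⟩
  have hkey : ∀ {T' : Scheme.{u}} (r r' : T' ⟶ pullback s p), r ≫ π = r' ≫ π →
      (r ≫ q.1 ≫ b) ≫ pullback.snd p U.hom = (r' ≫ q.1 ≫ b) ≫ pullback.snd p U.hom := fun {T'} r r' e => by
    have hx : (r ≫ x) ≫ p = (r' ≫ x) ≫ p := by
      simp only [Category.assoc]; rw [← hπ, reassoc_of% e]
    let v : Lifts U₁ (r ≫ x) := ⟨r ≫ q.1, by rw [Category.assoc, q.2]⟩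
    let v' : Lifts U₁ (r' ≫ x) := ⟨r' ≫ q.1, by rw [Category.assoc, q.2]⟩
    have hv : σ (r' ≫ x) hx v = v' := hinj _ _ _ (hs _) (hs v') ((hσ _ hx v _ ((hs v).trans hx) _).trans (by
      have h1 := congrArg (fun z : Compat D (x ≫ p) => z.res r ((r' ≫ x) ≫ p)
        ((Category.assoc _ _ _).symm.trans hx)) hq
      have h2 := congrArg (fun z : Compat D (x ≫ p) => z.res r' ((r' ≫ x) ≫ p) (Category.assoc _ _ _).symm) hq
      rw [Compat.res_res _ _ _ _ _ _ _ (r ≫ q.1) rfl ((hs v).trans hx),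
        Compat.res_res _ _ _ _ _ _ _ (r ≫ π) rfl
          (by rw [Category.assoc, hπ, ← Category.assoc, hx])] at h1
      rw [Compat.res_res _ _ _ _ _ _ _ (r' ≫ q.1) rfl (hs v'),
        Compat.res_res _ _ _ _ _ _ _ (r' ≫ π) rfl (by rw [Category.assoc, hπ, Category.assoc])] at h2
      exact h1.trans ((Compat.res_congr _ e _ _ _).trans h2.symm)))
    have h3 := congrArg (· ≫ pullback.snd p U.hom) (I.inv.comm (r ≫ x) (r' ≫ x) hx v
      ⟨v.1 ≫ b, by
        show (v.1 ≫ b) ≫ pullback.fst p U.hom = r ≫ x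
        rw [Category.assoc, hb, v.2]⟩ rfl)
    simp only [toDD, canonicalDD, Equiv.coe_fn_mk, canMap_val, pullback.lift_snd] at h3
    refine Eq.trans ?_ (h3.trans ?_)
    · simp only [v, b, Category.assoc]
    · rw [show D₁.φ (r ≫ x) (r' ≫ x) hx v = v' from hv]
      simp only [v', b, Category.assoc]
  obtain ⟨m, hm⟩ := exists_glue R hR (fun T' t ht => ((hR' t ht).choose ≫ q.1 ≫ b) ≫ pullback.snd p U.hom)
    (fun T' T'' r t ht t' ht' e => by
      subst e
      rw [hkey _ (r ≫ (hR' t ht).choose)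
        (by rw [(hR' _ ht').choose_spec, Category.assoc, (hR' t ht).choose_spec])]
      simp only [Category.assoc])
  have hmπ : π ≫ m = (q.1 ≫ b) ≫ pullback.snd p U.hom := by
    have hπR : R π := ⟨⟨⟩, 𝟙 _, by rw [Category.id_comp, Category.comp_id]⟩
    rw [hm π hπR, hkey _ (𝟙 _) (by rw [(hR' π hπR).choose_spec, Category.id_comp]), Category.id_comp]
  have hms : m ≫ U.hom = s := hom_ext_of_covering R hR _ _ fun T' t ht => by
    obtain ⟨r, rfl⟩ := hR' t ht
    rw [Category.assoc, Category.assoc, reassoc_of% hmπ, ← pullback.condition, ← Category.assoc b, hb,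
      hs q, hπ]
  have key : ∀ {T₀ : Scheme.{u}} (z : T₀ ⟶ pullback p U.hom) (s' : T₀ ⟶ S)
      (h₁ : (z ≫ pullback.snd p U.hom) ≫ U.hom = s') (h₂ : (z ≫ a) ≫ U₁.hom ≫ p = s'),
      c.res (z ≫ pullback.snd p U.hom) s' h₁ = c₀.res (z ≫ a) s' h₂ := fun z s' h₁ h₂ => by
    have h0 := congrArg (fun w : Compat D (pullback.fst p U.hom ≫ p) => w.res z s'
      (by rw [← h₁, Category.assoc, pullback.condition])) hc
    rwa [Compat.res_res _ _ _ _ _ _ _ (z ≫ pullback.snd p U.hom) rfl h₁,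
      Compat.res_res _ _ _ _ _ _ _ (z ≫ a) rfl h₂] at h0
  refine ⟨⟨m, hms⟩, Compat.ext_of_fpqc π ?_, fun m' hm' => Subtype.ext (hom_ext_of_covering R hR _ _ fun T' t ht => ?_)⟩
  · rw [Compat.res_res _ _ _ _ _ _ _ (π ≫ m) rfl (by rw [Category.assoc, hms]),
      Compat.res_congr c hmπ _ _ (by rw [← hmπ, Category.assoc, hms]),
      key _ _ _ (by simp only [Category.assoc, reassoc_of% hba]; rw [hs q, hπ])]
    refine (Compat.res_congr _ (by rw [Category.assoc, hba, Category.comp_id]) _ _ ((hs q).trans hπ.symm)).trans ?_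
    have h1 := congrArg (fun w : Compat D (x ≫ p) => w.res (𝟙 _) (π ≫ s) (by rw [Category.id_comp, hπ])) hq
    rwa [Compat.res_res _ _ _ _ _ _ _ q.1 (Category.id_comp _) ((hs q).trans hπ.symm),
      Compat.res_res _ _ _ _ _ _ _ π (Category.id_comp _) rfl] at h1
  · obtain ⟨r, rfl⟩ := hR' t ht
    let z : pullback s p ⟶ pullback p U.hom := pullback.lift x (π ≫ m'.1) (by rw [Category.assoc, m'.2, hπ])
    have hz1 : z ≫ pullback.fst p U.hom = x := pullback.lift_fst _ _ _
    have hz2 : z ≫ pullback.snd p U.hom = π ≫ m'.1 := pullback.lift_snd _ _ _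
    have hzs : (π ≫ m'.1) ≫ U.hom = x ≫ p := by rw [Category.assoc, m'.2, hπ]
    have hza : (⟨z ≫ a, by rw [Category.assoc, ha, hz1]⟩ : Lifts U₁ x) = q := hquniq _ (by
      show c₀.res (z ≫ a) (x ≫ p) _ = _
      rw [← key z (x ≫ p) (by rw [hz2]; exact hzs), Compat.res_congr c hz2 _ _ hzs, ← hm',
        Compat.res_res _ _ _ _ _ _ _ (π ≫ m'.1) rfl hzs])
    have hzb : z = q.1 ≫ b := by
      rw [← congrArg Subtype.val hza, Category.assoc, hab, Category.comp_id]
    rw [Category.assoc, Category.assoc, ← hz2, hzb, ← hmπ]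

end general

section single

lemma φ_congr {ι : Type w} {X : ι → Scheme.{u}} {f : ∀ i, X i ⟶ S} (D : SchDDFam f) {T : Scheme.{u}} {i k : ι}
    {y₀ y₀' : T ⟶ X i} (e₀ : y₀ = y₀') {y₁ y₁' : T ⟶ X k} (e₁ : y₁ = y₁') (h : y₀ ≫ f i = y₁ ≫ f k)
    (h' : y₀' ≫ f i = y₁' ≫ f k) (v : Lifts (D.obj i) y₀) (v' : Lifts (D.obj i) y₀') (hv : v.1 = v'.1) :
    (D.φ y₀ y₁ h v).1 = (D.φ y₀' y₁' h' v').1 := by
  subst e₀ e₁
  obtain rfl : v = v' := Subtype.ext hv
  rfl

variable {X : Scheme.{u}} {g : X ⟶ S} {D : SchDDFam (fun _ : PUnit.{1} => g)}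

/-- An etale scheme descending a datum along a universally submersive map represents it. -/
theorem repBy_of_iso_etale (hg : SGA1.UnivSubmersive g) {U : Over S} [Etale U.hom]
    (I : (toDDFam (fun _ : PUnit.{1} => g)).obj U ≅ D) : RepBy D U := by
  refine repBy_of_iso I ?_
  refine ⟨{ pt := fun T t i y h => ⟨pullback.lift y t h, pullback.lift_fst _ _ _⟩
            nat := fun T T' g' t i y h t' y' hg hy h' => pullback.hom_ext (by simp [hy]) (by simp [hg])
            comp := fun T t i k y y' h h' => Subtype.ext (pullback.hom_ext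
              (by simp [toDDFam, canonicalDDFam]) (by simp [toDDFam, canonicalDDFam])) }, fun T s c => ?_⟩
  have hind : ∀ {T' : Scheme.{u}} (t : T' ⟶ T) (y y' : T' ⟶ X) (h : y ≫ g = t ≫ s) (h' : y' ≫ g = t ≫ s),
      (c.pt t (i := PUnit.unit) y h).1 ≫ pullback.snd g U.hom =
        (c.pt t (i := PUnit.unit) y' h').1 ≫ pullback.snd g U.hom := by
    intro T' t y y' h h'
    rw [← c.comp t (i := PUnit.unit) (k := PUnit.unit) y y' h h']
    simp [toDDFam, canonicalDDFam]
  let u₀ : pullback s g ⟶ U.left :=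
    (c.pt (pullback.fst s g) (i := PUnit.unit) (pullback.snd s g) pullback.condition.symm).1 ≫ pullback.snd g U.hom
  have hu₀ : u₀ ≫ U.hom = pullback.snd s g ≫ g := by
    let v : pullback s g ⟶ pullback g U.hom :=
      (c.pt (pullback.fst s g) (i := PUnit.unit) (pullback.snd s g) pullback.condition.symm).1
    have e : v ≫ pullback.fst g U.hom = pullback.snd s g :=
      (c.pt (pullback.fst s g) (i := PUnit.unit) (pullback.snd s g) pullback.condition.symm).2
    show (v ≫ pullback.snd g U.hom) ≫ U.hom = _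
    rw [Category.assoc, ← pullback.condition, ← Category.assoc, e]
  have hz : ∀ {T' : Scheme.{u}} (z : T' ⟶ pullback s g)
      (h : (z ≫ pullback.snd s g) ≫ g = (z ≫ pullback.fst s g) ≫ s),
      z ≫ u₀ = (c.pt (z ≫ pullback.fst s g) (i := PUnit.unit) (z ≫ pullback.snd s g) h).1 ≫
        pullback.snd g U.hom := fun z h => by
    rw [c.nat z (pullback.fst s g) (i := PUnit.unit) (pullback.snd s g) pullback.condition.symm _ _ rfl rfl h,
      Category.assoc]
  have hs : Function.Surjective (pullback.fst s g) :=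
    (hg _ _ _ (IsPullback.of_hasPullback s g) : Topology.IsQuotientMap (pullback.fst s g)).surjective
  have hq : Topology.IsQuotientMap (pullback.snd g (pullback.fst s U.hom ≫ s)) :=
    hg _ _ _ (IsPullback.of_hasPullback g _).flip
  obtain ⟨a, ⟨ha₁, ha₂⟩, hauniq⟩ := existsUnique_descend_etale g s U.hom hs hq
    (pullback.lift u₀ (pullback.snd s g) hu₀) (pullback.lift_snd _ _ _) (by
      simp only [pullback.lift_fst]
      rw [hz _ (by simp only [Category.assoc, pullback.condition]),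
        hz _ (by simp only [Category.assoc, pullback.condition])]
      have e₁ : pullback.map s (pullback.fst g g ≫ g) s g (𝟙 T) (pullback.fst g g) (𝟙 S)
          ((Category.comp_id _).trans (Category.id_comp _).symm) (Category.comp_id _) ≫ pullback.fst s g =
          pullback.fst _ _ := (pullback.lift_fst _ _ _).trans (Category.comp_id _)
      have e₂ : pullback.map s (pullback.fst g g ≫ g) s g (𝟙 T) (pullback.snd g g) (𝟙 S)
          ((Category.comp_id _).trans (Category.id_comp _).symm)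
          ((Category.comp_id _).trans pullback.condition) ≫ pullback.fst s g =
          pullback.fst _ _ := (pullback.lift_fst _ _ _).trans (Category.comp_id _)
      have h₁ : (pullback.map s (pullback.fst g g ≫ g) s g (𝟙 T) (pullback.fst g g) (𝟙 S)
          ((Category.comp_id _).trans (Category.id_comp _).symm) (Category.comp_id _) ≫ pullback.snd s g) ≫ g =
          pullback.fst s (pullback.fst g g ≫ g) ≫ s := by
        rw [← e₁]; simp only [Category.assoc, pullback.condition]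
      have h₂ : (pullback.map s (pullback.fst g g ≫ g) s g (𝟙 T) (pullback.snd g g) (𝟙 S)
          ((Category.comp_id _).trans (Category.id_comp _).symm)
          ((Category.comp_id _).trans pullback.condition) ≫ pullback.snd s g) ≫ g =
          pullback.fst s (pullback.fst g g ≫ g) ≫ s := by
        rw [← e₂]; simp only [Category.assoc, pullback.condition]
      exact (congrArg (· ≫ pullback.snd g U.hom) (c.pt_congr e₁ rfl _ h₁)).trans ((hind _ _ _ h₁ h₂).trans
        (congrArg (· ≫ pullback.snd g U.hom) (c.pt_congr e₂.symm rfl h₂ _))))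
  rw [pullback.lift_fst] at ha₂
  have ha : ∀ {T' : Scheme.{u}} (t : T' ⟶ T) (y : T' ⟶ X) (h : y ≫ g = t ≫ s),
      t ≫ a = (c.pt t (i := PUnit.unit) y h).1 ≫ pullback.snd g U.hom := fun t y h => by
    have h1 := congrArg (pullback.lift t y h.symm ≫ ·) ha₂
    simp only [pullback.lift_fst_assoc] at h1
    rw [← h1, hz _ (by simp [h])]
    exact congrArg (· ≫ pullback.snd g U.hom) (c.pt_congr (pullback.lift_fst _ _ _) (pullback.lift_snd _ _ _) _ _)
  refine ⟨⟨a, ha₁⟩, Compat.ext fun T' t i y hy => ?_, fun q hq => Subtype.ext (hauniq q.1 ⟨q.2, ?_⟩)⟩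
  · exact pullback.hom_ext ((pullback.lift_fst _ _ _).trans (c.pt t y hy).2.symm)
      ((pullback.lift_snd _ _ _).trans (ha t y hy))
  · rw [pullback.lift_fst]
    show (c.pt _ _ _).1 ≫ pullback.snd g U.hom = _
    rw [← hq]
    exact pullback.lift_snd _ _ _

variable {S₁ : Scheme.{u}} (p : S₁ ⟶ S)

/-- The datum pulled back along `p`. -/
noncomputable abbrev pullOne (D : SchDDFam (fun _ : PUnit.{1} => g)) :
    SchDDFam (fun _ : PUnit.{1} => pullback.snd g p) :=
  (pullDDFam (f := fun _ : PUnit.{1} => g) (f' := fun _ : PUnit.{1} => pullback.snd g p)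
    (α := id) (p := p) (p' := fun _ => pullback.fst g p) (fun _ => pullback.condition)).obj D

lemma pullOne_bijective {T : Scheme.{u}} {x : T ⟶ S₁} :
    Function.Bijective (Compat.pull (f := fun _ : PUnit.{1} => g) (f' := fun _ : PUnit.{1} => pullback.snd g p)
      (α := id) (j := p) (g := fun _ => pullback.fst g p) (fun _ => pullback.condition) (x := x) (D := D)
      (s := x ≫ p) rfl) := by
  have hl : ∀ {T' : Scheme.{u}} {t : T' ⟶ T} {y : T' ⟶ X}, y ≫ g = t ≫ x ≫ p →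
      y ≫ g = (t ≫ x) ≫ p := fun h => by rw [h, Category.assoc]
  constructor
  · intro c c' e
    refine Compat.ext fun T' t i y hy => ?_
    have hz : pullback.lift y (t ≫ x) (hl hy) ≫ pullback.snd g p = t ≫ x := pullback.lift_snd _ _ _
    have hy' : pullback.lift y (t ≫ x) (hl hy) ≫ pullback.fst g p = y := pullback.lift_fst _ _ _
    have := congrArg (fun q : Compat (pullOne p D) x =>
      (liftsPullbackEquiv (D.obj ⟨⟩) (pullback.fst g p) _ (q.pt (i := PUnit.unit) t
        (pullback.lift y (t ≫ x) (hl hy)) hz)).1) e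
    simp only [Compat.pull, Equiv.apply_symm_apply] at this
    exact (c.pt_congr rfl hy'.symm hy _).trans (this.trans (c'.pt_congr rfl hy' _ hy))
  · intro c'
    let pt₀ : ∀ {T' : Scheme.{u}} (t : T' ⟶ T) (y : T' ⟶ X), y ≫ g = t ≫ x ≫ p → (T' ⟶ (D.obj ⟨⟩).left) :=
      fun t y h => (c'.pt (i := PUnit.unit) t (pullback.lift y (t ≫ x) (hl h)) (pullback.lift_snd _ _ _)).1 ≫
        pullback.fst (D.obj ⟨⟩).hom (pullback.fst g p)
    have hpt : ∀ {T' : Scheme.{u}} (t : T' ⟶ T) (y : T' ⟶ X) (h : y ≫ g = t ≫ x ≫ p),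
        pt₀ t y h ≫ (D.obj ⟨⟩).hom = y := fun t y h => by
      show (_ ≫ _) ≫ _ = _
      rw [Category.assoc, pullback.condition, ← Category.assoc]
      refine (congrArg (· ≫ pullback.fst g p) (c'.pt (i := PUnit.unit) t
        (pullback.lift y (t ≫ x) (hl h)) (pullback.lift_snd _ _ _)).2).trans (pullback.lift_fst _ _ _)
    refine ⟨{ pt := fun T' t i y h => ⟨pt₀ t y h, hpt t y h⟩
              nat := fun T' T'' r t i y h t' y' hr hy h' => ?_
              comp := fun T' t i k y y' h h' => ?_ }, Compat.ext fun T' t i z hz => ?_⟩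
    · show pt₀ t' y' h' = r ≫ pt₀ t y h
      dsimp only [pt₀]
      rw [c'.nat r t (i := PUnit.unit) (pullback.lift y (t ≫ x) (hl h)) (pullback.lift_snd _ _ _) t' (pullback.lift y' (t' ≫ x) (hl h')) hr
        ((pullback.hom_ext (by rw [Category.assoc, pullback.lift_fst, pullback.lift_fst, hy]) (by rw [Category.assoc, pullback.lift_snd, pullback.lift_snd, reassoc_of% hr]))) (pullback.lift_snd _ _ _), Category.assoc]
    · have e := congrArg (fun q => (liftsPullbackEquiv (D.obj ⟨⟩) (pullback.fst g p) _ q).1)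
        (c'.comp (i := PUnit.unit) (k := PUnit.unit) t (pullback.lift y (t ≫ x) (hl h))
          (pullback.lift y' (t ≫ x) (hl h')) (pullback.lift_snd _ _ _) (pullback.lift_snd _ _ _))
      simp only [pullOne, pullDDFam, pullDDFamObj, Equiv.trans_apply, Equiv.apply_symm_apply] at e
      refine Subtype.ext (Eq.trans ?_ e)
      exact φ_congr D (pullback.lift_fst _ _ _).symm (pullback.lift_fst _ _ _).symm _ _ _ _ rfl
    · refine congrArg Subtype.val ((liftsPullbackEquiv (D.obj ⟨⟩) (pullback.fst g p) z).symm_apply_eq.2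
        (Subtype.ext ?_))
      show pt₀ t (z ≫ pullback.fst g p) (by rw [Category.assoc, pullback.condition, reassoc_of% hz]) = _
      dsimp only [pt₀]
      refine congrArg (· ≫ pullback.fst (D.obj ⟨⟩).hom (pullback.fst g p)) (c'.pt_congr rfl ?_ _ hz)
      exact pullback.hom_ext (pullback.lift_fst _ _ _) ((pullback.lift_snd _ _ _).trans hz.symm)

/-- Representing the pulled back datum is representing the datum over the new base. -/
theorem repBy_pullOne_iff {U : Over S₁} : RepBy (pullOne p D) U ↔ RepOnBy D p U := by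
  have hres : ∀ {T T' : Scheme.{u}} {x : T ⟶ S₁} (c : Compat D (x ≫ p)) (r : T' ⟶ T) (x' : T' ⟶ S₁)
      (hx : r ≫ x = x'),
      (c.res r (x' ≫ p) (by rw [reassoc_of% hx])).pull (fun _ => pullback.condition) rfl =
        (c.pull (fun _ => pullback.condition) rfl).res r x' hx := fun c r x' hx => Compat.pull_res _ _ _ _ _ _ _ _ _
  constructor
  · rintro ⟨c', hu⟩
    obtain ⟨c₀, rfl⟩ := (pullOne_bijective p (x := U.hom)).2 c'
    refine ⟨c₀, fun T x c => ?_⟩
    obtain ⟨q, hq, huniq⟩ := hu x (c.pull (fun _ => pullback.condition) rfl)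
    refine ⟨q, (pullOne_bijective p).1 ((hres c₀ q.1 x q.2).trans hq), fun q' hq' => huniq q' ?_⟩
    exact (hres c₀ q'.1 x q'.2).symm.trans (congrArg (Compat.pull (fun _ => pullback.condition) rfl) hq')
  · rintro ⟨c₀, hu⟩
    refine ⟨c₀.pull (fun _ => pullback.condition) rfl, fun T x c' => ?_⟩
    obtain ⟨c, rfl⟩ := (pullOne_bijective p (x := x)).2 c'
    obtain ⟨q, hq, huniq⟩ := hu x c
    refine ⟨q, ?_, fun q' hq' => huniq q' ((pullOne_bijective p).1 ((hres c₀ q'.1 x q'.2).trans hq'))⟩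
    exact (hres c₀ q.1 x q.2).symm.trans (congrArg (Compat.pull (fun _ => pullback.condition) rfl) hq)

end single

end Groth.Agent.DescLib
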