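import Groth.Agent.DescLib.EtFinite
import Groth.Agent.DescLib.AlgClosedExt
import Groth.Agent.FibDim.RelDim
import Groth.Agent.S5125

/-!
# Etale descent along finite surjective morphisms of Noetherian schemes
-/

universe u

set_option autoImplicit false
set_option backward.isDefEq.respectTransparency false
set_option backward.isDefEq.respectTransparency.types false
set_option linter.style.haveILetI false

open CategoryTheory CategoryTheory.Limits AlgebraicGeometry Opposite Desc IsLocalRing

namespace Groth.Agent.DescLib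

variable {S X : Scheme.{u}} {g : X ⟶ S} {D : SchDDFam (fun _ : PUnit.{1} => g)}

/-- Effectivity of finite descent over complete local rings gives effectivity over a local ring of the base. -/
theorem etEff_stalk_of_complete [IsLocallyNoetherian S] [IsFinite g] [Surjective g] [Etale (D.obj ⟨⟩).hom]
    [QuasiCompact (D.obj ⟨⟩).hom] [IsSeparated (D.obj ⟨⟩).hom] (a : S)
    (H : ∀ (C : Type u) [CommRing C] [IsNoetherianRing C] [IsLocalRing C],
      IsAdicComplete (maximalIdeal C) C → IsAlgClosed (ResidueField C) →
      ringKrullDim C = ringKrullDim (S.presheaf.stalk a) →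
      ∀ {Y : Scheme.{u}} (h : Y ⟶ Spec (CommRingCat.of C)) [IsFinite h] [Surjective h]
        (E : SchDDFam (fun _ : PUnit.{1} => h)) [Etale (E.obj ⟨⟩).hom] [QuasiCompact (E.obj ⟨⟩).hom]
        [IsSeparated (E.obj ⟨⟩).hom],
        ∃ W : Over (Spec (CommRingCat.of C)), Etale W.hom ∧
          Nonempty ((toDDFam (fun _ : PUnit.{1} => h)).obj W ≅ E)) :
    EtEff D (S.fromSpecStalk a) := by
  obtain ⟨C, _, _, _, _, hC, hk, hF, hdim⟩ := exists_complete_algClosed_extension_dim (S.presheaf.stalk a)
  let l : Spec (CommRingCat.of C) ⟶ Spec (S.presheaf.stalk a) :=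
    Spec.map (CommRingCat.ofHom (algebraMap (S.presheaf.stalk a) C))
  have hl : Flat l ∧ Surjective l :=
    (flat_and_surjective_SpecMap_iff _).2 (RingHom.faithfullyFlat_algebraMap_iff.2 hF)
  haveI := hl.1
  haveI := hl.2
  have hg : SGA1.UnivSubmersive g := univSubmersive_of_universallyClosed g
  refine EtEff.of_fpqc hg l rfl ?_
  haveI : Etale ((pullOne (l ≫ S.fromSpecStalk a) D).obj ⟨⟩).hom :=
    inferInstanceAs (Etale (pullback.snd (D.obj ⟨⟩).hom (pullback.fst g (l ≫ S.fromSpecStalk a))))
  haveI : QuasiCompact ((pullOne (l ≫ S.fromSpecStalk a) D).obj ⟨⟩).hom :=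
    inferInstanceAs (QuasiCompact (pullback.snd (D.obj ⟨⟩).hom (pullback.fst g (l ≫ S.fromSpecStalk a))))
  haveI : IsSeparated ((pullOne (l ≫ S.fromSpecStalk a) D).obj ⟨⟩).hom :=
    inferInstanceAs (IsSeparated (pullback.snd (D.obj ⟨⟩).hom (pullback.fst g (l ≫ S.fromSpecStalk a))))
  exact H C hC hk hdim (pullback.snd g (l ≫ S.fromSpecStalk a)) _

theorem etEff_of_complete_aux (n : ℕ) : ∀ (B : Type u) [CommRing B] [IsNoetherianRing B] [IsLocalRing B],
    IsAdicComplete (maximalIdeal B) B → IsAlgClosed (ResidueField B) → ringKrullDim B < n →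
    ∀ {Y : Scheme.{u}} (h : Y ⟶ Spec (CommRingCat.of B)) [IsFinite h] [Surjective h]
      (E : SchDDFam (fun _ : PUnit.{1} => h)) [Etale (E.obj ⟨⟩).hom] [QuasiCompact (E.obj ⟨⟩).hom]
      [IsSeparated (E.obj ⟨⟩).hom],
      ∃ W : Over (Spec (CommRingCat.of B)), Etale W.hom ∧
        Nonempty ((toDDFam (fun _ : PUnit.{1} => h)).obj W ≅ E) := by
  induction n with
  | zero =>
    intro B _ _ _ _ _ hn
    exact absurd hn (not_lt.2 (by exact_mod_cast ringKrullDim_nonneg_of_nontrivial (R := B)))
  | succ n ih =>
    intro B _ _ _ hB hk hn Y h _ _ E _ _ _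
    haveI : HenselianRing B (maximalIdeal B) := by haveI := hB; infer_instance
    haveI : HenselianLocalRing B := ⟨fun f hf a₀ h1 h2 => HenselianRing.is_henselian f hf a₀ h1
      (h2.map (Ideal.Quotient.mk _))⟩
    haveI := hk
    haveI : IsNoetherianRing (CommRingCat.of B) := inferInstanceAs (IsNoetherianRing B)
    haveI : IsLocallyNoetherian (Spec (CommRingCat.of B)) := inferInstance
    have hh : SGA1.UnivSubmersive h := univSubmersive_of_universallyClosed h
    haveI : LocallyOfFinitePresentation h := (LocallyOfFinitePresentation.iff_locallyOfFiniteType (f := h)).2 inferInstance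
    refine etEff_of_finite fun s hs => exists_nhd_etEff hh s ?_
    refine etEff_stalk_of_complete s fun C _ _ _ hC hkC hdim => ih C hC hkC ?_
    haveI : s.asIdeal.IsPrime := s.2
    have hlt : ringKrullDim ((Spec (CommRingCat.of B)).presheaf.stalk s) < ringKrullDim B := by
      refine (ringKrullDim_eq_of_ringEquiv (StructureSheaf.stalkIso (R := B) s).toRingEquiv).symm.trans_lt ?_
      rw [IsLocalization.AtPrime.ringKrullDim_eq_height s.asIdeal, ← maximalIdeal_height_eq_ringKrullDim]
      exact_mod_cast Ideal.height_strict_mono_of_isPrime (lt_of_le_of_ne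
        (le_maximalIdeal s.2.ne_top) fun e => hs (PrimeSpectrum.ext e))
    rw [hdim]
    refine lt_of_lt_of_le hlt ?_
    revert hn
    generalize ringKrullDim B = d
    intro hn
    induction d with
    | bot => exact bot_le
    | coe d =>
      refine WithBot.coe_le_coe.2 ?_
      have hn' : d < ((n + 1 : ℕ) : ℕ∞) := by exact_mod_cast hn
      exact Order.le_of_lt_add_one (by exact_mod_cast hn')

/-- Finite surjective morphisms are of effective descent for separated quasi-compact etale schemes. -/
theorem effective_etale_finite [IsLocallyNoetherian S] [IsFinite g] [Surjective g] [Etale (D.obj ⟨⟩).hom]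
    [QuasiCompact (D.obj ⟨⟩).hom] [IsSeparated (D.obj ⟨⟩).hom] :
    ∃ U : Over S, Etale U.hom ∧ Nonempty ((toDDFam (fun _ : PUnit.{1} => g)).obj U ≅ D) := by
  haveI : LocallyOfFinitePresentation g := (LocallyOfFinitePresentation.iff_locallyOfFiniteType (f := g)).2 inferInstance
  refine (S5125.result g (univSubmersive_of_universallyClosed g) D).2 fun a =>
    etEff_stalk_of_complete a fun C _ _ _ hC hk _ => ?_
  haveI : FiniteRingKrullDim C := inferInstance
  obtain ⟨n, hn⟩ : ∃ n : ℕ, ringKrullDim C < n := by
    have h1 := ringKrullDim_ne_top (R := C)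
    generalize ringKrullDim C = d at h1
    induction d with
    | bot => exact ⟨0, WithBot.bot_lt_coe _⟩
    | coe d =>
      lift d to ℕ using (fun h => h1 (by rw [h]; rfl)) with k
      exact ⟨k + 1, by exact_mod_cast Nat.lt_succ_self k⟩
  exact fun {Y} h _ _ E _ _ _ => etEff_of_complete_aux n C hC hk hn h E

end Groth.Agent.DescLib
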