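import Groth.Agent.DescLib.EtFinite
import Groth.Agent.Hensel.Henselization
import Groth.Agent.S5125

/-!
# Etale descent along proper surjective morphisms of finite presentation, over an arbitrary base
-/

universe u

set_option autoImplicit false
set_option backward.isDefEq.respectTransparency false
set_option backward.isDefEq.respectTransparency.types false
set_option linter.style.haveILetI false

open CategoryTheory CategoryTheory.Limits AlgebraicGeometry Opposite Desc IsLocalRing TopologicalSpace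

namespace Groth.Agent.DescLib

lemma exists_maximal_point {S : Scheme.{u}} {Z : Set S} (hZ : IsClosed Z) (hne : Z.Nonempty) :
    ∃ s ∈ Z, ∀ t : S, t ⤳ s → t ≠ s → t ∉ Z := by
  haveI : Nonempty Z := hne.to_subtype
  haveI : QuasiSober Z := hZ.isClosedEmbedding_subtypeVal.quasiSober
  obtain ⟨x⟩ := ‹Nonempty Z›
  let C := irreducibleComponent x
  have hC : C ∈ irreducibleComponents Z := irreducibleComponent_mem_irreducibleComponents x
  obtain ⟨ξ, hξ⟩ := QuasiSober.sober hC.1 isClosed_irreducibleComponent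
  refine ⟨ξ.1, ξ.2, fun t ht hne' htZ => hne' ?_⟩
  have h1 : (⟨t, htZ⟩ : Z) ⤳ ξ := (subtype_specializes_iff _ _).2 ht
  have h2 : C ⊆ closure {(⟨t, htZ⟩ : Z)} := by
    rw [← hξ.def]; exact h1.closure_subset
  have h3 : closure {(⟨t, htZ⟩ : Z)} ⊆ C :=
    hC.2 isIrreducible_singleton.closure h2
  have h4 : ξ ⤳ (⟨t, htZ⟩ : Z) := by
    rw [specializes_iff_mem_closure, hξ.def]
    exact h3 (subset_closure rfl)
  exact (((subtype_specializes_iff _ _).1 h4).antisymm ht).eq.symm

variable {S X : Scheme.{u}} {g : X ⟶ S} {D : SchDDFam (fun _ : PUnit.{1} => g)}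

/-- Proper surjective morphisms of finite presentation are of effective descent for separated quasi-compact
etale schemes. -/
theorem effective_etale_proper [IsProper g] [Surjective g] [LocallyOfFinitePresentation g]
    [Etale (D.obj ⟨⟩).hom] [QuasiCompact (D.obj ⟨⟩).hom] [IsSeparated (D.obj ⟨⟩).hom] :
    ∃ U : Over S, Etale U.hom ∧ Nonempty ((toDDFam (fun _ : PUnit.{1} => g)).obj U ≅ D) := by
  have hg : SGA1.UnivSubmersive g := univSubmersive_of_universallyClosed g
  refine (S5125.result g hg D).2 fun a => (nhd_etEff_iff hg a).1 ?_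
  let O : Set S := {a | ∃ W : S.Opens, a ∈ W ∧ EtEff D W.ι}
  show a ∈ O
  by_contra ha
  have hO : IsOpen O := isOpen_iff_forall_mem_open.2 fun x ⟨W, hx, hW⟩ =>
    ⟨W, fun y hy => ⟨W, hy, hW⟩, W.isOpen, hx⟩
  obtain ⟨s, hs, hmax⟩ := exists_maximal_point hO.isClosed_compl ⟨a, ha⟩
  refine hs (exists_nhd_etEff hg s ?_)
  let R := S.presheaf.stalk s
  let B := Hensel.StrictHenz R
  haveI : IsSepClosed (ResidueField B) :=
    (Hensel.isSepClosure_residueField_strictHenz R).sep_closed
  haveI : Module.FaithfullyFlat R B := inferInstance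
  let φ : R ⟶ CommRingCat.of B := CommRingCat.ofHom (algebraMap R B)
  have hl : Flat (Spec.map φ) ∧ Surjective (Spec.map φ) :=
    (flat_and_surjective_SpecMap_iff _).2 (RingHom.faithfullyFlat_algebraMap_iff.2 ‹_›)
  haveI := hl.1
  haveI := hl.2
  let l : Spec (CommRingCat.of B) ⟶ Spec R := Spec.map φ
  let p' := l ≫ S.fromSpecStalk s
  refine EtEff.of_fpqc hg l rfl ?_
  haveI : Etale ((pullOne p' D).obj ⟨⟩).hom :=
    inferInstanceAs (Etale (pullback.snd (D.obj ⟨⟩).hom (pullback.fst g p')))
  haveI : QuasiCompact ((pullOne p' D).obj ⟨⟩).hom :=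
    inferInstanceAs (QuasiCompact (pullback.snd (D.obj ⟨⟩).hom (pullback.fst g p')))
  haveI : IsSeparated ((pullOne p' D).obj ⟨⟩).hom :=
    inferInstanceAs (IsSeparated (pullback.snd (D.obj ⟨⟩).hom (pullback.fst g p')))
  have hg' : SGA1.UnivSubmersive (pullback.snd g p') :=
    MorphismProperty.pullback_snd (P := MorphismProperty.universally _) _ _ hg
  refine etEff_of_finite fun b hb => ?_
  refine exists_nhd_etEff hg' b ?_
  have hbs : p' b ≠ s := by
    intro e
    have e1 : l b = closedPoint R := (S.fromSpecStalk s).isEmbedding.injective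
      (e.trans Scheme.fromSpecStalk_closedPoint.symm)
    apply hb
    refine PrimeSpectrum.ext ((IsLocalRing.maximalIdeal.isMaximal B).eq_of_le b.2.ne_top ?_).symm
    rw [← Hensel.map_maximalIdeal_henz (R := R), Ideal.map_le_iff_le_comap]
    exact (congrArg PrimeSpectrum.asIdeal e1).ge
  have hlt : p' b ⤳ s := by
    have : S.fromSpecStalk s (l b) ∈ Set.range (S.fromSpecStalk s) := ⟨_, rfl⟩
    rwa [Scheme.range_fromSpecStalk] at this
  obtain ⟨W, hbW, hW⟩ : p' b ∈ O := by
    by_contra h
    exact hmax _ hlt hbs h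
  let V := p' ⁻¹ᵁ W
  have e : ((Spec (CommRingCat.of B)).fromSpecStalk b ≫ p') = V.fromSpecStalkOfMem b hbW ≫ (p'.resLE W V le_rfl) ≫ W.ι := by
    rw [Scheme.Hom.resLE_comp_ι]
    exact (congrArg (· ≫ p') (V.fromSpecStalkOfMem_ι b hbW).symm).trans (Category.assoc _ _ _)
  obtain ⟨U, hU, ⟨J⟩⟩ := EtEff.comp hg hW (V.fromSpecStalkOfMem b hbW ≫ (p'.resLE W V le_rfl))
    (p' := (Spec (CommRingCat.of B)).fromSpecStalk b ≫ p') (by rw [e, Category.assoc])
  obtain ⟨J'⟩ := iso_of_repBy ((repBy_pullOne_iff _).2 (repOnBy_pullOne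
    ((repBy_pullOne_iff _).1 (repBy_of_iso_etale (MorphismProperty.pullback_snd (P := MorphismProperty.universally _) _ _ hg) J))))
  exact ⟨U, hU, ⟨J'⟩⟩

end Groth.Agent.DescLib
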