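import Groth.Agent.DescLib.EtAgree
import Groth.Agent.DescLib.EtRep

/-!
# Effectivity of etale descent data along a universally submersive refinement
-/

universe u

set_option autoImplicit false
set_option backward.isDefEq.respectTransparency false
set_option backward.isDefEq.respectTransparency.types false
set_option linter.style.haveILetI false

open CategoryTheory CategoryTheory.Limits AlgebraicGeometry Opposite Desc

namespace Groth.Agent.DescLib

section descend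

variable {W T Y X : Scheme.{u}} (t : W ⟶ T) (q : Y ⟶ X) [Etale q]

/-- Two lifts along an etale morphism which agree after a surjection are equal. -/
theorem hom_ext_of_surjective_etale [Surjective t] {a a' : T ⟶ Y} (h : a ≫ q = a' ≫ q)
    (ht : t ≫ a = t ≫ a') : a = a' := by
  refine eq_of_agree (q := q) a a' h fun z => ?_
  obtain ⟨w, rfl⟩ := t.surjective z
  refine (agreeAt_iff_of_field a a' (W.fromSpecResidueField w ≫ t) (t w) ?_).1 ?_
  · exact congrArg t (Scheme.fromSpecResidueField_apply w _)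
  · rw [Category.assoc, Category.assoc, ht]

/-- Lifts along an etale morphism descend along universally submersive morphisms. -/
theorem exists_descend_lift (hu : SGA1.UnivSubmersive t) (y : T ⟶ X) (b : W ⟶ Y) (hb : b ≫ q = t ≫ y)
    (hcoc : pullback.fst t t ≫ b = pullback.snd t t ≫ b) : ∃ a : T ⟶ Y, a ≫ q = y ∧ t ≫ a = b := by
  let Q := pullback q y
  let q' : Q ⟶ T := pullback.snd q y
  haveI : Etale q' := inferInstanceAs (Etale (pullback.snd q y))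
  let m : pullback (𝟙 T) t ⟶ Q := pullback.lift (pullback.snd (𝟙 T) t ≫ b) (pullback.snd (𝟙 T) t ≫ t)
    (by rw [Category.assoc, hb, Category.assoc])
  let f' : pullback (𝟙 T) t ⟶ pullback q' t := pullback.lift m (pullback.snd (𝟙 T) t) (pullback.lift_snd _ _ _)
  have e : pullback.fst (𝟙 T) t = pullback.snd (𝟙 T) t ≫ t := by
    rw [← pullback.condition, Category.comp_id]
  obtain ⟨u, ⟨hu₁, hu₂⟩, -⟩ := existsUnique_descend_etale t (𝟙 T) q'
    (hu _ _ _ (IsPullback.of_hasPullback (𝟙 T) t)).surjective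
    (hu _ _ _ (IsPullback.of_hasPullback t (pullback.fst (𝟙 T) q' ≫ 𝟙 T)).flip) f'
    (pullback.lift_snd _ _ _) (by
      rw [pullback.lift_fst, ]
      refine pullback.hom_ext ?_ ?_
      · simp only [m, Category.assoc, pullback.lift_fst]
        simp only [pullback.map, pullback.lift_snd_assoc, Category.assoc]
        rw [hcoc]
      · simp only [m, Category.assoc, pullback.lift_snd]
        simp only [pullback.map, pullback.lift_snd_assoc, Category.assoc]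
        rw [pullback.condition])
  refine ⟨u ≫ pullback.fst q y, ?_, ?_⟩
  · rw [Category.assoc, pullback.condition, ← Category.assoc, hu₁, Category.id_comp]
  · rw [pullback.lift_fst] at hu₂
    have h1 := congrArg (· ≫ pullback.fst q y) hu₂
    simp only [m, Category.assoc, pullback.lift_fst, e] at h1
    haveI : IsIso (pullback.snd (𝟙 T) t) := inferInstance
    rw [← cancel_epi (pullback.snd (𝟙 T) t)]
    exact h1.symm

end descend

variable {S X X₁ : Scheme.{u}} {g : X ⟶ S} {g₁ : X₁ ⟶ S} {p : X₁ ⟶ X} (hp : p ≫ g = g₁)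
  {D : SchDDFam (fun _ : PUnit.{1} => g)}

/-- The datum pulled back along a refinement. -/
noncomputable abbrev refineDD (D : SchDDFam (fun _ : PUnit.{1} => g)) : SchDDFam (fun _ : PUnit.{1} => g₁) :=
  (pullDDFam (f := fun _ : PUnit.{1} => g) (f' := fun _ : PUnit.{1} => g₁) (α := id) (p := 𝟙 S)
    (p' := fun _ => p) (fun _ => hp.trans (Category.comp_id g₁).symm)).obj D

lemma refW {hp : p ≫ g = g₁} (_ : PUnit.{1}) : p ≫ g = g₁ ≫ 𝟙 S := hp.trans (Category.comp_id g₁).symm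

variable (hg₁ : SGA1.UnivSubmersive g₁) [Etale (D.obj ⟨⟩).hom]

include hg₁ in
omit [Etale (D.obj ⟨⟩).hom] in
lemma surjective_of_univSubmersive {T : Scheme.{u}} (s : T ⟶ S) : Surjective (pullback.fst s g₁) :=
  ⟨(hg₁ _ _ _ (IsPullback.of_hasPullback s g₁)).surjective⟩

include hg₁ in
lemma refine_pull_injective {T : Scheme.{u}} (s : T ⟶ S) :
    Function.Injective (Compat.pull (f := fun _ : PUnit.{1} => g) (f' := fun _ : PUnit.{1} => g₁) (α := id) (j := 𝟙 S) (g := fun _ => p) (refW (hp := hp)) (D := D) (x := s) (Category.comp_id s)) := by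
  intro c c' e
  refine Compat.ext fun T' t i y hy => ?_
  obtain ⟨⟩ := i
  haveI := surjective_of_univSubmersive hg₁ (t ≫ s)
  refine hom_ext_of_surjective_etale (pullback.fst (t ≫ s) g₁) (D.obj ⟨⟩).hom
    ((c.pt t y hy).2.trans (c'.pt t y hy).2.symm) ?_
  let r := pullback.fst (t ≫ s) g₁
  let z := pullback.snd (t ≫ s) g₁
  have hz' : z ≫ g₁ = (r ≫ t) ≫ s := by rw [Category.assoc]; exact pullback.condition.symm
  have hh : (z ≫ p) ≫ g = (r ≫ t) ≫ s := by rw [Category.assoc, hp, hz']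
  have e1 : c.pt (i := PUnit.unit) (r ≫ t) (z ≫ p) hh = c'.pt (i := PUnit.unit) (r ≫ t) (z ≫ p) hh := by
    have := congrArg (fun q : Compat (refineDD hp D) s =>
      liftsPullbackEquiv (D.obj ⟨⟩) p z (q.pt (i := PUnit.unit) (r ≫ t) z hz')) e
    simpa only [Compat.pull, Equiv.apply_symm_apply] using this
  have hh' : (r ≫ y) ≫ g = (r ≫ t) ≫ s := by rw [Category.assoc, hy, Category.assoc]
  show r ≫ _ = r ≫ _
  rw [← c.nat r t y hy (r ≫ t) (r ≫ y) rfl rfl hh', ← c'.nat r t y hy (r ≫ t) (r ≫ y) rfl rfl hh',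
    ← c.comp (r ≫ t) (z ≫ p) (r ≫ y) hh, ← c'.comp (r ≫ t) (z ≫ p) (r ≫ y) hh, e1]

include hg₁ in
lemma refine_pull_surjective {T : Scheme.{u}} (s : T ⟶ S) :
    Function.Surjective (Compat.pull (f := fun _ : PUnit.{1} => g) (f' := fun _ : PUnit.{1} => g₁) (α := id) (j := 𝟙 S) (g := fun _ => p) (refW (hp := hp)) (D := D) (x := s) (Category.comp_id s)) := by
  intro c'
  let img {T' : Scheme.{u}} (t : T' ⟶ T) (y : T' ⟶ X) (hy : y ≫ g = t ≫ s)
      (z : T' ⟶ X₁) (hz : z ≫ g₁ = t ≫ s) : Lifts (D.obj ⟨⟩) y :=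
    D.φ (i := PUnit.unit) (j := PUnit.unit) (z ≫ p) y (by rw [Category.assoc, hp, hz, hy])
      (liftsPullbackEquiv (D.obj ⟨⟩) p z (c'.pt (i := PUnit.unit) t z hz))
  have hind : ∀ {T' : Scheme.{u}} (t : T' ⟶ T) (y : T' ⟶ X) (hy : y ≫ g = t ≫ s)
      (z : T' ⟶ X₁) (hz : z ≫ g₁ = t ≫ s) (z' : T' ⟶ X₁) (hz' : z' ≫ g₁ = t ≫ s),
      img t y hy z hz = img t y hy z' hz' := by
    intro T' t y hy z hz z' hz'
    simp only [img]
    rw [← c'.comp (i := PUnit.unit) (k := PUnit.unit) t z z' hz hz']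
    simp only [pullDDFam, pullDDFamObj, Equiv.trans_apply, Equiv.apply_symm_apply, D.φ_comp, id]
  have himg : ∀ {T' T'' : Scheme.{u}} (r : T'' ⟶ T') (t : T' ⟶ T) (y : T' ⟶ X)
      (hy : y ≫ g = t ≫ s) (z : T' ⟶ X₁) (hz : z ≫ g₁ = t ≫ s) (t' : T'' ⟶ T) (y' : T'' ⟶ X)
      (ht : r ≫ t = t') (hy₁ : r ≫ y = y') (hy' : y' ≫ g = t' ≫ s) (hz' : (r ≫ z) ≫ g₁ = t' ≫ s),
      (img t' y' hy' (r ≫ z) hz').1 = r ≫ (img t y hy z hz).1 := by
    intro T' T'' r t y hy z hz t' y' ht hy₁ hy' hz'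
    exact D.φ_natural r _ _ _ _ _ (Category.assoc _ _ _).symm hy₁ _ _ _
      (lpe_natural _ _ r z (r ≫ z) _ _ (c'.nat (i := PUnit.unit) r t z hz t' (r ≫ z) ht rfl hz'))
  have key : ∀ {T₃ : Scheme.{u}} {t₁ t₂ : T₃ ⟶ T} (_ : t₁ = t₂) {y₁ y₂ : T₃ ⟶ X} (_ : y₁ = y₂)
      (h₁ : y₁ ≫ g = t₁ ≫ s) (h₂ : y₂ ≫ g = t₂ ≫ s) (z : T₃ ⟶ X₁) (e₁ : z ≫ g₁ = t₁ ≫ s)
      (e₂ : z ≫ g₁ = t₂ ≫ s), (img t₁ y₁ h₁ z e₁).1 = (img t₂ y₂ h₂ z e₂).1 := by
    rintro T₃ t₁ t₂ rfl y₁ y₂ rfl h₁ h₂ z e₁ e₂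
    rfl
  have hglue : ∀ {T' : Scheme.{u}} (t : T' ⟶ T) (y : T' ⟶ X) (hy : y ≫ g = t ≫ s),
      ∃ a : Lifts (D.obj ⟨⟩) y, ∀ {T'' : Scheme.{u}} (r : T'' ⟶ T') (z : T'' ⟶ X₁)
        (hz : z ≫ g₁ = (r ≫ t) ≫ s),
        r ≫ a.1 = (img (r ≫ t) (r ≫ y) (by rw [Category.assoc, hy, Category.assoc]) z hz).1 := by
    intro T' t y hy
    let r₀ := pullback.fst (t ≫ s) g₁
    let z₀ := pullback.snd (t ≫ s) g₁
    have hz₀ : z₀ ≫ g₁ = (r₀ ≫ t) ≫ s := by rw [Category.assoc]; exact pullback.condition.symm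
    have hy₀ : (r₀ ≫ y) ≫ g = (r₀ ≫ t) ≫ s := by rw [Category.assoc, hy, Category.assoc]
    let q₀ := pullback.fst r₀ r₀
    let q₁ := pullback.snd r₀ r₀
    have c0 : q₀ ≫ r₀ = q₁ ≫ r₀ := pullback.condition
    have hy₂ : ((q₀ ≫ r₀) ≫ y) ≫ g = ((q₀ ≫ r₀) ≫ t) ≫ s := by simp only [Category.assoc, hy]
    have hy₃ : ((q₁ ≫ r₀) ≫ y) ≫ g = ((q₁ ≫ r₀) ≫ t) ≫ s := by simp only [Category.assoc, hy]
    have hz₂ : (q₀ ≫ z₀) ≫ g₁ = ((q₀ ≫ r₀) ≫ t) ≫ s := by rw [Category.assoc, hz₀]; simp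
    have hz₃ : (q₁ ≫ z₀) ≫ g₁ = ((q₁ ≫ r₀) ≫ t) ≫ s := by rw [Category.assoc, hz₀]; simp
    have hz₄ : (q₁ ≫ z₀) ≫ g₁ = ((q₀ ≫ r₀) ≫ t) ≫ s := by rw [hz₃, c0]
    obtain ⟨a, ha, hab⟩ := exists_descend_lift r₀ (D.obj ⟨⟩).hom
      (MorphismProperty.pullback_fst (P := MorphismProperty.universally _) _ _ hg₁) y
      (img (r₀ ≫ t) (r₀ ≫ y) hy₀ z₀ hz₀).1 (img (r₀ ≫ t) (r₀ ≫ y) hy₀ z₀ hz₀).2
      ((himg q₀ (r₀ ≫ t) (r₀ ≫ y) hy₀ z₀ hz₀ _ _ (Category.assoc _ _ _).symm (Category.assoc _ _ _).symm hy₂ hz₂).symm.trans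
        ((congrArg Subtype.val (hind _ _ hy₂ _ hz₂ (q₁ ≫ z₀) hz₄)).trans
          ((key (by rw [c0]) (by rw [c0]) hy₂ hy₃ _ hz₄ hz₃).trans
            (himg q₁ (r₀ ≫ t) (r₀ ≫ y) hy₀ z₀ hz₀ _ _ (Category.assoc _ _ _).symm
              (Category.assoc _ _ _).symm hy₃ hz₃))))
    refine ⟨⟨a, ha⟩, fun {T''} r z hz => ?_⟩
    let l : T'' ⟶ pullback (t ≫ s) g₁ := pullback.lift r z (by rw [hz, Category.assoc])
    have hl₁ : l ≫ r₀ = r := pullback.lift_fst _ _ _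
    have hl₂ : l ≫ z₀ = z := pullback.lift_snd _ _ _
    have hy₄ : (r ≫ y) ≫ g = (r ≫ t) ≫ s := by rw [Category.assoc, hy, Category.assoc]
    have hz₅ : (l ≫ z₀) ≫ g₁ = (r ≫ t) ≫ s := by rw [hl₂, hz]
    show r ≫ a = _
    refine ((congrArg (· ≫ a) hl₁.symm).trans ((Category.assoc _ _ _).trans (congrArg (l ≫ ·) hab))).trans ?_
    refine (himg l (r₀ ≫ t) (r₀ ≫ y) hy₀ z₀ hz₀ (r ≫ t) (r ≫ y) (by rw [reassoc_of% hl₁])
      (by rw [reassoc_of% hl₁]) hy₄ hz₅).symm.trans ?_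
    exact congrArg Subtype.val (hind _ _ hy₄ _ hz₅ z hz)
  choose a ha using @hglue
  refine ⟨{ pt := fun T' t i y hy => a t y hy, nat := ?_, comp := ?_ }, ?_⟩
  · intro T' T'' q t i y hy t' y' hq hy₁ hy'
    obtain ⟨⟩ := i
    subst hq hy₁
    haveI := surjective_of_univSubmersive hg₁ ((q ≫ t) ≫ s)
    refine hom_ext_of_surjective_etale (pullback.fst ((q ≫ t) ≫ s) g₁) (D.obj ⟨⟩).hom
      ((a _ _ _).2.trans (((Category.assoc _ _ _).trans (congrArg (q ≫ ·) (a t y hy).2)).symm)) ?_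
    let r := pullback.fst ((q ≫ t) ≫ s) g₁
    let z := pullback.snd ((q ≫ t) ≫ s) g₁
    have hz : z ≫ g₁ = r ≫ (q ≫ t) ≫ s := pullback.condition.symm
    have hz₁ : z ≫ g₁ = (r ≫ q ≫ t) ≫ s := by rw [hz]; simp
    have hz₂ : z ≫ g₁ = ((r ≫ q) ≫ t) ≫ s := by rw [hz]; simp
    refine (ha _ _ _ r z hz₁).trans (Eq.trans ?_ ((ha _ _ _ (r ≫ q) z hz₂).symm.trans (Category.assoc _ _ _)))
    exact key (Category.assoc _ _ _).symm (Category.assoc _ _ _).symm
      (by simp only [Category.assoc, hy]) (by simp only [Category.assoc, hy]) _ _ _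
  · intro T' t i l y y' hy hy'
    obtain ⟨⟩ := i
    obtain ⟨⟩ := l
    refine Subtype.ext ?_
    haveI := surjective_of_univSubmersive hg₁ (t ≫ s)
    refine hom_ext_of_surjective_etale (pullback.fst (t ≫ s) g₁) (D.obj ⟨⟩).hom
      ((D.φ (i := PUnit.unit) (j := PUnit.unit) y y' (hy.trans hy'.symm) (a t y hy)).2.trans (a t y' hy').2.symm) ?_
    let r := pullback.fst (t ≫ s) g₁
    let z := pullback.snd (t ≫ s) g₁
    have hz₁ : z ≫ g₁ = (r ≫ t) ≫ s := by rw [Category.assoc]; exact pullback.condition.symm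
    show r ≫ _ = r ≫ _
    rw [ha _ _ _ r z hz₁, ← D.φ_natural r y y' (hy.trans hy'.symm) (r ≫ y) (r ≫ y') rfl rfl
      (by rw [Category.assoc, hy, Category.assoc, hy']) (a t y hy) ⟨r ≫ (a t y hy).1, by rw [Category.assoc, (a t y hy).2]⟩ rfl]
    have e : (⟨r ≫ (a t y hy).1, by rw [Category.assoc, (a t y hy).2]⟩ : Lifts (D.obj ⟨⟩) (r ≫ y)) =
        img (r ≫ t) (r ≫ y) (by rw [Category.assoc, hy, Category.assoc]) z hz₁ := Subtype.ext (ha _ _ _ r z hz₁)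
    rw [e]
    simp only [img, D.φ_comp]
  · refine Compat.ext fun T' t k z hz => ?_
    obtain ⟨⟩ := k
    refine congrArg Subtype.val ((liftsPullbackEquiv (D.obj ⟨⟩) p z).symm_apply_eq.2 (Subtype.ext ?_))
    have hz₁ : z ≫ g₁ = (𝟙 T' ≫ t) ≫ s := by rw [hz, Category.id_comp]
    have hh : (z ≫ p) ≫ g = t ≫ s := by rw [Category.assoc, hp, hz]
    show (a t (z ≫ p) hh).1 = _
    rw [← Category.id_comp (a t (z ≫ p) hh).1, ha _ _ _ (𝟙 T') z hz₁]
    simp only [img]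
    have key' : ∀ {t' : T' ⟶ T} (y : T' ⟶ X) (hy : (z ≫ p) ≫ g = y ≫ g)
        (h' : z ≫ g₁ = t' ≫ s), t' = t → y = z ≫ p →
        (D.φ (i := PUnit.unit) (j := PUnit.unit) (z ≫ p) y hy
          (liftsPullbackEquiv (D.obj ⟨⟩) p z (c'.pt (i := PUnit.unit) t' z h'))).1 =
          (liftsPullbackEquiv (D.obj ⟨⟩) p z (c'.pt (i := PUnit.unit) t z hz)).1 := by
      rintro t' y hy h' rfl rfl
      rw [D.φ_self]
    exact key' _ _ _ (Category.id_comp _) (Category.id_comp _)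

include hg₁ in
/-- Effectivity descends from a universally submersive refinement. -/
theorem iso_of_refine {U : Over S} (hU : Etale U.hom)
    (J : (toDDFam (fun _ : PUnit.{1} => g₁)).obj U ≅ refineDD hp D) :
    Nonempty ((toDDFam (fun _ : PUnit.{1} => g)).obj U ≅ D) := by
  haveI := hU
  obtain ⟨c', hu⟩ := repBy_of_iso_etale hg₁ J
  obtain ⟨c₀, rfl⟩ := refine_pull_surjective hp hg₁ U.hom c'
  refine iso_of_repBy ⟨c₀, fun T x c => ?_⟩
  obtain ⟨q, hq, huniq⟩ := hu x (c.pull (f' := fun _ : PUnit.{1} => g₁) (α := id) (j := 𝟙 S) (g := fun _ => p) (refW (hp := hp)) (Category.comp_id x))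
  refine ⟨q, refine_pull_injective hp hg₁ x ?_, fun q' hq' => huniq q' ?_⟩
  · exact (Compat.pull_res (f := fun _ : PUnit.{1} => g) (f' := fun _ : PUnit.{1} => g₁) (α := id) (j := 𝟙 S) (g := fun _ => p) (refW (hp := hp)) (Category.comp_id _) c₀ q.1 x q.2 _ q.2 (Category.comp_id _)).trans hq
  · exact (Compat.pull_res (f := fun _ : PUnit.{1} => g) (f' := fun _ : PUnit.{1} => g₁) (α := id) (j := 𝟙 S) (g := fun _ => p) (refW (hp := hp)) (Category.comp_id _) c₀ q'.1 x q'.2 _ q'.2 (Category.comp_id _)).symm.trans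
      (congrArg (Compat.pull (f := fun _ : PUnit.{1} => g) (f' := fun _ : PUnit.{1} => g₁) (α := id) (j := 𝟙 S) (g := fun _ => p) (refW (hp := hp)) (Category.comp_id x)) hq')

end Groth.Agent.DescLib
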