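import Groth.Agent.DescLib.EtSection
import Groth.Agent.DescLib.EtProper
import Groth.Agent.DescLib.EtRefine
import Groth.Agent.HTopCov.QfhUnibranch

/-!
# Etale descent along universally open surjections of finite presentation, over an arbitrary base
-/

universe u

set_option autoImplicit false
set_option backward.isDefEq.respectTransparency false
set_option backward.isDefEq.respectTransparency.types false
set_option linter.style.haveILetI false

open CategoryTheory CategoryTheory.Limits AlgebraicGeometry Opposite Desc IsLocalRing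

namespace Groth.Agent.DescLib

variable {S X : Scheme.{u}} {g : X ⟶ S} {D : SchDDFam (fun _ : PUnit.{1} => g)}

/-- A proper surjective refinement of finite presentation gives effectivity. -/
theorem effective_of_proper_refinement [Etale (D.obj ⟨⟩).hom] [QuasiCompact (D.obj ⟨⟩).hom]
    [IsSeparated (D.obj ⟨⟩).hom] {T : Scheme.{u}} (p : T ⟶ X) [IsProper (p ≫ g)] [Surjective (p ≫ g)]
    [LocallyOfFinitePresentation (p ≫ g)] :
    ∃ U : Over S, Etale U.hom ∧ Nonempty ((toDDFam (fun _ : PUnit.{1} => g)).obj U ≅ D) := by
  haveI : Etale ((refineDD (p := p) rfl D).obj ⟨⟩).hom :=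
    inferInstanceAs (Etale (pullback.snd (D.obj ⟨⟩).hom p))
  haveI : QuasiCompact ((refineDD (p := p) rfl D).obj ⟨⟩).hom :=
    inferInstanceAs (QuasiCompact (pullback.snd (D.obj ⟨⟩).hom p))
  haveI : IsSeparated ((refineDD (p := p) rfl D).obj ⟨⟩).hom :=
    inferInstanceAs (IsSeparated (pullback.snd (D.obj ⟨⟩).hom p))
  obtain ⟨U, hU, ⟨J⟩⟩ := effective_etale_proper (D := refineDD (p := p) rfl D)
  exact ⟨U, hU, iso_of_refine rfl (univSubmersive_of_universallyClosed (p ≫ g)) hU J⟩

/-- Universally open surjections of finite presentation are of effective descent for separated quasi-compact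
etale schemes, over an arbitrary base. -/
theorem effective_etale_open [LocallyOfFinitePresentation g] [QuasiCompact g] [QuasiSeparated g] [UniversallyOpen g]
    [Surjective g] [Etale (D.obj ⟨⟩).hom] [QuasiCompact (D.obj ⟨⟩).hom] [IsSeparated (D.obj ⟨⟩).hom] :
    ∃ U : Over S, Etale U.hom ∧ Nonempty ((toDDFam (fun _ : PUnit.{1} => g)).obj U ≅ D) := by
  have hg : SGA1.UnivSubmersive g := HTopCov.univSubmersive_of_open g
  refine (S5125.result g hg D).2 fun a => ?_
  let R := S.presheaf.stalk a
  let B := Hensel.StrictHenz R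
  haveI : IsSepClosed (ResidueField B) :=
    (Hensel.isSepClosure_residueField_strictHenz R).sep_closed
  haveI : Module.FaithfullyFlat R B := inferInstance
  have hl : Flat (Spec.map (CommRingCat.ofHom (algebraMap R B))) ∧
      Surjective (Spec.map (CommRingCat.ofHom (algebraMap R B))) :=
    (flat_and_surjective_SpecMap_iff _).2 (RingHom.faithfullyFlat_algebraMap_iff.2 ‹_›)
  haveI := hl.1
  haveI := hl.2
  let l : Spec (CommRingCat.of B) ⟶ Spec R := Spec.map (CommRingCat.ofHom (algebraMap R B))
  let p' := l ≫ S.fromSpecStalk a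
  refine EtEff.of_fpqc hg l rfl ?_
  haveI : Etale ((pullOne p' D).obj ⟨⟩).hom :=
    inferInstanceAs (Etale (pullback.snd (D.obj ⟨⟩).hom (pullback.fst g p')))
  haveI : QuasiCompact ((pullOne p' D).obj ⟨⟩).hom :=
    inferInstanceAs (QuasiCompact (pullback.snd (D.obj ⟨⟩).hom (pullback.fst g p')))
  haveI : IsSeparated ((pullOne p' D).obj ⟨⟩).hom :=
    inferInstanceAs (IsSeparated (pullback.snd (D.obj ⟨⟩).hom (pullback.fst g p')))
  haveI : UniversallyOpen (pullback.snd g p') := MorphismProperty.pullback_snd _ _ inferInstance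
  obtain ⟨T, p, h1, h2, h3⟩ := exists_finite_refinement_strict (pullback.snd g p')
  haveI := h1
  haveI := h2
  haveI := h3
  exact effective_of_proper_refinement p

end Groth.Agent.DescLib
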