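import Mathlib.RingTheory.TensorProduct.DirectLimitFG
import Mathlib.RingTheory.TensorProduct.Maps
import Mathlib.RingTheory.Ideal.Operations
import Mathlib.RingTheory.LocalRing.MaximalIdeal.Basic
import Mathlib.RingTheory.Spectrum.Prime.Basic

/-!
# Non-lifting of a pair of primes over a valuation ring is seen at a finitely generated subalgebra
-/

universe u

set_option autoImplicit false
set_option backward.isDefEq.respectTransparency false
set_option backward.isDefEq.respectTransparency.types false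

open TensorProduct IsLocalRing

namespace Groth.Agent.DescLib

variable {A B V : Type u} [CommRing A] [CommRing B] [CommRing V] [Algebra A B] [Algebra A V]

/-- The comparison `A' ⊗ B → A'' ⊗ B` of subalgebras. -/
noncomputable abbrev inclT (B : Type u) [CommRing B] [Algebra A B] {A₁ A₂ : Subalgebra A V} (h : A₁ ≤ A₂) :
    A₁ ⊗[A] B →ₐ[A] A₂ ⊗[A] B :=
  Algebra.TensorProduct.map (Subalgebra.inclusion h) (AlgHom.id A B)

/-- The comparison `A' ⊗ B → V ⊗ B`. -/
noncomputable abbrev valT (B : Type u) [CommRing B] [Algebra A B] (A₁ : Subalgebra A V) :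
    A₁ ⊗[A] B →ₐ[A] V ⊗[A] B :=
  Algebra.TensorProduct.map A₁.val (AlgHom.id A B)

lemma valT_eq (A₁ : Subalgebra A V) (z : A₁ ⊗[A] B) :
    valT B A₁ z = LinearMap.rTensor B A₁.val.toLinearMap z := by
  induction z using TensorProduct.induction_on with
  | zero => simp
  | tmul a b => simp [valT]
  | add p q hp hq => rw [map_add, map_add, hp, hq]

lemma inclT_eq {A₁ A₂ : Subalgebra A V} (h : A₁ ≤ A₂) (z : A₁ ⊗[A] B) :
    inclT B h z = LinearMap.rTensor B (Subalgebra.inclusion h).toLinearMap z := by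
  induction z using TensorProduct.induction_on with
  | zero => simp
  | tmul a b => simp [inclT]
  | add p q hp hq => rw [map_add, map_add, hp, hq]

lemma valT_inclT {A₁ A₂ : Subalgebra A V} (h : A₁ ≤ A₂) (z : A₁ ⊗[A] B) :
    valT B A₂ (inclT B h z) = valT B A₁ z := by
  induction z using TensorProduct.induction_on with
  | zero => simp
  | tmul a b => simp [valT, inclT]
  | add p q hp hq => rw [map_add, map_add, map_add, hp, hq]

lemma inclT_inclT {A₁ A₂ A₃ : Subalgebra A V} (h : A₁ ≤ A₂) (h' : A₂ ≤ A₃) (z : A₁ ⊗[A] B) :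
    inclT B h' (inclT B h z) = inclT B (h.trans h') z := by
  induction z using TensorProduct.induction_on with
  | zero => simp
  | tmul a b => simp [inclT]
  | add p q hp hq => rw [map_add, map_add, map_add, hp, hq]

lemma inclT_includeLeft {A₁ A₂ : Subalgebra A V} (h : A₁ ≤ A₂) (a : A₁) :
    inclT B h (a ⊗ₜ 1) = (Subalgebra.inclusion h a) ⊗ₜ 1 := by
  simp [inclT]

lemma exists_fg_range (x : V ⊗[A] B) : ∃ A₁ : Subalgebra A V, A₁.FG ∧ ∃ z, valT B A₁ z = x := by
  obtain ⟨A₁, hA₁, z, hz⟩ := TensorProduct.Algebra.exists_of_fg (R := A) (S := V) (N := B) x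
  exact ⟨A₁, hA₁, z, (valT_eq A₁ z).trans hz⟩

lemma exists_fg_kill {A₁ : Subalgebra A V} (hA₁ : A₁.FG) (z : A₁ ⊗[A] B) (hz : valT B A₁ z = 0) :
    ∃ (A₂ : Subalgebra A V) (h : A₁ ≤ A₂), A₂.FG ∧ inclT B h z = 0 := by
  rw [valT_eq] at hz
  obtain ⟨A₂, h, hA₂, e⟩ := TensorProduct.Algebra.eq_of_fg_of_subtype_eq (R := A) (S := V) (N := B) hA₁
    (t := z) (t' := 0) (by rw [hz, map_zero])
  exact ⟨A₂, h, hA₂, by rw [inclT_eq, e, map_zero]⟩

/-- If no chain of primes of `V ⊗ B` lies over the pair `(0, m)` then the same holds over a finitely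
generated subalgebra and all bigger ones. -/
theorem exists_fg_no_chain [IsDomain V] [IsLocalRing V]
    (h : ∀ q' q : Ideal (V ⊗[A] B), q'.IsPrime → q.IsPrime → q' ≤ q →
      q'.comap Algebra.TensorProduct.includeLeftRingHom = ⊥ →
      q.comap Algebra.TensorProduct.includeLeftRingHom = maximalIdeal V → False) :
    ∃ A₀ : Subalgebra A V, A₀.FG ∧ ∀ A' : Subalgebra A V, A₀ ≤ A' →
      ∀ q' q : Ideal (A' ⊗[A] B), q'.IsPrime → q.IsPrime → q' ≤ q →
        q'.comap Algebra.TensorProduct.includeLeftRingHom = ⊥ →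
        q.comap Algebra.TensorProduct.includeLeftRingHom = (maximalIdeal V).comap A'.val.toRingHom → False := by
  let ι : V →+* V ⊗[A] B := Algebra.TensorProduct.includeLeftRingHom
  let T : Ideal (V ⊗[A] B) :=
    { carrier := {t | ∃ c : V, c ≠ 0 ∧ ι c * t = 0}
      zero_mem' := ⟨1, one_ne_zero, by simp⟩
      add_mem' := by
        rintro s t ⟨c, hc, hs⟩ ⟨d, hd, ht⟩
        refine ⟨c * d, mul_ne_zero hc hd, ?_⟩
        rw [map_mul, mul_add, mul_right_comm, hs, zero_mul, mul_assoc, ht, mul_zero, add_zero]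
      smul_mem' := by
        rintro r t ⟨c, hc, ht⟩
        exact ⟨c, hc, by rw [smul_eq_mul, mul_left_comm, ht, mul_zero]⟩ }
  have htop : (maximalIdeal V).map ι ⊔ T = ⊤ := by
    by_contra hne
    obtain ⟨q, hq, hle⟩ := Ideal.exists_le_maximal _ hne
    haveI := hq.isPrime
    have hqm : q.comap ι = maximalIdeal V :=
      ((maximalIdeal.isMaximal V).eq_of_le (Ideal.IsPrime.comap ι).ne_top
        (Ideal.map_le_iff_le_comap.1 (le_sup_left.trans hle))).symm
    let M : Submonoid (V ⊗[A] B) := (nonZeroDivisors V).map ι ⊔ q.primeCompl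
    have hdisj : Disjoint ((⊥ : Ideal (V ⊗[A] B)) : Set (V ⊗[A] B)) M := by
      refine Set.disjoint_left.2 fun x hx hxM => ?_
      obtain ⟨y, hy, s, hs, e⟩ := Submonoid.mem_sup.1 hxM
      obtain ⟨c, hc, rfl⟩ := Submonoid.mem_map.1 hy
      rw [SetLike.mem_coe, Ideal.mem_bot] at hx
      exact hs (hle (Ideal.mem_sup_right ⟨c, nonZeroDivisors.ne_zero hc, e.trans hx⟩))
    obtain ⟨q', hq', -, hd⟩ := Ideal.exists_le_prime_disjoint (⊥ : Ideal (V ⊗[A] B)) M hdisj
    refine h q' q hq' inferInstance (fun x hx => by_contra fun hxq =>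
      Set.disjoint_left.1 hd hx (Submonoid.mem_sup_right (show x ∈ q.primeCompl from hxq))) ?_ hqm
    refine eq_bot_iff.2 fun c hc => by_contra fun hc0 => ?_
    exact Set.disjoint_left.1 hd (show ι c ∈ q' from hc)
      (Submonoid.mem_sup_left (Submonoid.mem_map_of_mem ι (mem_nonZeroDivisors_of_ne_zero hc0)))
  have h1 : (1 : V ⊗[A] B) ∈ (maximalIdeal V).map ι ⊔ T := htop ▸ Submodule.mem_top
  obtain ⟨x, hx, t, ⟨c, hc, hct⟩, hxt⟩ := Submodule.mem_sup.1 h1
  -- lift the element of the extended maximal ideal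
  have hlift : ∃ A₁ : Subalgebra A V, A₁.FG ∧ ∃ z : A₁ ⊗[A] B, valT B A₁ z = x ∧
      ∀ (A' : Subalgebra A V) (h' : A₁ ≤ A'), inclT B h' z ∈
        ((maximalIdeal V).comap A'.val.toRingHom).map Algebra.TensorProduct.includeLeftRingHom := by
    clear hxt
    induction hx using Submodule.span_induction with
    | mem x hx =>
      obtain ⟨m, hm, rfl⟩ := hx
      refine ⟨Algebra.adjoin A {m}, ⟨{m}, by simp⟩, (⟨m, Algebra.subset_adjoin rfl⟩ : Algebra.adjoin A {m}) ⊗ₜ 1,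
        by simp [valT, ι], fun A' h' => ?_⟩
      rw [inclT_includeLeft]
      exact Ideal.mem_map_of_mem _ (show (Subalgebra.inclusion h' ⟨m, _⟩ : A') ∈
        (maximalIdeal V).comap A'.val.toRingHom from hm)
    | zero => exact ⟨⊥, Subalgebra.fg_bot, 0, map_zero _, fun A' h' => by rw [map_zero]; exact zero_mem _⟩
    | add a b _ _ iha ihb =>
      obtain ⟨A₁, h₁, z₁, e₁, m₁⟩ := iha
      obtain ⟨A₂, h₂, z₂, e₂, m₂⟩ := ihb
      refine ⟨A₁ ⊔ A₂, h₁.sup h₂, inclT B (le_sup_left : A₁ ≤ A₁ ⊔ A₂) z₁ + inclT B (le_sup_right : A₂ ≤ A₁ ⊔ A₂) z₂,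
        by rw [map_add, valT_inclT, valT_inclT, e₁, e₂], fun A' h' => ?_⟩
      rw [map_add, inclT_inclT, inclT_inclT]
      exact Ideal.add_mem _ (m₁ A' _) (m₂ A' _)
    | smul r a _ iha =>
      obtain ⟨A₁, h₁, z₁, e₁, m₁⟩ := iha
      obtain ⟨A₂, h₂, z₂, e₂⟩ := exists_fg_range r
      refine ⟨A₁ ⊔ A₂, h₁.sup h₂, inclT B (le_sup_right : A₂ ≤ A₁ ⊔ A₂) z₂ * inclT B (le_sup_left : A₁ ≤ A₁ ⊔ A₂) z₁,
        by rw [map_mul, valT_inclT, valT_inclT, e₁, e₂, smul_eq_mul], fun A' h' => ?_⟩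
      rw [map_mul, inclT_inclT, inclT_inclT]
      exact Ideal.mul_mem_left _ _ (m₁ A' _)
  obtain ⟨A₁, h₁, zx, ex, mx⟩ := hlift
  obtain ⟨A₂, h₂, zt, et⟩ := exists_fg_range t
  let A₃ := A₁ ⊔ A₂ ⊔ Algebra.adjoin A {c}
  have h₃ : A₃.FG := (h₁.sup h₂).sup ⟨{c}, by simp⟩
  have l₁ : A₁ ≤ A₃ := le_sup_left.trans le_sup_left
  have l₂ : A₂ ≤ A₃ := le_sup_right.trans le_sup_left
  let c' : A₃ := ⟨c, le_sup_right (a := A₁ ⊔ A₂) (Algebra.subset_adjoin rfl)⟩
  obtain ⟨A₄, h₄, hA₄, e₄⟩ := exists_fg_kill h₃ (1 - (inclT B l₁ zx + inclT B l₂ zt))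
    (by rw [map_sub, map_one, map_add, valT_inclT, valT_inclT, ex, et, hxt, sub_self])
  obtain ⟨A₅, h₅, hA₅, e₅⟩ := exists_fg_kill hA₄ (inclT B h₄ ((c' ⊗ₜ 1) * inclT B l₂ zt))
    (by rw [valT_inclT, map_mul, valT_inclT, et]; exact (by simpa [valT, ι, c'] using hct))
  refine ⟨A₅, hA₅, fun A' h' q' q hq' hq hle hq0 hqp => ?_⟩
  have L : A₃ ≤ A' := (h₄.trans h₅).trans h'
  have E₄ := congrArg (inclT B (h₅.trans h')) e₄
  rw [map_sub, map_one, map_add, map_zero, map_sub, map_one, map_add, inclT_inclT, inclT_inclT, inclT_inclT,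
    inclT_inclT, sub_eq_zero] at E₄
  have E₅ := congrArg (inclT B h') e₅
  rw [map_zero, inclT_inclT, inclT_inclT, map_mul, inclT_inclT, inclT_includeLeft] at E₅
  have hq'c : (Subalgebra.inclusion L c' : A') ⊗ₜ[A] (1 : B) ∉ q' := fun hmem => by
    have := (Ideal.ext_iff.1 hq0 (Subalgebra.inclusion L c')).1 hmem
    exact hc (congrArg Subtype.val (Ideal.mem_bot.1 this))
  have ht : inclT B ((l₂.trans L)) zt ∈ q :=
    hle ((hq'.mem_or_mem (E₅ ▸ Submodule.zero_mem q')).resolve_left hq'c)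
  refine hq.ne_top ((Ideal.eq_top_iff_one _).2 (E₄ ▸ Ideal.add_mem _ ?_ ht))
  exact Ideal.map_le_iff_le_comap.2 hqp.ge (mx A' _)

end Groth.Agent.DescLib
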