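import Groth.Agent.DescLib.SubtrVal
import Groth.Agent.DescLib.SubtrRing
import Mathlib.AlgebraicGeometry.Pullbacks
import Mathlib.Algebra.Category.Ring.Constructions
import Mathlib.AlgebraicGeometry.Morphisms.QuasiCompact

/-!
# Lifting pairs of points of quasi-compact morphisms is tested on finite type schemes over the base
-/

universe u

set_option autoImplicit false
set_option backward.isDefEq.respectTransparency false
set_option backward.isDefEq.respectTransparency.types false

open CategoryTheory CategoryTheory.Limits AlgebraicGeometry IsLocalRing TensorProduct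

namespace Groth.Agent.DescLib

lemma isPullback_comp_mono {P X Y Z W : Scheme.{u}} {fst : P ⟶ X} {snd : P ⟶ Y} {f : X ⟶ Z} {g : Y ⟶ Z}
    (h : IsPullback fst snd f g) (m : Z ⟶ W) [Mono m] : IsPullback fst snd (f ≫ m) (g ≫ m) :=
  IsPullback.of_isLimit' ⟨by rw [← Category.assoc, h.w, Category.assoc]⟩
    (PullbackCone.IsLimit.mk _
      (fun s => h.lift s.fst s.snd (by rw [← cancel_mono m, Category.assoc, Category.assoc]; exact s.condition))
      (fun s => h.lift_fst _ _ _) (fun s => h.lift_snd _ _ _)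
      (fun s k h₁ h₂ => h.hom_ext (by simpa using h₁) (by simpa using h₂)))

variable {X Y : Scheme.{u}}

/-- Some finite type affine scheme over an affine open of `Y` witnesses the failure of lifting a pair. -/
theorem exists_fg_failure (f : X ⟶ Y) [QuasiCompact f] {U : Y.Opens} (hU : IsAffineOpen U)
    (V : Type u) [CommRing V] [IsDomain V] [IsLocalRing V] [Algebra Γ(Y, U) V]
    (hfail : ¬ ∃ x x' : ↑(pullback f (Spec.map (CommRingCat.ofHom (algebraMap Γ(Y, U) V)) ≫ hU.fromSpec)),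
      x' ⤳ x ∧
      pullback.snd f (Spec.map (CommRingCat.ofHom (algebraMap Γ(Y, U) V)) ≫ hU.fromSpec) x = closedPoint V ∧
      pullback.snd f (Spec.map (CommRingCat.ofHom (algebraMap Γ(Y, U) V)) ≫ hU.fromSpec) x' = etaPt V) :
    ∃ A' : Subalgebra Γ(Y, U) V, A'.FG ∧
      ¬ ∃ x x' : ↑(pullback f (Spec.map (CommRingCat.ofHom (algebraMap Γ(Y, U) A')) ≫ hU.fromSpec)),
      x' ⤳ x ∧
      pullback.snd f (Spec.map (CommRingCat.ofHom (algebraMap Γ(Y, U) A')) ≫ hU.fromSpec) x =
        PrimeSpectrum.comap A'.val.toRingHom (closedPoint V) ∧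
      pullback.snd f (Spec.map (CommRingCat.ofHom (algebraMap Γ(Y, U) A')) ≫ hU.fromSpec) x' = etaPt A' := by
  choose W hW hWx hWle using fun x : f ⁻¹ᵁ U => exists_isAffineOpen_mem_and_subset x.2
  obtain ⟨t, ht⟩ := (f.isCompact_preimage hU.isCompact).elim_finite_subcover (fun x => (W x : Set X))
    (fun x => (W x).2) fun x hx => Set.mem_iUnion.2 ⟨⟨x, hx⟩, hWx _⟩
  have hk : ∀ k : f ⁻¹ᵁ U, ∃ A₀ : Subalgebra Γ(Y, U) V, A₀.FG ∧ ∀ A' : Subalgebra Γ(Y, U) V, A₀ ≤ A' →
      ∀ x x' : ↑(pullback f (Spec.map (CommRingCat.ofHom (algebraMap Γ(Y, U) A')) ≫ hU.fromSpec)),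
      pullback.fst f _ x ∈ W k → x' ⤳ x →
      pullback.snd f (Spec.map (CommRingCat.ofHom (algebraMap Γ(Y, U) A')) ≫ hU.fromSpec) x =
        PrimeSpectrum.comap A'.val.toRingHom (closedPoint V) →
      pullback.snd f (Spec.map (CommRingCat.ofHom (algebraMap Γ(Y, U) A')) ≫ hU.fromSpec) x' = etaPt A' → False := by
    intro k
    letI : Algebra Γ(Y, U) Γ(X, W k) := (f.appLE U (W k) (hWle k)).hom.toAlgebra
    have hsq : ∀ (C : Type u) [CommRing C] [Algebra Γ(Y, U) C],
        IsPullback (Spec.map (CommRingCat.ofHom (Algebra.TensorProduct.includeRight :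
            Γ(X, W k) →ₐ[Γ(Y, U)] C ⊗[Γ(Y, U)] Γ(X, W k)).toRingHom))
          (Spec.map (CommRingCat.ofHom (Algebra.TensorProduct.includeLeftRingHom :
            C →+* C ⊗[Γ(Y, U)] Γ(X, W k))))
          ((hW k).fromSpec ≫ f) (Spec.map (CommRingCat.ofHom (algebraMap Γ(Y, U) C)) ≫ hU.fromSpec) := by
      intro C _ _
      rw [← hU.SpecMap_appLE_fromSpec f (hW k) (hWle k)]
      exact isPullback_comp_mono (isPullback_SpecMap_of_isPushout _ _ _ _
        (CommRingCat.isPushout_tensorProduct Γ(Y, U) C Γ(X, W k)).flip) hU.fromSpec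
    obtain ⟨A₀, hA₀, hA⟩ := exists_fg_no_chain (A := Γ(Y, U)) (B := Γ(X, W k)) (V := V)
      (fun q' q hq' hq hle h0 hm => by
        let P : Spec (CommRingCat.of (V ⊗[Γ(Y, U)] Γ(X, W k))) := (⟨q, hq⟩ : PrimeSpectrum _)
        let P' : Spec (CommRingCat.of (V ⊗[Γ(Y, U)] Γ(X, W k))) := (⟨q', hq'⟩ : PrimeSpectrum _)
        let j := pullback.lift (f := f) _ _ ((Category.assoc _ _ _).trans (hsq V).w)
        refine hfail ⟨j P, j P', ((PrimeSpectrum.le_iff_specializes (⟨q', hq'⟩ : PrimeSpectrum _) ⟨q, hq⟩).1 hle).map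
          j.continuous, ?_, ?_⟩
        · rw [← Scheme.Hom.comp_apply, pullback.lift_snd]
          exact PrimeSpectrum.ext hm
        · rw [← Scheme.Hom.comp_apply, pullback.lift_snd]
          exact PrimeSpectrum.ext h0)
    refine ⟨A₀, hA₀, fun A' hle x x' hxW hx e e' => ?_⟩
    let h := Spec.map (CommRingCat.ofHom (algebraMap Γ(Y, U) A')) ≫ hU.fromSpec
    let j := pullback.lift (f := f) (g := h) _ _ ((Category.assoc _ _ _).trans (hsq A').w)
    have hj : IsPullback _ j (hW k).fromSpec (pullback.fst f h) :=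
      IsPullback.of_bot (v₂₁ := pullback.snd f h) (h₃₁ := h) (v₂₂ := f)
        (by rw [pullback.lift_snd]; exact hsq A') (pullback.lift_fst _ _ _).symm
        (IsPullback.of_hasPullback f h)
    haveI : IsOpenImmersion j := MorphismProperty.of_isPullback hj inferInstance
    have hrange : ∀ z, pullback.fst f h z ∈ W k → z ∈ Set.range j := fun z hz => by
      rw [← hj.isoPullback_hom_snd, Scheme.Hom.comp_base, TopCat.coe_comp, Set.range_comp,
        Set.range_eq_univ.2 (hj.isoPullback.hom.surjective), Set.image_univ, Scheme.Pullback.range_snd,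
        Set.mem_preimage, (hW k).range_fromSpec]
      exact hz
    obtain ⟨P, rfl⟩ := hrange x hxW
    obtain ⟨P', rfl⟩ := hrange x' ((hx.map (pullback.fst f h).continuous).mem_open (W k).2 hxW)
    rw [← Scheme.Hom.comp_apply, pullback.lift_snd] at e e'
    exact hA A' hle (P' : PrimeSpectrum (A' ⊗[Γ(Y, U)] Γ(X, W k))).asIdeal
      (P : PrimeSpectrum (A' ⊗[Γ(Y, U)] Γ(X, W k))).asIdeal
      (PrimeSpectrum.isPrime _) (PrimeSpectrum.isPrime _)
      ((PrimeSpectrum.le_iff_specializes _ _).2 (j.isOpenEmbedding.isInducing.specializes_iff.1 hx))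
      (congrArg PrimeSpectrum.asIdeal e') (congrArg PrimeSpectrum.asIdeal e)
  choose A₀ hA₀ hA using hk
  refine ⟨t.sup A₀, ?_, fun ⟨x, x', hx, e, e'⟩ => ?_⟩
  · exact Finset.sup_induction (Subalgebra.fg_bot) (fun _ ha _ hb => ha.sup hb) fun k _ => hA₀ k
  · have hmem : pullback.fst f (Spec.map (CommRingCat.ofHom (algebraMap Γ(Y, U) _)) ≫ hU.fromSpec) x ∈ f ⁻¹' (U : Set Y) := by
      rw [Set.mem_preimage, ← Scheme.Hom.comp_apply, pullback.condition, Scheme.Hom.comp_apply, Scheme.Hom.comp_apply]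
      exact hU.range_fromSpec ▸ ⟨_, rfl⟩
    obtain ⟨k, hk, hxk⟩ := Set.mem_iUnion₂.1 (ht hmem)
    exact hA k _ (Finset.le_sup hk) x x' hxk hx e e'

/-- Universal lifting of pairs follows from the lifting of all pairs over finite type affine schemes. -/
theorem univSSubtrusive_of_fg (f : X ⟶ Y) [QuasiCompact f]
    (h : ∀ (U : Y.Opens) (hU : IsAffineOpen U) (C : Type u) [CommRing C] [IsDomain C] [Algebra Γ(Y, U) C]
      [Algebra.FiniteType Γ(Y, U) C],
      ∀ p : Spec (CommRingCat.of C), ∃ x x' : ↑(pullback f (Spec.map (CommRingCat.ofHom (algebraMap Γ(Y, U) C)) ≫ hU.fromSpec)),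
        x' ⤳ x ∧
        pullback.snd f (Spec.map (CommRingCat.ofHom (algebraMap Γ(Y, U) C)) ≫ hU.fromSpec) x = p ∧
        pullback.snd f (Spec.map (CommRingCat.ofHom (algebraMap Γ(Y, U) C)) ≫ hU.fromSpec) x' = etaPt C) :
    Subtr.UnivSSubtrusive f := by
  rw [univSSubtrusive_iff_valuationRing]
  intro V _ _ _ g
  refine ((tfae_over_valuationRing (pullback.snd f g)).out 1 3 rfl rfl).2 ?_
  obtain ⟨U, hU, hyU, -⟩ := exists_isAffineOpen_mem_and_subset (x := g (closedPoint V)) (U := ⊤) trivial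
  have hrange : Set.range g ⊆ Set.range hU.fromSpec := by
    rw [hU.range_fromSpec]
    rintro _ ⟨z, rfl⟩
    exact ((specializes_closedPoint z).map g.continuous).mem_open U.2 hyU
  obtain ⟨φ, hφ⟩ := Spec.map_surjective (IsOpenImmersion.lift hU.fromSpec g hrange)
  letI : Algebra Γ(Y, U) V := φ.hom.toAlgebra
  obtain rfl : g = Spec.map (CommRingCat.ofHom (algebraMap Γ(Y, U) V)) ≫ hU.fromSpec := by
    rw [show CommRingCat.ofHom (algebraMap Γ(Y, U) V) = φ from rfl, hφ, IsOpenImmersion.lift_fac]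
  by_contra hcon
  obtain ⟨A', hA', hfail⟩ := exists_fg_failure f hU V hcon
  haveI : Algebra.FiniteType Γ(Y, U) A' := ⟨(Subalgebra.fg_top A').2 hA'⟩
  exact hfail (h U hU A' _)

end Groth.Agent.DescLib
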