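import Groth.Prelude.Def_SGA1
import Groth.Agent.DescLib.SubtrFG
import Groth.Agent.S14766
import Groth.Agent.Rat20Lib.DVRDom
import Mathlib.AlgebraicGeometry.AffineSpace
import Mathlib.AlgebraicGeometry.Noetherian
import Mathlib.RingTheory.FiniteType
import Mathlib.AlgebraicGeometry.Morphisms.Immersion

/-!
# Submersive morphisms and lifting of pairs
-/

universe u

set_option autoImplicit false
set_option backward.isDefEq.respectTransparency false
set_option backward.isDefEq.respectTransparency.types false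

open CategoryTheory CategoryTheory.Limits AlgebraicGeometry IsLocalRing Topology

namespace Groth.Agent.DescLib

variable {X Y : Scheme.{u}}

/-- A surjective quasi-compact morphism is submersive once preimages detect stability under specialization. -/
theorem isQuotientMap_of_qc (f : X ⟶ Y) [QuasiCompact f] (hs : Function.Surjective f)
    (hsp : ∀ E : Set Y, IsClosed (f ⁻¹' E) → ∀ y y' : Y, y' ⤳ y → y' ∈ E → y ∈ E) :
    Topology.IsQuotientMap f := by
  rw [Topology.isQuotientMap_iff, Topology.isCoinducing_iff_isClosed]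
  refine ⟨fun E => ⟨fun hE => ?_, fun hE => hE.preimage f.continuous⟩, hs⟩
  refine isClosed_of_closure_subset fun y hy => ?_
  rw [← Set.image_preimage_eq E hs] at hy
  have hpc : ProCons.IsProConstructible (f ⁻¹' E) :=
    Groth.Agent.ProConsLib.isProConstructible_of_isLocallyClosed hE.isLocallyClosed
      (fun V hV => hV.isCompact.inter_left hE)
  obtain ⟨x, hx, hxy⟩ := Groth.Agent.ProConsLib.exists_specializes_of_mem_closure_image_scheme hpc f hy
  exact hsp E hE y (f x) hxy hx

theorem isQuotientMap_of_isSSubtrusive (f : X ⟶ Y) [QuasiCompact f] (h : Subtr.IsSSubtrusive f) :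
    Topology.IsQuotientMap f := by
  refine isQuotientMap_of_qc f (fun y => ?_) fun E hE y y' hy hy' => ?_
  · obtain ⟨x, -, -, e, -⟩ := h (specializes_refl y)
    exact ⟨x, e⟩
  · obtain ⟨x, x', hx, e, e'⟩ := h hy
    rw [← e]
    exact hx.mem_closed hE (show f x' ∈ E by rw [e']; exact hy')

theorem univSubmersive_of_univSSubtrusive (f : X ⟶ Y) [QuasiCompact f] (h : Subtr.UnivSSubtrusive f) :
    SGA1.UnivSubmersive f := fun X' Y' a b f' sq => by
  haveI : QuasiCompact f' := MorphismProperty.of_isPullback sq.flip ‹_›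
  exact isQuotientMap_of_isSSubtrusive f' (h a b f' sq)

theorem isQuotientMap_of_valuationRing_base (f : X ⟶ Y) [QuasiCompact f]
    (h : ∀ (V : Type u) [CommRing V] [IsDomain V] [ValuationRing V] (g : Spec (CommRingCat.of V) ⟶ Y),
      Topology.IsQuotientMap (pullback.snd f g)) : Topology.IsQuotientMap f := by
  refine isQuotientMap_of_qc f (fun y => ?_) fun E hE y y' hy hy' => ?_
  · obtain ⟨V, _, _, _, g, q, -, hgq⟩ := exists_valuationRing_chain (n := 0) (fun _ => y) fun _ _ _ => specializes_rfl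
    obtain ⟨p, hp⟩ := (h V g).surjective (q 0)
    exact ⟨pullback.fst f g p, by rw [← Scheme.Hom.comp_apply, pullback.condition, Scheme.Hom.comp_apply, hp, hgq]⟩
  · obtain ⟨V, _, _, _, g, q, hq, hgq⟩ := exists_valuationRing_chain (n := 1) ![y', y] (fun i j hij => by
      match i, j with
      | 0, 0 => exact specializes_rfl
      | 0, 1 => exact hy
      | 1, 0 => exact absurd hij (by decide)
      | 1, 1 => exact specializes_rfl)
    have hcl : IsClosed (g ⁻¹' E) := by
      rw [← (Topology.isCoinducing_iff_isClosed.1 (h V g).isCoinducing) (g ⁻¹' E), ← Set.preimage_comp,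
        show (g : _ → Y) ∘ pullback.snd f g = f ∘ pullback.fst f g from funext fun p => by
          simp only [Function.comp_apply, ← Scheme.Hom.comp_apply, pullback.condition], Set.preimage_comp]
      exact hE.preimage (pullback.fst f g).continuous
    have := (hq 0 1 (by decide)).mem_closed hcl (show g (q 0) ∈ E by rw [hgq]; exact hy')
    rw [Set.mem_preimage, hgq] at this
    exact this

theorem univSubmersive_iff_valuationRing (f : X ⟶ Y) [QuasiCompact f] :
    SGA1.UnivSubmersive f ↔
      ∀ (V : Type u) [CommRing V] [IsDomain V] [ValuationRing V] (g : Spec (CommRingCat.of V) ⟶ Y),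
        Topology.IsQuotientMap (pullback.snd f g) := by
  refine ⟨fun h V _ _ _ g => h _ _ _ (IsPullback.of_hasPullback f g).flip, fun h X' Y' a b f' sq => ?_⟩
  haveI : QuasiCompact f' := MorphismProperty.of_isPullback sq.flip ‹_›
  refine isQuotientMap_of_valuationRing_base f' fun V _ _ _ g => ?_
  have s := (IsPullback.of_hasPullback f' g).paste_horiz sq.flip
  rw [← s.isoPullback_hom_snd]
  exact (h V (g ≫ b)).comp (s.isoPullback.hom.homeomorph.isQuotientMap)

theorem univSSubtrusive_of_univSubmersive [IsLocallyNoetherian Y] (f : X ⟶ Y) [QuasiCompact f]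
    (h : SGA1.UnivSubmersive f) : Subtr.UnivSSubtrusive f := by
  refine univSSubtrusive_of_fg f fun U hU C _ _ _ _ p => ?_
  haveI : IsNoetherianRing Γ(Y, U) := IsLocallyNoetherian.component_noetherian ⟨U, hU⟩
  haveI : IsNoetherianRing C := Algebra.FiniteType.isNoetherianRing Γ(Y, U) C
  let t := Spec.map (CommRingCat.ofHom (algebraMap Γ(Y, U) C)) ≫ hU.fromSpec
  change ∃ x x' : ↑(pullback f t), _
  by_cases hp : (p : PrimeSpectrum C).asIdeal = ⊥
  · have hp' : p = etaPt C := PrimeSpectrum.ext hp
    obtain ⟨x, hx⟩ := (h _ _ _ (IsPullback.of_hasPullback f t).flip).surjective (etaPt C)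
    exact ⟨x, x, specializes_rfl, hx.trans hp'.symm, hx⟩
  obtain ⟨D, hD, hDp⟩ := Groth.Agent.Rat20Lib.exists_dvr_centre (K := FractionRing C) (p : PrimeSpectrum C).asIdeal hp
  let ψ : C →+* D := (algebraMap C (FractionRing C)).codRestrict D fun a => (hDp a).1
  let d := Spec.map (CommRingCat.ofHom ψ)
  have hSS := (Groth.Agent.S14766.result D (pullback.snd f (d ≫ t))).1
    (h _ _ _ (IsPullback.of_hasPullback f (d ≫ t)).flip)
  obtain ⟨x, x', hx, e, e'⟩ := hSS (eta_specializes (closedPoint D))
  let m : pullback f (d ≫ t) ⟶ pullback f t := pullback.lift (pullback.fst _ _) (pullback.snd _ _ ≫ d)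
    (by rw [Category.assoc, pullback.condition])
  refine ⟨m x, m x', hx.map m.continuous, ?_, ?_⟩
  · rw [← Scheme.Hom.comp_apply, pullback.lift_snd, Scheme.Hom.comp_apply, e]
    refine PrimeSpectrum.ext (Ideal.ext fun a => ?_)
    show ψ a ∈ maximalIdeal D ↔ _
    rw [IsLocalRing.mem_maximalIdeal, mem_nonunits_iff, ← (hDp a).2, ValuationSubring.mem_nonunits_iff_exists_mem_maximalIdeal]
    exact ⟨fun h => ⟨(hDp a).1, (IsLocalRing.mem_maximalIdeal _).2 h⟩,
      fun ⟨_, h⟩ => (IsLocalRing.mem_maximalIdeal _).1 h⟩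
  · rw [← Scheme.Hom.comp_apply, pullback.lift_snd, Scheme.Hom.comp_apply, e']
    refine PrimeSpectrum.ext (Ideal.ext fun a => ?_)
    show ψ a ∈ (⊥ : Ideal D) ↔ a ∈ (⊥ : Ideal C)
    rw [Ideal.mem_bot, Ideal.mem_bot, ← Subtype.val_inj]
    exact IsFractionRing.to_map_eq_zero_iff

theorem univSSubtrusive_of_affineSpace (f : X ⟶ Y) [QuasiCompact f]
    (h : ∀ n : ℕ, 0 < n → Subtr.IsSSubtrusive (pullback.snd f (AffineSpace (ULift.{u} (Fin n)) Y ↘ Y))) :
    Subtr.UnivSSubtrusive f := by
  refine univSSubtrusive_of_fg f fun U hU C _ _ _ _ p => ?_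
  obtain ⟨n, π, hπ⟩ := Algebra.FiniteType.iff_quotient_mvPolynomial''.1 ‹Algebra.FiniteType Γ(Y, U) C›
  let σ : ULift.{u} (Fin (n + 1)) → MvPolynomial (Fin n) Γ(Y, U) := fun i =>
    if hi : i.down.1 < n then MvPolynomial.X ⟨i.down.1, hi⟩ else 0
  let π' : MvPolynomial (ULift.{u} (Fin (n + 1))) Γ(Y, U) →ₐ[Γ(Y, U)] C := π.comp (MvPolynomial.aeval σ)
  have hπ' : Function.Surjective π' := hπ.comp fun z => by
    refine ⟨MvPolynomial.rename (fun j : Fin n => (⟨j.castSucc⟩ : ULift.{u} (Fin (n + 1)))) z, ?_⟩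
    show MvPolynomial.aeval σ (MvPolynomial.rename _ z) = z
    rw [MvPolynomial.aeval_rename]
    have : σ ∘ (fun j : Fin n => (⟨j.castSucc⟩ : ULift.{u} (Fin (n + 1)))) = MvPolynomial.X :=
      funext fun j => by simp [σ]
    rw [this, MvPolynomial.aeval_X_left, AlgHom.id_apply]
  let N := ULift.{u} (Fin (n + 1))
  let i : Spec (CommRingCat.of C) ⟶ AffineSpace N Y :=
    Spec.map (CommRingCat.ofHom π'.toRingHom) ≫ (AffineSpace.SpecIso N Γ(Y, U)).inv ≫ AffineSpace.map N hU.fromSpec
  haveI : IsClosedImmersion (Spec.map (CommRingCat.ofHom π'.toRingHom)) := IsClosedImmersion.spec_of_surjective _ hπ'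
  haveI : IsOpenImmersion (AffineSpace.map N hU.fromSpec) :=
    MorphismProperty.of_isPullback (AffineSpace.isPullback_map (n := N) hU.fromSpec).flip inferInstance
  haveI : IsImmersion i := inferInstance
  let t := Spec.map (CommRingCat.ofHom (algebraMap Γ(Y, U) C)) ≫ hU.fromSpec
  change ∃ x x' : ↑(pullback f t), _
  have hi : i ≫ AffineSpace N Y ↘ Y = t := by
    simp only [i, Category.assoc, AffineSpace.map_over, AffineSpace.SpecIso_inv_over_assoc, t, ← Spec.map_comp_assoc]
    congr 2
    exact CommRingCat.hom_ext (RingHom.ext fun a => π'.commutes a)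
  let g := AffineSpace N Y ↘ Y
  let m : pullback f t ⟶ pullback f g := pullback.lift (pullback.fst f t) (pullback.snd f t ≫ i)
    (by rw [pullback.condition, Category.assoc, hi])
  have sq : IsPullback m (pullback.snd f t) (pullback.snd f g) i :=
    IsPullback.of_right (by rw [pullback.lift_fst, hi]; exact IsPullback.of_hasPullback f t)
      (pullback.lift_snd _ _ _) (IsPullback.of_hasPullback f g)
  haveI : IsImmersion m := MorphismProperty.of_isPullback sq.flip inferInstance
  have hηp : etaPt C ⤳ p := (PrimeSpectrum.le_iff_specializes _ _).1 ((PrimeSpectrum.asIdeal_le_asIdeal _ _).1 bot_le)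
  obtain ⟨z, z', hz, e, e'⟩ := h (n + 1) (Nat.succ_pos n) (hηp.map i.continuous)
  obtain ⟨x, hx1, hx2⟩ := Scheme.Pullback.exists_preimage_pullback z p e
  obtain ⟨x', hx1', hx2'⟩ := Scheme.Pullback.exists_preimage_pullback z' (etaPt C) e'
  refine ⟨sq.isoPullback.inv x, sq.isoPullback.inv x', ?_, ?_, ?_⟩
  · rw [← m.isEmbedding.isInducing.specializes_iff, ← Scheme.Hom.comp_apply, ← Scheme.Hom.comp_apply,
      sq.isoPullback_inv_fst, hx1, hx1']
    exact hz
  · rw [← Scheme.Hom.comp_apply, sq.isoPullback_inv_snd, hx2]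
  · rw [← Scheme.Hom.comp_apply, sq.isoPullback_inv_snd, hx2']

end Groth.Agent.DescLib
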