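import Groth.Agent.DescLib.EtNoeth
import Groth.Agent.DescLib.EtRefine
import Groth.Agent.SGA1Q.SigmaFinite
import Groth.Agent.UnivOpen.Criterion
import Groth.Agent.S14771

/-!
# Finite refinements of quasi-finite morphisms over henselian bases
-/

universe u

set_option autoImplicit false
set_option backward.isDefEq.respectTransparency false
set_option backward.isDefEq.respectTransparency.types false
set_option linter.style.haveILetI false

open CategoryTheory CategoryTheory.Limits AlgebraicGeometry Opposite Desc IsLocalRing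

namespace Groth.Agent.DescLib

/-- Over a henselian base, enough specializations to the closed fibre give a finite surjective refinement. -/
theorem exists_finite_refinement {B : Type u} [CommRing B] [HenselianLocalRing B] {X : Scheme.{u}}
    (g : X ⟶ Spec (CommRingCat.of B)) [LocallyQuasiFinite g] [LocallyOfFiniteType g] [QuasiCompact g]
    (h : ∀ b : Spec (CommRingCat.of B), ∃ x x' : X, x ⤳ x' ∧ g x = b ∧ g x' = closedPoint B) :
    ∃ (T : Scheme.{u}) (p : T ⟶ X), IsFinite (p ≫ g) ∧ Surjective (p ≫ g) := by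
  haveI : CompactSpace X := QuasiCompact.compactSpace_of_compactSpace g
  let 𝒰 := X.affineCover.finiteSubcover
  haveI : Finite 𝒰.I₀ := inferInstance
  haveI : ∀ i, IsAffine (𝒰.X i) := fun i => inferInstanceAs (IsAffine (X.affineCover.X _))
  haveI : ∀ i, LocallyQuasiFinite (𝒰.f i ≫ g) := fun i => inferInstance
  choose W hW huniq using fun i => HensSec7.exists_finitePart (𝒰.f i ≫ g)
  haveI : ∀ i, IsFinite ((W i).ι ≫ 𝒰.f i ≫ g) := fun i => (hW i).2.1
  let p : ∐ (fun i => ((W i) : Scheme.{u})) ⟶ X := Sigma.desc fun i => (W i).ι ≫ 𝒰.f i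
  have e : p ≫ g = Sigma.desc fun i => (W i).ι ≫ 𝒰.f i ≫ g := by
    refine Sigma.hom_ext _ _ fun i => ?_
    simp [p]
  refine ⟨_, p, e ▸ SGA1Q.isFinite_sigmaDesc _ fun i => inferInstance, ⟨fun b => ?_⟩⟩
  obtain ⟨x, x', hxx, hx, hx'⟩ := h b
  obtain ⟨i, z', hz'⟩ := 𝒰.exists_eq x'
  obtain ⟨z, hz⟩ : x ∈ Set.range (𝒰.f i) := hxx.mem_open (𝒰.f i).isOpenEmbedding.isOpen_range ⟨z', hz'⟩
  have hzz : z ⤳ z' := (𝒰.f i).isOpenEmbedding.isInducing.specializes_iff.1 (hz.symm ▸ hz'.symm ▸ hxx)
  have hzW : z ∈ W i := hzz.mem_open (W i).isOpen ((hW i).2.2 z' (by rw [Scheme.Hom.comp_apply, hz', hx']))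
  refine ⟨Sigma.ι (fun i => ((W i) : Scheme.{u})) i ⟨z, hzW⟩, ?_⟩
  rw [← Scheme.Hom.comp_apply, Sigma.ι_desc_assoc]
  show g ((𝒰.f i) z) = b
  rw [hz, hx]

/-- A universally submersive morphism lifts generalisations of the closed point. -/
theorem exists_specializes_closedFibre {B : Type u} [CommRing B] [IsNoetherianRing B] [IsLocalRing B]
    {X : Scheme.{u}} (g : X ⟶ Spec (CommRingCat.of B)) (hg : SGA1.UnivSubmersive g) [LocallyOfFiniteType g]
    [QuasiCompact g] (b : Spec (CommRingCat.of B)) :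
    ∃ x x' : X, x ⤳ x' ∧ g x = b ∧ g x' = closedPoint B := by
  haveI : IsNoetherianRing (CommRingCat.of B) := inferInstanceAs (IsNoetherianRing B)
  by_cases hb : b = closedPoint B
  · obtain ⟨x, hx⟩ := (hg (𝟙 X) (𝟙 _) g IsPullback.of_id_snd : Topology.IsQuotientMap g).surjective b
    exact ⟨x, x, specializes_rfl, hx, hx.trans hb⟩
  · obtain ⟨A, _, _, _, τ, hτc, hτη⟩ := UnivOpen.exists_dvr_lift (Y := Spec (CommRingCat.of B))
      (IsLocalRing.specializes_closedPoint b) (Ne.symm hb)
    obtain ⟨A', _, _, _, a, c, hc, e⟩ := ((S14771.result g).out 0 2 rfl rfl).1 hg A τ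
    have hcc : c (closedPoint A') = closedPoint A := by
      obtain ⟨z, hz⟩ := hc.surj (closedPoint A)
      have h1 : closedPoint A ⤳ c (closedPoint A') :=
        hz ▸ (IsLocalRing.specializes_closedPoint (R := A') z).map c.continuous
      exact ((IsLocalRing.specializes_closedPoint (R := A) (c (closedPoint A'))).antisymm h1).eq
    obtain ⟨η', hη'⟩ := hc.surj (⟨⊥, Ideal.isPrime_bot⟩ : PrimeSpectrum A)
    refine ⟨a η', a (closedPoint A'), (IsLocalRing.specializes_closedPoint η').map a.continuous, ?_, ?_⟩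
    · rw [← Scheme.Hom.comp_apply, e, Scheme.Hom.comp_apply, hη']
      exact hτη _ fun h => IsDiscreteValuationRing.not_a_field A (congrArg PrimeSpectrum.asIdeal h).symm
    · rw [← Scheme.Hom.comp_apply, e, Scheme.Hom.comp_apply, hcc, hτc]

variable {S X : Scheme.{u}} {g : X ⟶ S} {D : SchDDFam (fun _ : PUnit.{1} => g)}

/-- A finite surjective refinement gives effectivity. -/
theorem effective_of_finite_refinement [IsLocallyNoetherian S] [Etale (D.obj ⟨⟩).hom]
    [QuasiCompact (D.obj ⟨⟩).hom] [IsSeparated (D.obj ⟨⟩).hom] {T : Scheme.{u}} (p : T ⟶ X) [IsFinite (p ≫ g)]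
    [Surjective (p ≫ g)] : ∃ U : Over S, Etale U.hom ∧ Nonempty ((toDDFam (fun _ : PUnit.{1} => g)).obj U ≅ D) := by
  haveI : Etale ((refineDD (p := p) rfl D).obj ⟨⟩).hom :=
    inferInstanceAs (Etale (pullback.snd (D.obj ⟨⟩).hom p))
  haveI : QuasiCompact ((refineDD (p := p) rfl D).obj ⟨⟩).hom :=
    inferInstanceAs (QuasiCompact (pullback.snd (D.obj ⟨⟩).hom p))
  haveI : IsSeparated ((refineDD (p := p) rfl D).obj ⟨⟩).hom :=
    inferInstanceAs (IsSeparated (pullback.snd (D.obj ⟨⟩).hom p))
  obtain ⟨U, hU, ⟨J⟩⟩ := effective_etale_finite (D := refineDD (p := p) rfl D)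
  exact ⟨U, hU, iso_of_refine rfl (univSubmersive_of_universallyClosed (p ≫ g)) hU J⟩

/-- Universally submersive quasi-finite morphisms are of effective descent for separated quasi-compact etale
schemes over locally Noetherian bases. -/
theorem effective_etale_lqf [IsLocallyNoetherian S] (hg : SGA1.UnivSubmersive g) [LocallyOfFiniteType g]
    [QuasiCompact g] [LocallyQuasiFinite g] [Etale (D.obj ⟨⟩).hom] [QuasiCompact (D.obj ⟨⟩).hom]
    [IsSeparated (D.obj ⟨⟩).hom] :
    ∃ U : Over S, Etale U.hom ∧ Nonempty ((toDDFam (fun _ : PUnit.{1} => g)).obj U ≅ D) := by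
  haveI : LocallyOfFinitePresentation g := (LocallyOfFinitePresentation.iff_locallyOfFiniteType (f := g)).2 inferInstance
  haveI : IsLocallyNoetherian X := LocallyOfFiniteType.isLocallyNoetherian g
  haveI : QuasiSeparated g := QuasiSeparated.of_comp g (terminal.from S)
  refine (S5125.result g hg D).2 fun a => ?_
  obtain ⟨C, _, _, _, _, hC, hk, hF, -⟩ := exists_complete_algClosed_extension_dim (S.presheaf.stalk a)
  let l : Spec (CommRingCat.of C) ⟶ Spec (S.presheaf.stalk a) :=
    Spec.map (CommRingCat.ofHom (algebraMap (S.presheaf.stalk a) C))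
  have hl : Flat l ∧ Surjective l :=
    (flat_and_surjective_SpecMap_iff _).2 (RingHom.faithfullyFlat_algebraMap_iff.2 hF)
  haveI := hl.1
  haveI := hl.2
  refine EtEff.of_fpqc hg l rfl ?_
  haveI : Etale ((pullOne (l ≫ S.fromSpecStalk a) D).obj ⟨⟩).hom :=
    inferInstanceAs (Etale (pullback.snd (D.obj ⟨⟩).hom (pullback.fst g (l ≫ S.fromSpecStalk a))))
  haveI : QuasiCompact ((pullOne (l ≫ S.fromSpecStalk a) D).obj ⟨⟩).hom :=
    inferInstanceAs (QuasiCompact (pullback.snd (D.obj ⟨⟩).hom (pullback.fst g (l ≫ S.fromSpecStalk a))))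
  haveI : IsSeparated ((pullOne (l ≫ S.fromSpecStalk a) D).obj ⟨⟩).hom :=
    inferInstanceAs (IsSeparated (pullback.snd (D.obj ⟨⟩).hom (pullback.fst g (l ≫ S.fromSpecStalk a))))
  let gC := pullback.snd g (l ≫ S.fromSpecStalk a)
  have hgC : SGA1.UnivSubmersive gC :=
    MorphismProperty.pullback_snd (P := MorphismProperty.universally _) _ _ hg
  haveI : HenselianRing C (maximalIdeal C) := by haveI := hC; infer_instance
  haveI : HenselianLocalRing C := ⟨fun f hf a₀ h1 h2 => HenselianRing.is_henselian f hf a₀ h1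
    (h2.map (Ideal.Quotient.mk _))⟩
  haveI : IsNoetherianRing (CommRingCat.of C) := inferInstanceAs (IsNoetherianRing C)
  obtain ⟨T, p, hfin, hsurj⟩ := exists_finite_refinement gC (exists_specializes_closedFibre gC hgC)
  haveI := hfin
  haveI := hsurj
  exact effective_of_finite_refinement p

end Groth.Agent.DescLib
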