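import Groth.Agent.DescLib.EtValCore
import Groth.Agent.DescLib.EtProper
import Groth.Agent.S5123

/-!
# Etale descent along quasi-compact universally subtrusive morphisms

Over a strictly henselian local ring a compatible family at the closed point extends by the valuative argument,
and effectivity over an arbitrary base follows by induction on maximal points.
-/

universe u

set_option autoImplicit false
set_option backward.isDefEq.respectTransparency false
set_option backward.isDefEq.respectTransparency.types false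
set_option linter.style.haveILetI false

open CategoryTheory CategoryTheory.Limits AlgebraicGeometry Opposite Desc IsLocalRing

namespace Groth.Agent.DescLib

section strict

variable {B : Type u} [CommRing B] [HenselianLocalRing B] [IsSepClosed (ResidueField B)]
  {Y : Scheme.{u}} {h : Y ⟶ Spec (CommRingCat.of B)} {E : SchDDFam (fun _ : PUnit.{1} => h)}

/-- Over a strictly henselian base, effectivity off the closed point gives effectivity. -/
theorem etEff_of_extend (hh : SGA1.UnivSubmersive h) [QuasiCompact h] [Etale (E.obj ⟨⟩).hom] [QuasiCompact (E.obj ⟨⟩).hom]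
    [IsSeparated (E.obj ⟨⟩).hom]
    (hext : ∀ cu : Compat E (HensSec7.closedPointHom B), ∃ c : Compat E (𝟙 (Spec (CommRingCat.of B))),
      c.res (HensSec7.closedPointHom B) _ (Category.comp_id _) = cu)
    (hEV : ∀ s : Spec (CommRingCat.of B), s ≠ closedPoint B →
      ∃ V : (Spec (CommRingCat.of B)).Opens, s ∈ V ∧ EtEff E V.ι) :
    ∃ W : Over (Spec (CommRingCat.of B)), Etale W.hom ∧
      Nonempty ((toDDFam (fun _ : PUnit.{1} => h)).obj W ≅ E) := by
  haveI : Surjective h := ⟨(MorphismProperty.universally_le _ h hh).surjective⟩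
  have bc : ∀ {S₁ : Scheme.{u}} (p : S₁ ⟶ Spec (CommRingCat.of B)), SGA1.UnivSubmersive (pullback.snd h p) :=
    fun p => MorphismProperty.pullback_snd (P := MorphismProperty.universally _) _ _ hh
  let i := HensSec7.closedPointHom B
  haveI : Surjective (pullback.fst i h) := MorphismProperty.pullback_fst _ _ ‹Surjective h›
  haveI : Flat (pullback.fst i h) := by
    haveI : IsReduced (Spec (CommRingCat.of (ResidueField B))) := inferInstance
    infer_instance
  obtain ⟨Uk, hUk, ⟨Jk⟩⟩ : EtEff E i := EtEff.of_fpqc hh (pullback.fst i h) rfl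
    (EtEff.comp hh etEff_self (pullback.snd i h) pullback.condition.symm)
  choose V hV Uo hUo hJo using hEV
  obtain ⟨c₀k, huk⟩ := (repBy_pullOne_iff i).1 (repBy_of_iso_etale (bc i) Jk)
  obtain ⟨e, he, hev⟩ := exists_rational_point Uk.hom
  choose c₁ hc₁ using fun u => hext (c₀k.res (e u) i (by rw [← Category.assoc, he, Category.id_comp]))
  choose Co hCo hCoV using fun s (hs : s ≠ closedPoint B) => exists_chart_of_repOn
    ((repBy_pullOne_iff (V s hs).ι).1 (repBy_of_iso_etale (bc (V s hs).ι) (hJo s hs).some))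
  choose Cu hCu hCuA using fun u => exists_chart_of_section hh (c₁ u)
  let C : {s : Spec (CommRingCat.of B) // s ≠ closedPoint B} ⊕ Uk.left → Chart E :=
    fun o => o.elim (fun s => Co s.1 s.2) Cu
  have hcover : ∀ ⦃T : Scheme.{u}⦄ ⦃s : T ⟶ Spec (CommRingCat.of B)⦄ (c : Compat E s) (x : T),
      ∃ o, x ∈ (C o).O c := by
    intro T s c x
    by_cases hx : s x = closedPoint B
    swap
    · exact ⟨.inl ⟨_, hx⟩, hCoV _ hx c x (hV _ hx)⟩
    let w := T.fromSpecResidueField x ≫ s
    haveI : Surjective (pullback.fst w i) := ⟨fun y => by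
      have : w y ∈ Set.range i := by
        rw [HensSec7.range_closedPointHom_eq]
        show s (T.fromSpecResidueField x y) = _
        rw [Scheme.fromSpecResidueField_apply]
        exact hx
      obtain ⟨z, hz⟩ := this
      obtain ⟨p, hp, -⟩ := Scheme.Pullback.exists_preimage_pullback y z hz.symm
      exact ⟨p, hp⟩⟩
    haveI : IsIso (pullback.fst w i) := isIso_of_isClosedImmersion_of_surjective _
    let l := inv (pullback.fst w i) ≫ pullback.snd w i
    have hl : l ≫ i = w := by rw [Category.assoc, ← pullback.condition, IsIso.inv_hom_id_assoc]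
    obtain ⟨q, hq, -⟩ := huk l (c.res (T.fromSpecResidueField x) (l ≫ i) hl.symm)
    obtain ⟨u, hu⟩ := hev (K := T.residueField x) q.1
    refine ⟨.inr u, ?_⟩
    obtain ⟨r⟩ : Nonempty (pullback w h : Scheme.{u}) := by
      obtain ⟨r, -⟩ := (pullback.fst w h).surjective (closedPoint (T.residueField x))
      exact ⟨r⟩
    let ρ := (pullback w h).fromSpecResidueField r
    let t := ρ ≫ pullback.fst w h
    let y := ρ ≫ pullback.snd w h
    have hy : y ≫ h = (t ≫ T.fromSpecResidueField x) ≫ s := by
      simp only [y, t, Category.assoc]; rw [← pullback.condition]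
    let z : Spec ((pullback w h).residueField r) ⟶ pullback s h :=
      pullback.lift (t ≫ T.fromSpecResidueField x) y hy.symm
    have hfst : pullback.fst s h (z (closedPoint _)) = x := by
      rw [← Scheme.Hom.comp_apply, pullback.lift_fst]
      exact Scheme.fromSpecResidueField_apply x _
    rw [← hfst]
    refine hCuA u c _ ((agreeAt_iff_of_field _ _ (K := (pullback w h).residueField r) z _ rfl).1 ?_)
    have hn : ∀ d : Compat E s, z ≫ ptA d = (d.pt (i := PUnit.unit) (t ≫ T.fromSpecResidueField x) y hy).1 :=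
      fun d => (d.nat (i := PUnit.unit) z _ _ pullback.condition.symm _ _ (pullback.lift_fst _ _ _)
        (pullback.lift_snd _ _ _) hy).symm
    rw [hn, hn]
    have hyl : y ≫ h = t ≫ l ≫ i := by rw [hy, hl, Category.assoc]
    have e0 := congrArg (fun d : Compat E (l ≫ i) => (d.pt (i := PUnit.unit) t y hyl).1) hq
    have e1 := congrArg (fun d : Compat E i =>
      (d.pt (i := PUnit.unit) (t ≫ l) y (by rw [Category.assoc]; exact hyl)).1) (hc₁ u)
    refine e0.symm.trans (Eq.trans ?_ ((e1.symm).trans ((c₁ u).pt_congr ?_ rfl _ _)))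
    · refine c₀k.pt_congr ?_ rfl _ _
      have hq2 : q.1 ≫ Uk.hom = l := q.2
      rw [Category.assoc]
      exact congrArg (t ≫ ·) (hu.symm.trans (congrArg (· ≫ e u) hq2))
    · rw [Category.assoc]
      exact (congrArg (t ≫ ·) hl).trans (Category.assoc _ _ _).symm
  obtain ⟨W, c₀, huW⟩ := rep_of_charts (C := C) hcover
  refine ⟨W, etale_of_charts C (fun o => ?_) huW (fun x => hcover c₀ x), iso_of_repBy ⟨c₀, huW⟩⟩
  cases o with
  | inl s =>
    show Etale (Co s.1 s.2).U.hom
    rw [hCo]
    haveI := hUo s.1 s.2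
    exact inferInstanceAs (Etale ((Uo s.1 s.2).hom ≫ (V s.1 s.2).ι))
  | inr u =>
    show Etale (Cu u).U.hom
    rw [hCu]
    exact inferInstanceAs (Etale (𝟙 _))

end strict

variable {S X : Scheme.{u}} {g : X ⟶ S} {D : SchDDFam (fun _ : PUnit.{1} => g)}

/-- Quasi-compact, quasi-separated universally subtrusive morphisms are of effective descent for separated
quasi-compact etale schemes. -/
theorem effective_subtr_qs (hsub : Subtr.UnivSSubtrusive g) [QuasiCompact g] [QuasiSeparated g]
    [Etale (D.obj ⟨⟩).hom] [QuasiCompact (D.obj ⟨⟩).hom] [IsSeparated (D.obj ⟨⟩).hom] :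
    ∃ U : Over S, Etale U.hom ∧ Nonempty ((toDDFam (fun _ : PUnit.{1} => g)).obj U ≅ D) := by
  have hg : SGA1.UnivSubmersive g := univSubmersive_of_univSSubtrusive g hsub
  suffices hall : ∀ a : S, ∃ W : S.Opens, a ∈ W ∧ EtEff D W.ι by
    choose W haW hW using hall
    exact (S5123.result g hg D W
      (top_le_iff.1 fun x _ => TopologicalSpace.Opens.mem_iSup.2 ⟨x, haW x⟩)).2 hW
  intro a
  let O : Set S := {a | ∃ W : S.Opens, a ∈ W ∧ EtEff D W.ι}
  show a ∈ O
  by_contra ha
  have hO : IsOpen O := isOpen_iff_forall_mem_open.2 fun x ⟨W, hx, hW⟩ =>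
    ⟨W, fun y hy => ⟨W, hy, hW⟩, W.isOpen, hx⟩
  obtain ⟨s, hs, hmax⟩ := exists_maximal_point hO.isClosed_compl ⟨a, ha⟩
  refine hs (exists_nhd_etEff hg s ?_)
  let R := S.presheaf.stalk s
  let B := Hensel.StrictHenz R
  haveI : IsSepClosed (ResidueField B) :=
    (Hensel.isSepClosure_residueField_strictHenz R).sep_closed
  haveI : Module.FaithfullyFlat R B := inferInstance
  let φ : R ⟶ CommRingCat.of B := CommRingCat.ofHom (algebraMap R B)
  have hl : Flat (Spec.map φ) ∧ Surjective (Spec.map φ) :=
    (flat_and_surjective_SpecMap_iff _).2 (RingHom.faithfullyFlat_algebraMap_iff.2 ‹_›)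
  haveI := hl.1
  haveI := hl.2
  let l : Spec (CommRingCat.of B) ⟶ Spec R := Spec.map φ
  let p' := l ≫ S.fromSpecStalk s
  refine EtEff.of_fpqc hg l rfl ?_
  haveI : Etale ((pullOne p' D).obj ⟨⟩).hom :=
    inferInstanceAs (Etale (pullback.snd (D.obj ⟨⟩).hom (pullback.fst g p')))
  haveI : QuasiCompact ((pullOne p' D).obj ⟨⟩).hom :=
    inferInstanceAs (QuasiCompact (pullback.snd (D.obj ⟨⟩).hom (pullback.fst g p')))
  haveI : IsSeparated ((pullOne p' D).obj ⟨⟩).hom :=
    inferInstanceAs (IsSeparated (pullback.snd (D.obj ⟨⟩).hom (pullback.fst g p')))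
  have hg' : SGA1.UnivSubmersive (pullback.snd g p') :=
    MorphismProperty.pullback_snd (P := MorphismProperty.universally _) _ _ hg
  refine etEff_of_extend hg' (fun cu => exists_extend_subtr
    (MorphismProperty.pullback_snd (P := MorphismProperty.universally _) _ _ hsub) cu) fun b hb => ?_
  refine exists_nhd_etEff hg' b ?_
  have hbs : p' b ≠ s := by
    intro e
    have e1 : l b = closedPoint R := (S.fromSpecStalk s).isEmbedding.injective
      (e.trans Scheme.fromSpecStalk_closedPoint.symm)
    apply hb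
    refine PrimeSpectrum.ext ((IsLocalRing.maximalIdeal.isMaximal B).eq_of_le b.2.ne_top ?_).symm
    rw [← Hensel.map_maximalIdeal_henz (R := R), Ideal.map_le_iff_le_comap]
    exact (congrArg PrimeSpectrum.asIdeal e1).ge
  have hlt : p' b ⤳ s := by
    have : S.fromSpecStalk s (l b) ∈ Set.range (S.fromSpecStalk s) := ⟨_, rfl⟩
    rwa [Scheme.range_fromSpecStalk] at this
  obtain ⟨W, hbW, hW⟩ : p' b ∈ O := by
    by_contra h
    exact hmax _ hlt hbs h
  let V := p' ⁻¹ᵁ W
  have e : ((Spec (CommRingCat.of B)).fromSpecStalk b ≫ p') = V.fromSpecStalkOfMem b hbW ≫ (p'.resLE W V le_rfl) ≫ W.ι := by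
    rw [Scheme.Hom.resLE_comp_ι]
    exact (congrArg (· ≫ p') (V.fromSpecStalkOfMem_ι b hbW).symm).trans (Category.assoc _ _ _)
  obtain ⟨U, hU, ⟨J⟩⟩ := EtEff.comp hg hW (V.fromSpecStalkOfMem b hbW ≫ (p'.resLE W V le_rfl))
    (p' := (Spec (CommRingCat.of B)).fromSpecStalk b ≫ p') (by rw [e, Category.assoc])
  obtain ⟨J'⟩ := iso_of_repBy ((repBy_pullOne_iff _).2 (repOnBy_pullOne
    ((repBy_pullOne_iff _).1 (repBy_of_iso_etale (MorphismProperty.pullback_snd (P := MorphismProperty.universally _) _ _ hg) J))))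
  exact ⟨U, hU, ⟨J'⟩⟩


/-- Quasi-compact universally subtrusive morphisms are of effective descent for separated quasi-compact etale
schemes. -/
theorem effective_subtr (hs : Subtr.UnivSSubtrusive g) [QuasiCompact g] [Etale (D.obj ⟨⟩).hom]
    [QuasiCompact (D.obj ⟨⟩).hom] [IsSeparated (D.obj ⟨⟩).hom] :
    ∃ U : Over S, Etale U.hom ∧ Nonempty ((toDDFam (fun _ : PUnit.{1} => g)).obj U ≅ D) := by
  have hg : SGA1.UnivSubmersive g := univSubmersive_of_univSSubtrusive g hs
  choose W hW haW _ using fun a : S => exists_isAffineOpen_mem_and_subset (x := a) (U := ⊤) trivial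
  refine (S5123.result g hg D W
    (top_le_iff.1 fun x _ => TopologicalSpace.Opens.mem_iSup.2 ⟨x, haW x⟩)).2 fun a => ?_
  haveI : IsAffine (W a : Scheme.{u}) := hW a
  let g' := pullback.snd g (W a).ι
  let D' := pullOne (W a).ι D
  haveI : Etale (D'.obj ⟨⟩).hom := inferInstanceAs (Etale (pullback.snd (D.obj ⟨⟩).hom (pullback.fst g (W a).ι)))
  haveI : QuasiCompact (D'.obj ⟨⟩).hom :=
    inferInstanceAs (QuasiCompact (pullback.snd (D.obj ⟨⟩).hom (pullback.fst g (W a).ι)))
  haveI : IsSeparated (D'.obj ⟨⟩).hom :=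
    inferInstanceAs (IsSeparated (pullback.snd (D.obj ⟨⟩).hom (pullback.fst g (W a).ι)))
  have hs' : Subtr.UnivSSubtrusive g' := MorphismProperty.pullback_snd (P := MorphismProperty.universally _) _ _ hs
  haveI : CompactSpace (pullback g (W a).ι : Scheme.{u}) := QuasiCompact.compactSpace_of_compactSpace g'
  obtain ⟨X₁, p, _, _, _⟩ := exists_affine_cover (pullback g (W a).ι)
  let g₁ := p ≫ g'
  have hg₁ : Subtr.UnivSSubtrusive g₁ := univSSubtrusive_comp (univSSubtrusive_of_flat_surjective p) hs'
  let D₁ := refineDD (g := g') (g₁ := g₁) (p := p) rfl D'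
  haveI : Etale (D₁.obj ⟨⟩).hom := inferInstanceAs (Etale (pullback.snd (D'.obj ⟨⟩).hom p))
  haveI : QuasiCompact (D₁.obj ⟨⟩).hom := inferInstanceAs (QuasiCompact (pullback.snd (D'.obj ⟨⟩).hom p))
  haveI : IsSeparated (D₁.obj ⟨⟩).hom := inferInstanceAs (IsSeparated (pullback.snd (D'.obj ⟨⟩).hom p))
  obtain ⟨U, hU, ⟨J⟩⟩ := effective_subtr_qs (D := D₁) hg₁
  exact ⟨U, hU, iso_of_refine rfl (univSubmersive_of_univSSubtrusive g₁ hg₁) hU J⟩

end Groth.Agent.DescLib
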