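import Groth.Agent.DescLib.EtGeoStage
import Groth.Agent.DescLib.EtSubtrusive
import Groth.Agent.MorLib.BaseChangeLim

/-!
# Saturated quasi-compact opens of etale descent data

For a quasi-compact universally subtrusive map to an affine scheme, every point of a separated etale datum lies in
a quasi-compact open stable under the gluing bijections: extend the compatible family of the point over a henselian
local ring, spread it to a stage universally open over the base, and take the image of the resulting section.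
-/

universe u

set_option autoImplicit false
set_option backward.isDefEq.respectTransparency false
set_option backward.isDefEq.respectTransparency.types false
set_option linter.style.haveILetI false

open CategoryTheory CategoryTheory.Limits AlgebraicGeometry Opposite Desc IsLocalRing

namespace Groth.Agent.DescLib

open Groth.Agent.MorLib Groth.Agent.Hensel

variable {X S : Scheme.{u}} {g : X ⟶ S}

/-- An open of the underlying scheme stable under the gluing bijections, at field points. -/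
def Saturated (D : SchDDFam (fun _ : PUnit.{1} => g)) (V : (D.obj ⟨⟩).left.Opens) : Prop :=
  ∀ {K : Type u} [Field K] (x y : Spec (CommRingCat.of K) ⟶ X) (h : x ≫ g = y ≫ g) (v : Lifts (D.obj ⟨⟩) x),
    v.1 (closedPoint K) ∈ V → (D.φ (i := PUnit.unit) (j := PUnit.unit) x y h v).1 (closedPoint K) ∈ V

variable {D : SchDDFam (fun _ : PUnit.{1} => g)}

/-- The image of a compatible section is saturated. -/
theorem saturated_range {U : Scheme.{u}} (p : U ⟶ S) (σ : pullback g p ⟶ (D.obj ⟨⟩).left)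
    (hσ : σ ≫ (D.obj ⟨⟩).hom = pullback.fst g p)
    (hcoc : ∀ {T : Scheme.{u}} (z z' : T ⟶ pullback g p), z ≫ pullback.snd g p = z' ≫ pullback.snd g p →
      ∀ h, (D.φ (i := PUnit.unit) (j := PUnit.unit) (z ≫ pullback.fst g p) (z' ≫ pullback.fst g p) h
        ⟨z ≫ σ, by rw [Category.assoc, hσ]⟩).1 = z' ≫ σ)
    (V : (D.obj ⟨⟩).left.Opens) (hV : (V : Set (D.obj ⟨⟩).left) = Set.range σ) : Saturated D V := by
  intro K _ x y h v hv
  obtain ⟨z₀, hz₀⟩ : v.1 (closedPoint K) ∈ Set.range σ := hV.le hv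
  obtain ⟨r, -, -⟩ := Scheme.Pullback.exists_preimage_pullback (f := v.1) (g := σ) (closedPoint K) z₀ hz₀.symm
  obtain ⟨κ, w, hw⟩ : ∃ (κ : Spec ((pullback v.1 σ).residueField r) ⟶ Spec (CommRingCat.of K))
      (w : Spec ((pullback v.1 σ).residueField r) ⟶ pullback g p), κ ≫ v.1 = w ≫ σ :=
    ⟨(pullback v.1 σ).fromSpecResidueField r ≫ pullback.fst v.1 σ,
      (pullback v.1 σ).fromSpecResidueField r ≫ pullback.snd v.1 σ, by simp only [Category.assoc, pullback.condition]⟩
  have hx : κ ≫ x = w ≫ pullback.fst g p := (congrArg (κ ≫ ·) v.2.symm).trans (by rw [reassoc_of% hw, hσ])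
  let w' : Spec ((pullback v.1 σ).residueField r) ⟶ pullback g p := pullback.lift (κ ≫ y) (w ≫ pullback.snd g p) (by
    rw [Category.assoc, ← h, reassoc_of% hx, Category.assoc, pullback.condition])
  have hp : (w ≫ pullback.fst g p) ≫ g = (w' ≫ pullback.fst g p) ≫ g := by
    rw [pullback.lift_fst, ← hx, Category.assoc, Category.assoc, h]
  have e := hcoc w w' (pullback.lift_snd _ _ _).symm hp
  have e' := D.φ_natural κ (i := PUnit.unit) (j := PUnit.unit) x y h _ _ hx (pullback.lift_fst _ _ _).symm hp v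
    ⟨w ≫ σ, by rw [Category.assoc, hσ]⟩ hw.symm
  rw [e] at e'
  have hpt : κ (closedPoint _) = closedPoint K := Subsingleton.elim _ _
  show (D.φ (i := PUnit.unit) (j := PUnit.unit) x y h v).1 (closedPoint K) ∈ (V : Set (D.obj ⟨⟩).left)
  rw [hV, ← hpt, ← Scheme.Hom.comp_apply, ← e', Scheme.Hom.comp_apply]
  exact ⟨_, rfl⟩

variable [IsAffine S] (hs : Subtr.UnivSSubtrusive g) [QuasiCompact g] [QuasiSeparated g]
  [Etale (D.obj ⟨⟩).hom] [IsSeparated (D.obj ⟨⟩).hom]

include hs in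
/-- Every point lies in a quasi-compact saturated open. -/
theorem exists_saturated_open (d : (D.obj ⟨⟩).left) :
    ∃ V : (D.obj ⟨⟩).left.Opens, d ∈ V ∧ IsCompact (V : Set (D.obj ⟨⟩).left) ∧ Saturated D V := by
  let E := (D.obj ⟨⟩).left
  let K : Type u := E.residueField d
  let x₀ : Spec (CommRingCat.of K) ⟶ X := E.fromSpecResidueField d ≫ (D.obj ⟨⟩).hom
  obtain ⟨φ, hφ⟩ := Spec.map_surjective (x₀ ≫ g ≫ S.isoSpec.hom)
  letI := GeoStage.evalAlg (R := Γ(S, ⊤)) (K := K) φ.hom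
  obtain ⟨e, he⟩ := GeoStage.exists_residue_equiv (R := Γ(S, ⊤)) (K := K) φ.hom
  let 𝒟 := GeoStage.diag Γ(S, ⊤) K
  let c := GeoStage.cone Γ(S, ⊤) K
  have hc := GeoStage.isLimit Γ(S, ⊤) K
  let τ := fun i => GeoStage.toBase Γ(S, ⊤) K i ≫ S.isoSpec.inv
  haveI : ∀ i, UniversallyOpen (τ i) := fun i => inferInstanceAs (UniversallyOpen (_ ≫ _))
  have hτ : ∀ ⦃i j⦄ (f : i ⟶ j), 𝒟.map f ≫ τ j = τ i := fun i j f => by
    show 𝒟.map f ≫ GeoStage.toBase _ _ j ≫ _ = _
    rw [reassoc_of% (GeoStage.map_toBase Γ(S, ⊤) K f)]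
  haveI : ∀ {i j} (f : i ⟶ j), IsAffineHom (𝒟.map f) := fun f => inferInstance
  let B := Henz (MvPolynomial K Γ(S, ⊤)) K
  let pB : Spec (CommRingCat.of B) ⟶ S := GeoStage.limToBase Γ(S, ⊤) K ≫ S.isoSpec.inv
  have hπτ : ∀ i, c.π.app i ≫ τ i = pB := fun i => by
    show c.π.app i ≫ GeoStage.toBase _ _ i ≫ _ = _
    rw [reassoc_of% (GeoStage.π_toBase Γ(S, ⊤) K i)]
  let jK : Spec (CommRingCat.of K) ⟶ Spec (CommRingCat.of (ResidueField B)) :=
    Spec.map (CommRingCat.ofHom e.toRingHom)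
  let jR : Spec (CommRingCat.of (ResidueField B)) ⟶ Spec (CommRingCat.of K) :=
    Spec.map (CommRingCat.ofHom e.symm.toRingHom)
  have hj : jK ≫ jR = 𝟙 _ := by
    rw [← Spec.map_comp, ← Spec.map_id]
    congr 1
    ext z
    exact e.apply_symm_apply z
  have hj' : jR ≫ jK = 𝟙 _ := by
    rw [← Spec.map_comp, ← Spec.map_id]
    congr 1
    ext z
    exact e.symm_apply_apply z
  have hjK : jK ≫ HensSec7.closedPointHom B ≫ pB = x₀ ≫ g := by
    rw [← cancel_mono S.isoSpec.hom, Category.assoc, Category.assoc, Category.assoc, Category.assoc,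
      Iso.inv_hom_id, Category.comp_id, ← hφ]
    show Spec.map _ ≫ Spec.map _ ≫ Spec.map _ ≫ Spec.map _ = _
    rw [← Spec.map_comp, ← Spec.map_comp, ← Spec.map_comp]
    congr 1
    exact CommRingCat.hom_ext (RingHom.ext he)
  let ĉ : Compat D (x₀ ≫ g) := Compat.ofPoint D (i := PUnit.unit) (y := x₀) ⟨E.fromSpecResidueField d, rfl⟩ _ rfl
  let ck : Compat D (HensSec7.closedPointHom B ≫ pB) := ĉ.res jR _ (by rw [← hjK, reassoc_of% hj'])
  let cu : Compat (pullOne pB D) (HensSec7.closedPointHom B) := ck.pull (fun _ => pullback.condition) rfl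
  haveI : Etale ((pullOne pB D).obj ⟨⟩).hom :=
    inferInstanceAs (Etale (pullback.snd (D.obj ⟨⟩).hom (pullback.fst g pB)))
  haveI : IsSeparated ((pullOne pB D).obj ⟨⟩).hom :=
    inferInstanceAs (IsSeparated (pullback.snd (D.obj ⟨⟩).hom (pullback.fst g pB)))
  obtain ⟨c', hc'⟩ := exists_extend_subtr
    (MorphismProperty.pullback_snd (P := MorphismProperty.universally _) _ _ hs) cu
  obtain ⟨cB, rfl⟩ := (pullOne_bijective pB (x := 𝟙 _)).2 c'
  have hcB : cB.res (HensSec7.closedPointHom B) (HensSec7.closedPointHom B ≫ pB) (by rw [Category.id_comp]) = ck :=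
    (pullOne_bijective pB).1 ((Compat.pull_res (f := fun _ : PUnit.{1} => g)
      (f' := fun _ : PUnit.{1} => pullback.snd g pB) (α := id) (j := pB) (g := fun _ => pullback.fst g pB)
      (fun _ => pullback.condition) rfl cB (HensSec7.closedPointHom B) _ (Category.comp_id _) _
      (by rw [Category.id_comp]) rfl).trans hc')
  have hB0 : pullback.fst g pB ≫ g = pullback.snd g pB ≫ 𝟙 _ ≫ pB := by
    rw [Category.id_comp]; exact pullback.condition
  let σB := (cB.pt (i := PUnit.unit) (pullback.snd g pB) (pullback.fst g pB) hB0).1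
  have hσB : σB ≫ (D.obj ⟨⟩).hom = pullback.fst g pB :=
    (cB.pt (i := PUnit.unit) (pullback.snd g pB) (pullback.fst g pB) hB0).2
  have hnat : ∀ {T : Scheme.{u}} (w : T ⟶ pullback g pB) (t : T ⟶ Spec (CommRingCat.of B)) (y : T ⟶ X)
      (_ : w ≫ pullback.snd g pB = t) (_ : w ≫ pullback.fst g pB = y) (h : y ≫ g = t ≫ 𝟙 _ ≫ pB),
      (cB.pt (i := PUnit.unit) t y h).1 = w ≫ σB :=
    fun w t y ht hy h => cB.nat (i := PUnit.unit) w _ _ hB0 t y ht hy h
  -- spreading the section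
  let i₀ := (IsCofiltered.nonempty (C := (NbhdCat (MvPolynomial K Γ(S, ⊤)) K)ᵒᵖ)).some
  let xA := pullback.snd g (τ i₀)
  haveI : CompactSpace (pullback g (τ i₀) : Scheme.{u}) := QuasiCompact.compactSpace_of_compactSpace xA
  haveI : QuasiSeparatedSpace (pullback g (τ i₀) : Scheme.{u}) := quasiSeparatedSpace_of_quasiSeparated xA
  let tA : BC.diag 𝒟 xA ⟶ (Functor.const (Over i₀)).obj X :=
    BC.toStart 𝒟 xA ≫ (Functor.const (Over i₀)).map (pullback.fst g (τ i₀))
  have sqX : IsPullback (EtSpread.mS g (hπτ i₀)) (pullback.snd g pB) xA (c.π.app i₀) := EtSpread.sqS g (hπτ i₀)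
  obtain ⟨k, hA, hA₁, hA₂⟩ := Scheme.exists_π_app_comp_eq_of_locallyOfFinitePresentation (BC.diag 𝒟 xA) tA
    (D.obj ⟨⟩).hom (BC.cone 𝒟 xA sqX) (BC.isLimitCone 𝒟 xA sqX hc) σB (by
      ext j
      simp only [tA, NatTrans.comp_app, Functor.const_map_app]
      refine (Category.assoc _ _ _).symm.trans ?_
      rw [show (BC.cone 𝒟 xA sqX).π.app j ≫ (BC.toStart 𝒟 xA).app j = EtSpread.mS g (hπτ i₀) from
        BC.proj_fst 𝒟 xA sqX j, EtSpread.mS_fst]
      exact hσB.symm)
  have hA₃ : hA ≫ (D.obj ⟨⟩).hom = pullback.fst xA (𝒟.map k.hom) ≫ pullback.fst g (τ i₀) := hA₂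
  let ρ : pullback g (τ k.left) ⟶ pullback xA (𝒟.map k.hom) :=
    pullback.lift (EtSpread.mS g (hτ k.hom)) (pullback.snd g (τ k.left)) (EtSpread.mS_snd g (hτ k.hom))
  let σj := ρ ≫ hA
  have hσj : σj ≫ (D.obj ⟨⟩).hom = pullback.fst g (τ k.left) := by
    rw [Category.assoc, hA₃, pullback.lift_fst_assoc, EtSpread.mS_fst]
  have hσjB : EtSpread.mS g (hπτ k.left) ≫ σj = σB := by
    rw [← Category.assoc]
    refine Eq.trans (congrArg (· ≫ hA) ?_) hA₁
    show _ = BC.proj 𝒟 xA sqX k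
    apply pullback.hom_ext
    · rw [Category.assoc, pullback.lift_fst, BC.proj_fst]
      apply pullback.hom_ext
      · rw [Category.assoc, EtSpread.mS_fst, EtSpread.mS_fst, EtSpread.mS_fst]
      · rw [Category.assoc, EtSpread.mS_snd, EtSpread.mS_snd_assoc, EtSpread.mS_snd, c.w]
    · rw [Category.assoc, pullback.lift_snd, BC.proj_snd, EtSpread.mS_snd]
  -- spreading the cocycle
  let sj := pullback.snd g (τ k.left)
  let Pj := pullback sj sj
  let q₀ : Pj ⟶ pullback g (τ k.left) := pullback.fst sj sj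
  let q₁ : Pj ⟶ pullback g (τ k.left) := pullback.snd sj sj
  let xP : Pj ⟶ 𝒟.obj k.left := q₀ ≫ sj
  let hB := pullback.snd g pB
  let mP : pullback hB hB ⟶ Pj := pullback.map hB hB sj sj (EtSpread.mS g (hπτ k.left))
    (EtSpread.mS g (hπτ k.left)) (c.π.app k.left) (EtSpread.mS_snd g _).symm (EtSpread.mS_snd g _).symm
  have sqP : IsPullback mP (pullback.fst hB hB ≫ hB) xP (c.π.app k.left) := by
    refine IsPullback.paste_vert ?_ (EtSpread.sqS g (hπτ k.left))
    refine IsPullback.of_right ?_ (show mP ≫ q₀ = pullback.fst hB hB ≫ EtSpread.mS g (hπτ k.left) from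
      pullback.lift_fst _ _ _) (IsPullback.of_hasPullback sj sj).flip
    rw [show mP ≫ pullback.snd sj sj = pullback.snd hB hB ≫ EtSpread.mS g (hπτ k.left) from pullback.lift_snd _ _ _,
      EtSpread.mS_snd g (hπτ k.left)]
    exact (IsPullback.of_hasPullback hB hB).flip.paste_horiz (EtSpread.sqS g (hπτ k.left))
  haveI : CompactSpace (𝒟.obj k.left) := inferInstance
  haveI : QuasiSeparatedSpace (𝒟.obj k.left) := inferInstance
  haveI : CompactSpace (Pj : Scheme.{u}) := QuasiCompact.compactSpace_of_compactSpace xP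
  haveI : QuasiSeparatedSpace (Pj : Scheme.{u}) := quasiSeparatedSpace_of_quasiSeparated xP
  have hq : (q₀ ≫ pullback.fst g (τ k.left)) ≫ g = (q₁ ≫ pullback.fst g (τ k.left)) ≫ g := by
    rw [Category.assoc, Category.assoc, pullback.condition, ← Category.assoc, pullback.condition (f := sj),
      Category.assoc]
  let ε₁ : Pj ⟶ E := (D.φ (i := PUnit.unit) (j := PUnit.unit) _ _ hq ⟨q₀ ≫ σj, by rw [Category.assoc, hσj]⟩).1
  let ε₂ : Pj ⟶ E := q₁ ≫ σj
  have hε₁ : ε₁ ≫ (D.obj ⟨⟩).hom = q₁ ≫ pullback.fst g (τ k.left) :=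
    (D.φ (i := PUnit.unit) (j := PUnit.unit) _ _ hq _).2
  have hεB : mP ≫ ε₁ = mP ≫ ε₂ := by
    let b₀ := pullback.fst hB hB
    let b₁ := pullback.snd hB hB
    have hc01 : b₀ ≫ hB = b₁ ≫ hB := pullback.condition
    have h₀ : (b₀ ≫ pullback.fst g pB) ≫ g = (b₀ ≫ hB) ≫ 𝟙 _ ≫ pB := by
      rw [Category.assoc, hB0, Category.assoc]
    have h₁ : (b₁ ≫ pullback.fst g pB) ≫ g = (b₀ ≫ hB) ≫ 𝟙 _ ≫ pB := by
      rw [Category.assoc, hB0, hc01, Category.assoc]
    have e := congrArg Subtype.val (cB.comp (i := PUnit.unit) (k := PUnit.unit) (b₀ ≫ hB) _ _ h₀ h₁)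
    have em₀ : mP ≫ q₀ = b₀ ≫ EtSpread.mS g (hπτ k.left) := pullback.lift_fst _ _ _
    have em₁ : mP ≫ q₁ = b₁ ≫ EtSpread.mS g (hπτ k.left) := pullback.lift_snd _ _ _
    rw [hnat b₁ (b₀ ≫ hB) _ hc01.symm rfl h₁, ← hσjB, ← reassoc_of% em₁] at e
    refine Eq.trans ?_ e
    exact (D.φ_natural mP (i := PUnit.unit) (j := PUnit.unit) _ _ hq _ _
      (by rw [reassoc_of% em₀, EtSpread.mS_fst]) (by rw [reassoc_of% em₁, EtSpread.mS_fst]) (h₀.trans h₁.symm) _
      (cB.pt (i := PUnit.unit) (b₀ ≫ hB) _ h₀)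
      (by rw [hnat b₀ (b₀ ≫ hB) _ rfl rfl h₀, ← hσjB]; rw [reassoc_of% em₀])).symm
  let tP : BC.diag 𝒟 xP ⟶ (Functor.const (Over k.left)).obj X :=
    BC.toStart 𝒟 xP ≫ (Functor.const (Over k.left)).map (q₁ ≫ pullback.fst g (τ k.left))
  let T₀ : Over k.left := Over.mk (𝟙 k.left)
  let st : (BC.diag 𝒟 xP).obj T₀ ⟶ Pj := pullback.fst xP (𝒟.map (𝟙 k.left))
  obtain ⟨k₂, hik, hk⟩ := Scheme.exists_hom_comp_eq_comp_of_locallyOfFiniteType (BC.diag 𝒟 xP) tP
    (D.obj ⟨⟩).hom (BC.cone 𝒟 xP sqP) (BC.isLimitCone 𝒟 xP sqP hc) (i := T₀) (st ≫ ε₁) (st ≫ ε₂)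
    (by rw [Category.assoc, hε₁]; rfl) (by rw [Category.assoc, Category.assoc q₁, hσj]; rfl) (by
      have hπ : (BC.cone 𝒟 xP sqP).π.app T₀ ≫ st = mP := BC.proj_fst (c := c) 𝒟 xP sqP T₀
      refine (Category.assoc _ _ _).symm.trans (Eq.trans ?_ (Category.assoc _ _ _))
      exact (congrArg (· ≫ _) hπ).trans (hεB.trans (congrArg (· ≫ _) hπ).symm))
  let πl := EtSpread.mS g (hτ k₂.hom)
  let σl := πl ≫ σj
  have hσl : σl ≫ (D.obj ⟨⟩).hom = pullback.fst g (τ k₂.left) := by
    rw [Category.assoc, hσj, EtSpread.mS_fst]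
  have hk' : pullback.fst xP (𝒟.map k₂.hom) ≫ ε₁ = pullback.fst xP (𝒟.map k₂.hom) ≫ ε₂ := by
    have hst : (BC.diag 𝒟 xP).map hik ≫ st = pullback.fst xP (𝒟.map k₂.hom) := BC.map_fst 𝒟 xP hik
    rw [← hst, Category.assoc, Category.assoc]
    exact hk
  haveI : UniversallyOpen (pullback.fst g (τ k₂.left)) := inferInstance
  haveI : UniversallyOpen (pullback.snd (pullback.fst g (τ k₂.left)) (D.obj ⟨⟩).hom) := inferInstance
  -- the image is open
  have hopen : IsOpen (Set.range σl) := by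
    let Γl : pullback g (τ k₂.left) ⟶ pullback (pullback.fst g (τ k₂.left)) (D.obj ⟨⟩).hom :=
      pullback.lift (𝟙 _) σl (by rw [Category.id_comp, hσl])
    let p₁ := pullback.fst (pullback.fst g (τ k₂.left)) (D.obj ⟨⟩).hom
    have hΓ : Γl ≫ p₁ = 𝟙 _ := pullback.lift_fst _ _ _
    haveI : Etale (Γl ≫ p₁) := by rw [hΓ]; infer_instance
    haveI : Etale Γl := Etale.of_comp Γl p₁
    haveI : Mono Γl := mono_of_mono_fac hΓ
    haveI : IsOpenImmersion Γl := IsOpenImmersion.of_flat_of_mono Γl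
    have e : σl = Γl ≫ pullback.snd _ _ := (pullback.lift_snd _ _ _).symm
    rw [e]
    exact (Γl ≫ pullback.snd (pullback.fst g (τ k₂.left)) (D.obj ⟨⟩).hom).isOpenMap.isOpen_range
  haveI : CompactSpace (pullback g (τ k₂.left) : Scheme.{u}) :=
    haveI : CompactSpace (𝒟.obj k₂.left) := inferInstance
    QuasiCompact.compactSpace_of_compactSpace (pullback.snd g (τ k₂.left))
  refine ⟨⟨_, hopen⟩, ?_, isCompact_range σl.continuous, saturated_range (τ k₂.left) σl hσl ?_ _ rfl⟩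
  · -- the point
    let t := jK ≫ HensSec7.closedPointHom B
    have ht : x₀ ≫ g = t ≫ 𝟙 _ ≫ pB := by rw [Category.id_comp, Category.assoc]; exact hjK.symm
    let w : Spec (CommRingCat.of K) ⟶ pullback g pB := pullback.lift x₀ t (by rw [ht, Category.id_comp])
    have h1 : x₀ ≫ g = jK ≫ HensSec7.closedPointHom B ≫ pB := hjK.symm
    have e1 := congrArg (fun q : Compat D (HensSec7.closedPointHom B ≫ pB) =>
      (q.pt (i := PUnit.unit) jK x₀ h1).1) hcB
    have e2 : (ĉ.pt (i := PUnit.unit) (jK ≫ jR) x₀ (by rw [hj, Category.id_comp])).1 = E.fromSpecResidueField d :=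
      (ĉ.pt_congr hj rfl _ (Category.id_comp _).symm).trans
        (Compat.ofPoint_pt_self (D := D) (i := PUnit.unit) (y := x₀) (⟨E.fromSpecResidueField d, rfl⟩) rfl
          (Category.id_comp _).symm)
    have e3 : w ≫ σB = E.fromSpecResidueField d :=
      (hnat w t x₀ (pullback.lift_snd _ _ _) (pullback.lift_fst _ _ _) ht).symm.trans (e1.trans e2)
    have hfac : EtSpread.mS g (hπτ k₂.left) ≫ πl = EtSpread.mS g (hπτ k.left) := by
      apply pullback.hom_ext
      · rw [Category.assoc, EtSpread.mS_fst, EtSpread.mS_fst, EtSpread.mS_fst]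
      · rw [Category.assoc, EtSpread.mS_snd, EtSpread.mS_snd_assoc, EtSpread.mS_snd, c.w]
    refine ⟨(w ≫ EtSpread.mS g (hπτ k₂.left)) (closedPoint K), ?_⟩
    rw [← Scheme.Hom.comp_apply, Category.assoc, reassoc_of% hfac, hσjB, e3]
    exact Scheme.fromSpecResidueField_apply d _
  · -- the cocycle
    intro T z z' hz h
    have hzz : (z ≫ πl) ≫ sj = (z' ≫ πl) ≫ sj := by
      rw [Category.assoc, Category.assoc, EtSpread.mS_snd, reassoc_of% hz]
    let l : T ⟶ Pj := pullback.lift (z ≫ πl) (z' ≫ πl) hzz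
    let m : T ⟶ pullback xP (𝒟.map k₂.hom) := pullback.lift l (z ≫ pullback.snd g (τ k₂.left)) (by
      rw [show l ≫ xP = (z ≫ πl) ≫ sj from pullback.lift_fst_assoc _ _ _ _, Category.assoc, EtSpread.mS_snd,
        Category.assoc])
    have e := congrArg (m ≫ ·) hk'
    simp only [m, pullback.lift_fst_assoc] at e
    rw [show l ≫ ε₂ = z' ≫ σl from (pullback.lift_snd_assoc _ _ _ _).trans (Category.assoc _ _ _)] at e
    refine Eq.trans ?_ e
    exact D.φ_natural l (i := PUnit.unit) (j := PUnit.unit) _ _ hq _ _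
      (by rw [pullback.lift_fst_assoc, Category.assoc, EtSpread.mS_fst])
      (by rw [pullback.lift_snd_assoc, Category.assoc, EtSpread.mS_fst]) h _ _
      (by show z ≫ σl = l ≫ q₀ ≫ σj; rw [pullback.lift_fst_assoc, Category.assoc])

end Groth.Agent.DescLib
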