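import Groth.Agent.DescLib.EtFpqc

/-!
# Etale effectivity for one-morphism descent data
-/

universe u

set_option autoImplicit false
set_option backward.isDefEq.respectTransparency false
set_option backward.isDefEq.respectTransparency.types false

open CategoryTheory CategoryTheory.Limits AlgebraicGeometry Desc

namespace Groth.Agent.DescLib

/-- Effectivity for the one-member family gives effectivity, with separatedness and quasi-compactness. -/
theorem effective_schDD_of_fam {X S : Scheme.{u}} (g : X ⟶ S) (hg : SGA1.UnivSubmersive g) [QuasiCompact g]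
    (D : SchDD g) [QuasiCompact D.obj.hom] [IsSeparated D.obj.hom]
    (h : ∃ U : Over S, Etale U.hom ∧
      Nonempty ((toDDFam (fun _ : PUnit.{1} => g)).obj U ≅ (SchDDFam.ofSchDD.{0, u} g).obj D)) :
    ∃ U : Over S, QuasiCompact U.hom ∧ IsSeparated U.hom ∧ Etale U.hom ∧ Nonempty ((toDD g).obj U ≅ D) := by
  obtain ⟨U, hU, ⟨I⟩⟩ := h
  haveI : QuasiCompact (((SchDDFam.ofSchDD.{0, u} g).obj D).obj ⟨⟩).hom := ‹QuasiCompact D.obj.hom›
  haveI : IsSeparated (((SchDDFam.ofSchDD.{0, u} g).obj D).obj ⟨⟩).hom := ‹IsSeparated D.obj.hom›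
  obtain ⟨hs, hc⟩ := sep_qc_of_iso hg I
  exact ⟨U, hc, hs, hU, ⟨(SchDDFam.toSchDD.{0, u} g).mapIso I⟩⟩

/-- An etale scheme which is finite after a surjective base change is finite. -/
theorem isFinite_of_iso {X S : Scheme.{u}} (g : X ⟶ S) [Surjective g] [UniversallyClosed g] {D : SchDD g} [IsFinite D.obj.hom]
    {U : Over S} (J : (toDD g).obj U ≅ D) (hU : Etale U.hom) (hs : IsSeparated U.hom) (hc : QuasiCompact U.hom) :
    IsFinite U.hom := by
  haveI := hU; haveI := hs; haveI := hc
  let k : pullback g U.hom ⟶ D.obj.left := J.hom.hom.left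
  have hk : k ≫ D.obj.hom = pullback.fst g U.hom := Over.w J.hom.hom
  haveI : IsIso k := ⟨J.inv.hom.left,
    congrArg CommaMorphism.left (congrArg SchDD.Hom.hom J.hom_inv_id),
    congrArg CommaMorphism.left (congrArg SchDD.Hom.hom J.inv_hom_id)⟩
  haveI : IsFinite (pullback.fst g U.hom) := by rw [← hk]; infer_instance
  haveI : UniversallyClosed U.hom := by
    haveI : UniversallyClosed (pullback.snd g U.hom ≫ U.hom) := by rw [← pullback.condition]; infer_instance
    exact UniversallyClosed.of_comp_surjective (pullback.snd g U.hom) U.hom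
  haveI : IsProper U.hom := {}
  haveI : LocallyQuasiFinite U.hom := inferInstance
  exact (IsFinite.iff_isProper_and_locallyQuasiFinite U.hom).2 ⟨inferInstance, inferInstance⟩

end Groth.Agent.DescLib
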