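import Groth.Agent.S5391
import Groth.Agent.FibDim.Top
import Groth.Agent.HensSec7.Local
import Groth.Agent.Hensel.StrictSchemes
import Groth.Agent.EtFound.Descent
import Mathlib.AlgebraicGeometry.Morphisms.UniversallyOpen

/-!
# Finite refinements of universally open surjections over strictly henselian local rings
-/

universe u

set_option autoImplicit false
set_option backward.isDefEq.respectTransparency false
set_option backward.isDefEq.respectTransparency.types false
set_option linter.style.haveILetI false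

open CategoryTheory CategoryTheory.Limits AlgebraicGeometry Topology TopologicalSpace IsLocalRing

namespace Groth.Agent.DescLib

lemma isUnivOpenAt_of_universallyOpen {X S : Scheme.{u}} (f : X ⟶ S) [UniversallyOpen f] (z : X) :
    EGA43.IsUnivOpenAt f z := fun Y g z' _ => by
  haveI : UniversallyOpen (pullback.snd f g) := MorphismProperty.pullback_snd _ _ inferInstance
  intro W hW
  exact (pullback.snd f g).isOpenMap.image_mem_nhds hW

/-- A nonempty fibre has a closed point lying on one component, of the dimension of the local fibre. -/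
theorem exists_good_point {X S : Scheme.{u}} (f : X ⟶ S) [LocallyOfFiniteType f] [QuasiCompact f] (s : S)
    (hs : (f.base ⁻¹' {s}).Nonempty) :
    ∃ (x : X) (hxs : f.base x = s) (Z : Set ↥(f.base ⁻¹' {s})) (z : X),
      IsClosed ((Subtype.val : ↥(f.base ⁻¹' {s}) → X) ⁻¹' {x}) ∧
      Z ∈ irreducibleComponents ↥(f.base ⁻¹' {s}) ∧ x ∈ Subtype.val '' Z ∧
      (z ∈ Subtype.val '' Z ∧ Subtype.val '' Z ⊆ closure {z}) ∧
      FlatMor.localDim ↥(f.base ⁻¹' {s}) ⟨x, hxs⟩ = topologicalKrullDim ↥Z := by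
  let F := f.base ⁻¹' {s}
  haveI : IsLocallyNoetherian (f.fiber s) :=
    LocallyOfFiniteType.isLocallyNoetherian (f.fiberToSpecResidueField s)
  haveI : IsNoetherian (f.fiber s) := {}
  haveI : NoetherianSpace F := (f.fiberHomeo s).symm.isEmbedding.isInducing.noetherianSpace
  haveI : JacobsonSpace F := JacobsonSpace.of_isOpenEmbedding (f.fiberHomeo s).symm.isOpenEmbedding
  haveI : QuasiSober F := (f.fiberHomeo s).symm.isOpenEmbedding.quasiSober
  haveI : Nonempty F := hs.to_subtype
  obtain ⟨y⟩ := ‹Nonempty F›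
  let Z := irreducibleComponent y
  have hZ : Z ∈ irreducibleComponents F := irreducibleComponent_mem_irreducibleComponents y
  let R : Set F := ⋃₀ (irreducibleComponents F \ {Z})
  have hR : IsClosed R := by
    rw [show R = ⋃ A ∈ irreducibleComponents F \ {Z}, A from Set.sUnion_eq_biUnion]
    exact (NoetherianSpace.finite_irreducibleComponents.sdiff (t := {Z})).isClosed_biUnion fun A hA =>
      isClosed_of_mem_irreducibleComponents A hA.1
  have hne : Rᶜ.Nonempty := by
    by_contra h
    rw [Set.not_nonempty_iff_eq_empty, Set.compl_empty_iff] at h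
    obtain ⟨A, hA, hZA⟩ := (isIrreducible_iff_sUnion_isClosed.mp hZ.1)
      (NoetherianSpace.finite_irreducibleComponents.sdiff (t := {Z})).toFinset
      (fun A hA => isClosed_of_mem_irreducibleComponents A ((Set.Finite.mem_toFinset _).1 hA).1)
      (by rw [Set.Finite.coe_toFinset]; exact (Set.subset_univ Z).trans h.ge)
    have hA' := (Set.Finite.mem_toFinset _).1 hA
    exact hA'.2 (hZA.antisymm (hZ.2 hA'.1.1 hZA)).symm
  obtain ⟨x, hx, hxc⟩ := nonempty_inter_closedPoints hne hR.isOpen_compl.isLocallyClosed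
  have honly : ∀ A ∈ irreducibleComponents F, x ∈ A → A = Z := fun A hA hxA =>
    by_contra fun h => hx ⟨A, ⟨hA, h⟩, hxA⟩
  have hxZ : x ∈ Z := by
    rw [← honly _ (irreducibleComponent_mem_irreducibleComponents x) mem_irreducibleComponent]
    exact mem_irreducibleComponent
  obtain ⟨ξ, hξ⟩ := QuasiSober.sober hZ.1 (isClosed_of_mem_irreducibleComponents Z hZ)
  have hZcl : Subtype.val '' Z = closure {ξ.1} ∩ f ⁻¹' {f ξ.1} := by
    ext w
    constructor
    · rintro ⟨w', hw', rfl⟩
      exact ⟨specializes_iff_mem_closure.1 ((hξ.specializes hw').map continuous_subtype_val),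
        (w'.2 : f w'.1 = s).trans (ξ.2 : f ξ.1 = s).symm⟩
    · rintro ⟨h1, h2⟩
      refine ⟨⟨w, (h2 : f w = f ξ.1).trans ξ.2⟩, ?_, rfl⟩
      rw [← hξ.def, ← specializes_iff_mem_closure]
      exact IsInducing.subtypeVal.specializes_iff.1 (specializes_iff_mem_closure.2 h1)
  refine ⟨x.1, x.2, Z, ξ.1, ?_, hZ, ⟨x, hxZ, rfl⟩, ⟨⟨ξ, hξ.mem, rfl⟩, hZcl.le.trans Set.inter_subset_left⟩, ?_⟩
  · rw [show (Subtype.val ⁻¹' {x.1} : Set F) = {x} from Set.ext fun w => Subtype.val_injective.eq_iff]
    exact hxc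
  rw [show topologicalKrullDim ↥Z = ((FibDim.rd f ξ.1 : ℕ∞) : WithBot ℕ∞) from
    (((IsEmbedding.subtypeVal).homeomorphImage Z).trans
      (Homeomorph.setCongr hZcl)).isHomeomorph.topologicalKrullDim_eq.trans (FibDim.dim_closure_inter f ξ.1)]
  obtain ⟨z, hzx, hfz, he, hmax⟩ := FibDim.exists_fibreDimAt_eq f x.1
  have hzs : f z = s := hfz.trans x.2
  have h1 : ξ.1 ⤳ z := by
    have hA := irreducibleComponent_mem_irreducibleComponents (⟨z, hzs⟩ : F)
    have : x ∈ irreducibleComponent (⟨z, hzs⟩ : F) :=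
      (IsInducing.subtypeVal.specializes_iff.1 (show (⟨z, hzs⟩ : F).1 ⤳ x.1 from hzx)).mem_closed
        isClosed_irreducibleComponent mem_irreducibleComponent
    have hzZ : (⟨z, hzs⟩ : F) ∈ Z := honly _ hA this ▸ mem_irreducibleComponent
    exact (hξ.specializes hzZ).map continuous_subtype_val
  have h2 : FibDim.rd f z = FibDim.rd f ξ.1 :=
    le_antisymm (FibDim.rd_le_of_specializes f h1 ((ξ.2 : f ξ.1 = s).trans hzs.symm))
      (hmax _ ((hξ.specializes hxZ).map continuous_subtype_val) ((ξ.2 : f ξ.1 = s).trans (x.2 : f x.1 = s).symm))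
  rw [← h2, ← he]
  have e := FibDim.localDim_homeomorph (f.fiberHomeo (f x.1)) (f.asFiber x.1)
  rw [show f.fiberHomeo (f x.1) (f.asFiber x.1) = ⟨x.1, rfl⟩ from Homeomorph.apply_symm_apply _ _] at e
  have key : ∀ (s' : S) (h : f x.1 = s'), FlatMor.localDim ↥(f.base ⁻¹' {s'}) ⟨x.1, h⟩ =
      FlatMor.localDim ↥(f.base ⁻¹' {f x.1}) ⟨x.1, rfl⟩ := by
    rintro _ rfl; rfl
  exact (key s x.2).trans e

/-- Over a strictly henselian base, a universally open surjection has a finite surjective refinement. -/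
theorem exists_finite_refinement_strict {B : Type u} [CommRing B] [HenselianLocalRing B]
    [IsSepClosed (ResidueField B)] {X : Scheme.{u}} (f : X ⟶ Spec (CommRingCat.of B)) [UniversallyOpen f]
    [Surjective f] [LocallyOfFinitePresentation f] [QuasiCompact f] :
    ∃ (T : Scheme.{u}) (p : T ⟶ X), IsFinite (p ≫ f) ∧ Surjective (p ≫ f) ∧ LocallyOfFinitePresentation (p ≫ f) := by
  obtain ⟨x₀, hx₀⟩ := f.surjective (closedPoint B)
  obtain ⟨x, hxs, Z, z, hx, hZ, hxZ, hz, hdim⟩ := exists_good_point f (closedPoint B) ⟨x₀, hx₀⟩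
  obtain ⟨S', S'', _, w, π, h, hw, hπ, hπs, hπp, e, s'', hs'', -, -⟩ :=
    S5391.result X _ f (closedPoint B) x hxs hx Z hZ hxZ z hz (isUnivOpenAt_of_universallyOpen f z) hdim
  have hmem : (π ≫ w).base s'' = closedPoint B := hs''.ge (rfl : s'' ∈ ({s''} : Set S''))
  obtain ⟨σ, hσ, -⟩ := (Hensel.strictlyHenselian_iff_exists_section B).1 ⟨inferInstance, inferInstance⟩ S' w
    hw (π s'') ((Scheme.Hom.comp_apply π w s'').symm.trans hmem)
  haveI := hπ
  haveI := hπs
  haveI := hπp
  have e' : (pullback.fst π σ ≫ h) ≫ f = pullback.snd π σ := by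
    rw [Category.assoc, e, ← Category.assoc, pullback.condition, Category.assoc, hσ, Category.comp_id]
  exact ⟨pullback π σ, pullback.fst π σ ≫ h, e' ▸ inferInstance, e' ▸ inferInstance, e' ▸ inferInstance⟩

end Groth.Agent.DescLib
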