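import Groth.Agent.DescLib.EtSpreadMaps
import Groth.Agent.LimSm.Descend
import Groth.Agent.LimSm.HomIso

/-!
# Spreading etale effectivity along limits of bases
-/

universe u

set_option autoImplicit false
set_option backward.isDefEq.respectTransparency false
set_option backward.isDefEq.respectTransparency.types false
set_option linter.style.haveILetI false

open CategoryTheory CategoryTheory.Limits AlgebraicGeometry Opposite Desc

namespace Groth.Agent.DescLib.EtSpread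

open Groth.Agent.MorLib Groth.Agent.ConsPropLib

variable {X S : Scheme.{u}} (g : X ⟶ S) (D : SchDDFam (fun _ : PUnit.{1} => g))
  {I : Type u} [SmallCategory I] {𝒟 : I ⥤ Scheme.{u}} (c : Cone 𝒟)
  (τ : ∀ i, 𝒟.obj i ⟶ S) (p : c.pt ⟶ S) (U : Over c.pt)

/-- A model of an etale scheme over the limit with a model of a map to the datum. -/
structure Stage (hinf : pullback (pullback.snd g p) U.hom ⟶ (D.obj ⟨⟩).left)
    (hp : ∀ i, c.π.app i ≫ τ i = p) where
  i : I
  U₀ : Scheme.{u}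
  u₀ : U₀ ⟶ 𝒟.obj i
  q : U.left ⟶ U₀
  hm : IsModel U.hom i u₀ q
  et : Etale u₀
  h : pullback (pullback.snd g (τ i)) u₀ ⟶ (D.obj ⟨⟩).left
  hh : h ≫ (D.obj ⟨⟩).hom = pullback.fst (pullback.snd g (τ i)) u₀ ≫ pullback.fst g (τ i)
  hres : mA g (hp i) hm.sq ≫ h = hinf

variable {g D c τ p U} (hτ : ∀ ⦃i j : I⦄ (φ : i ⟶ j), 𝒟.map φ ≫ τ j = τ i)
  {hinf : pullback (pullback.snd g p) U.hom ⟶ (D.obj ⟨⟩).left} {hp : ∀ i, c.π.app i ≫ τ i = p}

namespace Stage

variable (s : Stage g D c τ p U hinf hp)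

/-- The map to the datum over a stage. -/
noncomputable def k : pullback (pullback.snd g (τ s.i)) s.u₀ ⟶
    pullback (D.obj ⟨⟩).hom (pullback.fst g (τ s.i)) :=
  pullback.lift s.h (pullback.fst _ _) s.hh

lemma k_snd : s.k ≫ pullback.snd _ _ = pullback.fst (pullback.snd g (τ s.i)) s.u₀ := pullback.lift_snd _ _ _

lemma k_fst : s.k ≫ pullback.fst _ _ = s.h := pullback.lift_fst _ _ _

lemma k_over : s.k ≫ pullback.snd _ _ ≫ pullback.snd g (τ s.i) =
    pullback.snd (pullback.snd g (τ s.i)) s.u₀ ≫ s.u₀ := by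
  rw [← Category.assoc, s.k_snd, pullback.condition]

/-- A stage further on. -/
noncomputable def push {j : I} (φ : j ⟶ s.i) : Stage g D c τ p U hinf hp where
  i := j
  U₀ := pullback s.u₀ (𝒟.map φ)
  u₀ := pullback.snd s.u₀ (𝒟.map φ)
  q := s.hm.push φ
  hm := s.hm.pushed φ
  et := MorphismProperty.pullback_snd _ _ s.et
  h := mA g (hτ φ) (IsPullback.of_hasPullback s.u₀ (𝒟.map φ)) ≫ s.h
  hh := by rw [Category.assoc, s.hh, mA_fst_assoc, mS_fst]
  hres := by
    rw [← Category.assoc]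
    refine Eq.trans (congrArg (· ≫ s.h) ?_) s.hres
    apply pullback.hom_ext
    · simp only [Category.assoc, mA_fst, mA_fst_assoc]
      congr 1
      apply pullback.hom_ext
      · simp only [Category.assoc, mS_fst]
      · simp only [Category.assoc, mS_snd, mS_snd_assoc, c.w]
    · simp only [Category.assoc, mA_snd, mA_snd_assoc]
      rw [s.hm.push_fst]

lemma push_k {j : I} (φ : j ⟶ s.i) :
    mA g (hτ φ) (IsPullback.of_hasPullback s.u₀ (𝒟.map φ)) ≫ s.k = (s.push hτ φ).k ≫ mB g D (hτ φ) := by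
  apply pullback.hom_ext
  · rw [Category.assoc, Category.assoc, k_fst, mB_fst, k_fst]
    rfl
  · rw [Category.assoc, Category.assoc, k_snd, mB_snd, mA_fst, ← Category.assoc (s.push hτ φ).k, k_snd]
    rfl

lemma isPullback_push {j : I} (φ : j ⟶ s.i) :
    IsPullback (mA g (hτ φ) (IsPullback.of_hasPullback s.u₀ (𝒟.map φ))) (s.push hτ φ).k s.k
      (mB g D (hτ φ)) := by
  refine IsPullback.of_bot ?_ (s.push_k hτ φ) (sqB g D (hτ φ))
  have h1 := sqA g (hτ φ) (IsPullback.of_hasPullback s.u₀ (𝒟.map φ))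
  rw [← s.k_over] at h1
  exact Eq.mp (congrArg (fun z => IsPullback _ z _ _) (s.push hτ φ).k_over.symm) h1

lemma isIso_push_k [IsIso s.k] {j : I} (φ : j ⟶ s.i) : IsIso (s.push hτ φ).k :=
  MorphismProperty.of_isPullback (P := MorphismProperty.isomorphisms Scheme.{u}) (s.isPullback_push hτ φ)
    (inferInstanceAs (IsIso s.k))

end Stage

variable [IsCofiltered I] (hc : IsLimit c) [∀ (i j : I) (f : i ⟶ j), IsAffineHom (𝒟.map f)]
  [∀ i, CompactSpace (𝒟.obj i)] [∀ i, QuasiSeparatedSpace (𝒟.obj i)]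

include hc hτ in
theorem exists_stage [QuasiCompact g] [QuasiSeparated g]
    [LocallyOfFinitePresentation (D.obj ⟨⟩).hom] [Etale U.hom] [QuasiCompact U.hom] [QuasiSeparated U.hom]
    (hhinf : hinf ≫ (D.obj ⟨⟩).hom = pullback.fst (pullback.snd g p) U.hom ≫ pullback.fst g p) :
    Nonempty (Stage g D c τ p U hinf hp) := by
  haveI : ∀ {i j : I} (f : i ⟶ j), IsAffineHom (𝒟.map f) := fun f => inferInstance
  obtain ⟨m, U₁, u₁, q₁, hm⟩ := hasModel hc U.hom
  haveI := hm.qc; haveI := hm.qs; haveI := hm.lfp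
  obtain ⟨i, ψ, het⟩ := Desc.descend 𝒟 c hc m (P := @Etale) (Q := @LocallyOfFinitePresentation)
    LimSm.core_etale u₁ hm.lfp (Desc.of_two @Etale hm.sq (IsPullback.of_hasPullback _ _) ‹Etale U.hom›)
  let u₀ := pullback.snd u₁ (𝒟.map ψ)
  haveI : Etale u₀ := het
  have hm₀ : IsModel U.hom i u₀ (hm.push ψ) := hm.pushed ψ
  haveI := hm₀.qc; haveI := hm₀.qs
  let xA := pullback.snd (pullback.snd g (τ i)) u₀ ≫ u₀
  have sqX : IsPullback (mA g (hp i) hm₀.sq) (pullback.snd _ _ ≫ U.hom) xA (c.π.app i) := sqA g (hp i) hm₀.sq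
  haveI : CompactSpace (pullback (pullback.snd g (τ i)) u₀ : Scheme.{u}) :=
    QuasiCompact.compactSpace_of_compactSpace xA
  haveI : QuasiSeparatedSpace (pullback (pullback.snd g (τ i)) u₀ : Scheme.{u}) :=
    quasiSeparatedSpace_of_quasiSeparated xA
  let t : BC.diag 𝒟 xA ⟶ (Functor.const (Over i)).obj X :=
    BC.toStart 𝒟 xA ≫ (Functor.const (Over i)).map (pullback.fst (pullback.snd g (τ i)) u₀ ≫ pullback.fst g (τ i))
  obtain ⟨k, h, hg₁, hg₂⟩ := Scheme.exists_π_app_comp_eq_of_locallyOfFinitePresentation (BC.diag 𝒟 xA) t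
    (D.obj ⟨⟩).hom (BC.cone 𝒟 xA sqX) (BC.isLimitCone 𝒟 xA sqX hc) hinf (by
      ext j
      simp only [t, NatTrans.comp_app, Functor.const_map_app]
      refine (Category.assoc _ _ _).symm.trans ?_
      rw [show (BC.cone 𝒟 xA sqX).π.app j ≫ (BC.toStart 𝒟 xA).app j = mA g (hp i) hm₀.sq from
        BC.proj_fst 𝒟 xA sqX j]
      show mA g (hp i) hm₀.sq ≫ pullback.fst _ _ ≫ pullback.fst g (τ i) = hinf ≫ (D.obj ⟨⟩).hom
      rw [mA_fst_assoc, mS_fst, hhinf])
  have hg₃ : h ≫ (D.obj ⟨⟩).hom = pullback.fst xA (𝒟.map k.hom) ≫ pullback.fst _ _ ≫ pullback.fst g (τ i) := hg₂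
  let sq' := IsPullback.of_hasPullback u₀ (𝒟.map k.hom)
  let ρ : pullback (pullback.snd g (τ k.left)) (pullback.snd u₀ (𝒟.map k.hom)) ⟶ pullback xA (𝒟.map k.hom) :=
    pullback.lift (mA g (hτ k.hom) sq') (pullback.snd _ _ ≫ pullback.snd u₀ (𝒟.map k.hom))
      (sqA g (hτ k.hom) sq').w
  refine ⟨{ i := k.left, U₀ := _, u₀ := pullback.snd u₀ (𝒟.map k.hom), q := hm₀.push k.hom,
            hm := hm₀.pushed k.hom, et := MorphismProperty.pullback_snd _ _ het, h := ρ ≫ h, hh := ?_, hres := ?_ }⟩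
  · rw [Category.assoc, hg₃, pullback.lift_fst_assoc, mA_fst_assoc, mS_fst]
  · rw [← Category.assoc]
    refine Eq.trans (congrArg (· ≫ h) ?_) hg₁
    show _ = BC.proj 𝒟 xA sqX k
    apply pullback.hom_ext
    · rw [Category.assoc, pullback.lift_fst, BC.proj_fst]
      apply pullback.hom_ext
      · simp only [Category.assoc, mA_fst, mA_fst_assoc]
        congr 1
        apply pullback.hom_ext
        · simp only [Category.assoc, mS_fst]
        · simp only [Category.assoc, mS_snd, mS_snd_assoc, c.w]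
      · simp only [Category.assoc, mA_snd, mA_snd_assoc]
        rw [hm₀.push_fst]
    · rw [Category.assoc, pullback.lift_snd, BC.proj_snd, mA_snd_assoc, hm₀.push_snd, Category.assoc]

include hc hτ in
theorem exists_stage_isIso [QuasiCompact g] [QuasiSeparated g]
    [LocallyOfFinitePresentation (D.obj ⟨⟩).hom] [QuasiCompact (D.obj ⟨⟩).hom] [QuasiSeparated (D.obj ⟨⟩).hom]
    (s : Stage g D c τ p U hinf hp)
    (kinf : pullback (pullback.snd g p) U.hom ⟶ pullback (D.obj ⟨⟩).hom (pullback.fst g p)) [IsIso kinf]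
    (hk₁ : kinf ≫ pullback.fst _ _ = hinf) (hk₂ : kinf ≫ pullback.snd _ _ = pullback.fst _ _) :
    ∃ s' : Stage g D c τ p U hinf hp, IsIso s'.k := by
  haveI : ∀ {i j : I} (f : i ⟶ j), IsAffineHom (𝒟.map f) := fun f => inferInstance
  haveI := s.hm.qc; haveI := s.hm.qs; haveI := s.hm.lfp
  let bi := pullback.snd (D.obj ⟨⟩).hom (pullback.fst g (τ s.i)) ≫ pullback.snd g (τ s.i)
  haveI : QuasiCompact (s.k ≫ bi) := by rw [show s.k ≫ bi = _ from s.k_over]; infer_instance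
  haveI : QuasiSeparated (s.k ≫ bi) := by rw [show s.k ≫ bi = _ from s.k_over]; infer_instance
  haveI : Etale s.u₀ := s.et
  haveI : LocallyOfFinitePresentation (s.k ≫ pullback.snd (D.obj ⟨⟩).hom (pullback.fst g (τ s.i))) := by
    rw [s.k_snd]; infer_instance
  haveI : LocallyOfFinitePresentation s.k :=
    AlgSpPts.locallyOfFinitePresentation_of_comp s.k (pullback.snd (D.obj ⟨⟩).hom (pullback.fst g (τ s.i)))
  haveI : QuasiCompact s.k := QuasiCompact.of_comp s.k bi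
  haveI : QuasiSeparated s.k := QuasiSeparated.of_comp s.k bi
  haveI : CompactSpace (pullback (D.obj ⟨⟩).hom (pullback.fst g (τ s.i)) : Scheme.{u}) :=
    QuasiCompact.compactSpace_of_compactSpace bi
  haveI : MorphismProperty.RespectsIso (@LocallyOfFinitePresentation : MorphismProperty Scheme.{u}) :=
    MorphismProperty.IsStableUnderBaseChange.respectsIso
  have hsq : IsPullback (mA g (hp s.i) s.hm.sq) kinf s.k (mB g D (hp s.i)) := by
    refine IsPullback.of_bot ?_ ?_ (sqB g D (hp s.i))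
    · rw [s.k_over, reassoc_of% hk₂, pullback.condition]
      exact sqA g (hp s.i) s.hm.sq
    · apply pullback.hom_ext
      · rw [Category.assoc, Category.assoc, s.k_fst, mB_fst, hk₁, s.hres]
      · rw [Category.assoc, Category.assoc, s.k_snd, mB_snd, reassoc_of% hk₂, mA_fst]
  obtain ⟨j, φ, Xj, Yj, fj, gj, pY, pX, sY, sX, hiso⟩ := Desc.descend₂ 𝒟 c hc
    (P := MorphismProperty.isomorphisms Scheme.{u}) (Q := @LocallyOfFinitePresentation) Desc.core_iso s.k bi
    inferInstance kinf _ _ _ (sqB g D (hp s.i)) hsq (inferInstanceAs (IsIso kinf))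
  refine ⟨s.push hτ φ, ?_⟩
  exact Desc.of_factor (MorphismProperty.isomorphisms Scheme.{u})
    (Desc.of_two (MorphismProperty.isomorphisms Scheme.{u}) sX (IsPullback.of_hasPullback _ _) hiso)
    (a := sY.lift (mB g D (hτ φ)) (pullback.snd _ _ ≫ pullback.snd g (τ j)) (sqB g D (hτ φ)).w)
    (sY.lift_fst _ _ _) (s.isPullback_push hτ φ)

include hc hτ in
theorem exists_stage_comm [QuasiCompact g] [QuasiSeparated g]
    [LocallyOfFiniteType (D.obj ⟨⟩).hom] (s : Stage g D c τ p U hinf hp) [IsIso s.k]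
    (hhinf : hinf ≫ (D.obj ⟨⟩).hom = pullback.fst (pullback.snd g p) U.hom ≫ pullback.fst g p)
    (hcomm : e₁ g p U.hom hinf hhinf = e₂ g p U.hom hinf) :
    ∃ s' : Stage g D c τ p U hinf hp, IsIso s'.k ∧ e₁ g (τ s'.i) s'.u₀ s'.h s'.hh = e₂ g (τ s'.i) s'.u₀ s'.h := by
  haveI : ∀ {i j : I} (f : i ⟶ j), IsAffineHom (𝒟.map f) := fun f => inferInstance
  haveI := s.hm.qc; haveI := s.hm.qs; haveI := s.hm.lfp
  let xP : P₂ g (τ s.i) s.u₀ ⟶ 𝒟.obj s.i := pullback.fst _ _ ≫ pullback.snd _ _ ≫ s.u₀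
  have sqX : IsPullback (mP g (hp s.i) s.hm.sq) (pullback.fst _ _ ≫ pullback.snd _ _ ≫ U.hom) xP
      (c.π.app s.i) := sqP g (hp s.i) s.hm.sq
  haveI : CompactSpace (P₂ g (τ s.i) s.u₀ : Scheme.{u}) := QuasiCompact.compactSpace_of_compactSpace xP
  haveI : QuasiSeparatedSpace (P₂ g (τ s.i) s.u₀ : Scheme.{u}) := quasiSeparatedSpace_of_quasiSeparated xP
  let t : BC.diag 𝒟 xP ⟶ (Functor.const (Over s.i)).obj X :=
    BC.toStart 𝒟 xP ≫ (Functor.const (Over s.i)).map (pullback.snd _ _ ≫ pullback.fst g (τ s.i))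
  let T : Over s.i := Over.mk (𝟙 s.i)
  let st : (BC.diag 𝒟 xP).obj T ⟶ P₂ g (τ s.i) s.u₀ := pullback.fst xP (𝒟.map (𝟙 s.i))
  have hh' : (mA g (hp s.i) s.hm.sq ≫ s.h) ≫ (D.obj ⟨⟩).hom =
      pullback.fst (pullback.snd g p) U.hom ≫ pullback.fst g p := by rw [s.hres, hhinf]
  obtain ⟨k, hik, hk⟩ := Scheme.exists_hom_comp_eq_comp_of_locallyOfFiniteType (BC.diag 𝒟 xP) t
    (D.obj ⟨⟩).hom (BC.cone 𝒟 xP sqX) (BC.isLimitCone 𝒟 xP sqX hc) (i := T)
    (st ≫ e₁ g (τ s.i) s.u₀ s.h s.hh) (st ≫ e₂ g (τ s.i) s.u₀ s.h)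
    (by rw [Category.assoc, e₁_hom]; rfl) (by rw [Category.assoc, e₂_hom _ _ _ _ s.hh]; rfl) (by
      have hπ : (BC.cone 𝒟 xP sqX).π.app T ≫ st = mP g (hp s.i) s.hm.sq := BC.proj_fst 𝒟 xP sqX T
      refine (Category.assoc _ _ _).symm.trans (Eq.trans ?_ (Category.assoc _ _ _))
      refine (congrArg (· ≫ _) hπ).trans (Eq.trans ?_ (congrArg (· ≫ _) hπ).symm)
      show mP g (hp s.i) s.hm.sq ≫ e₁ g (τ s.i) s.u₀ s.h s.hh = mP g (hp s.i) s.hm.sq ≫ e₂ g (τ s.i) s.u₀ s.h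
      rw [mP_e₁ g D (hp s.i) s.hm.sq s.h s.hh hh', mP_e₂]
      have key : ∀ (h' : pullback (pullback.snd g p) U.hom ⟶ (D.obj ⟨⟩).left)
          (hh'' : h' ≫ (D.obj ⟨⟩).hom = pullback.fst (pullback.snd g p) U.hom ≫ pullback.fst g p),
          h' = hinf → e₁ g p U.hom h' hh'' = e₂ g p U.hom h' := by
        rintro h' hh'' rfl
        exact hcomm
      exact key _ hh' s.hres)
  refine ⟨s.push hτ k.hom, s.isIso_push_k hτ k.hom, ?_⟩
  have hst : (BC.diag 𝒟 xP).map hik ≫ st = pullback.fst xP (𝒟.map k.hom) := BC.map_fst 𝒟 xP hik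
  have hk' : pullback.fst xP (𝒟.map k.hom) ≫ e₁ g (τ s.i) s.u₀ s.h s.hh =
      pullback.fst xP (𝒟.map k.hom) ≫ e₂ g (τ s.i) s.u₀ s.h := by
    rw [← hst, Category.assoc, Category.assoc]
    exact hk
  let sq' := IsPullback.of_hasPullback s.u₀ (𝒟.map k.hom)
  let ρ : P₂ g (τ k.left) (pullback.snd s.u₀ (𝒟.map k.hom)) ⟶ pullback xP (𝒟.map k.hom) :=
    pullback.lift (mP g (hτ k.hom) sq') _ (sqP g (hτ k.hom) sq').w
  have h1 := congrArg (ρ ≫ ·) hk'
  simp only [ρ, pullback.lift_fst_assoc] at h1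
  rw [mP_e₁ g D (hτ k.hom) sq' s.h s.hh (by rw [Category.assoc, s.hh, mA_fst_assoc, mS_fst]), mP_e₂] at h1
  exact h1

include hc hτ in
/-- Effectivity over a limit of bases spreads to a stage. -/
theorem exists_stage_effective [QuasiCompact g] [QuasiSeparated g]
    [Etale (D.obj ⟨⟩).hom] [QuasiCompact (D.obj ⟨⟩).hom] [QuasiSeparated (D.obj ⟨⟩).hom]
    [Etale U.hom] [QuasiCompact U.hom] [QuasiSeparated U.hom] (hp : ∀ i, c.π.app i ≫ τ i = p)
    (J : (toDDFam (fun _ : PUnit.{1} => pullback.snd g p)).obj U ≅ pullOne p D) :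
    ∃ (i : I) (V : Over (𝒟.obj i)), Etale V.hom ∧
      Nonempty ((toDDFam (fun _ : PUnit.{1} => pullback.snd g (τ i))).obj V ≅ pullOne (τ i) D) := by
  let kinf : pullback (pullback.snd g p) U.hom ⟶ pullback (D.obj ⟨⟩).hom (pullback.fst g p) :=
    (J.hom.hom ⟨⟩).left
  have hk₂ : kinf ≫ pullback.snd _ _ = pullback.fst (pullback.snd g p) U.hom := Over.w (J.hom.hom ⟨⟩)
  haveI : IsIso kinf := ⟨(J.inv.hom ⟨⟩).left,
    congrArg CommaMorphism.left (congrFun (congrArg SchDDFam.Hom.hom J.hom_inv_id) ⟨⟩),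
    congrArg CommaMorphism.left (congrFun (congrArg SchDDFam.Hom.hom J.inv_hom_id) ⟨⟩)⟩
  let hinf : pullback (pullback.snd g p) U.hom ⟶ (D.obj ⟨⟩).left := kinf ≫ pullback.fst _ _
  have hhinf : hinf ≫ (D.obj ⟨⟩).hom = pullback.fst (pullback.snd g p) U.hom ≫ pullback.fst g p := by
    rw [Category.assoc, pullback.condition, reassoc_of% hk₂]
  have hcomm : e₁ g p U.hom hinf hhinf = e₂ g p U.hom hinf := by
    let a := pullback.fst (pullback.fst (pullback.snd g p) U.hom ≫ pullback.snd g p) (pullback.snd g p)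
    let b := pullback.snd (pullback.fst (pullback.snd g p) U.hom ≫ pullback.snd g p) (pullback.snd g p)
    have h := J.hom.comm (i := PUnit.unit) (j := PUnit.unit) (a ≫ pullback.fst (pullback.snd g p) U.hom) b
      (by rw [Category.assoc]; exact pullback.condition)
      ⟨a, rfl⟩ ⟨a ≫ kinf, by
        show (a ≫ kinf) ≫ pullback.snd _ _ = _
        rw [Category.assoc, hk₂]⟩ rfl
    have h' := congrArg (· ≫ pullback.fst (D.obj ⟨⟩).hom (pullback.fst g p)) h
    simp only [pullOne, pullDDFam, pullDDFamObj, Equiv.trans_apply, toDDFam, canonicalDDFam, Equiv.coe_fn_mk,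
      canMapFam_val, liftsPullbackEquiv, Equiv.coe_fn_symm_mk, pullback.lift_fst] at h'
    refine Eq.trans ?_ (h'.trans (Category.assoc _ _ _))
    exact φ_congr D (Category.assoc _ _ _).symm rfl _ _ _ _ (Category.assoc _ _ _).symm
  obtain ⟨s₀⟩ := exists_stage (hp := hp) hτ hc (hinf := hinf) hhinf
  obtain ⟨s₁, h₁⟩ := exists_stage_isIso hτ hc s₀ kinf rfl hk₂
  haveI := h₁
  obtain ⟨s, h₂, h₃⟩ := exists_stage_comm hτ hc s₁ hhinf hcomm
  refine ⟨s.i, Over.mk s.u₀, s.et, ?_⟩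
  let k' : ((toDDFam (fun _ : PUnit.{1} => pullback.snd g (τ s.i))).obj (Over.mk s.u₀)).obj ⟨⟩ ⟶
      (pullOne (τ s.i) D).obj ⟨⟩ := Over.homMk s.k s.k_snd
  haveI : IsIso k'.left := h₂
  refine iso_of_universal k' fun hx' w hw => ?_
  apply pullback.hom_ext
  · simp only [pullOne, pullDDFam, pullDDFamObj, Equiv.trans_apply, toDDFam, canonicalDDFam, Equiv.coe_fn_mk,
      canMapFam_val, liftsPullbackEquiv, Equiv.coe_fn_symm_mk, pullback.lift_fst, Category.assoc]
    refine Eq.trans ?_ (h₃.trans (congrArg (_ ≫ ·) s.k_fst.symm))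
    refine φ_congr D (Category.assoc _ _ _) rfl _ _ _ _ ?_
    show w.1 ≫ pullback.fst _ _ = _ ≫ s.h
    rw [hw, Category.assoc]
    exact congrArg (_ ≫ ·) s.k_fst
  · exact ((pullOne (τ s.i) D).φ (i := PUnit.unit) (j := PUnit.unit) _ _ hx' w).2.trans
      (by
        rw [Category.assoc]
        refine Eq.trans ?_ (congrArg (_ ≫ ·) s.k_snd.symm)
        exact (((toDDFam (fun _ : PUnit.{1} => pullback.snd g (τ s.i))).obj (Over.mk s.u₀)).φ
          (i := PUnit.unit) (j := PUnit.unit) _ _ hx' ⟨pullback.fst _ _, rfl⟩).2.symm)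

end Groth.Agent.DescLib.EtSpread
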