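import Groth.Agent.DescLib.EtRep

/-!
# Maps between base changes of etale data
-/

universe u

set_option autoImplicit false
set_option backward.isDefEq.respectTransparency false
set_option backward.isDefEq.respectTransparency.types false

open CategoryTheory CategoryTheory.Limits AlgebraicGeometry Opposite Desc

namespace Groth.Agent.DescLib.EtSpread

variable {X S : Scheme.{u}} (g : X ⟶ S) (D : SchDDFam (fun _ : PUnit.{1} => g))

section maps

variable {T T' : Scheme.{u}} {π : T' ⟶ T} {τ : T ⟶ S} {τ' : T' ⟶ S} (e : π ≫ τ = τ')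

/-- The map of base changes of `g`. -/
noncomputable def mS : pullback g τ' ⟶ pullback g τ :=
  pullback.lift (pullback.fst g τ') (pullback.snd g τ' ≫ π) (by rw [Category.assoc, e]; exact pullback.condition)

@[reassoc] lemma mS_fst : mS g e ≫ pullback.fst g τ = pullback.fst g τ' := pullback.lift_fst _ _ _

@[reassoc] lemma mS_snd : mS g e ≫ pullback.snd g τ = pullback.snd g τ' ≫ π := pullback.lift_snd _ _ _

lemma sqS : IsPullback (mS g e) (pullback.snd g τ') (pullback.snd g τ) π := by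
  refine IsPullback.of_right ?_ (mS_snd g e) (IsPullback.of_hasPullback g τ)
  rw [mS_fst, e]
  exact IsPullback.of_hasPullback g τ'

/-- The map of the underlying schemes of pulled back data. -/
noncomputable def mB : pullback (D.obj ⟨⟩).hom (pullback.fst g τ') ⟶ pullback (D.obj ⟨⟩).hom (pullback.fst g τ) :=
  pullback.lift (pullback.fst _ _) (pullback.snd _ _ ≫ mS g e)
    (by rw [Category.assoc, mS_fst]; exact pullback.condition)

@[reassoc] lemma mB_fst : mB g D e ≫ pullback.fst _ _ = pullback.fst (D.obj ⟨⟩).hom (pullback.fst g τ') :=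
  pullback.lift_fst _ _ _

@[reassoc] lemma mB_snd : mB g D e ≫ pullback.snd _ _ = pullback.snd _ _ ≫ mS g e := pullback.lift_snd _ _ _

lemma sqB : IsPullback (mB g D e) (pullback.snd _ _ ≫ pullback.snd g τ')
    (pullback.snd (D.obj ⟨⟩).hom (pullback.fst g τ) ≫ pullback.snd g τ) π := by
  refine IsPullback.paste_vert ?_ (sqS g e)
  refine IsPullback.of_right ?_ (mB_snd g D e) (IsPullback.of_hasPullback _ (pullback.fst g τ))
  rw [mB_fst, mS_fst]
  exact IsPullback.of_hasPullback _ (pullback.fst g τ')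

variable {U U' : Scheme.{u}} {u : U ⟶ T} {u' : U' ⟶ T'} {r : U' ⟶ U} (sq : IsPullback r u' u π)

/-- The map of canonical data. -/
noncomputable def mA : pullback (pullback.snd g τ') u' ⟶ pullback (pullback.snd g τ) u :=
  pullback.lift (pullback.fst _ _ ≫ mS g e) (pullback.snd _ _ ≫ r)
    (by rw [Category.assoc, mS_snd, reassoc_of% (pullback.condition (f := pullback.snd g τ') (g := u')),
      Category.assoc, sq.w])

@[reassoc] lemma mA_fst : mA g e sq ≫ pullback.fst _ _ = pullback.fst (pullback.snd g τ') u' ≫ mS g e :=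
  pullback.lift_fst _ _ _

@[reassoc] lemma mA_snd : mA g e sq ≫ pullback.snd _ _ = pullback.snd (pullback.snd g τ') u' ≫ r :=
  pullback.lift_snd _ _ _

lemma sqA : IsPullback (mA g e sq) (pullback.snd _ _ ≫ u') (pullback.snd (pullback.snd g τ) u ≫ u) π := by
  refine IsPullback.paste_vert ?_ sq
  refine IsPullback.of_right ?_ (mA_snd g e sq) (IsPullback.of_hasPullback _ u)
  rw [mA_fst, sq.w]
  exact (((IsPullback.of_hasPullback (pullback.snd g τ') u').flip).paste_vert (sqS g e).flip).flip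

end maps

section univ

variable {T : Scheme.{u}} (τ : T ⟶ S) {U : Scheme.{u}} (u : U ⟶ T)

/-- The universal pair of points of the canonical datum. -/
noncomputable abbrev P₂ : Scheme.{u} :=
  pullback (pullback.fst (pullback.snd g τ) u ≫ pullback.snd g τ) (pullback.snd g τ)

lemma hx : (pullback.fst (pullback.fst (pullback.snd g τ) u ≫ pullback.snd g τ) (pullback.snd g τ) ≫
      pullback.fst (pullback.snd g τ) u ≫ pullback.fst g τ) ≫ g =
    (pullback.snd (pullback.fst (pullback.snd g τ) u ≫ pullback.snd g τ) (pullback.snd g τ) ≫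
      pullback.fst g τ) ≫ g := by
  have h := pullback.condition (f := pullback.fst (pullback.snd g τ) u ≫ pullback.snd g τ) (g := pullback.snd g τ)
  simp only [Category.assoc]
  rw [pullback.condition (f := g) (g := τ)]
  have h' := congrArg (· ≫ τ) h
  simp only [Category.assoc] at h'
  exact h'

variable {D} in
/-- Transporting the first point and mapping. -/
noncomputable def e₁ (h : pullback (pullback.snd g τ) u ⟶ (D.obj ⟨⟩).left)
    (hh : h ≫ (D.obj ⟨⟩).hom = pullback.fst (pullback.snd g τ) u ≫ pullback.fst g τ) :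
    P₂ g τ u ⟶ (D.obj ⟨⟩).left :=
  (D.φ (i := PUnit.unit) (j := PUnit.unit) _ _ (hx g τ u)
    ⟨pullback.fst _ _ ≫ h, by rw [Category.assoc, hh]⟩).1

/-- The second point. -/
noncomputable def snd₂ : P₂ g τ u ⟶ pullback (pullback.snd g τ) u :=
  pullback.lift (pullback.snd _ _) (pullback.fst _ _ ≫ pullback.snd _ _)
    (by rw [Category.assoc, ← pullback.condition (f := pullback.snd g τ) (g := u)]; exact pullback.condition.symm)

variable {D} in
/-- Mapping the second point. -/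
noncomputable def e₂ (h : pullback (pullback.snd g τ) u ⟶ (D.obj ⟨⟩).left) : P₂ g τ u ⟶ (D.obj ⟨⟩).left :=
  snd₂ g τ u ≫ h

variable {D} in
lemma e₁_hom (h : pullback (pullback.snd g τ) u ⟶ (D.obj ⟨⟩).left)
    (hh : h ≫ (D.obj ⟨⟩).hom = pullback.fst (pullback.snd g τ) u ≫ pullback.fst g τ) :
    e₁ g τ u h hh ≫ (D.obj ⟨⟩).hom = pullback.snd _ _ ≫ pullback.fst g τ :=
  (D.φ (i := PUnit.unit) (j := PUnit.unit) _ _ (hx g τ u) _).2

variable {D} in
lemma e₂_hom (h : pullback (pullback.snd g τ) u ⟶ (D.obj ⟨⟩).left)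
    (hh : h ≫ (D.obj ⟨⟩).hom = pullback.fst (pullback.snd g τ) u ≫ pullback.fst g τ) :
    e₂ g τ u h ≫ (D.obj ⟨⟩).hom = pullback.snd _ _ ≫ pullback.fst g τ := by
  rw [e₂, Category.assoc, hh, ← Category.assoc, snd₂, pullback.lift_fst]

end univ

section mP

variable {T T' : Scheme.{u}} {π : T' ⟶ T} {τ : T ⟶ S} {τ' : T' ⟶ S} (e : π ≫ τ = τ')
  {U U' : Scheme.{u}} {u : U ⟶ T} {u' : U' ⟶ T'} {r : U' ⟶ U} (sq : IsPullback r u' u π)

/-- The map of universal pairs. -/
noncomputable def mP : P₂ g τ' u' ⟶ P₂ g τ u :=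
  pullback.lift (pullback.fst _ _ ≫ mA g e sq) (pullback.snd _ _ ≫ mS g e) (by
    have h := pullback.condition (f := pullback.fst (pullback.snd g τ') u' ≫ pullback.snd g τ')
      (g := pullback.snd g τ')
    simp only [Category.assoc] at h ⊢
    rw [mA_fst_assoc, mS_snd, reassoc_of% h])

@[reassoc] lemma mP_fst : mP g e sq ≫ pullback.fst _ _ = pullback.fst _ _ ≫ mA g e sq := pullback.lift_fst _ _ _

@[reassoc] lemma mP_snd : mP g e sq ≫ pullback.snd _ _ = pullback.snd _ _ ≫ mS g e := pullback.lift_snd _ _ _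

lemma sqP : IsPullback (mP g e sq) (pullback.fst _ _ ≫ pullback.snd _ _ ≫ u')
    (pullback.fst (pullback.fst (pullback.snd g τ) u ≫ pullback.snd g τ) (pullback.snd g τ) ≫
      pullback.snd (pullback.snd g τ) u ≫ u) π := by
  refine IsPullback.paste_vert ?_ (sqA g e sq)
  refine IsPullback.of_right ?_ (mP_fst g e sq) (IsPullback.of_hasPullback _ (pullback.snd g τ)).flip
  rw [mP_snd]
  have h : mA g e sq ≫ pullback.fst (pullback.snd g τ) u ≫ pullback.snd g τ =
      (pullback.fst (pullback.snd g τ') u' ≫ pullback.snd g τ') ≫ π := by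
    rw [mA_fst_assoc, mS_snd, Category.assoc]
  rw [h]
  exact (IsPullback.of_hasPullback _ (pullback.snd g τ')).flip.paste_horiz (sqS g e)

lemma mP_snd₂ : mP g e sq ≫ snd₂ g τ u = snd₂ g τ' u' ≫ mA g e sq := by
  apply pullback.hom_ext
  · rw [Category.assoc, Category.assoc, mA_fst, snd₂, snd₂, pullback.lift_fst, pullback.lift_fst_assoc, mP_snd]
  · rw [Category.assoc, Category.assoc, mA_snd, snd₂, snd₂, pullback.lift_snd, pullback.lift_snd_assoc,
      mP_fst_assoc, mA_snd, Category.assoc]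

lemma mP_e₂ (h : pullback (pullback.snd g τ) u ⟶ (D.obj ⟨⟩).left) :
    mP g e sq ≫ e₂ g τ u h = e₂ g τ' u' (mA g e sq ≫ h) := by
  rw [e₂, e₂, ← Category.assoc, mP_snd₂, Category.assoc]

lemma mP_e₁ (h : pullback (pullback.snd g τ) u ⟶ (D.obj ⟨⟩).left)
    (hh : h ≫ (D.obj ⟨⟩).hom = pullback.fst (pullback.snd g τ) u ≫ pullback.fst g τ)
    (hh' : (mA g e sq ≫ h) ≫ (D.obj ⟨⟩).hom = pullback.fst (pullback.snd g τ') u' ≫ pullback.fst g τ') :
    mP g e sq ≫ e₁ g τ u h hh = e₁ g τ' u' (mA g e sq ≫ h) hh' :=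
  (D.φ_natural (mP g e sq) (i := PUnit.unit) (j := PUnit.unit) _ _ _ _ _
    (by rw [mP_fst_assoc, mA_fst_assoc, mS_fst])
    (by rw [mP_snd_assoc, mS_fst]) _ _ _
    (by simp only [mP_fst_assoc])).symm

end mP

section iso

/-- An isomorphism of underlying schemes commuting at the universal pair is one of data. -/
theorem iso_of_universal {Y : Scheme.{u}} {f : Y ⟶ S} {A B : SchDDFam (fun _ : PUnit.{1} => f)}
    (k : A.obj ⟨⟩ ⟶ B.obj ⟨⟩) [IsIso k.left]
    (hk : ∀ (h : (pullback.fst ((A.obj ⟨⟩).hom ≫ f) f ≫ (A.obj ⟨⟩).hom) ≫ f =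
        pullback.snd ((A.obj ⟨⟩).hom ≫ f) f ≫ f)
      (w : Lifts (B.obj ⟨⟩) (pullback.fst ((A.obj ⟨⟩).hom ≫ f) f ≫ (A.obj ⟨⟩).hom))
      (_ : w.1 = pullback.fst ((A.obj ⟨⟩).hom ≫ f) f ≫ k.left),
      (B.φ _ _ h w).1 = (A.φ (i := PUnit.unit) (j := PUnit.unit) _ _ h ⟨pullback.fst _ _, rfl⟩).1 ≫ k.left) :
    Nonempty (A ≅ B) := by
  have hw : inv k.left ≫ (A.obj ⟨⟩).hom = (B.obj ⟨⟩).hom := (IsIso.inv_comp_eq _).2 (Over.w k).symm
  obtain ⟨I, -⟩ := exists_iso_of_points (A := A) (B := B)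
    (fun _ T x =>
      { toFun := fun v => ⟨v.1 ≫ k.left, by rw [Category.assoc, Over.w k]; exact v.2⟩
        invFun := fun v => ⟨v.1 ≫ inv k.left, by rw [Category.assoc, hw]; exact v.2⟩
        left_inv := fun v => Subtype.ext (by simp)
        right_inv := fun v => Subtype.ext (by simp) })
    (fun _ T T' t x y hy v v' hv => by simp [hv])
    (fun T _ _ x₀ x₁ h v => by
      have hv : v.1 ≫ (A.obj ⟨⟩).hom ≫ f = x₁ ≫ f := by
        rw [← Category.assoc]; exact (congrArg (· ≫ f) v.2).trans h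
      let q := pullback.lift v.1 x₁ hv
      have h₀ : (pullback.fst ((A.obj ⟨⟩).hom ≫ f) f ≫ (A.obj ⟨⟩).hom) ≫ f =
          pullback.snd ((A.obj ⟨⟩).hom ≫ f) f ≫ f := (Category.assoc _ _ _).trans pullback.condition
      have hq₀ : q ≫ pullback.fst _ _ ≫ (A.obj ⟨⟩).hom = x₀ := by rw [pullback.lift_fst_assoc]; exact v.2
      have hq₁ : q ≫ pullback.snd _ _ = x₁ := pullback.lift_snd _ _ _
      let w₀ : Lifts (B.obj ⟨⟩) (pullback.fst ((A.obj ⟨⟩).hom ≫ f) f ≫ (A.obj ⟨⟩).hom) :=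
        ⟨pullback.fst _ _ ≫ k.left, by rw [Category.assoc, Over.w k]⟩
      refine Subtype.ext ?_
      show (B.φ x₀ x₁ h ⟨v.1 ≫ k.left, _⟩).1 = (A.φ x₀ x₁ h v).1 ≫ k.left
      rw [B.φ_natural q _ _ h₀ x₀ x₁ hq₀ hq₁ h w₀ ⟨v.1 ≫ k.left, by rw [Category.assoc, Over.w k]; exact v.2⟩
          (pullback.lift_fst_assoc _ _ _ _).symm,
        A.φ_natural q _ _ h₀ x₀ x₁ hq₀ hq₁ h ⟨pullback.fst _ _, rfl⟩ v (pullback.lift_fst _ _ _).symm,
        hk h₀ w₀ rfl, Category.assoc])
  exact ⟨I⟩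

end iso

end Groth.Agent.DescLib.EtSpread
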