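import Groth.Agent.DescLib.EtSatOpen
import Groth.Agent.DescLib.EtSchDD
import Groth.Agent.SGA1Q.Subm

/-!
# Etale descent along universally subtrusive morphisms for separated etale data which need not be quasi-compact

The datum is covered by quasi-compact saturated opens; each descends and gives a chart.
-/

universe u

set_option autoImplicit false
set_option backward.isDefEq.respectTransparency false
set_option backward.isDefEq.respectTransparency.types false
set_option linter.style.haveILetI false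

open CategoryTheory CategoryTheory.Limits AlgebraicGeometry Opposite Desc IsLocalRing

namespace Groth.Agent.DescLib

variable {X S : Scheme.{u}} {g : X ⟶ S} {D : SchDDFam (fun _ : PUnit.{1} => g)}

/-- A saturated open is stable under the bijections at all points. -/
theorem Saturated.range_subset {V : (D.obj ⟨⟩).left.Opens} (hV : Saturated D V) {T : Scheme.{u}} (x y : T ⟶ X)
    (h : x ≫ g = y ≫ g) (v : Lifts (D.obj ⟨⟩) x) (hv : Set.range v.1 ⊆ (V : Set (D.obj ⟨⟩).left)) :
    Set.range (D.φ (i := PUnit.unit) (j := PUnit.unit) x y h v).1 ⊆ (V : Set (D.obj ⟨⟩).left) := by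
  rintro _ ⟨t, rfl⟩
  let ρ := T.fromSpecResidueField t
  have h' : (ρ ≫ x) ≫ g = (ρ ≫ y) ≫ g := by rw [Category.assoc, h, Category.assoc]
  have hρ : ρ (closedPoint _) = t := Scheme.fromSpecResidueField_apply t _
  have e := hV (K := T.residueField t) (ρ ≫ x) (ρ ≫ y) h' ⟨ρ ≫ v.1, by rw [Category.assoc, v.2]⟩ (by
    show (ρ ≫ v.1) (closedPoint _) ∈ V
    rw [Scheme.Hom.comp_apply, hρ]
    exact hv ⟨t, rfl⟩)
  have key := congrArg (fun q : Spec (T.residueField t) ⟶ (D.obj ⟨⟩).left => q (closedPoint (T.residueField t)))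
    (D.φ_natural ρ (i := PUnit.unit) (j := PUnit.unit) x y h (ρ ≫ x) (ρ ≫ y) rfl rfl h' v ⟨ρ ≫ v.1, by rw [Category.assoc, v.2]⟩ rfl)
  have e' := Eq.mp (congrArg (· ∈ V) key) e
  exact (congrArg (D.φ (i := PUnit.unit) (j := PUnit.unit) x y h v).1 hρ) ▸ e'

section restrict

variable (D) (V : (D.obj ⟨⟩).left.Opens) (hV : Saturated D V)

/-- Lifts to an open are lifts landing in it. -/
noncomputable def restrEquiv {T : Scheme.{u}} (x : T ⟶ X) :
    Lifts (Over.mk (V.ι ≫ (D.obj ⟨⟩).hom)) x ≃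
      {v : Lifts (D.obj ⟨⟩) x // Set.range v.1 ⊆ (V : Set (D.obj ⟨⟩).left)} where
  toFun v := ⟨⟨v.1 ≫ V.ι, (Category.assoc _ _ _).trans v.2⟩, by
    rintro _ ⟨t, rfl⟩
    exact V.range_ι.le ⟨v.1 t, rfl⟩⟩
  invFun v := ⟨IsOpenImmersion.lift V.ι v.1.1 (v.2.trans V.range_ι.ge),
    ((Category.assoc _ _ _).symm.trans (congrArg (· ≫ (D.obj ⟨⟩).hom) (IsOpenImmersion.lift_fac _ _ _))).trans v.1.2⟩
  left_inv v := Subtype.ext ((cancel_mono V.ι).1 (IsOpenImmersion.lift_fac _ _ _))
  right_inv v := Subtype.ext (Subtype.ext (IsOpenImmersion.lift_fac _ _ _))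

lemma restrEquiv_ι {T : Scheme.{u}} {x : T ⟶ X}
    (v : {v : Lifts (D.obj ⟨⟩) x // Set.range v.1 ⊆ (V : Set (D.obj ⟨⟩).left)}) :
    ((restrEquiv D V x).symm v).1 ≫ V.ι = v.1.1 := IsOpenImmersion.lift_fac _ _ _

/-- The datum on a saturated open. -/
noncomputable def restrDD : SchDDFam (fun _ : PUnit.{1} => g) where
  obj _ := Over.mk (V.ι ≫ (D.obj ⟨⟩).hom)
  φ T i j x₀ x₁ h := (restrEquiv D V x₀).trans
    ((Equiv.subtypeEquiv (D.φ (i := PUnit.unit) (j := PUnit.unit) x₀ x₁ h) fun v =>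
      ⟨fun hv => hV.range_subset x₀ x₁ h v hv, fun hv => by
        have e := hV.range_subset x₁ x₀ h.symm _ hv
        rw [D.φ_comp] at e
        rwa [D.φ_self] at e⟩).trans (restrEquiv D V x₁).symm)
  φ_natural T T' l i j x₀ x₁ h y₀ y₁ hy₀ hy₁ h' v v' hv' := by
    apply (cancel_mono V.ι).1
    simp only [Equiv.trans_apply]
    rw [restrEquiv_ι, Category.assoc, restrEquiv_ι]
    exact D.φ_natural l x₀ x₁ h y₀ y₁ hy₀ hy₁ h' _ _ (by
      show v'.1 ≫ V.ι = l ≫ v.1 ≫ V.ι
      rw [hv', Category.assoc])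
  φ_self T i x v := by
    apply Subtype.ext
    apply (cancel_mono V.ι).1
    simp only [Equiv.trans_apply]
    rw [restrEquiv_ι]
    exact congrArg Subtype.val (D.φ_self x _)
  φ_comp T i j k x₀ x₁ x₂ h₀₁ h₁₂ v := by
    simp only [Equiv.trans_apply, Equiv.apply_symm_apply]
    exact congrArg _ (Subtype.ext (D.φ_comp _ _ _ _ _ _))

/-- The inclusion. -/
noncomputable def restrHom : restrDD D V hV ⟶ D where
  hom _ := Over.homMk V.ι rfl
  comm T i j x₀ x₁ h v w hw := by
    show _ = _ ≫ V.ι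
    refine Eq.trans ?_ (restrEquiv_ι D V _).symm
    exact φ_congr D rfl rfl h h w _ hw

end restrict

/-- A descended saturated open gives a chart. -/
theorem exists_chart_of_saturated (hg : SGA1.UnivSubmersive g) {V : (D.obj ⟨⟩).left.Opens} (hV : Saturated D V)
    {U : Over S} (hU : RepBy (restrDD D V hV) U) : ∃ C : Chart D, C.U = U ∧
      ∀ ⦃T : Scheme.{u}⦄ ⦃s : T ⟶ S⦄ (c : Compat D s) (z : (pullback s g : Scheme.{u})),
        ptA c z ∈ V → pullback.fst s g z ∈ C.O c := by
  obtain ⟨c₁, hu⟩ := hU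
  have hnat : ∀ ⦃T : Scheme.{u}⦄ ⦃s : T ⟶ S⦄ (c : Compat D s) ⦃T' : Scheme.{u}⦄ (w : T' ⟶ pullback s g)
      (t : T' ⟶ T) (y : T' ⟶ X) (ht : w ≫ pullback.fst s g = t) (hy : w ≫ pullback.snd s g = y)
      (h : y ≫ g = t ≫ s), w ≫ ptA c = (c.pt (i := PUnit.unit) t y h).1 := fun T s c T' w t y ht hy h =>
    (c.nat (i := PUnit.unit) w _ _ pullback.condition.symm t y ht hy h).symm
  have hsat : ∀ ⦃T : Scheme.{u}⦄ ⦃s : T ⟶ S⦄ (c : Compat D s) (z z' : (pullback s g : Scheme.{u})),
      pullback.fst s g z = pullback.fst s g z' → ptA c z ∈ V → ptA c z' ∈ V := by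
    intro T s c z z' e hz
    obtain ⟨r, hr, hr'⟩ := Scheme.Pullback.exists_preimage_pullback z z' e
    let P := pullback (pullback.fst s g) (pullback.fst s g)
    let w₀ := P.fromSpecResidueField r ≫ pullback.fst (pullback.fst s g) (pullback.fst s g)
    let w₁ := P.fromSpecResidueField r ≫ pullback.snd (pullback.fst s g) (pullback.fst s g)
    let t := w₀ ≫ pullback.fst s g
    have ht : w₁ ≫ pullback.fst s g = t := by simp only [t, w₀, w₁, Category.assoc, pullback.condition]
    have h₀ : (w₀ ≫ pullback.snd s g) ≫ g = t ≫ s := by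
      simp only [t, Category.assoc, pullback.condition]
    have h₁ : (w₁ ≫ pullback.snd s g) ≫ g = t ≫ s := by
      rw [← ht]; simp only [Category.assoc, pullback.condition]
    have p₀ : w₀ (closedPoint _) = z := by
      show pullback.fst (pullback.fst s g) (pullback.fst s g) (P.fromSpecResidueField r _) = z
      rw [← hr]; exact congrArg _ (Scheme.fromSpecResidueField_apply r _)
    have p₁ : w₁ (closedPoint _) = z' := by
      show pullback.snd (pullback.fst s g) (pullback.fst s g) (P.fromSpecResidueField r _) = z'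
      rw [← hr']; exact congrArg _ (Scheme.fromSpecResidueField_apply r _)
    have e' := hV (K := P.residueField r) _ _ (h₀.trans h₁.symm) (c.pt (i := PUnit.unit) t _ h₀)
      (by
        rw [← hnat c w₀ t _ rfl rfl h₀]
        exact (congrArg (ptA c) p₀).symm ▸ hz)
    have key := congrArg (fun q : Spec (P.residueField r) ⟶ (D.obj ⟨⟩).left => q (closedPoint (P.residueField r)))
      ((congrArg Subtype.val (c.comp (i := PUnit.unit) (k := PUnit.unit) t _ _ h₀ h₁)).trans
        (hnat c w₁ t _ ht rfl h₁).symm)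
    exact (congrArg (ptA c) p₁) ▸ Eq.mp (congrArg (· ∈ V) key) e'
  have hq : ∀ ⦃T : Scheme.{u}⦄ (s : T ⟶ S), Topology.IsQuotientMap (pullback.fst s g) :=
    fun T s => hg _ _ _ (IsPullback.of_hasPullback s g)
  let O : ∀ ⦃T : Scheme.{u}⦄ ⦃s : T ⟶ S⦄, Compat D s → T.Opens := fun T s c =>
    ⟨pullback.fst s g '' {z | ptA c z ∈ V}, by
      rw [← (hq s).isOpen_preimage]
      have : pullback.fst s g ⁻¹' (pullback.fst s g '' {z | ptA c z ∈ V}) = {z | ptA c z ∈ V} := by
        refine Set.Subset.antisymm ?_ (Set.subset_preimage_image _ _)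
        rintro z ⟨z', hz', e⟩
        exact hsat c z' z e hz'
      rw [this]
      exact V.isOpen.preimage (ptA c).continuous⟩
  let c₀ : Compat D U.hom := c₁.map (restrHom D V hV)
  refine ⟨{ O := O, O_res := ?_, U := U, c₀ := c₀, O₀ := ?_, univ := ?_ }, rfl, fun T s c z hz => ⟨z, hz, rfl⟩⟩
  · intro T T' s c l s' hs
    subst hs
    let m : pullback (l ≫ s) g ⟶ pullback s g := pullback.lift (pullback.fst _ _ ≫ l) (pullback.snd _ _)
      (by rw [Category.assoc, pullback.condition])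
    have hmA : m ≫ ptA c = ptA (c.res l (l ≫ s) rfl) :=
      hnat c m _ _ (pullback.lift_fst _ _ _) (pullback.lift_snd _ _ _) _
    have hm : ∀ z, pullback.fst s g (m z) = l (pullback.fst (l ≫ s) g z) := fun z => by
      rw [← Scheme.Hom.comp_apply, pullback.lift_fst]; rfl
    have hA : ∀ z, ptA (c.res l (l ≫ s) rfl) z = ptA c (m z) := fun z => by
      rw [← hmA]; rfl
    ext x
    constructor
    · rintro ⟨z, hz, rfl⟩
      refine ⟨m z, ?_, hm z⟩
      show ptA c (m z) ∈ V
      rw [← hA]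
      exact hz
    · rintro ⟨z, hz, e⟩
      obtain ⟨z', rfl⟩ := (hq (l ≫ s)).surjective x
      exact ⟨z', show _ ∈ V from (hA z').symm ▸ hsat c z _ (e.trans (hm z').symm) hz, rfl⟩
  · ext x
    refine iff_of_true ?_ trivial
    obtain ⟨z, rfl⟩ := (hq U.hom).surjective x
    refine ⟨z, ?_, rfl⟩
    show ((c₁.pt (i := PUnit.unit) _ _ pullback.condition.symm).1 ≫ V.ι) z ∈ V
    exact V.range_ι.le ⟨_, rfl⟩
  · intro T s c hc
    have hall : ∀ z, ptA c z ∈ V := fun z => by
      obtain ⟨z', hz', e⟩ : pullback.fst s g z ∈ O c := hc ▸ trivial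
      exact hsat c z' z e hz'
    have hr : ∀ {T' : Scheme.{u}} (t : T' ⟶ T) (y : T' ⟶ X) (h : y ≫ g = t ≫ s),
        Set.range (c.pt (i := PUnit.unit) t y h).1 ⊆ (V : Set (D.obj ⟨⟩).left) := fun t y h => by
      rw [← hnat c (pullback.lift t y h.symm) t y (pullback.lift_fst _ _ _) (pullback.lift_snd _ _ _) h]
      rintro _ ⟨a, rfl⟩
      exact hall _
    let d : Compat (restrDD D V hV) s :=
      { pt := fun T' t i y h => (restrEquiv D V y).symm ⟨c.pt (i := PUnit.unit) t y h, hr t y h⟩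
        nat := fun T' T'' l t i y h t' y' hl hy h' => by
          apply (cancel_mono V.ι).1
          rw [restrEquiv_ι, Category.assoc, restrEquiv_ι]
          exact c.nat (i := PUnit.unit) l t y h t' y' hl hy h'
        comp := fun T' t i k y y' h h' => by
          simp only [restrDD, Equiv.trans_apply, Equiv.apply_symm_apply]
          exact congrArg _ (Subtype.ext (c.comp (i := PUnit.unit) (k := PUnit.unit) t y y' h h')) }
    have hd : d.map (restrHom D V hV) = c := Compat.ext fun T' t i y h => restrEquiv_ι D V _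
    have hinj : ∀ d₁ d₂ : Compat (restrDD D V hV) s,
        d₁.map (restrHom D V hV) = d₂.map (restrHom D V hV) → d₁ = d₂ := fun d₁ d₂ e =>
      Compat.ext fun T' t i y h => (cancel_mono V.ι).1
        (congrArg (fun q : Compat D s => (q.pt (i := PUnit.unit) t y h).1) e)
    obtain ⟨p, hp, huniq⟩ := hu s d
    refine ⟨p, ?_, fun q hq' => huniq q (hinj _ _ ?_)⟩
    · show c₀.res p.1 s p.2 = c
      rw [← Compat.map_res, hp, hd]
    · rw [Compat.map_res, hd]; exact hq'

section affine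

variable [IsAffine S] (hs : Subtr.UnivSSubtrusive g) [QuasiCompact g] [QuasiSeparated g]
  [Etale (D.obj ⟨⟩).hom] [IsSeparated (D.obj ⟨⟩).hom]

include hs in
/-- Over an affine base. -/
theorem effective_subtr_sep_affine :
    ∃ U : Over S, Etale U.hom ∧ Nonempty ((toDDFam (fun _ : PUnit.{1} => g)).obj U ≅ D) := by
  have hg : SGA1.UnivSubmersive g := univSubmersive_of_univSSubtrusive g hs
  choose V hdV hVc hVs using fun d : (D.obj ⟨⟩).left => exists_saturated_open hs d
  haveI : QuasiSeparatedSpace X := quasiSeparatedSpace_of_quasiSeparated g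
  have hrep : ∀ d, ∃ C : Chart D, Etale C.U.hom ∧
      ∀ ⦃T : Scheme.{u}⦄ ⦃s : T ⟶ S⦄ (c : Compat D s) (z : (pullback s g : Scheme.{u})),
        ptA c z ∈ V d → pullback.fst s g z ∈ C.O c := fun d => by
    let D' := restrDD D (V d) (hVs d)
    haveI : Etale (D'.obj ⟨⟩).hom := inferInstanceAs (Etale ((V d).ι ≫ (D.obj ⟨⟩).hom))
    haveI : IsSeparated (D'.obj ⟨⟩).hom := inferInstanceAs (IsSeparated ((V d).ι ≫ (D.obj ⟨⟩).hom))
    haveI : QuasiCompact (D'.obj ⟨⟩).hom := by
      show QuasiCompact ((V d).ι ≫ (D.obj ⟨⟩).hom)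
      haveI : CompactSpace (V d : Scheme.{u}) := isCompact_iff_compactSpace.1 (hVc d)
      haveI : QuasiCompact (((V d).ι ≫ (D.obj ⟨⟩).hom) ≫ g) :=
        (HasAffineProperty.iff_of_isAffine (P := @QuasiCompact)).2 inferInstance
      exact QuasiCompact.of_comp _ g
    obtain ⟨U, hU, ⟨J⟩⟩ := effective_subtr_qs (D := D') hs
    obtain ⟨C, hC, hCV⟩ := exists_chart_of_saturated hg (hVs d) (repBy_of_iso_etale hg J)
    exact ⟨C, by rw [hC]; exact hU, hCV⟩
  choose C hCe hCV using hrep
  have hcover : ∀ ⦃T : Scheme.{u}⦄ ⦃s : T ⟶ S⦄ (c : Compat D s) (x : T), ∃ d, x ∈ (C d).O c := fun T s c x => by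
    obtain ⟨z, rfl⟩ := (hg _ _ _ (IsPullback.of_hasPullback s g) : Topology.IsQuotientMap (pullback.fst s g)).surjective x
    exact ⟨ptA c z, hCV _ c z (hdV _)⟩
  obtain ⟨W, c₀, hu⟩ := rep_of_charts (C := C) hcover
  exact ⟨W, etale_of_charts C hCe hu (fun x => hcover c₀ x), iso_of_repBy ⟨c₀, hu⟩⟩

end affine

/-- A descended separated scheme is separated. -/
theorem isSeparated_of_iso (hg : SGA1.UnivSubmersive g) [IsSeparated (D.obj ⟨⟩).hom] {U : Over S}
    (J : (toDDFam (fun _ : PUnit.{1} => g)).obj U ≅ D) : IsSeparated U.hom := by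
  let k : pullback g U.hom ⟶ (D.obj ⟨⟩).left := (J.hom.hom ⟨⟩).left
  have hk : k ≫ (D.obj ⟨⟩).hom = pullback.fst g U.hom := Over.w (J.hom.hom ⟨⟩)
  haveI : IsIso k := ⟨(J.inv.hom ⟨⟩).left,
    congrArg CommaMorphism.left (congrFun (congrArg SchDDFam.Hom.hom J.hom_inv_id) ⟨⟩),
    congrArg CommaMorphism.left (congrFun (congrArg SchDDFam.Hom.hom J.inv_hom_id) ⟨⟩)⟩
  haveI : IsSeparated (pullback.fst g U.hom) := by rw [← hk]; infer_instance
  exact SGA1Q.isSeparated_of_isPullback (IsPullback.of_hasPullback g U.hom) hg inferInstance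

/-- Effectivity from affine refinements over the affine opens of the base. -/
theorem effective_sep_of_affine_refine (hg : SGA1.UnivSubmersive g)
    [Etale (D.obj ⟨⟩).hom] [IsSeparated (D.obj ⟨⟩).hom]
    (H : ∀ W : S.Opens, IsAffineOpen W → ∃ (X₁ : Scheme.{u}) (p : X₁ ⟶ pullback g W.ι),
      IsAffine X₁ ∧ Subtr.UnivSSubtrusive (p ≫ pullback.snd g W.ι)) :
    ∃ U : Over S, IsSeparated U.hom ∧ Etale U.hom ∧
      Nonempty ((toDDFam (fun _ : PUnit.{1} => g)).obj U ≅ D) := by
  suffices h : ∃ U : Over S, Etale U.hom ∧ Nonempty ((toDDFam (fun _ : PUnit.{1} => g)).obj U ≅ D) by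
    obtain ⟨U, hU, ⟨J⟩⟩ := h
    exact ⟨U, isSeparated_of_iso hg J, hU, ⟨J⟩⟩
  choose W hW haW _ using fun a : S => exists_isAffineOpen_mem_and_subset (x := a) (U := ⊤) trivial
  refine (S5123.result g hg D W
    (top_le_iff.1 fun x _ => TopologicalSpace.Opens.mem_iSup.2 ⟨x, haW x⟩)).2 fun a => ?_
  obtain ⟨X₁, p, _, hg₁⟩ := H (W a) (hW a)
  haveI : IsAffine (W a : Scheme.{u}) := hW a
  let g' := pullback.snd g (W a).ι
  let D' := pullOne (W a).ι D
  haveI : Etale (D'.obj ⟨⟩).hom := inferInstanceAs (Etale (pullback.snd (D.obj ⟨⟩).hom (pullback.fst g (W a).ι)))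
  haveI : IsSeparated (D'.obj ⟨⟩).hom :=
    inferInstanceAs (IsSeparated (pullback.snd (D.obj ⟨⟩).hom (pullback.fst g (W a).ι)))
  let D₁ := refineDD (g := g') (g₁ := p ≫ g') (p := p) rfl D'
  haveI : Etale (D₁.obj ⟨⟩).hom := inferInstanceAs (Etale (pullback.snd (D'.obj ⟨⟩).hom p))
  haveI : IsSeparated (D₁.obj ⟨⟩).hom := inferInstanceAs (IsSeparated (pullback.snd (D'.obj ⟨⟩).hom p))
  obtain ⟨U, hU, ⟨J⟩⟩ := effective_subtr_sep_affine (D := D₁) hg₁
  exact ⟨U, hU, iso_of_refine rfl (univSubmersive_of_univSSubtrusive _ hg₁) hU J⟩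

/-- Quasi-compact universally subtrusive morphisms are of effective descent for separated etale schemes. -/
theorem effective_subtr_sep (hs : Subtr.UnivSSubtrusive g) [QuasiCompact g] [Etale (D.obj ⟨⟩).hom]
    [IsSeparated (D.obj ⟨⟩).hom] :
    ∃ U : Over S, IsSeparated U.hom ∧ Etale U.hom ∧
      Nonempty ((toDDFam (fun _ : PUnit.{1} => g)).obj U ≅ D) := by
  refine effective_sep_of_affine_refine (univSubmersive_of_univSSubtrusive g hs) fun W hW => ?_
  haveI : IsAffine (W : Scheme.{u}) := hW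
  haveI : CompactSpace (pullback g W.ι : Scheme.{u}) := QuasiCompact.compactSpace_of_compactSpace (pullback.snd g W.ι)
  obtain ⟨X₁, p, h, _, _⟩ := exists_affine_cover (pullback g W.ι)
  exact ⟨X₁, p, h, univSSubtrusive_comp (univSSubtrusive_of_flat_surjective p)
    (MorphismProperty.pullback_snd (P := MorphismProperty.universally _) _ _ hs)⟩

/-- Open surjections which are quasi-compact are universally subtrusive. -/
theorem univSSubtrusive_of_universallyOpen {Y Z : Scheme.{u}} (f : Y ⟶ Z) [UniversallyOpen f] [Surjective f]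
    [QuasiCompact f] : Subtr.UnivSSubtrusive f := fun X' Y' a b f' sq => by
  haveI : UniversallyOpen f' := MorphismProperty.of_isPullback sq.flip ‹_›
  haveI : Surjective f' := MorphismProperty.of_isPullback sq.flip ‹_›
  haveI : QuasiCompact f' := MorphismProperty.of_isPullback sq.flip ‹_›
  intro y y' h
  obtain ⟨x, rfl⟩ := f'.surjective y
  have hx : x ∈ closure (f' ⁻¹' {y'}) := by
    rw [← f'.isOpenMap.preimage_closure_eq_closure_preimage f'.continuous]
    exact h.mem_closure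
  obtain ⟨x', hx', hsp⟩ := exists_specializes_of_mem_closure_preimage_singleton f' y' hx
  exact ⟨x, x', hsp, rfl, hx'⟩

/-- Universally open surjective morphisms are of effective descent for separated etale schemes. -/
theorem effective_open_sep [UniversallyOpen g] [Surjective g] [Etale (D.obj ⟨⟩).hom]
    [IsSeparated (D.obj ⟨⟩).hom] :
    ∃ U : Over S, IsSeparated U.hom ∧ Etale U.hom ∧
      Nonempty ((toDDFam (fun _ : PUnit.{1} => g)).obj U ≅ D) := by
  have hg : SGA1.UnivSubmersive g := fun X' Y' a b f' sq => by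
    haveI : UniversallyOpen f' := MorphismProperty.of_isPullback sq.flip ‹_›
    haveI : Surjective f' := MorphismProperty.of_isPullback sq.flip ‹_›
    exact f'.isOpenMap.isQuotientMap f'.continuous f'.surjective
  refine effective_sep_of_affine_refine hg fun W hW => ?_
  haveI : IsAffine (W : Scheme.{u}) := hW
  let g' := pullback.snd g W.ι
  let 𝒰 := (pullback g W.ι).affineCover
  obtain ⟨I, hI⟩ := isCompact_univ.elim_finite_subcover (fun i : 𝒰.I₀ => g' '' Set.range (𝒰.f i))
    (fun i => g'.isOpenMap _ (𝒰.f i).isOpenEmbedding.isOpen_range) (fun w _ => by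
      obtain ⟨x, rfl⟩ := g'.surjective w
      obtain ⟨i, y, hy⟩ := 𝒰.exists_eq x
      exact Set.mem_iUnion.2 ⟨i, x, ⟨y, hy⟩, rfl⟩)
  let F : {i // i ∈ I} → Scheme.{u} := fun i => 𝒰.X i.1
  let p : ∐ F ⟶ pullback g W.ι := Sigma.desc fun i => 𝒰.f i.1
  haveI : ∀ i, IsAffine (F i) := fun i => (pullback g W.ι).isAffine_affineCover _
  haveI : Etale p := IsZariskiLocalAtSource.sigmaDesc fun i => inferInstance
  haveI : Surjective (p ≫ g') := ⟨fun w => by
    obtain ⟨i, hi, x, ⟨y, rfl⟩, rfl⟩ : ∃ i ∈ I, w ∈ g' '' Set.range (𝒰.f i) := by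
      simpa only [Set.mem_iUnion, exists_prop] using hI (Set.mem_univ w)
    refine ⟨Sigma.ι F ⟨i, hi⟩ y, ?_⟩
    rw [← Scheme.Hom.comp_apply, Sigma.ι_desc_assoc]
    rfl⟩
  exact ⟨∐ F, p, inferInstance, univSSubtrusive_of_universallyOpen (p ≫ g')⟩

end Groth.Agent.DescLib
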