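import Mathlib.RingTheory.Henselian
import Mathlib.RingTheory.TensorProduct.Basic
import Mathlib.RingTheory.IsTensorProduct
import Mathlib.Algebra.Group.Pi.Units
import Mathlib.RingTheory.Flat.TorsionFree
import Mathlib.RingTheory.Valuation.LocalSubring
import Mathlib.RingTheory.Ideal.MinimalPrime.Localization
import Mathlib.FieldTheory.IsAlgClosed.AlgebraicClosure
import Mathlib.Order.Filter.Ultrafilter.Basic

/-!
# Valuation subrings centred at a given point: extensions, amalgamation, ultralimits, henselian products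
-/

universe u v

set_option autoImplicit false
set_option linter.style.haveILetI false
set_option backward.isDefEq.respectTransparency false
set_option backward.isDefEq.respectTransparency.types false

open IsLocalRing
open scoped TensorProduct

namespace Groth.Agent.DescLib

/-- A valuation subring of an algebraically closed field is henselian. -/
theorem henselianLocalRing_valuationSubring {K : Type u} [Field K] [IsAlgClosed K] (V : ValuationSubring K) :
    HenselianLocalRing V := by
  refine { is_henselian := fun f hf a₀ h₁ _ => ?_ }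
  let f' := f.map V.subtype
  have hmem : ∀ r ∈ f'.roots, r ∈ V := fun r hr => by
    have hint : IsIntegral V r := ⟨f, hf, by
      rw [Polynomial.mem_roots (hf.map _).ne_zero, Polynomial.IsRoot, Polynomial.eval_map] at hr
      exact hr⟩
    obtain ⟨y, rfl⟩ := IsIntegrallyClosed.isIntegral_iff.1 hint
    exact y.2
  let s : Multiset V := f'.roots.attach.map fun r => ⟨r.1, hmem r.1 r.2⟩
  have hfs : f = (s.map fun r => Polynomial.X - Polynomial.C r).prod := by
    apply Polynomial.map_injective V.subtype Subtype.val_injective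
    rw [Polynomial.map_multiset_prod, Multiset.map_map]
    have hs : s.map ((Polynomial.map V.subtype) ∘ fun r => Polynomial.X - Polynomial.C r) =
        f'.roots.map fun r => Polynomial.X - Polynomial.C r := by
      simp only [s, Multiset.map_map, Function.comp_def, Polynomial.map_sub, Polynomial.map_X, Polynomial.map_C]
      exact Multiset.attach_map_val' f'.roots fun r => Polynomial.X - Polynomial.C r
    rw [hs]
    exact (IsAlgClosed.splits f').eq_prod_roots_of_monic (hf.map _)
  rw [hfs, Polynomial.eval_multiset_prod, Multiset.map_map] at h₁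
  obtain ⟨r, hr, hrm⟩ := ((maximalIdeal.isMaximal V).isPrime.multiset_prod_mem_iff_exists_mem _).1 h₁
  obtain ⟨a, ha, rfl⟩ := Multiset.mem_map.1 hr
  refine ⟨a, ?_, ?_⟩
  · rw [Polynomial.IsRoot, hfs, Polynomial.eval_multiset_prod, Multiset.prod_eq_zero_iff, Multiset.map_map]
    exact Multiset.mem_map.2 ⟨a, ha, by simp⟩
  · rw [← neg_sub]
    exact neg_mem (by simpa using hrm)

open Polynomial in
/-- Products of henselian local rings are henselian along ideals inside all maximal ideals. -/
theorem henselianRing_pi {ι : Type v} (V : ι → Type u) [∀ i, CommRing (V i)] [∀ i, HenselianLocalRing (V i)]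
    (J : Ideal (∀ i, V i)) (hJ : ∀ x ∈ J, ∀ i, x i ∈ maximalIdeal (V i)) : HenselianRing (∀ i, V i) J := by
  constructor
  · intro x hx
    rw [Ideal.mem_jacobson_bot]
    intro y
    rw [Pi.isUnit_iff]
    intro i
    exact IsLocalRing.notMem_maximalIdeal.mp fun h => (maximalIdeal.isMaximal (V i)).ne_top
      ((Ideal.eq_top_iff_one _).2 (by
        have := (maximalIdeal (V i)).sub_mem h ((maximalIdeal (V i)).mul_mem_right (y i) (hJ x hx i))
        simpa using this))
  · intro f hf a₀ h₁ h₂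
    obtain ⟨w, hw⟩ := Ideal.Quotient.mk_surjective (h₂.unit⁻¹).1
    have hw' : f.derivative.eval a₀ * w - 1 ∈ J := by
      rw [← Ideal.Quotient.eq_zero_iff_mem, map_sub, map_mul, hw, map_one, sub_eq_zero]
      exact IsUnit.mul_val_inv h₂
    have hev : ∀ (p : (∀ i, V i)[X]) (x : ∀ i, V i) (i : ι),
        (p.map (Pi.evalRingHom V i)).eval (x i) = p.eval x i := fun p x i =>
      (Polynomial.eval_map _ _).trans (Polynomial.hom_eval₂ p (RingHom.id _) (Pi.evalRingHom V i) x).symm
    have hu : ∀ i, IsUnit (f.derivative.eval a₀ i) := fun i => IsLocalRing.notMem_maximalIdeal.mp fun h =>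
      (maximalIdeal.isMaximal (V i)).ne_top ((Ideal.eq_top_iff_one _).2 (by
        have := (maximalIdeal (V i)).sub_mem ((maximalIdeal (V i)).mul_mem_right (w i) h) (hJ _ hw' i)
        simpa using this))
    choose a ha ham using fun i => HenselianLocalRing.is_henselian (f.map (Pi.evalRingHom V i)) (hf.map _) (a₀ i)
      (by rw [hev]; exact hJ _ h₁ i) (by rw [derivative_map, hev]; exact hu i)
    have hroot : f.eval a = 0 := by
      ext i
      rw [← hev]
      exact ha i
    refine ⟨a, hroot, ?_⟩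
    obtain ⟨k, hk⟩ := f.binomExpansion a₀ (a - a₀)
    rw [add_sub_cancel, hroot] at hk
    have hU : IsUnit (f.derivative.eval a₀ + k * (a - a₀)) := by
      rw [Pi.isUnit_iff]
      intro i
      refine IsLocalRing.notMem_maximalIdeal.mp fun h => IsLocalRing.notMem_maximalIdeal.mpr (hu i) ?_
      have := (maximalIdeal (V i)).sub_mem h ((maximalIdeal (V i)).mul_mem_left (k i) (ham i))
      simpa using this
    have hp : (a - a₀) * (f.derivative.eval a₀ + k * (a - a₀)) ∈ J := by
      rw [show (a - a₀) * (f.derivative.eval a₀ + k * (a - a₀)) = -f.eval a₀ by linear_combination -hk]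
      exact neg_mem h₁
    exact (Ideal.mul_unit_mem_iff_mem J hU).1 hp

variable {B : Type u} [CommRing B] [IsLocalRing B]

/-- A valuation subring centred at the closed point along `ψ`. -/
def Centred {K : Type u} [Field K] (ψ : B →+* K) (V : ValuationSubring K) : Prop :=
  (∀ b, ψ b ∈ V) ∧ ∀ b ∈ maximalIdeal B, ψ b ∈ V.nonunits

/-- A ring map to a field with a proper ideal is dominated by a valuation subring. -/
theorem exists_valuationSubring_dominate {A : Type u} [CommRing A] {K : Type u} [Field K] (χ : A →+* K)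
    (P : Ideal A) [P.IsPrime] (hP : RingHom.ker χ ≤ P) :
    ∃ V : ValuationSubring K, (∀ a, χ a ∈ V) ∧ ∀ a ∈ P, χ a ∈ V.nonunits := by
  let I : Ideal χ.range := P.map χ.rangeRestrict
  have hI : I ≠ ⊤ := by
    intro h
    have := Ideal.comap_map_of_surjective χ.rangeRestrict χ.rangeRestrict_surjective P
    rw [show Ideal.map χ.rangeRestrict P = ⊤ from h, Ideal.comap_top] at this
    refine Ideal.IsPrime.ne_top ‹P.IsPrime› (top_le_iff.1 (this.le.trans (sup_le le_rfl ?_)))
    intro a ha
    exact hP (by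
      have e : χ.rangeRestrict a = 0 := by simpa using ha
      exact congrArg Subtype.val e)
  obtain ⟨V, hV, hVI⟩ := Ideal.image_subset_nonunits_valuationSubring I hI
  exact ⟨V, fun a => hV ⟨a, rfl⟩, fun a ha => hVI ⟨_, Ideal.mem_map_of_mem _ ha, rfl⟩⟩

/-- The same, dominating exactly the prime. -/
theorem exists_valuationSubring_dominate_exact {A : Type u} [CommRing A] {K : Type u} [Field K] (χ : A →+* K)
    (P : Ideal A) [P.IsPrime] (hP : RingHom.ker χ ≤ P) :
    ∃ V : ValuationSubring K, (∀ a, χ a ∈ V) ∧ ∀ a, a ∈ P ↔ χ a ∈ V.nonunits := by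
  have hu : ∀ y : P.primeCompl, IsUnit (χ y) := fun y => isUnit_iff_ne_zero.2 fun h => y.2 (hP h)
  let χ' : Localization.AtPrime P →+* K := IsLocalization.lift hu
  have he : ∀ a, χ' (algebraMap A _ a) = χ a := fun a => IsLocalization.lift_eq hu a
  obtain ⟨V, hV, hVm⟩ := exists_valuationSubring_dominate χ' (maximalIdeal _)
    (le_maximalIdeal (RingHom.ker_ne_top χ'))
  refine ⟨V, fun a => he a ▸ hV _, fun a => ⟨fun ha => he a ▸ hVm _ ?_, fun ha => by_contra fun hn => ?_⟩⟩
  · exact (IsLocalization.AtPrime.to_map_mem_maximal_iff _ P a).2 ha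
  · obtain ⟨b, hb⟩ := (IsLocalization.map_units (Localization.AtPrime P) (⟨a, hn⟩ : P.primeCompl)).exists_left_inv
    have h1 : χ' b * χ a = 1 := by
      rw [← he a, ← map_mul]
      exact (congrArg χ' hb).trans χ'.map_one
    rw [ValuationSubring.mem_nonunits_iff_or] at ha
    rcases ha with ha | ha
    · rw [ha, mul_zero] at h1
      exact zero_ne_one h1
    · exact ha (eq_inv_of_mul_eq_one_left h1 ▸ hV b)

/-- Valuation subrings extend to larger fields. -/
theorem exists_extend {K L : Type u} [Field K] [Field L] (ι : K →+* L) (V : ValuationSubring K) :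
    ∃ W : ValuationSubring L, W.comap ι = V := by
  obtain ⟨W, hW, hWm⟩ := exists_valuationSubring_dominate (ι.comp V.subtype) (maximalIdeal V) (fun a ha => by
    have : (a : K) = 0 := (map_eq_zero ι).1 ha
    rw [show a = 0 from Subtype.ext this]
    exact zero_mem _)
  refine ⟨W, le_antisymm (fun x hx => ?_) fun x hx => hW ⟨x, hx⟩⟩
  by_contra h
  have hx0 : x ≠ 0 := fun e => h (e ▸ V.zero_mem)
  have hinv : x⁻¹ ∈ V.nonunits := (ValuationSubring.inv_mem_nonunits_iff _).2 (Or.inr h)
  have h1 := hWm ⟨x⁻¹, V.nonunits_subset hinv⟩ (ValuationSubring.coe_mem_nonunits_iff.1 hinv)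
  rw [show (ι.comp V.subtype) ⟨x⁻¹, V.nonunits_subset hinv⟩ = (ι x)⁻¹ from map_inv₀ ι x,
    ValuationSubring.inv_mem_nonunits_iff] at h1
  rcases h1 with h1 | h1
  · exact hx0 ((map_eq_zero ι).1 h1)
  · exact h1 hx

/-- Two field extensions embed in a common one. -/
theorem exists_field_amalgam {k a b : Type u} [Field k] [Field a] [Field b] (f : k →+* a) (g : k →+* b) :
    ∃ (Ω : Type u) (_ : Field Ω) (φ : a →+* Ω) (ψ : b →+* Ω), φ.comp f = ψ.comp g := by
  letI := f.toAlgebra
  letI := g.toAlgebra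
  haveI : Nontrivial (TensorProduct k a b) :=
    (Algebra.TensorProduct.includeLeft_injective (R := k) (S := k) (A := a) (B := b) (algebraMap k b).injective).nontrivial
  obtain ⟨Q, hQ⟩ := Ideal.exists_maximal (TensorProduct k a b)
  letI := Ideal.Quotient.field Q
  refine ⟨TensorProduct k a b ⧸ Q, inferInstance, (Ideal.Quotient.mk Q).comp Algebra.TensorProduct.includeLeftRingHom,
    (Ideal.Quotient.mk Q).comp (Algebra.TensorProduct.includeRight (R := k) (A := a) (B := b)).toRingHom, ?_⟩
  ext x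
  exact congrArg (Ideal.Quotient.mk Q) ((Algebra.TensorProduct.includeRight (R := k) (A := a) (B := b)).commutes x).symm

/-- A field point below a prime at which regular elements do not vanish. -/
theorem exists_field_point {A : Type u} [CommRing A] (q : Ideal A) [q.IsPrime] :
    ∃ (L : Type u) (_ : Field L) (_ : IsAlgClosed L) (χ : A →+* L),
      RingHom.ker χ ≤ q ∧ ∀ z, Function.Injective (fun y => z * y) → χ z ≠ 0 := by
  obtain ⟨p, hp, hpq⟩ := Ideal.exists_minimalPrimes_le (bot_le : (⊥ : Ideal A) ≤ q)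
  haveI : p.IsPrime := hp.1.1
  have hker : ∀ x, algebraMap (FractionRing (A ⧸ p)) (AlgebraicClosure (FractionRing (A ⧸ p)))
      (algebraMap (A ⧸ p) (FractionRing (A ⧸ p)) (Ideal.Quotient.mk p x)) = 0 → x ∈ p := fun x hx => by
    rw [← Ideal.Quotient.eq_zero_iff_mem]
    exact IsFractionRing.injective (A ⧸ p) (FractionRing (A ⧸ p))
      (((map_eq_zero _).1 hx).trans (map_zero _).symm)
  refine ⟨AlgebraicClosure (FractionRing (A ⧸ p)), inferInstance, inferInstance,
    (algebraMap (FractionRing (A ⧸ p)) (AlgebraicClosure (FractionRing (A ⧸ p)))).comp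
      ((algebraMap (A ⧸ p) (FractionRing (A ⧸ p))).comp (Ideal.Quotient.mk p)),
    fun x hx => hpq (hker x hx), fun z hz hzp => ?_⟩
  refine Set.disjoint_left.1 (Ideal.disjoint_nonZeroDivisors_of_mem_minimalPrimes hp) (hker z hzp) ?_
  exact mem_nonZeroDivisors_iff_right.2 fun y hy => hz (show z * y = z * 0 by rw [mul_zero, mul_comm, hy])

/-- Two extensions of a valuation subring are dominated by a common one over an algebraically closed field. -/
theorem exists_amalgam {K K₀ K₁ : Type u} [Field K] [Field K₀] [Field K₁] (ι₀ : K →+* K₀) (ι₁ : K →+* K₁)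
    (V₀ : ValuationSubring K₀) (V₁ : ValuationSubring K₁) (h : V₀.comap ι₀ = V₁.comap ι₁) :
    ∃ (L : Type u) (_ : Field L) (_ : IsAlgClosed L) (W : ValuationSubring L) (κ₀ : K₀ →+* L) (κ₁ : K₁ →+* L),
      κ₀.comp ι₀ = κ₁.comp ι₁ ∧ W.comap κ₀ = V₀ ∧ W.comap κ₁ = V₁ := by
  let V := V₀.comap ι₀
  let f₀ : V →+* V₀ := (ι₀.comp V.subtype).codRestrict V₀.toSubring fun x => x.2
  let f₁ : V →+* V₁ := (ι₁.comp V.subtype).codRestrict V₁.toSubring fun x =>
    show (x : K) ∈ V₁.comap ι₁ from h ▸ x.2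
  letI := f₀.toAlgebra
  letI := f₁.toAlgebra
  haveI hloc₀ : IsLocalHom f₀ := ⟨fun a ha => by
    obtain ⟨b, hb⟩ := ha.exists_left_inv
    have hb' : (b : K₀) * ι₀ a = 1 := congrArg Subtype.val hb
    have ha0 : (a : K) ≠ 0 := fun e => by simp [e] at hb'
    refine IsUnit.of_mul_eq_one ⟨(a : K)⁻¹, ?_⟩ (Subtype.ext (mul_inv_cancel₀ ha0))
    show ι₀ (a : K)⁻¹ ∈ V₀
    rw [map_inv₀, ← eq_inv_of_mul_eq_one_left hb']
    exact b.2⟩
  haveI hloc₁ : IsLocalHom f₁ := ⟨fun a ha => by
    obtain ⟨b, hb⟩ := ha.exists_left_inv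
    have hb' : (b : K₁) * ι₁ a = 1 := congrArg Subtype.val hb
    have ha0 : (a : K) ≠ 0 := fun e => by simp [e] at hb'
    refine IsUnit.of_mul_eq_one ⟨(a : K)⁻¹, ?_⟩ (Subtype.ext (mul_inv_cancel₀ ha0))
    show (a : K)⁻¹ ∈ V₀.comap ι₀
    rw [h]
    show ι₁ (a : K)⁻¹ ∈ V₁
    rw [map_inv₀, ← eq_inv_of_mul_eq_one_left hb']
    exact b.2⟩
  haveI hflat : ∀ {K' : Type u} [Field K'] (W : ValuationSubring K') [Algebra V W],
      Function.Injective (algebraMap V W) → Module.Flat V W := fun {K'} _ W _ hinj => by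
    haveI : IsBezout V := inferInstance
    rw [Module.Flat.flat_iff_torsion_eq_bot_of_isBezout, Submodule.eq_bot_iff]
    rintro x ⟨⟨r, hr⟩, hx⟩
    rw [Submonoid.mk_smul, Algebra.smul_def, mul_eq_zero] at hx
    exact hx.resolve_left fun e => nonZeroDivisors.ne_zero hr (hinj (e.trans (map_zero _).symm))
  haveI : Module.Flat V V₀ := hflat V₀ fun a b e => Subtype.ext (ι₀.injective (congrArg Subtype.val e))
  haveI : Module.Flat V V₁ := hflat V₁ fun a b e => Subtype.ext (ι₁.injective (congrArg Subtype.val e))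
  let A := TensorProduct V V₀ V₁
  let i₀ : V₀ →+* A := Algebra.TensorProduct.includeLeftRingHom
  let i₁ : V₁ →+* A := (Algebra.TensorProduct.includeRight (R := V) (A := V₀) (B := V₁)).toRingHom
  have hi : i₀.comp f₀ = i₁.comp f₁ := by
    ext a
    exact ((Algebra.TensorProduct.includeRight (R := V) (A := V₀) (B := V₁)).commutes a).symm
  -- a point over both closed points
  obtain ⟨Ω, _, φ, ψ, hφψ⟩ := exists_field_amalgam (ResidueField.map f₀) (ResidueField.map f₁)
  let r₀ : V₀ →+* Ω := φ.comp (residue V₀)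
  let r₁ : V₁ →+* Ω := ψ.comp (residue V₁)
  have hr : ∀ a : V, r₀ (f₀ a) = r₁ (f₁ a) := fun a => RingHom.congr_fun hφψ (residue V a)
  letI : Algebra V Ω := (r₀.comp f₀).toAlgebra
  let Φ : A →+* Ω :=
    (Algebra.TensorProduct.lift (S := V) (R := V) (A := V₀) (B := V₁)
      (⟨r₀, fun a => rfl⟩ : V₀ →ₐ[V] _) (⟨r₁, fun a => (hr a).symm⟩ : V₁ →ₐ[V] _)
      fun _ _ => Commute.all _ _).toRingHom
  have hΦ₀ : ∀ x, Φ (i₀ x) = r₀ x := fun x => by
    show Algebra.TensorProduct.lift _ _ _ (x ⊗ₜ[V] (1 : V₁)) = _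
    simp
  have hΦ₁ : ∀ x, Φ (i₁ x) = r₁ x := fun x => by
    show Algebra.TensorProduct.lift _ _ _ ((1 : V₀) ⊗ₜ[V] x) = _
    simp
  haveI : (RingHom.ker Φ).IsPrime := RingHom.ker_isPrime _
  obtain ⟨L, _, _, χ, hχq, hz⟩ := exists_field_point (RingHom.ker Φ)
  have hp₀ : ∀ x, χ (i₀ x) = 0 → x = 0 := fun x hx => by
    by_contra h0
    refine hz _ ?_ hx
    have e : (fun y : A => i₀ x * y) = LinearMap.rTensor V₁ (LinearMap.mulLeft V x) := funext fun y => by
      induction y using TensorProduct.induction_on with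
      | zero => simp
      | tmul a b =>
        show (x ⊗ₜ[V] (1 : V₁)) * (a ⊗ₜ[V] b) = _
        simp
      | add a b ha hb => simp only [mul_add, map_add] at ha hb ⊢; rw [ha, hb]
    rw [e]
    exact Module.Flat.rTensor_preserves_injective_linearMap _ fun a b hab => mul_left_cancel₀ h0 hab
  have hp₁ : ∀ x, χ (i₁ x) = 0 → x = 0 := fun x hx => by
    by_contra h0
    refine hz _ ?_ hx
    have e : (fun y : A => i₁ x * y) = LinearMap.lTensor V₀ (LinearMap.mulLeft V x) := funext fun y => by
      induction y using TensorProduct.induction_on with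
      | zero => simp
      | tmul a b =>
        show ((1 : V₀) ⊗ₜ[V] x) * (a ⊗ₜ[V] b) = _
        simp
      | add a b ha hb => simp only [mul_add, map_add] at ha hb ⊢; rw [ha, hb]
    rw [e]
    exact Module.Flat.lTensor_preserves_injective_linearMap _ fun a b hab => mul_left_cancel₀ h0 hab
  let κ₀ : K₀ →+* L := IsFractionRing.lift (A := V₀) (K := K₀) (g := χ.comp i₀)
    ((injective_iff_map_eq_zero _).2 fun x hx => hp₀ x hx)
  let κ₁ : K₁ →+* L := IsFractionRing.lift (A := V₁) (K := K₁) (g := χ.comp i₁)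
    ((injective_iff_map_eq_zero _).2 fun x hx => hp₁ x hx)
  obtain ⟨W, hW, hWq⟩ := exists_valuationSubring_dominate χ (RingHom.ker Φ) hχq
  have hc₀ : ∀ x : V₀, κ₀ x = χ (i₀ x) := fun x => IsFractionRing.lift_algebraMap _ x
  have hc₁ : ∀ x : V₁, κ₁ x = χ (i₁ x) := fun x => IsFractionRing.lift_algebraMap _ x
  have dom : ∀ {K' : Type u} [Field K'] (W' : ValuationSubring K') (κ : K' →+* L) (i : W' →+* A)
      (hc : ∀ x : W', κ x = χ (i x)) (hq : ∀ x ∈ maximalIdeal W', i x ∈ RingHom.ker Φ), W.comap κ = W' := by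
    intro K' _ W' κ i hc hq
    refine le_antisymm (fun x hx => ?_) fun x hx => (show κ x ∈ W from (hc ⟨x, hx⟩).symm ▸ hW _)
    by_contra hxW
    have hx0 : x ≠ 0 := fun e => hxW (e ▸ W'.zero_mem)
    have hinv : x⁻¹ ∈ W'.nonunits := (ValuationSubring.inv_mem_nonunits_iff _).2 (Or.inr hxW)
    have h1 := hWq _ (hq ⟨x⁻¹, W'.nonunits_subset hinv⟩ (ValuationSubring.coe_mem_nonunits_iff.1 hinv))
    rw [← hc, show ((⟨x⁻¹, W'.nonunits_subset hinv⟩ : W') : K') = x⁻¹ from rfl, map_inv₀,
      ValuationSubring.inv_mem_nonunits_iff] at h1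
    rcases h1 with h1 | h1
    · exact hx0 ((map_eq_zero κ).1 h1)
    · exact h1 hx
  refine ⟨L, inferInstance, inferInstance, W, κ₀, κ₁, ?_, dom V₀ κ₀ i₀ hc₀ ?_, dom V₁ κ₁ i₁ hc₁ ?_⟩
  · have key : ∀ a : V, κ₀ (ι₀ a) = κ₁ (ι₁ a) := fun a =>
      (hc₀ (f₀ a)).trans ((congrArg χ (RingHom.congr_fun hi a)).trans (hc₁ (f₁ a)).symm)
    refine RingHom.ext fun x => ?_
    rcases V.mem_or_inv_mem x with hx | hx
    · exact key ⟨x, hx⟩
    · have := key ⟨x⁻¹, hx⟩
      simp only [map_inv₀] at this
      exact inv_injective this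
  · intro x hx
    show Φ (i₀ x) = 0
    rw [hΦ₀, show r₀ x = 0 by simp [r₀, (residue_eq_zero_iff x).2 hx]]
  · intro x hx
    show Φ (i₁ x) = 0
    rw [hΦ₁, show r₁ x = 0 by simp [r₁, (residue_eq_zero_iff x).2 hx]]

/-- A valuation subring centred at a point refines to one centred at the closed point. -/
theorem exists_centred_le {K : Type u} [Field K] (ψ : B →+* K) (W : ValuationSubring K) (hψ : ∀ b, ψ b ∈ W) :
    ∃ V : ValuationSubring K, V ≤ W ∧ Centred ψ V := by
  let ψ' : B →+* W := ψ.codRestrict W.toSubring hψ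
  let θ : B →+* ResidueField W := (residue W).comp ψ'
  obtain ⟨U, hU, hUm⟩ := exists_valuationSubring_dominate θ (maximalIdeal B)
    (le_maximalIdeal (RingHom.ker_ne_top θ))
  let C : Subring K := (U.toSubring.comap (residue W)).map W.subtype
  have hC : C ≤ W.toSubring := by
    rintro _ ⟨x, -, rfl⟩
    exact x.2
  have hval : ∀ x : K, x ∈ C ∨ x⁻¹ ∈ C := by
    intro x
    by_cases hx0 : x = 0
    · exact Or.inl (hx0 ▸ zero_mem C)
    rcases W.mem_or_inv_mem x with hx | hx
    · by_cases hu : IsUnit (⟨x, hx⟩ : W)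
      · rcases U.mem_or_inv_mem (residue W ⟨x, hx⟩) with h | h
        · exact Or.inl ⟨⟨x, hx⟩, h, rfl⟩
        · obtain ⟨y, hy⟩ := hu.exists_left_inv
          have hy' : (y : K) = x⁻¹ := eq_inv_of_mul_eq_one_left (congrArg Subtype.val hy)
          refine Or.inr ⟨y, ?_, hy'⟩
          show residue W y ∈ U
          rwa [eq_inv_of_mul_eq_one_left (show residue W y * residue W ⟨x, hx⟩ = 1 by rw [← map_mul, hy, map_one])]
      · exact Or.inl ⟨⟨x, hx⟩, (show residue W ⟨x, hx⟩ ∈ U from
          ((residue_eq_zero_iff _).2 ((mem_maximalIdeal _).2 hu)).symm ▸ U.zero_mem), rfl⟩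
    · by_cases hu : IsUnit (⟨x⁻¹, hx⟩ : W)
      · rcases U.mem_or_inv_mem (residue W ⟨x⁻¹, hx⟩) with h | h
        · exact Or.inr ⟨⟨x⁻¹, hx⟩, h, rfl⟩
        · obtain ⟨y, hy⟩ := hu.exists_left_inv
          have hy' : (y : K) = x := by
            rw [eq_inv_of_mul_eq_one_left (congrArg Subtype.val hy)]; exact inv_inv x
          refine Or.inl ⟨y, ?_, hy'⟩
          show residue W y ∈ U
          rwa [eq_inv_of_mul_eq_one_left (show residue W y * residue W ⟨x⁻¹, hx⟩ = 1 by rw [← map_mul, hy, map_one])]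
      · exact Or.inr ⟨⟨x⁻¹, hx⟩, (show residue W ⟨x⁻¹, hx⟩ ∈ U from
          ((residue_eq_zero_iff _).2 ((mem_maximalIdeal _).2 hu)).symm ▸ U.zero_mem), rfl⟩
  let V : ValuationSubring K := { C with mem_or_inv_mem' := hval }
  refine ⟨V, hC, fun b => ⟨ψ' b, hU b, rfl⟩, fun b hb => ?_⟩
  rw [ValuationSubring.mem_nonunits_iff_or]
  by_cases hb0 : ψ b = 0
  · exact Or.inl hb0
  refine Or.inr ?_
  rintro ⟨y, hy, hyb⟩
  have h1 : residue W y * θ b = 1 := by
    rw [show θ b = residue W (ψ' b) from rfl, ← map_mul, show y * ψ' b = 1 from Subtype.ext ?_, map_one]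
    show (y : K) * ψ b = 1
    rw [show (y : K) = (ψ b)⁻¹ from hyb, inv_mul_cancel₀ hb0]
  have h2 := hUm b hb
  rw [ValuationSubring.mem_nonunits_iff_or] at h2
  rcases h2 with h2 | h2
  · rw [h2, mul_zero] at h1
    exact zero_ne_one h1
  · exact h2 (eq_inv_of_mul_eq_one_left h1 ▸ hy)

/-- Coarsenings extend along field extensions. -/
theorem exists_coarsen {K L : Type u} [Field K] [Field L] (ι : K →+* L) (W : ValuationSubring L)
    (V' : ValuationSubring K) (h : W.comap ι ≤ V') : ∃ W' : ValuationSubring L, W ≤ W' ∧ W'.comap ι = V' := by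
  let C : Subring L :=
    { carrier := {x | ∃ d : K, d ∈ W.comap ι ∧ d ≠ 0 ∧ d⁻¹ ∈ V' ∧ ι d * x ∈ W}
      mul_mem' := by
        rintro x y ⟨d, h1, h2, h3, h4⟩ ⟨e, h1', h2', h3', h4'⟩
        refine ⟨d * e, mul_mem h1 h1', mul_ne_zero h2 h2', by rw [mul_inv]; exact mul_mem h3 h3', ?_⟩
        rw [map_mul, mul_mul_mul_comm]; exact mul_mem h4 h4'
      one_mem' := ⟨1, one_mem _, one_ne_zero, by rw [inv_one]; exact one_mem _, by simp⟩
      add_mem' := by
        rintro x y ⟨d, h1, h2, h3, h4⟩ ⟨e, h1', h2', h3', h4'⟩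
        refine ⟨d * e, mul_mem h1 h1', mul_ne_zero h2 h2', by rw [mul_inv]; exact mul_mem h3 h3', ?_⟩
        rw [map_mul, show ι d * ι e * (x + y) = ι e * (ι d * x) + ι d * (ι e * y) by ring]
        exact add_mem (mul_mem h1' h4) (mul_mem h1 h4')
      zero_mem' := ⟨1, one_mem _, one_ne_zero, by rw [inv_one]; exact one_mem _, by simp⟩
      neg_mem' := by
        rintro x ⟨d, h1, h2, h3, h4⟩
        exact ⟨d, h1, h2, h3, by rw [mul_neg]; exact neg_mem h4⟩ }
  have hWC : W.toSubring ≤ C := fun x hx =>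
    ⟨1, one_mem _, one_ne_zero, by rw [inv_one]; exact one_mem _, by simpa using hx⟩
  refine ⟨W.ofLE C hWC, fun x hx => hWC hx, le_antisymm ?_ ?_⟩
  · rintro x ⟨d, -, h2, h3, h4⟩
    have : d * x ∈ V' := h (show ι (d * x) ∈ W by rwa [map_mul])
    simpa [inv_mul_cancel_left₀ h2] using mul_mem h3 this
  · intro x hx
    rcases W.mem_or_inv_mem (ι x) with h1 | h1
    · exact hWC h1
    · by_cases hx0 : x = 0
      · exact hWC (by simp [hx0, zero_mem])
      refine ⟨x⁻¹, show ι x⁻¹ ∈ W by rwa [map_inv₀], inv_ne_zero hx0, by rwa [inv_inv], ?_⟩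
      rw [← map_mul, inv_mul_cancel₀ hx0, map_one]
      exact one_mem _

/-- The limit of a family of valuation subrings along an ultrafilter. -/
def ultraLim {ι : Type v} {K : Type u} [Field K] (U : Ultrafilter ι) (V : ι → ValuationSubring K) :
    ValuationSubring K where
  carrier := {x | ∀ᶠ i in U, x ∈ V i}
  mul_mem' ha hb := by filter_upwards [ha, hb] with i h h' using mul_mem h h'
  one_mem' := Filter.Eventually.of_forall fun i => one_mem (V i)
  add_mem' ha hb := by filter_upwards [ha, hb] with i h h' using add_mem h h'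
  zero_mem' := Filter.Eventually.of_forall fun i => zero_mem (V i)
  neg_mem' ha := by filter_upwards [ha] with i h using neg_mem h
  mem_or_inv_mem' x := by
    by_cases h : ∀ᶠ i in U, x ∈ V i
    · exact Or.inl h
    · refine Or.inr ?_
      filter_upwards [Ultrafilter.eventually_not.2 h] with i hi
      exact ((V i).mem_or_inv_mem x).resolve_left hi

theorem mem_ultraLim {ι : Type v} {K : Type u} [Field K] (U : Ultrafilter ι) (V : ι → ValuationSubring K) {x : K} :
    x ∈ ultraLim U V ↔ ∀ᶠ i in U, x ∈ V i := Iff.rfl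

theorem centred_ultraLim {ι : Type v} {K : Type u} [Field K] (U : Ultrafilter ι) (V : ι → ValuationSubring K)
    (ψ : B →+* K) (h : ∀ i, Centred ψ (V i)) : Centred ψ (ultraLim U V) := by
  refine ⟨fun b => Filter.Eventually.of_forall fun i => (h i).1 b, fun b hb => ?_⟩
  rw [ValuationSubring.mem_nonunits_iff_or]
  refine or_iff_not_imp_left.2 fun h0 hmem => ?_
  obtain ⟨i, hi⟩ := Filter.Eventually.exists (show ∀ᶠ i in U, (ψ b)⁻¹ ∈ V i from hmem)
  exact (((V i).mem_nonunits_iff_or.1 ((h i).2 b hb)).resolve_left h0) hi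

end Groth.Agent.DescLib
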