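import Groth.Agent.DescLib.EtValAlg
import Groth.Agent.EtFound.ProperHenselLifts
import Mathlib.AlgebraicGeometry.ProjectiveSpectrum.Proper
import Mathlib.RingTheory.MvPolynomial.Homogeneous

/-!
# Connectedness of the centred valuations over a henselian local ring
-/

universe u

set_option autoImplicit false
set_option backward.isDefEq.respectTransparency false
set_option backward.isDefEq.respectTransparency.types false
set_option linter.style.haveILetI false

open CategoryTheory AlgebraicGeometry IsLocalRing MvPolynomial TopologicalSpace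

namespace Groth.Agent.DescLib.ValConnect

attribute [local instance] MvPolynomial.gradedAlgebra

variable {B K : Type u} [CommRing B] [Field K] (ψ : B →+* K) {σ : Type u} (c : σ → K)

local notation "𝒜" => MvPolynomial.homogeneousSubmodule σ B

/-- Evaluation at the given elements. -/
noncomputable abbrev ev : MvPolynomial σ B →+* K := eval₂Hom ψ c

/-- Evaluation on a localisation. -/
noncomputable def liftK (f : MvPolynomial σ B) (h : ev ψ c f ≠ 0) : Localization.Away f →+* K :=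
  IsLocalization.Away.lift f (g := ev ψ c) (isUnit_iff_ne_zero.2 h)

lemma liftK_alg (f : MvPolynomial σ B) (h : ev ψ c f ≠ 0) (a : MvPolynomial σ B) :
    liftK ψ c f h (algebraMap _ _ a) = ev ψ c a :=
  IsLocalization.Away.lift_eq f _ a

/-- Evaluation on a chart. -/
noncomputable def evAway (f : MvPolynomial σ B) (h : ev ψ c f ≠ 0) : HomogeneousLocalization.Away 𝒜 f →+* K :=
  (liftK ψ c f h).comp
    (algebraMap (HomogeneousLocalization.Away 𝒜 f) (Localization.Away f))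

lemma evAway_awayMap {f g x : MvPolynomial σ B} {e : ℕ} (hg : g ∈ 𝒜 e) (hx : x = f * g)
    (hf0 : ev ψ c f ≠ 0) (hx0 : ev ψ c x ≠ 0) :
    (evAway ψ c x hx0).comp (HomogeneousLocalization.awayMap 𝒜 hg hx) = evAway ψ c f hf0 := by
  ext a
  have h : (liftK ψ c x hx0).comp (Localization.awayLift (algebraMap (MvPolynomial σ B) (Localization.Away x)) f
        (isUnit_of_dvd_unit (map_dvd _ ⟨_, hx⟩) (IsLocalization.Away.algebraMap_isUnit x))) =
      liftK ψ c f hf0 := by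
    refine IsLocalization.ringHom_ext (Submonoid.powers f) (RingHom.ext fun z => ?_)
    simp only [RingHom.comp_apply, Localization.awayLift, IsLocalization.Away.lift_eq, liftK_alg]
  show liftK ψ c x hx0 (HomogeneousLocalization.awayMap 𝒜 hg hx a).val = _
  rw [HomogeneousLocalization.val_awayMap]
  exact RingHom.congr_fun h a.val

lemma ev_mem {V : ValuationSubring K} (hψ : ∀ b, ψ b ∈ V) {w : K} (hw : w ≠ 0) (hc : ∀ i, c i / w ∈ V) {m : ℕ}
    {p : MvPolynomial σ B} (hp : p ∈ 𝒜 m) : ev ψ c p / w ^ m ∈ V := by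
  have key : ev ψ c p / w ^ m = eval₂Hom ψ (fun i => c i / w) p := by
    rw [coe_eval₂Hom, coe_eval₂Hom, eval₂_eq, eval₂_eq, Finset.sum_div]
    refine Finset.sum_congr rfl fun d hd => ?_
    have hdm : ∑ i ∈ d.support, d i = m := by
      have := (MvPolynomial.mem_homogeneousSubmodule m p).1 hp (MvPolynomial.mem_support_iff.1 hd)
      simpa [Finsupp.weight_apply, Finsupp.sum] using this
    rw [mul_div_assoc, ← hdm, ← Finset.prod_pow_eq_pow_sum, ← Finset.prod_div_distrib]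
    simp only [div_pow]
  rw [key, coe_eval₂Hom, eval₂_eq]
  exact sum_mem fun d _ => mul_mem (hψ _) (prod_mem fun i _ => pow_mem (hc i) _)

lemma evAway_mem {V : ValuationSubring K} (hψ : ∀ b, ψ b ∈ V) {w : K} (hw : w ≠ 0) (hc : ∀ i, c i / w ∈ V)
    {d : ℕ} {f : MvPolynomial σ B} (hf : f ∈ 𝒜 d) (hf0 : ev ψ c f ≠ 0) (hu : w ^ d / ev ψ c f ∈ V)
    (x : HomogeneousLocalization.Away 𝒜 f) : evAway ψ c f hf0 x ∈ V := by
  obtain ⟨n, a, ha, rfl⟩ := HomogeneousLocalization.Away.mk_surjective 𝒜 hf x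
  have h1 : evAway ψ c f hf0 (HomogeneousLocalization.Away.mk 𝒜 hf n a ha) * ev ψ c f ^ n = ev ψ c a := by
    show liftK ψ c f hf0 (HomogeneousLocalization.Away.mk 𝒜 hf n a ha).val * _ = _
    rw [HomogeneousLocalization.Away.val_mk, ← liftK_alg ψ c f hf0 a, ← map_pow, ← liftK_alg ψ c f hf0 (f ^ n),
      ← map_mul]
    congr 1
    rw [Localization.mk_eq_mk']
    exact IsLocalization.mk'_spec _ a _
  have h2 : evAway ψ c f hf0 (HomogeneousLocalization.Away.mk 𝒜 hf n a ha) =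
      (ev ψ c a / w ^ (n • d)) * (w ^ d / ev ψ c f) ^ n := by
    rw [smul_eq_mul, ← h1, div_pow, ← pow_mul, mul_comm n d]
    field_simp
  rw [h2]
  exact mul_mem (ev_mem ψ c hψ hw hc ha) (pow_mem hu n)

lemma evAway_zero {f : MvPolynomial σ B} (hf0 : ev ψ c f ≠ 0) (b : B) :
    evAway ψ c f hf0 (HomogeneousLocalization.fromZeroRingHom 𝒜 _ (algebraMap B (𝒜 0) b)) = ψ b := by
  show liftK ψ c f hf0 (HomogeneousLocalization.fromZeroRingHom 𝒜 _ (algebraMap B (𝒜 0) b)).val = _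
  have : (HomogeneousLocalization.fromZeroRingHom 𝒜 (Submonoid.powers f) (algebraMap B (𝒜 0) b)).val =
      algebraMap (MvPolynomial σ B) (Localization.Away f) (MvPolynomial.C b) := by
    rw [← Localization.mk_one_eq_algebraMap]
    rfl
  rw [this, liftK_alg]
  simp [ev]

/-- The structure map of the projective space. -/
noncomputable def str : Proj 𝒜 ⟶ Spec (CommRingCat.of B) :=
  Proj.toSpecZero 𝒜 ≫ Spec.map (CommRingCat.ofHom (algebraMap B (𝒜 0)))

lemma isProper_str [Finite σ] : IsProper (str (B := B) (σ := σ)) := by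
  haveI : IsScalarTower B (𝒜 0) (MvPolynomial σ B) := IsScalarTower.of_algebraMap_eq' (R := B) (S := ↥(MvPolynomial.homogeneousSubmodule σ B 0)) (A := MvPolynomial σ B) rfl
  haveI : Algebra.FiniteType (𝒜 0) (MvPolynomial σ B) :=
    Algebra.FiniteType.of_restrictScalars_finiteType B (𝒜 0) (MvPolynomial σ B)
  have hsurj : Function.Surjective (algebraMap B (𝒜 0)) := by
    rintro ⟨p, hp⟩
    refine ⟨MvPolynomial.coeff 0 p, Subtype.ext ?_⟩
    show MvPolynomial.C (MvPolynomial.coeff 0 p) = p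
    exact (MvPolynomial.totalDegree_eq_zero_iff_eq_C.1 ((MvPolynomial.totalDegree_zero_iff_isHomogeneous σ).2 hp)).symm
  haveI : IsClosedImmersion (Spec.map (CommRingCat.ofHom (algebraMap B (𝒜 0)))) :=
    IsClosedImmersion.spec_of_surjective _ hsurj
  rw [str]
  infer_instance

/-- The point given by a chart and a valuation. -/
noncomputable def valPt {d : ℕ} (f : MvPolynomial σ B) (hf : f ∈ 𝒜 d) (hd : 0 < d) (hf0 : ev ψ c f ≠ 0)
    (V : ValuationSubring K) (hV : ∀ x, evAway ψ c f hf0 x ∈ V) : Spec (CommRingCat.of V) ⟶ Proj 𝒜 :=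
  Spec.map (CommRingCat.ofHom ((evAway ψ c f hf0).codRestrict V.toSubring hV)) ≫ Proj.awayι 𝒜 f hf hd

/-- The generic point given by a chart. -/
noncomputable def genPt {d : ℕ} (f : MvPolynomial σ B) (hf : f ∈ 𝒜 d) (hd : 0 < d) (hf0 : ev ψ c f ≠ 0) :
    Spec (CommRingCat.of K) ⟶ Proj 𝒜 :=
  Spec.map (CommRingCat.ofHom (evAway ψ c f hf0)) ≫ Proj.awayι 𝒜 f hf hd

lemma genPt_mul {d e : ℕ} {f g x : MvPolynomial σ B} (hf : f ∈ 𝒜 d) (hd : 0 < d) (hg : g ∈ 𝒜 e)
    (hx : x = f * g) (hxm : x ∈ 𝒜 (d + e)) (hf0 : ev ψ c f ≠ 0) (hx0 : ev ψ c x ≠ 0) :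
    genPt ψ c x hxm (Nat.add_pos_left hd e) hx0 = genPt ψ c f hf hd hf0 := by
  rw [genPt, genPt, ← evAway_awayMap ψ c hg hx hf0 hx0, CommRingCat.ofHom_comp, Spec.map_comp, Category.assoc,
    Proj.SpecMap_awayMap_awayι]

lemma valPt_mul {d e : ℕ} {f g x : MvPolynomial σ B} (hf : f ∈ 𝒜 d) (hd : 0 < d) (hg : g ∈ 𝒜 e)
    (hx : x = f * g) (hxm : x ∈ 𝒜 (d + e)) (hf0 : ev ψ c f ≠ 0) (hx0 : ev ψ c x ≠ 0) (V : ValuationSubring K)
    (hVf : ∀ y, evAway ψ c f hf0 y ∈ V) (hVx : ∀ y, evAway ψ c x hx0 y ∈ V) :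
    valPt ψ c x hxm (Nat.add_pos_left hd e) hx0 V hVx = valPt ψ c f hf hd hf0 V hVf := by
  rw [valPt, valPt]
  rw [show CommRingCat.ofHom ((evAway ψ c f hf0).codRestrict V.toSubring hVf) =
      CommRingCat.ofHom (HomogeneousLocalization.awayMap 𝒜 hg hx) ≫
        CommRingCat.ofHom ((evAway ψ c x hx0).codRestrict V.toSubring hVx) from
    CommRingCat.hom_ext (RingHom.ext fun y => Subtype.ext (RingHom.congr_fun (evAway_awayMap ψ c hg hx hf0 hx0) y).symm),
    Spec.map_comp, Category.assoc, Proj.SpecMap_awayMap_awayι]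

variable [IsLocalRing B]

lemma str_valPt {d : ℕ} (f : MvPolynomial σ B) (hf : f ∈ 𝒜 d) (hd : 0 < d) (hf0 : ev ψ c f ≠ 0)
    {V : ValuationSubring K} (hc : Centred ψ V) (hV : ∀ x, evAway ψ c f hf0 x ∈ V) :
    str (valPt ψ c f hf hd hf0 V hV (closedPoint V)) = closedPoint B := by
  rw [← Scheme.Hom.comp_apply, valPt, str, Category.assoc, Proj.awayι_toSpecZero_assoc, ← Spec.map_comp,
    ← Spec.map_comp]
  refine PrimeSpectrum.ext ((maximalIdeal.isMaximal B).eq_of_le (PrimeSpectrum.isPrime _).ne_top ?_).symm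
  intro b hb
  show (evAway ψ c f hf0).codRestrict V.toSubring hV
    (HomogeneousLocalization.fromZeroRingHom 𝒜 _ (algebraMap B (𝒜 0) b)) ∈ maximalIdeal V
  refine ValuationSubring.coe_mem_nonunits_iff.1 ?_
  show evAway ψ c f hf0 (HomogeneousLocalization.fromZeroRingHom 𝒜 _ (algebraMap B (𝒜 0) b)) ∈ V.nonunits
  rw [evAway_zero]
  exact hc.2 b hb

lemma valPt_mem_closure {d : ℕ} (f : MvPolynomial σ B) (hf : f ∈ 𝒜 d) (hd : 0 < d) (hf0 : ev ψ c f ≠ 0)
    (V : ValuationSubring K) (hV : ∀ x, evAway ψ c f hf0 x ∈ V) :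
    valPt ψ c f hf hd hf0 V hV (closedPoint V) ∈ closure {genPt ψ c f hf hd hf0 (closedPoint K)} := by
  rw [← specializes_iff_mem_closure]
  have e : genPt ψ c f hf hd hf0 = Spec.map (CommRingCat.ofHom V.subtype) ≫ valPt ψ c f hf hd hf0 V hV := by
    rw [valPt, ← Spec.map_comp_assoc]
    rfl
  rw [e, Scheme.Hom.comp_apply]
  exact (IsLocalRing.specializes_closedPoint _).map (valPt ψ c f hf hd hf0 V hV).continuous

/-- A point of a chart over the closed point and under the generic point comes from a valuation. -/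
lemma exists_val_of_mem {d : ℕ} (f : MvPolynomial σ B) (hf : f ∈ 𝒜 d) (hd : 0 < d) (hf0 : ev ψ c f ≠ 0)
    {z : Proj 𝒜} (hzf : z ∈ Proj.basicOpen 𝒜 f) (hzs : str z = closedPoint B)
    (hzc : z ∈ closure {genPt ψ c f hf hd hf0 (closedPoint K)}) :
    ∃ (V : ValuationSubring K), Centred ψ V ∧ ∃ hV : ∀ x, evAway ψ c f hf0 x ∈ V,
      valPt ψ c f hf hd hf0 V hV (closedPoint V) = z := by
  obtain ⟨q, rfl⟩ : z ∈ Set.range (Proj.awayι 𝒜 f hf hd) := by
    have := Proj.opensRange_awayι 𝒜 f hf hd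
    exact this.ge hzf
  have hq : RingHom.ker (evAway ψ c f hf0) ≤ (q : PrimeSpectrum _).asIdeal := by
    have h1 : Spec.map (CommRingCat.ofHom (evAway ψ c f hf0)) (closedPoint K) ⤳ q :=
      (Proj.awayι 𝒜 f hf hd).isOpenEmbedding.isInducing.specializes_iff.1 (specializes_iff_mem_closure.2 hzc)
    have h2 := (PrimeSpectrum.le_iff_specializes _ _).2 h1
    intro a ha
    apply h2
    show evAway ψ c f hf0 a ∈ maximalIdeal K
    rw [RingHom.mem_ker.1 ha]
    exact zero_mem _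
  obtain ⟨V, hV, hVq⟩ := exists_valuationSubring_dominate_exact (evAway ψ c f hf0) (q : PrimeSpectrum _).asIdeal hq
  have hz' : ∀ b, b ∈ maximalIdeal B →
      HomogeneousLocalization.fromZeroRingHom 𝒜 _ (algebraMap B (𝒜 0) b) ∈ (q : PrimeSpectrum _).asIdeal := by
    intro b hb
    rw [← Scheme.Hom.comp_apply, str, Proj.awayι_toSpecZero_assoc, ← Spec.map_comp] at hzs
    exact (congrArg PrimeSpectrum.asIdeal hzs).ge hb
  have hC : Centred ψ V := ⟨fun b => evAway_zero ψ c hf0 b ▸ hV _, fun b hb => evAway_zero ψ c hf0 b ▸ (hVq _).1 (hz' b hb)⟩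
  refine ⟨V, hC, hV, ?_⟩
  rw [valPt, Scheme.Hom.comp_apply]
  congr 1
  refine PrimeSpectrum.ext (le_antisymm (fun a ha => (hVq a).2 ?_) fun a ha => ?_)
  · exact ValuationSubring.coe_mem_nonunits_iff.2
      (show (evAway ψ c f hf0).codRestrict V.toSubring hV a ∈ maximalIdeal V from ha)
  · exact ValuationSubring.coe_mem_nonunits_iff.1 ((hVq a).1 ha)

/-- `c i` has maximal value. -/
def IsTop (V : ValuationSubring K) (i : σ) : Prop := ∀ j, c j / c i ∈ V

omit [IsLocalRing B] in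
lemma evAway_mem_single {V : ValuationSubring K} (hψ : ∀ b, ψ b ∈ V) {i : σ} (hi : IsTop c V i)
    (h0 : ev ψ c (X i) ≠ 0) (x : HomogeneousLocalization.Away 𝒜 (X i : MvPolynomial σ B)) :
    evAway ψ c (X i) h0 x ∈ V := by
  have e : ev ψ c (X i : MvPolynomial σ B) = c i := eval₂_X _ _ i
  refine evAway_mem ψ c hψ (by rwa [e] at h0) hi (MvPolynomial.isHomogeneous_X B i) h0 ?_ x
  rw [pow_one, e, div_self (by rwa [e] at h0)]
  exact one_mem V

omit [IsLocalRing B] in
lemma evAway_mem_pair {V : ValuationSubring K} (hψ : ∀ b, ψ b ∈ V) {i j : σ} (hi : IsTop c V i) (hj : IsTop c V j)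
    (h0 : ev ψ c (X i * X j) ≠ 0) (x : HomogeneousLocalization.Away 𝒜 (X i * X j : MvPolynomial σ B)) :
    evAway ψ c (X i * X j) h0 x ∈ V := by
  have e : ev ψ c (X i * X j : MvPolynomial σ B) = c i * c j := by rw [map_mul]; simp [ev]
  obtain ⟨hi0, hj0⟩ := mul_ne_zero_iff.1 (e ▸ h0)
  refine evAway_mem ψ c hψ hi0 hi
    (SetLike.mul_mem_graded (MvPolynomial.isHomogeneous_X B i) (MvPolynomial.isHomogeneous_X B j)) h0 ?_ x
  rw [e, pow_two, mul_div_mul_left _ _ hi0]
  exact hj i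

variable [HenselianLocalRing B]

/-- Over a henselian local ring, centred valuations cannot be split by top coordinates. -/
theorem not_both [Finite σ] (hc0 : ∀ i, c i ≠ 0) (P Q : σ → Prop)
    (hcov : ∀ V, Centred ψ V → ∃ i, (P i ∨ Q i) ∧ IsTop c V i)
    (hdis : ∀ V, Centred ψ V → ∀ i j, P i → Q j → IsTop c V i → IsTop c V j → False)
    {V₀ V₁ : ValuationSubring K} (h₀ : Centred ψ V₀) (h₁ : Centred ψ V₁) {i₀ i₁ : σ} (hP : P i₀) (hQ : Q i₁)
    (ht₀ : IsTop c V₀ i₀) (ht₁ : IsTop c V₁ i₁) : False := by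
  have hX : ∀ i, (X i : MvPolynomial σ B) ∈ 𝒜 1 := MvPolynomial.isHomogeneous_X B
  have hX2 : ∀ i j, (X i * X j : MvPolynomial σ B) ∈ 𝒜 (1 + 1) := fun i j => SetLike.mul_mem_graded (hX i) (hX j)
  have hX2' : ∀ i j, (X i * X j : MvPolynomial σ B) = X j * X i := fun i j => mul_comm _ _
  have e1 : ∀ i, ev ψ c (X i : MvPolynomial σ B) ≠ 0 := fun i => by
    rw [show ev ψ c (X i : MvPolynomial σ B) = c i from eval₂_X _ _ i]; exact hc0 i
  have e2 : ∀ i j, ev ψ c (X i * X j : MvPolynomial σ B) ≠ 0 := fun i j => by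
    rw [map_mul]; exact mul_ne_zero (e1 i) (e1 j)
  let gen : σ → Proj 𝒜 := fun i => genPt ψ c (X i) (hX i) one_pos (e1 i) (closedPoint K)
  have hgen2 : ∀ i j, genPt ψ c (X i * X j) (hX2 i j) (by omega) (e2 i j) (closedPoint K) = gen i := fun i j => by
    rw [genPt_mul ψ c (hX i) one_pos (hX j) rfl (hX2 i j) (e1 i) (e2 i j)]
  have hgen : ∀ i j, gen i = gen j := fun i j => by
    rw [← hgen2 i j, genPt_mul ψ c (hX j) one_pos (hX i) (hX2' i j) (hX2 i j) (e1 j) (e2 i j)]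
  let ξ := gen i₀
  let pt := fun (V : ValuationSubring K) (hV : Centred ψ V) (i : σ) (hi : IsTop c V i) =>
    valPt ψ c (X i) (hX i) one_pos (e1 i) V (evAway_mem_single ψ c hV.1 hi (e1 i)) (closedPoint V)
  have hptU : ∀ V hV i hi, pt V hV i hi ∈ Proj.basicOpen 𝒜 (X i : MvPolynomial σ B) := fun V hV i hi => by
    rw [← Proj.opensRange_awayι 𝒜 (X i) (hX i) one_pos]
    exact ⟨_, (Scheme.Hom.comp_apply _ _ _).symm⟩
  have hpt : ∀ V hV i hi j hj, pt V hV i hi = pt V hV j hj := fun V hV i hi j hj => by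
    have hm := evAway_mem_pair ψ c hV.1 hi hj (e2 i j)
    show valPt ψ c (X i) (hX i) one_pos (e1 i) V _ (closedPoint V) =
      valPt ψ c (X j) (hX j) one_pos (e1 j) V _ (closedPoint V)
    rw [← valPt_mul ψ c (hX i) one_pos (hX j) rfl (hX2 i j) (e1 i) (e2 i j) V _ hm,
      ← valPt_mul ψ c (hX j) one_pos (hX i) (hX2' i j) (hX2 i j) (e1 j) (e2 i j) V _ hm]
  -- the closure of the generic point, proper over the base
  let Z : Closeds (Proj 𝒜 : Scheme.{u}) := ⟨closure {ξ}, isClosed_closure⟩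
  let ι := (Scheme.IdealSheafData.vanishingIdeal Z).subschemeι
  haveI : IsProper (str (B := B) (σ := σ)) := isProper_str
  haveI : IsProper (ι ≫ str) := inferInstance
  have hrange : Set.range ι = closure {ξ} :=
    (Scheme.IdealSheafData.range_subschemeι _).trans (Scheme.IdealSheafData.coe_support_vanishingIdeal Z)
  have hirr : IrreducibleSpace (Scheme.IdealSheafData.vanishingIdeal Z).subscheme := by
    have h1 : IsIrreducible (Set.range ι) := hrange ▸ isIrreducible_singleton.closure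
    let e := ι.isClosedEmbedding.isEmbedding.toHomeomorph
    haveI := Subtype.irreducibleSpace h1
    exact e.symm.surjective.irreducibleSpace e.symm.continuous
  let F : Set (Scheme.IdealSheafData.vanishingIdeal Z).subscheme :=
    (ι ≫ str) ⁻¹' PrimeSpectrum.zeroLocus (maximalIdeal B : Set B)
  have hFs : ∀ z, z ∈ F ↔ str (ι z) = closedPoint B := fun z => by
    show (maximalIdeal B : Set B) ⊆ ((ι ≫ str) z).asIdeal ↔ _
    constructor
    · exact fun h => PrimeSpectrum.ext ((maximalIdeal.isMaximal B).eq_of_le (PrimeSpectrum.isPrime _).ne_top h).symm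
    · intro h; rw [Scheme.Hom.comp_apply, h]; exact subset_rfl
  have htop : ∀ V : ValuationSubring K, ∀ k l, (∀ x, evAway ψ c (X k * X l) (e2 k l) x ∈ V) →
      IsTop c V k ∧ IsTop c V l := by
    intro V k l hV
    have key : ∀ a b : σ, c a * c b / (c k * c l) ∈ V := fun a b => by
      have hmem : (X a * X b : MvPolynomial σ B) ∈ 𝒜 (1 • (1 + 1)) := by
        rw [one_smul]; exact hX2 a b
      have h1 : evAway ψ c (X k * X l) (e2 k l) (HomogeneousLocalization.Away.mk 𝒜 (hX2 k l) 1 _ hmem) *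
          ev ψ c (X k * X l) = ev ψ c (X a * X b) := by
        show liftK ψ c (X k * X l) (e2 k l) (HomogeneousLocalization.Away.mk 𝒜 (hX2 k l) 1 _ hmem).val * _ = _
        rw [HomogeneousLocalization.Away.val_mk, ← liftK_alg ψ c (X k * X l) (e2 k l) (X k * X l),
          ← liftK_alg ψ c (X k * X l) (e2 k l) (X a * X b), ← map_mul]
        congr 1
        rw [Localization.mk_eq_mk']
        have hs := IsLocalization.mk'_spec (Localization (Submonoid.powers (X k * X l : MvPolynomial σ B)))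
          (X a * X b : MvPolynomial σ B)
          (⟨(X k * X l) ^ 1, 1, rfl⟩ : Submonoid.powers (X k * X l : MvPolynomial σ B))
        simpa only [pow_one, map_mul] using hs
      have h2 : ∀ a b : σ, ev ψ c (X a * X b : MvPolynomial σ B) = c a * c b := fun a b => by
        rw [map_mul]; simp [ev]
      rw [h2, h2] at h1
      rw [← h1, mul_div_assoc, div_self (mul_ne_zero (hc0 k) (hc0 l)), mul_one]
      exact hV _
    refine ⟨fun j => ?_, fun j => ?_⟩
    · simpa [mul_div_mul_right _ _ (hc0 l)] using key j l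
    · simpa [mul_div_mul_left _ _ (hc0 k)] using key k j
  have hcharts : ∀ z : (Scheme.IdealSheafData.vanishingIdeal Z).subscheme,
      ∃ k, ι z ∈ Proj.basicOpen 𝒜 (X k : MvPolynomial σ B) := fun z => by
    by_contra hno
    push Not at hno
    refine (ι z : ProjectiveSpectrum 𝒜).not_irrelevant_le ((HomogeneousIdeal.toIdeal_irrelevant_le _).2 ?_)
    intro n hn p hp
    have hp' : p ∈ Ideal.span ((X : σ → MvPolynomial σ B) '' Set.univ) := by
      rw [MvPolynomial.mem_ideal_span_X_image]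
      intro m hm
      by_contra hall
      push Not at hall
      have hm0 : m = 0 := Finsupp.ext fun a => hall a trivial
      have := (MvPolynomial.mem_homogeneousSubmodule n p).1 hp (MvPolynomial.mem_support_iff.1 hm)
      rw [hm0, map_zero] at this
      omega
    refine Ideal.span_le.2 ?_ hp'
    rintro _ ⟨k, -, rfl⟩
    exact not_not.1 (hno k)
  let UP : Set F := {z | ∃ i, P i ∧ ι z.1 ∈ Proj.basicOpen 𝒜 (X i : MvPolynomial σ B)}
  let UQ : Set F := {z | ∃ i, Q i ∧ ι z.1 ∈ Proj.basicOpen 𝒜 (X i : MvPolynomial σ B)}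
  have hop : ∀ R : σ → Prop, IsOpen {z : F | ∃ i, R i ∧ ι z.1 ∈ Proj.basicOpen 𝒜 (X i : MvPolynomial σ B)} :=
    fun R => isOpen_iff_forall_mem_open.2 fun z ⟨i, hi, hz⟩ => ⟨{w | ι w.1 ∈ Proj.basicOpen 𝒜 (X i : MvPolynomial σ B)},
      fun w hw => ⟨i, hi, hw⟩, (Proj.basicOpen 𝒜 (X i : MvPolynomial σ B)).isOpen.preimage
        (ι.continuous.comp continuous_subtype_val), hz⟩
  have hdisj : ∀ z, z ∈ UP → z ∈ UQ → False := by
    rintro z ⟨i, hi, hzi⟩ ⟨j, hj, hzj⟩
    obtain ⟨V, hV, hVm, -⟩ := exists_val_of_mem ψ c (X i * X j) (hX2 i j) (by omega) (e2 i j)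
      (by rw [Proj.basicOpen_mul]; exact ⟨hzi, hzj⟩) ((hFs z.1).1 z.2)
      (by rw [hgen2 i j, hgen i i₀]; exact hrange.le ⟨_, rfl⟩)
    obtain ⟨ha, hb⟩ := htop V i j hVm
    exact hdis V hV i j hi hj ha hb
  have hcover : ∀ z, z ∈ UP ∨ z ∈ UQ := fun z => by
    obtain ⟨k, hk⟩ := hcharts z.1
    obtain ⟨V, hV, hVm, hVz⟩ := exists_val_of_mem ψ c (X k * X k) (hX2 k k) (by omega) (e2 k k)
      (by rw [Proj.basicOpen_mul]; exact ⟨hk, hk⟩) ((hFs z.1).1 z.2)
      (by rw [hgen2 k k, hgen k i₀]; exact hrange.le ⟨_, rfl⟩)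
    obtain ⟨htk, -⟩ := htop V k k hVm
    obtain ⟨i, hi, hti⟩ := hcov V hV
    have hz : pt V hV k htk = ι z.1 := by
      rw [← hVz, valPt_mul ψ c (hX k) one_pos (hX k) rfl (hX2 k k) (e1 k) (e2 k k) V
        (evAway_mem_single ψ c hV.1 htk (e1 k)) hVm]
    have : ι z.1 ∈ Proj.basicOpen 𝒜 (X i : MvPolynomial σ B) := by
      rw [← hz, hpt V hV k htk i hti]; exact hptU V hV i hti
    exact hi.imp (fun h => ⟨i, h, this⟩) fun h => ⟨i, h, this⟩
  have hclopen : IsClopen UP := ⟨by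
    rw [show UP = UQᶜ from Set.ext fun z => ⟨fun h h' => hdisj z h h', fun h => (hcover z).resolve_right h⟩]
    exact (hop Q).isClosed_compl, hop P⟩
  obtain ⟨U, ⟨hU, hUV⟩, -⟩ := ProperHenselLifts.lifts_proper' (maximalIdeal B) (ι ≫ str) UP hclopen
  obtain ⟨z₀, hz₀⟩ : pt V₀ h₀ i₀ ht₀ ∈ Set.range ι := hrange.ge (by
    rw [show ξ = genPt ψ c (X i₀) (hX i₀) one_pos (e1 i₀) (closedPoint K) from rfl]
    exact valPt_mem_closure ψ c _ _ _ _ _ _)
  obtain ⟨z₁, hz₁⟩ : pt V₁ h₁ i₁ ht₁ ∈ Set.range ι := hrange.ge (by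
    rw [show ξ = genPt ψ c (X i₁) (hX i₁) one_pos (e1 i₁) (closedPoint K) from hgen i₀ i₁]
    exact valPt_mem_closure ψ c _ _ _ _ _ _)
  have hF₀ : z₀ ∈ F := (hFs _).2 (by rw [hz₀]; exact str_valPt ψ c _ _ _ _ h₀ _)
  have hF₁ : z₁ ∈ F := (hFs _).2 (by rw [hz₁]; exact str_valPt ψ c _ _ _ _ h₁ _)
  have hP₀ : (⟨z₀, hF₀⟩ : F) ∈ UP := ⟨i₀, hP, hz₀.symm ▸ hptU V₀ h₀ i₀ ht₀⟩
  have hQ₁ : (⟨z₁, hF₁⟩ : F) ∈ UQ := ⟨i₁, hQ, hz₁.symm ▸ hptU V₁ h₁ i₁ ht₁⟩
  haveI := hirr
  have hUall : U = Set.univ := hU.eq_univ ⟨z₀, hUV.ge hP₀⟩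
  exact hdisj _ (hUV.le (show z₁ ∈ U from hUall ▸ trivial)) hQ₁

end Groth.Agent.DescLib.ValConnect
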