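import Groth.Agent.DescLib.EtValValue
import Groth.Agent.DescLib.EtRefine

/-!
# Extending compatible families from the closed point along universally subtrusive maps
-/

universe u

set_option autoImplicit false
set_option backward.isDefEq.respectTransparency false
set_option backward.isDefEq.respectTransparency.types false
set_option linter.style.haveILetI false

open CategoryTheory CategoryTheory.Limits AlgebraicGeometry Desc IsLocalRing

namespace Groth.Agent.DescLib.ValExt

variable {B : Type u} [CommRing B] [HenselianLocalRing B] {X : Scheme.{u}} {g : X ⟶ Spec (CommRingCat.of B)}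

variable (B) in
/-- An algebraically closed field over a point of the base. -/
abbrev Geo (b : PrimeSpectrum B) : Type u := AlgebraicClosure b.asIdeal.ResidueField

variable (B) in
/-- The structure map of a geometric point. -/
noncomputable abbrev geoMap (b : PrimeSpectrum B) : B →+* Geo B b :=
  (algebraMap b.asIdeal.ResidueField _).comp (algebraMap B b.asIdeal.ResidueField)

/-- Every map to an algebraically closed field factors through the geometric point below it. -/
theorem exists_geo {L : Type u} [Field L] [IsAlgClosed L] (ψ : B →+* L) :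
    ∃ (b : PrimeSpectrum B) (e : Geo B b →+* L), e.comp (geoMap B b) = ψ := by
  obtain ⟨b, hb⟩ : ∃ b : PrimeSpectrum B, b.asIdeal = RingHom.ker ψ :=
    ⟨⟨RingHom.ker ψ, RingHom.ker_isPrime ψ⟩, rfl⟩
  let q : B ⧸ b.asIdeal →+* L := Ideal.Quotient.lift _ ψ fun _ h => hb.le h
  let f : b.asIdeal.ResidueField →+* L := IsFractionRing.lift (A := B ⧸ b.asIdeal) (K := b.asIdeal.ResidueField)
    (g := q) (RingHom.lift_injective_of_ker_le_ideal _ _ hb.ge)
  letI := f.toAlgebra
  let e : Geo B b →ₐ[b.asIdeal.ResidueField] L := IsAlgClosed.lift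
  refine ⟨b, e.toRingHom, RingHom.ext fun x => (e.commutes _).trans ?_⟩
  show f (algebraMap B b.asIdeal.ResidueField x) = ψ x
  rw [← Ideal.algebraMap_quotient_residueField_mk, IsFractionRing.lift_algebraMap]
  rfl

variable (hg : Subtr.UnivSSubtrusive g)

variable (B) in
/-- The indices of the product test. -/
abbrev Idx : Type u := Σ b : PrimeSpectrum B, {V : ValuationSubring (Geo B b) // Centred (geoMap B b) V}

/-- A chosen lift at an index. -/
noncomputable def idxPt (i : Idx B) : Pt g (geoMap B i.1) i.2.1 := (nonempty_pt hg i.2.2.1).some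

instance (i : Idx B) : HenselianLocalRing ((idxPt hg i).test i.2.2).A :=
  henselianLocalRing_valuationSubring (idxPt hg i).W

variable [IsAffine X]

/-- The test at all centred valuation subrings of all geometric points. -/
noncomputable def allTest : Test g :=
  prodTest (fun i : Idx B => (idxPt hg i).test i.2.2) fun i => (idxPt hg i).map_le i.2.2

theorem univSSubtrusive_allTest : Subtr.UnivSSubtrusive ((allTest hg).m ≫ g) := by
  refine (univSSubtrusive_iff_valuationRing _).2 fun R _ _ _ q => ?_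
  refine (((tfae_over_valuationRing (pullback.snd ((allTest hg).m ≫ g) q)).out 1 3) :
    Subtr.IsSSubtrusive (pullback.snd ((allTest hg).m ≫ g) q) ↔ ∃ x x' : (pullback ((allTest hg).m ≫ g) q : Scheme.{u}),
      x' ⤳ x ∧ pullback.snd ((allTest hg).m ≫ g) q x = closedPoint R ∧
        pullback.snd ((allTest hg).m ≫ g) q x' = (⟨⊥, Ideal.isPrime_bot⟩ : PrimeSpectrum R)).2 ?_
  obtain ⟨φ₀, rfl⟩ := Spec.map_surjective q
  let L₀ := AlgebraicClosure (FractionRing R)
  let j : R →+* L₀ := (algebraMap (FractionRing R) L₀).comp (algebraMap R (FractionRing R))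
  have hj : Function.Injective j :=
    (algebraMap (FractionRing R) L₀).injective.comp (IsFractionRing.injective R (FractionRing R))
  obtain ⟨b, e, he⟩ := exists_geo (j.comp φ₀.hom)
  obtain ⟨W₀, hW₀, hW₀m⟩ := exists_valuationSubring_dominate j (maximalIdeal R)
    (((RingHom.injective_iff_ker_eq_bot j).1 hj).le.trans bot_le)
  have hmem : ∀ x, geoMap B b x ∈ W₀.comap e := fun x => by
    show e (geoMap B b x) ∈ W₀
    rw [show e (geoMap B b x) = j (φ₀.hom x) from RingHom.congr_fun he x]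
    exact hW₀ _
  obtain ⟨V₁, hle, hV₁⟩ := exists_centred_le (geoMap B b) (W₀.comap e) hmem
  let i : Idx B := ⟨b, V₁, hV₁⟩
  let P := idxPt hg i
  obtain ⟨W', hW', hW'c⟩ := exists_coarsen P.ι P.W (W₀.comap e) (P.hι.trans_le hle)
  obtain ⟨L, _, _, W, κ₀, κ₁, hκ, hκ₀, hκ₁⟩ := exists_amalgam e P.ι W₀ W' hW'c.symm
  let a : R →+* W := (κ₀.comp j).codRestrict W.toSubring fun r => show j r ∈ W.comap κ₀ from hκ₀.symm ▸ hW₀ r
  let c : (allTest hg).A →+* W :=
    (κ₁.comp (P.W.subtype.comp (Pi.evalRingHom (fun i => (idxPt hg i).W) i))).codRestrict W.toSubring fun z =>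
      show (P.W.subtype _) ∈ W.comap κ₁ from hκ₁.symm ▸ hW' (z i).2
  have hac : c.comp (allTest hg).ψ = a.comp φ₀.hom := RingHom.ext fun x => Subtype.ext (by
    show κ₁ (P.φ x : P.L) = κ₀ (j (φ₀.hom x))
    rw [show (P.φ x : P.L) = P.ι (geoMap B b x) from RingHom.congr_fun P.hφ x,
      ← show e (geoMap B b x) = j (φ₀.hom x) from RingHom.congr_fun he x]
    exact (RingHom.congr_fun hκ _).symm)
  let l : Spec (CommRingCat.of W) ⟶ pullback ((allTest hg).m ≫ g) (Spec.map φ₀) :=
    pullback.lift (Spec.map (CommRingCat.ofHom c)) (Spec.map (CommRingCat.ofHom a)) (by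
      rw [(allTest hg).hm, ← Spec.map_comp, ← Spec.map_comp]
      congr 1
      ext x
      exact congrArg Subtype.val (RingHom.congr_fun hac x))
  let η : Spec (CommRingCat.of W) := (⟨⊥, Ideal.isPrime_bot⟩ : PrimeSpectrum W)
  refine ⟨l (closedPoint W), l η, (specializes_closedPoint η).map l.continuous, ?_, ?_⟩
  · rw [← Scheme.Hom.comp_apply, pullback.lift_snd]
    refine PrimeSpectrum.ext (((maximalIdeal.isMaximal R).eq_of_le (PrimeSpectrum.isPrime _).ne_top ?_).symm)
    intro r hr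
    show a r ∈ maximalIdeal W
    rw [← ValuationSubring.coe_mem_nonunits_iff, ValuationSubring.mem_nonunits_iff_or]
    refine (ValuationSubring.mem_nonunits_iff_or W₀).1 (hW₀m r hr) |>.imp (fun h => ?_) (fun h h' => h ?_)
    · show κ₀ (j r) = 0
      rw [h, map_zero]
    · rw [← hκ₀]
      show κ₀ (j r)⁻¹ ∈ W
      rw [map_inv₀]
      exact h'
  · rw [← Scheme.Hom.comp_apply, pullback.lift_snd]
    refine PrimeSpectrum.ext (Ideal.ext fun r => ?_)
    show a r ∈ (⊥ : Ideal W) ↔ r ∈ (⊥ : Ideal R)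
    rw [Ideal.mem_bot, Ideal.mem_bot, ← Subtype.val_inj]
    exact (map_eq_zero κ₀).trans (map_eq_zero_iff j hj)

variable {E : SchDDFam (fun _ : PUnit.{1} => g)} [Etale (E.obj ⟨⟩).hom] [IsSeparated (E.obj ⟨⟩).hom]
  (cu : Compat E (HensSec7.closedPointHom B))

omit [IsAffine X] in
theorem val_of_field {K : Type u} [Field K] {ψ : B →+* K} {x₀ : Spec (CommRingCat.of K) ⟶ X}
    (hx₀ : x₀ ≫ g = Spec.map (CommRingCat.ofHom ψ)) (τ : Test g) (χ : τ.A →+* K) (hχ : χ.comp τ.ψ = ψ)
    {a : Lifts (E.obj ⟨⟩) x₀}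
    (ha : ∀ h, (E.φ (i := PUnit.unit) (j := PUnit.unit) x₀ (Spec.map (CommRingCat.ofHom χ) ≫ τ.m) h a).1 =
      Spec.map (CommRingCat.ofHom χ) ≫ sec cu τ) :
    ∃ V, Centred ψ V ∧ Val cu hx₀ V a := by
  obtain ⟨M, hM, hle⟩ := Ideal.exists_le_maximal _ (RingHom.ker_ne_top χ)
  obtain ⟨V, hV, hVm⟩ := exists_valuationSubring_dominate χ M hle
  have hmax : (maximalIdeal B).map τ.ψ ≤ M := τ.hens.jac.trans fun x hx => by
    rw [Ideal.jacobson, Ideal.mem_sInf] at hx
    exact hx ⟨bot_le, hM⟩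
  refine ⟨V, ⟨fun b => hχ ▸ hV _, fun b hb => hχ ▸ hVm _ (hmax (Ideal.mem_map_of_mem _ hb))⟩, τ, K, inferInstance,
    RingHom.id K, χ, V, rfl, hV, hχ, ?_⟩
  refine Eq.trans ?_ (ha (by rw [hx₀, Category.assoc, τ.hm, ← Spec.map_comp, ← CommRingCat.ofHom_comp, hχ]))
  exact φ_congr E (by rw [CommRingCat.ofHom_id, Spec.map_id, Category.id_comp]) rfl _ _ _ _
    (by show Spec.map (CommRingCat.ofHom (RingHom.id K)) ≫ a.1 = a.1
        rw [CommRingCat.ofHom_id, Spec.map_id, Category.id_comp])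

include hg in
/-- The section over a test is a cocycle at geometric points. -/
theorem sec_cocycle {K : Type u} [Field K] [IsAlgClosed K] (τ : Test g) (χ χ' : τ.A →+* K)
    (hχ : χ.comp τ.ψ = χ'.comp τ.ψ) (h : (Spec.map (CommRingCat.ofHom χ) ≫ τ.m) ≫ g =
      (Spec.map (CommRingCat.ofHom χ') ≫ τ.m) ≫ g) :
    (E.φ (i := PUnit.unit) (j := PUnit.unit) _ _ h
      ⟨Spec.map (CommRingCat.ofHom χ) ≫ sec cu τ, by rw [Category.assoc, (isSec_sec cu τ).1]⟩).1 =
      Spec.map (CommRingCat.ofHom χ') ≫ sec cu τ := by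
  have hx₀ : (Spec.map (CommRingCat.ofHom χ) ≫ τ.m) ≫ g = Spec.map (CommRingCat.ofHom (χ.comp τ.ψ)) := by
    rw [Category.assoc, τ.hm, ← Spec.map_comp, ← CommRingCat.ofHom_comp]
  obtain ⟨a, ha⟩ := exists_value hg cu hx₀
  let a₁ : Lifts (E.obj ⟨⟩) (Spec.map (CommRingCat.ofHom χ) ≫ τ.m) :=
    ⟨Spec.map (CommRingCat.ofHom χ) ≫ sec cu τ, by rw [Category.assoc, (isSec_sec cu τ).1]⟩
  let e := E.φ (i := PUnit.unit) (j := PUnit.unit) _ _ h
  let a₂ := e.symm ⟨Spec.map (CommRingCat.ofHom χ') ≫ sec cu τ, by rw [Category.assoc, (isSec_sec cu τ).1]⟩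
  obtain ⟨V₁, hV₁, h₁⟩ := val_of_field cu hx₀ τ χ rfl (a := a₁) fun h' => by rw [E.φ_self]
  obtain ⟨V₂, hV₂, h₂⟩ := val_of_field cu hx₀ τ χ' hχ.symm (a := a₂) fun _ =>
    congrArg Subtype.val (e.apply_symm_apply _)
  have e12 : a₁ = a₂ := (Val.unique cu hx₀ hV₁ h₁ (ha V₁ hV₁)).trans (Val.unique cu hx₀ hV₂ (ha V₂ hV₂) h₂)
  show (e a₁).1 = _
  rw [e12, e.apply_symm_apply]

include hg in
/-- A family at the closed point extends, the source being affine. -/
theorem exists_extend_affine :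
    ∃ c : Compat E (𝟙 (Spec (CommRingCat.of B))),
      c.res (HensSec7.closedPointHom B) _ (Category.comp_id _) = cu := by
  let T := allTest hg
  let g₁ := T.m ≫ g
  haveI : QuasiCompact g₁ := by
    rw [show g₁ = _ from T.hm]
    infer_instance
  have hg₁ : SGA1.UnivSubmersive g₁ := univSubmersive_of_univSSubtrusive g₁ (univSSubtrusive_allTest hg)
  have key : ∀ {T' : Scheme.{u}} (z z' : T' ⟶ Spec (CommRingCat.of T.A)) (h : (z ≫ T.m) ≫ g = (z' ≫ T.m) ≫ g),
      (E.φ (i := PUnit.unit) (j := PUnit.unit) (z ≫ T.m) (z' ≫ T.m) h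
        ⟨z ≫ sec cu T, by rw [Category.assoc, (isSec_sec cu T).1]⟩).1 = z' ≫ sec cu T := by
    intro T' z z' h
    refine eq_of_agree (q := (E.obj ⟨⟩).hom) _ _
      ((E.φ (i := PUnit.unit) (j := PUnit.unit) _ _ h _).2.trans
        (((Category.assoc _ _ _).trans (congrArg (z' ≫ ·) (isSec_sec cu T).1)).symm)) fun x => ?_
    let Ω := AlgebraicClosure (T'.residueField x)
    let w : Spec (CommRingCat.of Ω) ⟶ T' :=
      Spec.map (CommRingCat.ofHom (algebraMap (T'.residueField x) Ω)) ≫ T'.fromSpecResidueField x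
    refine (agreeAt_iff_of_field _ _ w x (Scheme.fromSpecResidueField_apply x _)).1 ?_
    obtain ⟨χ, hχ⟩ := Spec.map_surjective (w ≫ z)
    obtain ⟨χ', hχ'⟩ := Spec.map_surjective (w ≫ z')
    have hψ : χ.hom.comp T.ψ = χ'.hom.comp T.ψ := by
      have : Spec.map χ ≫ T.m ≫ g = Spec.map χ' ≫ T.m ≫ g := by
        rw [hχ, hχ']; simp only [Category.assoc] at h ⊢; rw [h]
      rw [T.hm, ← Spec.map_comp, ← Spec.map_comp] at this
      exact congrArg CommRingCat.Hom.hom (Spec.map_injective this)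
    have h' : (Spec.map χ ≫ T.m) ≫ g = (Spec.map χ' ≫ T.m) ≫ g := by
      rw [hχ, hχ']; simp only [Category.assoc] at h ⊢; rw [h]
    have hm : (sec cu T) ≫ (E.obj ⟨⟩).hom = T.m := (isSec_sec cu T).1
    refine (E.φ_natural w (i := PUnit.unit) (j := PUnit.unit) (z ≫ T.m) (z' ≫ T.m) h
      (Spec.map χ ≫ T.m) (Spec.map χ' ≫ T.m) ((congrArg (· ≫ T.m) hχ).trans (Category.assoc w z T.m)).symm ((congrArg (· ≫ T.m) hχ').trans (Category.assoc w z' T.m)).symm h' _
      ⟨Spec.map χ ≫ sec cu T, (Category.assoc _ _ _).trans (congrArg (Spec.map χ ≫ ·) hm)⟩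
      (by show Spec.map χ ≫ _ = w ≫ z ≫ _; rw [hχ, Category.assoc])).symm.trans ?_
    refine (sec_cocycle hg cu T χ.hom χ'.hom hψ h').trans ?_
    show Spec.map χ' ≫ _ = _
    rw [hχ', Category.assoc]
  let D' := refineDD (g := g) (g₁ := g₁) (p := T.m) rfl E
  let c' : Compat D' (𝟙 (Spec (CommRingCat.of B))) :=
    { pt := fun T' t i z _ => (liftsPullbackEquiv (E.obj ⟨⟩) T.m z).symm
        ⟨z ≫ sec cu T, by rw [Category.assoc, (isSec_sec cu T).1]⟩
      nat := fun T' T'' r t i z _ t' z' _ hz _ => by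
        apply pullback.hom_ext
        · simp only [liftsPullbackEquiv, Equiv.coe_fn_symm_mk, Category.assoc, pullback.lift_fst]
          rw [← hz, Category.assoc]
        · simp only [liftsPullbackEquiv, Equiv.coe_fn_symm_mk, Category.assoc, pullback.lift_snd]
          exact hz.symm
      comp := fun T' t i k z z' e e' => by
        simp only [D', refineDD, pullDDFam, pullDDFamObj, Equiv.trans_apply, Equiv.apply_symm_apply]
        exact congrArg _ (Subtype.ext (key z z' _)) }
  obtain ⟨c, hc⟩ := refine_pull_surjective (g := g) (g₁ := g₁) (p := T.m) (D := E) rfl hg₁ _ c'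
  refine ⟨c, refine_pull_injective (g := g) (g₁ := g₁) (p := T.m) (D := E) rfl hg₁ _
    (Compat.ext fun T' t i z hz => ?_)⟩
  obtain ⟨⟩ := i
  have hz' : z ≫ g₁ = (t ≫ HensSec7.closedPointHom B) ≫ 𝟙 _ := by rw [Category.comp_id]; exact hz
  have hh : (z ≫ T.m) ≫ g = (t ≫ HensSec7.closedPointHom B) ≫ 𝟙 _ := by rw [Category.assoc]; exact hz'
  have hh' : (z ≫ T.m) ≫ g = t ≫ HensSec7.closedPointHom B := by rw [Category.assoc]; exact hz
  have e := congrArg (fun d : Compat D' (𝟙 _) => (liftsPullbackEquiv (E.obj ⟨⟩) T.m z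
    (d.pt (i := PUnit.unit) (t ≫ HensSec7.closedPointHom B) z hz'))) hc
  simp only [Compat.pull, c', Equiv.apply_symm_apply] at e
  have e2 : c.pt (i := PUnit.unit) (t ≫ HensSec7.closedPointHom B) (z ≫ T.m) hh =
      cu.pt (i := PUnit.unit) t (z ≫ T.m) hh' :=
    Subtype.ext ((congrArg Subtype.val e).trans ((isSec_sec cu T).2 t z hh'))
  simp only [Compat.pull, Compat.res_pt]
  exact congrArg Subtype.val (congrArg _ e2)

end Groth.Agent.DescLib.ValExt

namespace Groth.Agent.DescLib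

/-- Universally S-subtrusive morphisms compose. -/
theorem univSSubtrusive_comp {X Y Z : Scheme.{u}} {f : X ⟶ Y} {h : Y ⟶ Z} (hf : Subtr.UnivSSubtrusive f)
    (hh : Subtr.UnivSSubtrusive h) : Subtr.UnivSSubtrusive (f ≫ h) := by
  haveI : MorphismProperty.IsStableUnderComposition
      (fun (A B : Scheme.{u}) (f : A ⟶ B) => Subtr.IsSSubtrusive f : MorphismProperty Scheme.{u}) :=
    ⟨fun {A B C} f h hf hh c c' hc => by
      obtain ⟨b, b', hb, e, e'⟩ := hh hc
      obtain ⟨a, a', ha, e₁, e₁'⟩ := hf hb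
      exact ⟨a, a', ha, by rw [Scheme.Hom.comp_apply, e₁, e], by rw [Scheme.Hom.comp_apply, e₁', e']⟩⟩
  exact MorphismProperty.comp_mem (MorphismProperty.universally _) f h hf hh

/-- Flat surjective morphisms are universally S-subtrusive. -/
theorem univSSubtrusive_of_flat_surjective {X Y : Scheme.{u}} (f : X ⟶ Y) [Flat f] [Surjective f] :
    Subtr.UnivSSubtrusive f := fun _ _ _ _ f' sq => by
  haveI : Flat f' := MorphismProperty.of_isPullback sq.flip ‹_›
  haveI : Surjective f' := MorphismProperty.of_isPullback sq.flip ‹_›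
  exact isSSubtrusive_of_flat_surjective f'

/-- An affine scheme covers a quasi-compact scheme. -/
theorem exists_affine_cover (X : Scheme.{u}) [CompactSpace X] :
    ∃ (X₁ : Scheme.{u}) (p : X₁ ⟶ X), IsAffine X₁ ∧ Etale p ∧ Surjective p := by
  let 𝒰 := X.affineCover.finiteSubcover
  haveI : ∀ i, IsAffine (𝒰.X i) := fun i => X.isAffine_affineCover _
  refine ⟨∐ 𝒰.X, Sigma.desc 𝒰.f, inferInstance, ?_, ⟨fun x => ?_⟩⟩
  · exact IsZariskiLocalAtSource.sigmaDesc fun i => inferInstance
  · obtain ⟨i, y, hy⟩ := 𝒰.exists_eq x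
    exact ⟨(Sigma.ι 𝒰.X i) y, by rw [← Scheme.Hom.comp_apply, Sigma.ι_desc]; exact hy⟩

/-- A family at the closed point of a henselian local base extends along a quasi-compact universally subtrusive map. -/
theorem exists_extend_subtr {B : Type u} [CommRing B] [HenselianLocalRing B] {X : Scheme.{u}}
    {g : X ⟶ Spec (CommRingCat.of B)} [QuasiCompact g] (hg : Subtr.UnivSSubtrusive g)
    {E : SchDDFam (fun _ : PUnit.{1} => g)} [Etale (E.obj ⟨⟩).hom] [IsSeparated (E.obj ⟨⟩).hom]
    (cu : Compat E (HensSec7.closedPointHom B)) :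
    ∃ c : Compat E (𝟙 (Spec (CommRingCat.of B))),
      c.res (HensSec7.closedPointHom B) _ (Category.comp_id _) = cu := by
  haveI : CompactSpace X := QuasiCompact.compactSpace_of_compactSpace g
  obtain ⟨X₁, p, _, _, _⟩ := exists_affine_cover X
  let g₁ := p ≫ g
  have hg₁ : Subtr.UnivSSubtrusive g₁ := univSSubtrusive_comp (univSSubtrusive_of_flat_surjective p) hg
  have hs : SGA1.UnivSubmersive g₁ := univSubmersive_of_univSSubtrusive g₁ hg₁
  let E₁ := refineDD (g := g) (g₁ := g₁) (p := p) rfl E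
  haveI : Etale (E₁.obj ⟨⟩).hom := inferInstanceAs (Etale (pullback.snd (E.obj ⟨⟩).hom p))
  haveI : IsSeparated (E₁.obj ⟨⟩).hom := inferInstanceAs (IsSeparated (pullback.snd (E.obj ⟨⟩).hom p))
  obtain ⟨c₁, hc₁⟩ := ValExt.exists_extend_affine hg₁
    (cu.pull (f' := fun _ : PUnit.{1} => g₁) (α := id) (j := 𝟙 _) (g := fun _ => p) (refW (hp := rfl))
      (Category.comp_id _) : Compat E₁ (HensSec7.closedPointHom B))
  obtain ⟨c, rfl⟩ := refine_pull_surjective (g := g) (g₁ := g₁) (p := p) (D := E) rfl hs _ c₁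
  refine ⟨c, refine_pull_injective (g := g) (g₁ := g₁) (p := p) (D := E) rfl hs _ ?_⟩
  exact (Compat.pull_res (f := fun _ : PUnit.{1} => g) (f' := fun _ : PUnit.{1} => g₁) (α := id) (j := 𝟙 _)
    (g := fun _ => p) (refW (hp := rfl)) (Category.comp_id _) c (HensSec7.closedPointHom B) _ (Category.comp_id _)
    _ (Category.comp_id _) (Category.comp_id _)).trans hc₁

end Groth.Agent.DescLib
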