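import Groth.Agent.DescLib.EtValConnect
import Groth.Agent.DescLib.EtFinite
import Groth.Agent.Proj16.Centre
import Groth.Prelude.Def_DescFam

/-!
# Values of a compatible family of the closed point along valuations
-/

universe u

set_option autoImplicit false
set_option backward.isDefEq.respectTransparency false
set_option backward.isDefEq.respectTransparency.types false
set_option linter.style.haveILetI false

open CategoryTheory CategoryTheory.Limits AlgebraicGeometry Desc IsLocalRing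

namespace Groth.Agent.DescLib.ValExt

/-- Ideals inside the maximal ideal of a henselian local ring give henselian pairs. -/
theorem henselianRing_of_le {A : Type u} [CommRing A] [HenselianLocalRing A] (J : Ideal A)
    (hJ : J ≤ maximalIdeal A) : HenselianRing A J := by
  constructor
  · exact hJ.trans (maximalIdeal_le_jacobson _)
  · intro f hf a₀ h₁ h₂
    have hu : IsUnit (f.derivative.eval a₀) := IsLocalRing.notMem_maximalIdeal.mp fun h => by
      have h3 := h₂.map (Ideal.Quotient.factor hJ)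
      rw [Ideal.Quotient.factor_mk, Ideal.Quotient.eq_zero_iff_mem.2 h] at h3
      exact not_isUnit_zero h3
    obtain ⟨a, ha, ham⟩ := HenselianLocalRing.is_henselian f hf a₀ (hJ h₁) hu
    refine ⟨a, ha, ?_⟩
    obtain ⟨k, hk⟩ := f.binomExpansion a₀ (a - a₀)
    rw [add_sub_cancel, ha] at hk
    have hU : IsUnit (f.derivative.eval a₀ + k * (a - a₀)) := IsLocalRing.notMem_maximalIdeal.mp fun h => by
      refine IsLocalRing.notMem_maximalIdeal.mpr hu ?_
      have := (maximalIdeal A).sub_mem h ((maximalIdeal A).mul_mem_left k ham)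
      simpa using this
    have hp : (a - a₀) * (f.derivative.eval a₀ + k * (a - a₀)) ∈ J := by
      rw [show (a - a₀) * (f.derivative.eval a₀ + k * (a - a₀)) = -f.eval a₀ by linear_combination -hk]
      exact neg_mem h₁
    exact (Ideal.mul_unit_mem_iff_mem J hU).1 hp

variable {B : Type u} [CommRing B] [HenselianLocalRing B]

theorem Centred.of_comap {K L : Type u} [Field K] [Field L] {ψ : B →+* K} {W : ValuationSubring L} {ι : K →+* L}
    (h : Centred ψ (W.comap ι)) : Centred (ι.comp ψ) W := by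
  refine ⟨fun b => h.1 b, fun b hb => ?_⟩
  have h' := h.2 b hb
  rw [ValuationSubring.mem_nonunits_iff_or] at h' ⊢
  refine h'.imp (fun e => by simp [e]) fun e hmem => e ?_
  show ι (ψ b)⁻¹ ∈ W
  rwa [map_inv₀]

theorem map_le_of_centred {L : Type u} [Field L] {ψ : B →+* L} {W : ValuationSubring L} (h : Centred ψ W) :
    (maximalIdeal B).map (ψ.codRestrict W.toSubring h.1) ≤ maximalIdeal W :=
  Ideal.map_le_iff_le_comap.2 fun b hb => ValuationSubring.coe_mem_nonunits_iff.1 (h.2 b hb)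

variable {X : Scheme.{u}} (g : X ⟶ Spec (CommRingCat.of B))

/-- A henselian pair over the closed point, mapping to the source. -/
structure Test where
  /-- the ring -/
  A : Type u
  [inst : CommRing A]
  /-- the structure map -/
  ψ : B →+* A
  /-- the point -/
  m : Spec (CommRingCat.of A) ⟶ X
  hm : m ≫ g = Spec.map (CommRingCat.ofHom ψ)
  hens : HenselianRing A ((maximalIdeal B).map ψ)

attribute [instance] Test.inst

variable {g}

theorem Test.finiteLifts (τ : Test g) :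
    HensSec7.FiniteLifts (pullback.snd (HensSec7.closedPointHom B) (τ.m ≫ g)) := by
  intro X' h hh
  haveI := hh
  refine (HensCouple7.scheme_lifts_iff h (pullback.snd (HensSec7.closedPointHom B) (τ.m ≫ g))).2 ?_
  rw [Scheme.Pullback.range_snd, HensSec7.range_closedPointHom, τ.hm]
  have := (HensCouple7.henselianRing_iff_lifts τ.A _).1 τ.hens X' h hh
  rwa [show (Spec.map (CommRingCat.ofHom τ.ψ)) ⁻¹' PrimeSpectrum.zeroLocus (maximalIdeal B : Set B) =
    PrimeSpectrum.zeroLocus (((maximalIdeal B).map τ.ψ : Ideal τ.A) : Set τ.A) from ?_]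
  show PrimeSpectrum.comap τ.ψ ⁻¹' _ = _
  rw [PrimeSpectrum.preimage_comap_zeroLocus, Ideal.map, PrimeSpectrum.zeroLocus_span]

variable {E : SchDDFam (fun _ : PUnit.{1} => g)} [Etale (E.obj ⟨⟩).hom] [IsSeparated (E.obj ⟨⟩).hom]
  (cu : Compat E (HensSec7.closedPointHom B))

/-- A section over a test, restricting to the given family on the closed part. -/
def IsSec (τ : Test g) (σ : Spec (CommRingCat.of τ.A) ⟶ (E.obj ⟨⟩).left) : Prop :=
  σ ≫ (E.obj ⟨⟩).hom = τ.m ∧ ∀ ⦃T : Scheme.{u}⦄ (t : T ⟶ Spec (CommRingCat.of (ResidueField B)))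
    (y : T ⟶ Spec (CommRingCat.of τ.A)) (e : (y ≫ τ.m) ≫ g = t ≫ HensSec7.closedPointHom B),
    y ≫ σ = (cu.pt (i := PUnit.unit) t (y ≫ τ.m) e).1

theorem exists_isSec (τ : Test g) : ∃ σ, IsSec cu τ σ := by
  let i := HensSec7.closedPointHom B
  let j := pullback.snd i (τ.m ≫ g)
  have hj : (j ≫ τ.m) ≫ g = pullback.fst i (τ.m ≫ g) ≫ i := by
    rw [Category.assoc]; exact pullback.condition.symm
  let v := cu.pt (i := PUnit.unit) (pullback.fst i (τ.m ≫ g)) (j ≫ τ.m) hj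
  let p := pullback.snd (E.obj ⟨⟩).hom τ.m
  let v₀ : pullback i (τ.m ≫ g) ⟶ pullback (E.obj ⟨⟩).hom τ.m := pullback.lift v.1 j v.2
  obtain ⟨u, ⟨hu, hu'⟩, -⟩ := HensSec7.existsUnique_section τ.finiteLifts p v₀ (pullback.lift_snd _ _ _)
  refine ⟨u ≫ pullback.fst _ _, ?_, fun T t y e => ?_⟩
  · rw [Category.assoc, pullback.condition, ← Category.assoc, hu, Category.id_comp]
  · let l := pullback.lift (f := i) (g := τ.m ≫ g) t y (by rw [← Category.assoc]; exact e.symm)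
    have hl : l ≫ j = y := pullback.lift_snd _ _ _
    have h1 := congrArg (fun z => l ≫ z ≫ pullback.fst _ _) hu'
    simp only [Category.assoc] at h1
    rw [reassoc_of% hl] at h1
    rw [h1, pullback.lift_fst]
    exact (cu.nat (i := PUnit.unit) l _ _ hj t (y ≫ τ.m) (pullback.lift_fst _ _ _)
      (by rw [reassoc_of% hl]) e).symm

/-- The section over a test. -/
noncomputable def sec (τ : Test g) : Spec (CommRingCat.of τ.A) ⟶ (E.obj ⟨⟩).left :=
  (exists_isSec cu τ).choose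

theorem isSec_sec (τ : Test g) : IsSec cu τ (sec cu τ) := (exists_isSec cu τ).choose_spec

theorem sec_unique {τ : Test g} {σ : Spec (CommRingCat.of τ.A) ⟶ (E.obj ⟨⟩).left} (h : IsSec cu τ σ) :
    σ = sec cu τ := by
  let i := HensSec7.closedPointHom B
  let p := pullback.snd (E.obj ⟨⟩).hom τ.m
  have hu : ∀ {σ}, IsSec cu τ σ → σ ≫ (E.obj ⟨⟩).hom = 𝟙 _ ≫ τ.m := fun h => h.1.trans (Category.id_comp _).symm
  have hp := HensSec7.section_unique τ.finiteLifts p (u := pullback.lift σ (𝟙 _) (hu h))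
    (u' := pullback.lift (sec cu τ) (𝟙 _) (hu (isSec_sec cu τ))) (pullback.lift_snd _ _ _) (pullback.lift_snd _ _ _) (by
      refine pullback.hom_ext ?_ (by rw [Category.assoc, Category.assoc, pullback.lift_snd, pullback.lift_snd])
      have e : (pullback.snd i (τ.m ≫ g) ≫ τ.m) ≫ g = pullback.fst i (τ.m ≫ g) ≫ i := by
        rw [Category.assoc]; exact pullback.condition.symm
      rw [Category.assoc, Category.assoc, pullback.lift_fst, pullback.lift_fst, h.2 _ _ e,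
        (isSec_sec cu τ).2 _ _ e])
  simpa using congrArg (· ≫ pullback.fst _ _) hp

theorem sec_nat {τ τ' : Test g} (χ : τ.A →+* τ'.A) (hm : Spec.map (CommRingCat.ofHom χ) ≫ τ.m = τ'.m) :
    Spec.map (CommRingCat.ofHom χ) ≫ sec cu τ = sec cu τ' := by
  refine sec_unique cu ⟨by rw [Category.assoc, (isSec_sec cu τ).1, hm], fun T t y e => ?_⟩
  have e' : ((y ≫ Spec.map (CommRingCat.ofHom χ)) ≫ τ.m) ≫ g = t ≫ HensSec7.closedPointHom B := by
    rw [Category.assoc y, hm]; exact e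
  rw [← Category.assoc, (isSec_sec cu τ).2 t (y ≫ Spec.map (CommRingCat.ofHom χ)) e']
  exact cu.pt_congr rfl (by rw [Category.assoc, hm]) _ _

theorem sec_comp (τ : Test g) (m' : Spec (CommRingCat.of τ.A) ⟶ X)
    (hm' : m' ≫ g = Spec.map (CommRingCat.ofHom τ.ψ)) :
    (E.φ (i := PUnit.unit) (j := PUnit.unit) τ.m m' (τ.hm.trans hm'.symm) ⟨sec cu τ, (isSec_sec cu τ).1⟩).1 =
      sec cu { τ with m := m', hm := hm' } := by
  refine sec_unique cu (τ := { τ with m := m', hm := hm' })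
    ⟨(E.φ (i := PUnit.unit) (j := PUnit.unit) τ.m m' _ _).2, fun T t y e => ?_⟩
  have e₀ : (y ≫ τ.m) ≫ g = t ≫ HensSec7.closedPointHom B := by
    rw [Category.assoc, τ.hm, ← hm', ← Category.assoc]; exact e
  rw [← cu.comp (i := PUnit.unit) (k := PUnit.unit) t (y ≫ τ.m) (y ≫ m') e₀ e]
  exact (E.φ_natural y τ.m m' (τ.hm.trans hm'.symm) _ _ rfl rfl (by rw [e₀, e]) _ _ ((isSec_sec cu τ).2 t y e₀).symm).symm

section values

variable {K : Type u} [Field K] {ψ : B →+* K} {x₀ : Spec (CommRingCat.of K) ⟶ X}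
  (hx₀ : x₀ ≫ g = Spec.map (CommRingCat.ofHom ψ))

include hx₀ in
theorem comp_g {L : Type u} [Field L] {τ : Test g} {ι : K →+* L} {χ : τ.A →+* L} (h : χ.comp τ.ψ = ι.comp ψ) :
    (Spec.map (CommRingCat.ofHom ι) ≫ x₀) ≫ g = (Spec.map (CommRingCat.ofHom χ) ≫ τ.m) ≫ g := by
  rw [Category.assoc, Category.assoc, hx₀, τ.hm, ← Spec.map_comp, ← Spec.map_comp, ← CommRingCat.ofHom_comp,
    ← CommRingCat.ofHom_comp, h]

/-- `a` is the value of the test at the field point. -/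
def Agrees (a : Lifts (E.obj ⟨⟩) x₀) {L : Type u} [Field L] (τ : Test g) (ι : K →+* L) (χ : τ.A →+* L) : Prop :=
  ∃ h : χ.comp τ.ψ = ι.comp ψ,
    (E.φ (i := PUnit.unit) (j := PUnit.unit) (Spec.map (CommRingCat.ofHom ι) ≫ x₀)
      (Spec.map (CommRingCat.ofHom χ) ≫ τ.m) (comp_g hx₀ h)
      ⟨Spec.map (CommRingCat.ofHom ι) ≫ a.1, by rw [Category.assoc, a.2]⟩).1 =
    Spec.map (CommRingCat.ofHom χ) ≫ sec cu τ

theorem Agrees.comp {a : Lifts (E.obj ⟨⟩) x₀} {L L' : Type u} [Field L] [Field L'] {τ : Test g} {ι : K →+* L}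
    {χ : τ.A →+* L} (h : Agrees cu hx₀ a τ ι χ) (κ : L →+* L') :
    Agrees cu hx₀ a τ (κ.comp ι) (κ.comp χ) := by
  obtain ⟨h, he⟩ := h
  refine ⟨by rw [RingHom.comp_assoc, h, RingHom.comp_assoc], ?_⟩
  have hsp : ∀ {R : Type u} [CommRing R] (f : R →+* L), Spec.map (CommRingCat.ofHom (κ.comp f)) =
      Spec.map (CommRingCat.ofHom κ) ≫ Spec.map (CommRingCat.ofHom f) := fun f => by
    rw [CommRingCat.ofHom_comp, Spec.map_comp]
  refine Eq.trans ?_ ((congrArg (Spec.map (CommRingCat.ofHom κ) ≫ ·) he).trans (by rw [hsp χ, Category.assoc]))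
  exact E.φ_natural (Spec.map (CommRingCat.ofHom κ)) _ _ (comp_g hx₀ h) _ _
    (by rw [hsp ι, Category.assoc]) (by rw [hsp χ, Category.assoc]) _ _ _
    (by show _ ≫ a.1 = _; rw [hsp ι, Category.assoc])

/-- The value at a valuation subring. -/
def Val (V : ValuationSubring K) (a : Lifts (E.obj ⟨⟩) x₀) : Prop :=
  ∃ (τ : Test g) (L : Type u) (_ : Field L) (ι : K →+* L) (χ : τ.A →+* L) (V' : ValuationSubring L),
    V'.comap ι = V ∧ (∀ z, χ z ∈ V') ∧ Agrees cu hx₀ a τ ι χ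

theorem Val.unique {V : ValuationSubring K} (hV : Centred ψ V) {a b : Lifts (E.obj ⟨⟩) x₀}
    (ha : Val cu hx₀ V a) (hb : Val cu hx₀ V b) : a = b := by
  obtain ⟨τ₀, L₀, _, ι₀, χ₀, V₀, hV₀, hχ₀, h₀⟩ := ha
  obtain ⟨τ₁, L₁, _, ι₁, χ₁, V₁, hV₁, hχ₁, h₁⟩ := hb
  obtain ⟨L, _, _, W, κ₀, κ₁, hκ, hW₀, hW₁⟩ := exists_amalgam ι₀ ι₁ V₀ V₁ (hV₀.trans hV₁.symm)
  haveI := henselianLocalRing_valuationSubring W
  let ι := κ₀.comp ι₀
  have hc : Centred (ι.comp ψ) W := Centred.of_comap (by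
    have : W.comap ι = V := by rw [show W.comap ι = (W.comap κ₀).comap ι₀ from rfl, hW₀, hV₀]
    rwa [this])
  let w₀ : τ₀.A →+* W := (κ₀.comp χ₀).codRestrict W.toSubring fun z =>
    show χ₀ z ∈ W.comap κ₀ from hW₀ ▸ hχ₀ z
  let w₁ : τ₁.A →+* W := (κ₁.comp χ₁).codRestrict W.toSubring fun z =>
    show χ₁ z ∈ W.comap κ₁ from hW₁ ▸ hχ₁ z
  obtain ⟨e₀, h₀⟩ := h₀.comp cu hx₀ κ₀
  obtain ⟨e₁, h₁⟩ := h₁.comp cu hx₀ κ₁
  let ψW : B →+* W := (ι.comp ψ).codRestrict W.toSubring hc.1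
  have hψ₀ : w₀.comp τ₀.ψ = ψW := RingHom.ext fun z => Subtype.ext (RingHom.congr_fun e₀ z)
  have hψ₁ : w₁.comp τ₁.ψ = ψW := RingHom.ext fun z => Subtype.ext
    ((RingHom.congr_fun e₁ z).trans (RingHom.congr_fun (congrArg (·.comp ψ) hκ.symm) z))
  let τW : Test g :=
    { A := W, ψ := ψW, m := Spec.map (CommRingCat.ofHom w₀) ≫ τ₀.m
      hm := by rw [Category.assoc, τ₀.hm, ← Spec.map_comp, ← CommRingCat.ofHom_comp, hψ₀]
      hens := henselianRing_of_le _ (map_le_of_centred hc) }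
  have hm₁ : (Spec.map (CommRingCat.ofHom w₁) ≫ τ₁.m) ≫ g = Spec.map (CommRingCat.ofHom τW.ψ) := by
    rw [Category.assoc, τ₁.hm, ← Spec.map_comp, ← CommRingCat.ofHom_comp, hψ₁]
  let η := Spec.map (CommRingCat.ofHom W.subtype)
  have hη₀ : η ≫ Spec.map (CommRingCat.ofHom w₀) = Spec.map (CommRingCat.ofHom (κ₀.comp χ₀)) :=
    (Spec.map_comp _ _).symm
  have hη₁ : η ≫ Spec.map (CommRingCat.ofHom w₁) = Spec.map (CommRingCat.ofHom (κ₁.comp χ₁)) :=
    (Spec.map_comp _ _).symm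
  have hcomp := sec_comp cu τW (Spec.map (CommRingCat.ofHom w₁) ≫ τ₁.m) hm₁
  rw [← sec_nat cu (τ := τ₁) (τ' := { τW with m := _, hm := hm₁ }) w₁ rfl] at hcomp
  have hp : (η ≫ τW.m) ≫ g = (Spec.map (CommRingCat.ofHom (κ₁.comp χ₁)) ≫ τ₁.m) ≫ g := by
    rw [← hη₁, Category.assoc η, Category.assoc η, Category.assoc η, τW.hm, ← hm₁]
  have hq : ∀ h', (E.φ (i := PUnit.unit) (j := PUnit.unit) (η ≫ τW.m)
      (Spec.map (CommRingCat.ofHom (κ₁.comp χ₁)) ≫ τ₁.m) h'
      ⟨η ≫ sec cu τW, by rw [Category.assoc, (isSec_sec cu τW).1]⟩).1 =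
      Spec.map (CommRingCat.ofHom (κ₁.comp χ₁)) ≫ sec cu τ₁ := fun h' => by
    refine (E.φ_natural η τW.m _ (τW.hm.trans hm₁.symm) _ _ rfl (by rw [← Category.assoc, hη₁]) h'
      ⟨sec cu τW, (isSec_sec cu τW).1⟩ _ rfl).trans ?_
    exact (congrArg (η ≫ ·) hcomp).trans (by rw [← Category.assoc, hη₁])
  have hι : κ₁.comp ι₁ = ι := hκ.symm
  have hstart : (Spec.map (CommRingCat.ofHom ι) ≫ x₀) ≫ g = (η ≫ τW.m) ≫ g := by
    rw [Category.assoc η, τW.hm, Category.assoc, hx₀, ← Spec.map_comp, ← Spec.map_comp]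
    rfl
  have hA : (E.φ (i := PUnit.unit) (j := PUnit.unit) (Spec.map (CommRingCat.ofHom ι) ≫ x₀) (η ≫ τW.m) hstart
      ⟨Spec.map (CommRingCat.ofHom ι) ≫ a.1, by rw [Category.assoc, a.2]⟩).1 = η ≫ sec cu τW := by
    refine Eq.trans ?_ (Eq.trans h₀ (by rw [← sec_nat cu (τ := τ₀) (τ' := τW) w₀ rfl, ← Category.assoc, hη₀]))
    exact φ_congr E rfl (by show η ≫ _ ≫ τ₀.m = _; rw [← Category.assoc, hη₀]) _ _ _ _ rfl
  have hB : (E.φ (i := PUnit.unit) (j := PUnit.unit) (Spec.map (CommRingCat.ofHom ι) ≫ x₀)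
      (Spec.map (CommRingCat.ofHom (κ₁.comp χ₁)) ≫ τ₁.m) (hstart.trans hp)
      ⟨Spec.map (CommRingCat.ofHom ι) ≫ b.1, by rw [Category.assoc, b.2]⟩).1 =
      Spec.map (CommRingCat.ofHom (κ₁.comp χ₁)) ≫ sec cu τ₁ :=
    (φ_congr E (by rw [hι]) rfl _ _ _ _ (by show _ ≫ b.1 = _ ≫ b.1; rw [hι])).trans h₁
  have hab : (⟨Spec.map (CommRingCat.ofHom ι) ≫ a.1, by rw [Category.assoc, a.2]⟩ :
      Lifts (E.obj ⟨⟩) (Spec.map (CommRingCat.ofHom ι) ≫ x₀)) =
      ⟨Spec.map (CommRingCat.ofHom ι) ≫ b.1, by rw [Category.assoc, b.2]⟩ := by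
    apply (E.φ (i := PUnit.unit) (j := PUnit.unit) _ _ (hstart.trans hp)).injective
    apply Subtype.ext
    rw [hB, ← hq hp, ← E.φ_comp _ _ _ hstart hp]
    exact φ_congr E rfl rfl _ _ _ _ hA
  exact Subtype.ext (hom_ext_of_field_extension ι a.1 b.1 (congrArg Subtype.val hab))

theorem Val.mono {V V' : ValuationSubring K} (h : V ≤ V') {a : Lifts (E.obj ⟨⟩) x₀} (ha : Val cu hx₀ V a) :
    Val cu hx₀ V' a := by
  obtain ⟨τ, L, _, ι, χ, W, hW, hχ, hA⟩ := ha
  obtain ⟨W', hle, hW'⟩ := exists_coarsen ι W V' (hW.symm ▸ h)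
  exact ⟨τ, L, inferInstance, ι, χ, W', hW', fun z => hle (hχ z), hA⟩

end values

end Groth.Agent.DescLib.ValExt
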