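import Groth.Agent.DescLib.EtValExtend
import Groth.Agent.DescLib.EtAgree
import Groth.Agent.DescLib.SubtrVal
import Groth.Agent.DescLib.SubtrSubm

/-!
# The value of a compatible family does not depend on the valuation

For a quasi-compact universally subtrusive map to the spectrum of a henselian local ring and a geometric point of
the base, the values along the valuation subrings centred at the closed point are constant: they are locally
constant by an ultraproduct argument, and the space of valuations is connected.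
-/

universe u

set_option autoImplicit false
set_option backward.isDefEq.respectTransparency false
set_option backward.isDefEq.respectTransparency.types false
set_option linter.style.haveILetI false

open CategoryTheory CategoryTheory.Limits AlgebraicGeometry Desc IsLocalRing

namespace Groth.Agent.DescLib.ValExt

variable {B : Type u} [CommRing B] [HenselianLocalRing B] {X : Scheme.{u}} {g : X ⟶ Spec (CommRingCat.of B)}

variable (g) in
/-- A lift to the source of a centred valuation subring, after extending the field. -/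
structure Pt {K : Type u} [Field K] (ψ : B →+* K) (V : ValuationSubring K) where
  /-- the field -/
  L : Type u
  [fld : Field L]
  [acl : IsAlgClosed L]
  /-- the valuation subring -/
  W : ValuationSubring L
  /-- the extension -/
  ι : K →+* L
  hι : W.comap ι = V
  /-- the structure map -/
  φ : B →+* W
  hφ : W.subtype.comp φ = ι.comp ψ
  /-- the point -/
  m : Spec (CommRingCat.of W) ⟶ X
  hm : m ≫ g = Spec.map (CommRingCat.ofHom φ)

attribute [instance] Pt.fld Pt.acl

variable (hg : Subtr.UnivSSubtrusive g)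

include hg in
theorem nonempty_pt {K : Type u} [Field K] {ψ : B →+* K} {V : ValuationSubring K} (hV : ∀ b, ψ b ∈ V) :
    Nonempty (Pt g ψ V) := by
  let ψV : B →+* V := ψ.codRestrict V.toSubring hV
  let q := Spec.map (CommRingCat.ofHom ψV)
  have hs := (univSSubtrusive_iff_valuationRing g).1 hg V q
  obtain ⟨R, _, _, _, r, hr⟩ := (((tfae_over_valuationRing (pullback.snd g q)).out 1 4) :
    Subtr.IsSSubtrusive (pullback.snd g q) ↔ ∃ (R : Type u) (_ : CommRing R) (_ : IsDomain R) (_ : ValuationRing R)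
      (r : Spec (CommRingCat.of R) ⟶ pullback g q), Surjective (r ≫ pullback.snd g q)).1 hs
  obtain ⟨f, hf⟩ := Spec.map_surjective (r ≫ pullback.snd g q)
  rw [← hf] at hr
  have hker : RingHom.ker f.hom = ⊥ := by
    obtain ⟨z, hz⟩ := hr.surj (⟨⊥, Ideal.isPrime_bot⟩ : PrimeSpectrum V)
    have e : Ideal.comap f.hom z.asIdeal = ⊥ := congrArg PrimeSpectrum.asIdeal hz
    exact le_bot_iff.1 fun x hx => e.le (by
      show f.hom x ∈ z.asIdeal
      rw [show f.hom x = 0 from hx]
      exact zero_mem _)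
  obtain ⟨z, hz⟩ := hr.surj (closedPoint V)
  have hzm : Ideal.comap f.hom z.asIdeal = maximalIdeal V := congrArg PrimeSpectrum.asIdeal hz
  let L := AlgebraicClosure (FractionRing R)
  let χ : R →+* L := (algebraMap (FractionRing R) L).comp (algebraMap R (FractionRing R))
  have hχ : Function.Injective χ :=
    (algebraMap (FractionRing R) L).injective.comp (IsFractionRing.injective R (FractionRing R))
  obtain ⟨W, hW, hWz⟩ := exists_valuationSubring_dominate χ z.asIdeal
    (((RingHom.injective_iff_ker_eq_bot χ).1 hχ).le.trans bot_le)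
  let ι : K →+* L := IsFractionRing.lift (A := V) (K := K) (g := χ.comp f.hom)
    (hχ.comp ((RingHom.injective_iff_ker_eq_bot f.hom).2 hker))
  have hι : ∀ a : V, ι a = χ (f.hom a) := fun a => IsFractionRing.lift_algebraMap _ a
  let w : R →+* W := χ.codRestrict W.toSubring hW
  refine ⟨{ L := L, W := W, ι := ι, hι := ?_, φ := w.comp (f.hom.comp ψV), hφ := ?_,
            m := Spec.map (CommRingCat.ofHom w) ≫ r ≫ pullback.fst g q, hm := ?_ }⟩
  · refine le_antisymm (fun x hx => ?_) fun x hx => (show ι x ∈ W from (hι ⟨x, hx⟩).symm ▸ hW _)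
    by_contra hxV
    have hx0 : x ≠ 0 := fun e => hxV (e ▸ V.zero_mem)
    have hinv : x⁻¹ ∈ V.nonunits := (ValuationSubring.inv_mem_nonunits_iff _).2 (Or.inr hxV)
    have h1 : ι ((⟨x⁻¹, V.nonunits_subset hinv⟩ : V) : K) ∈ W.nonunits := (hι _).symm ▸ hWz _ (by
      have := ValuationSubring.coe_mem_nonunits_iff.1
        (show ((⟨x⁻¹, V.nonunits_subset hinv⟩ : V) : K) ∈ V.nonunits from hinv)
      rw [← hzm] at this
      exact this)
    rw [show ((⟨x⁻¹, V.nonunits_subset hinv⟩ : V) : K) = x⁻¹ from rfl, map_inv₀,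
      ValuationSubring.inv_mem_nonunits_iff] at h1
    rcases h1 with h1 | h1
    · exact hx0 ((map_eq_zero ι).1 h1)
    · exact h1 hx
  · exact RingHom.ext fun b => (hι (ψV b)).symm
  · rw [Category.assoc, Category.assoc, pullback.condition, ← Category.assoc r, ← hf, ← Spec.map_comp,
      ← Spec.map_comp]
    rfl

theorem Pt.map_le {K : Type u} [Field K] {ψ : B →+* K} {V : ValuationSubring K} (P : Pt g ψ V)
    (hV : Centred ψ V) : (maximalIdeal B).map P.φ ≤ maximalIdeal P.W :=
  Ideal.map_le_iff_le_comap.2 fun b hb => ValuationSubring.coe_mem_nonunits_iff.1 (by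
    have h : Centred (P.ι.comp ψ) P.W := Centred.of_comap (by rw [P.hι]; exact hV)
    have e : (P.φ b : P.L) = (P.ι.comp ψ) b := RingHom.congr_fun P.hφ b
    rw [e]
    exact h.2 b hb)

instance {K : Type u} [Field K] {ψ : B →+* K} {V : ValuationSubring K} (P : Pt g ψ V) :
    HenselianLocalRing P.W := henselianLocalRing_valuationSubring P.W

/-- The test of a point. -/
def Pt.test {K : Type u} [Field K] {ψ : B →+* K} {V : ValuationSubring K} (P : Pt g ψ V) (hV : Centred ψ V) :
    Test g where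
  A := P.W
  ψ := P.φ
  m := P.m
  hm := P.hm
  hens := henselianRing_of_le _ (P.map_le hV)

variable [IsAffine X] {I : Type u} (τ : I → Test g) [∀ i, HenselianLocalRing (τ i).A]
  (hmax : ∀ i, (maximalIdeal B).map (τ i).ψ ≤ maximalIdeal (τ i).A)

/-- The product of tests into an affine source. -/
noncomputable def prodTest : Test g where
  A := ∀ i, (τ i).A
  ψ := Pi.ringHom fun i => (τ i).ψ
  m := Spec.map (CommRingCat.ofHom (Pi.ringHom fun i => (Spec.preimage ((τ i).m ≫ X.isoSpec.hom)).hom)) ≫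
    X.isoSpec.inv
  hm := by
    rw [Category.assoc, ← Spec.map_preimage (X.isoSpec.inv ≫ g), ← Spec.map_comp]
    congr 1
    ext b i
    have h : Spec.preimage (X.isoSpec.inv ≫ g) ≫ Spec.preimage ((τ i).m ≫ X.isoSpec.hom) =
        CommRingCat.ofHom (τ i).ψ := Spec.map_injective (by
      rw [Spec.map_comp, Spec.map_preimage, Spec.map_preimage, Category.assoc, X.isoSpec.hom_inv_id_assoc,
        (τ i).hm])
    exact RingHom.congr_fun (congrArg CommRingCat.Hom.hom h) b
  hens := henselianRing_pi _ _ fun x hx i => by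
    have h : (maximalIdeal B).map (Pi.ringHom fun i => (τ i).ψ) ≤
        ((maximalIdeal B).map (τ i).ψ).comap (Pi.evalRingHom (fun i => (τ i).A) i) :=
      Ideal.map_le_iff_le_comap.2 fun b hb => Ideal.mem_map_of_mem (τ i).ψ hb
    exact hmax i (h hx)

theorem prodTest_proj (i : I) :
    Spec.map (CommRingCat.ofHom (Pi.evalRingHom (fun i => (τ i).A) i)) ≫ (prodTest τ hmax).m = (τ i).m := by
  show Spec.map _ ≫ Spec.map _ ≫ X.isoSpec.inv = _
  rw [← Category.assoc, ← Spec.map_comp, ← CommRingCat.ofHom_comp,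
    show (Pi.evalRingHom (fun i => (τ i).A) i).comp
      (Pi.ringHom fun i => (Spec.preimage ((τ i).m ≫ X.isoSpec.hom)).hom) =
      (Spec.preimage ((τ i).m ≫ X.isoSpec.hom)).hom from rfl,
    CommRingCat.ofHom_hom, Spec.map_preimage, Category.assoc, Iso.hom_inv_id, Category.comp_id]

variable {E : SchDDFam (fun _ : PUnit.{1} => g)} [Etale (E.obj ⟨⟩).hom] [IsSeparated (E.obj ⟨⟩).hom]
  (cu : Compat E (HensSec7.closedPointHom B))

section values

variable {K : Type u} [Field K] {ψ : B →+* K} {x₀ : Spec (CommRingCat.of K) ⟶ X}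
  (hx₀ : x₀ ≫ g = Spec.map (CommRingCat.ofHom ψ))

omit [IsAffine X] in
theorem exists_agrees [IsSepClosed K] {L : Type u} [Field L] (τ : Test g) (ι : K →+* L) (χ : τ.A →+* L)
    (h : χ.comp τ.ψ = ι.comp ψ) : ∃ a, Agrees cu hx₀ a τ ι χ := by
  let e := E.φ (i := PUnit.unit) (j := PUnit.unit) (Spec.map (CommRingCat.ofHom ι) ≫ x₀)
    (Spec.map (CommRingCat.ofHom χ) ≫ τ.m) (comp_g hx₀ h)
  let b := e.symm ⟨Spec.map (CommRingCat.ofHom χ) ≫ sec cu τ, by rw [Category.assoc, (isSec_sec cu τ).1]⟩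
  let Uk := pullback (E.obj ⟨⟩).hom x₀
  obtain ⟨r, hr, hr'⟩ := exists_rational_point (pullback.snd (E.obj ⟨⟩).hom x₀)
  let q : Spec (CommRingCat.of L) ⟶ Uk := pullback.lift b.1 (Spec.map (CommRingCat.ofHom ι)) b.2
  obtain ⟨u, hu⟩ := hr' q
  have hu' : Spec.map (CommRingCat.ofHom ι) ≫ r u ≫ pullback.fst _ _ = b.1 := by
    have := congrArg (· ≫ pullback.fst (E.obj ⟨⟩).hom x₀) hu
    simpa only [q, Category.assoc, pullback.lift_fst, pullback.lift_snd_assoc] using this
  refine ⟨⟨r u ≫ pullback.fst _ _, by rw [Category.assoc, pullback.condition, ← Category.assoc, hr,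
    Category.id_comp]⟩, h, ?_⟩
  refine Eq.trans ?_ (congrArg Subtype.val (e.apply_symm_apply
    ⟨Spec.map (CommRingCat.ofHom χ) ≫ sec cu τ, by rw [Category.assoc, (isSec_sec cu τ).1]⟩))
  exact φ_congr E rfl rfl _ _ _ _ hu'

include hg in
omit [IsAffine X] in
theorem exists_val [IsSepClosed K] {V : ValuationSubring K} (hV : Centred ψ V) : ∃ a, Val cu hx₀ V a := by
  obtain ⟨P⟩ := nonempty_pt hg hV.1
  obtain ⟨a, ha⟩ := exists_agrees cu hx₀ (P.test hV) P.ι P.W.subtype P.hφ
  exact ⟨a, P.test hV, P.L, inferInstance, P.ι, P.W.subtype, P.W, P.hι, fun z => z.2, ha⟩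

include hg in
/-- Values are locally constant. -/
theorem exists_val_of_ultraLim [IsSepClosed K] {I : Type u} (U : Ultrafilter I) (V : I → ValuationSubring K)
    (hV : ∀ s, Centred ψ (V s)) {a : Lifts (E.obj ⟨⟩) x₀} (ha : Val cu hx₀ (ultraLim U V) a) :
    ∃ s, Val cu hx₀ (V s) a := by
  let P := fun s => (nonempty_pt hg (hV s).1).some
  let τ := fun s => (P s).test (hV s)
  haveI : ∀ s, HenselianLocalRing (τ s).A := fun s => henselianLocalRing_valuationSubring (P s).W
  let T := prodTest τ fun s => (P s).map_le (hV s)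
  let R := ∀ s, (P s).L
  let p : Ideal R :=
    { carrier := {f | ∀ᶠ s in U, f s = 0}
      zero_mem' := Filter.Eventually.of_forall fun _ => rfl
      add_mem' := fun ha hb => by filter_upwards [ha, hb] with s h h' using (congrArg₂ (· + ·) h h').trans (add_zero _)
      smul_mem' := fun c f hf => by filter_upwards [hf] with s h using (congrArg (c s * ·) h).trans (mul_zero _) }
  have hp : ∀ f : R, Ideal.Quotient.mk p f = 0 ↔ ∀ᶠ s in U, f s = 0 := fun f => Ideal.Quotient.eq_zero_iff_mem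
  haveI : p.IsMaximal := by
    refine Ideal.isMaximal_iff.2 ⟨fun h => ?_, fun J f hpJ hf hfJ => ?_⟩
    · obtain ⟨s, hs⟩ := (show ∀ᶠ s in U, (1 : R) s = 0 from h).exists
      exact one_ne_zero hs
    · let f' : R := fun s => (f s)⁻¹
      have hne : ∀ᶠ s in U, f s ≠ 0 := Ultrafilter.eventually_not.2 hf
      have h1 : 1 - f' * f ∈ p := by
        show ∀ᶠ s in U, (1 : (P s).L) - (f s)⁻¹ * f s = 0
        filter_upwards [hne] with s hs
        rw [inv_mul_cancel₀ hs, sub_self]
      have := J.add_mem (hpJ h1) (J.mul_mem_left f' hfJ)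
      rwa [sub_add_cancel] at this
  letI := Ideal.Quotient.field p
  let π : R →+* R ⧸ p := Ideal.Quotient.mk p
  let diag : K →+* R := Pi.ringHom fun s => (P s).ι
  let incl : T.A →+* R := Pi.ringHom fun s => (P s).W.subtype.comp (Pi.evalRingHom (fun s => (τ s).A) s)
  have hincl : incl.comp T.ψ = diag.comp ψ := RingHom.ext fun b => funext fun s => RingHom.congr_fun (P s).hφ b
  let V' : ValuationSubring (R ⧸ p) :=
    { carrier := π '' {f | ∀ᶠ s in U, f s ∈ (P s).W}
      mul_mem' := by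
        rintro _ _ ⟨f, hf, rfl⟩ ⟨f', hf', rfl⟩
        refine ⟨f * f', ?_, map_mul π f f'⟩
        filter_upwards [hf, hf'] with s h h' using mul_mem h h'
      one_mem' := ⟨1, Filter.Eventually.of_forall fun s => one_mem (P s).W, map_one π⟩
      add_mem' := by
        rintro _ _ ⟨f, hf, rfl⟩ ⟨f', hf', rfl⟩
        refine ⟨f + f', ?_, map_add π f f'⟩
        filter_upwards [hf, hf'] with s h h' using add_mem h h'
      zero_mem' := ⟨0, Filter.Eventually.of_forall fun s => zero_mem (P s).W, map_zero π⟩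
      neg_mem' := by
        rintro _ ⟨f, hf, rfl⟩
        refine ⟨-f, ?_, map_neg π f⟩
        filter_upwards [hf] with s h using neg_mem h
      mem_or_inv_mem' := by
        intro x
        obtain ⟨f, rfl⟩ := Ideal.Quotient.mk_surjective x
        by_cases hf : ∀ᶠ s in U, f s ∈ (P s).W
        · exact Or.inl ⟨f, hf, rfl⟩
        refine Or.inr ⟨fun s => (f s)⁻¹, ?_, eq_inv_of_mul_eq_one_left ?_⟩
        · filter_upwards [Ultrafilter.eventually_not.2 hf] with s hs
          exact ((P s).W.mem_or_inv_mem _).resolve_left hs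
        · rw [← map_mul, ← map_one π, ← sub_eq_zero, ← map_sub, hp]
          filter_upwards [Ultrafilter.eventually_not.2 hf] with s hs
          show (f s)⁻¹ * f s - 1 = 0
          rw [inv_mul_cancel₀ (fun e => hs (by rw [e]; exact zero_mem _)), sub_self] }
  have hV' : V'.comap (π.comp diag) = ultraLim U V := by
    refine le_antisymm ?_ fun x hx => ⟨diag x, ?_, rfl⟩
    · rintro x ⟨f, hf, hfx⟩
      have h0 : ∀ᶠ s in U, (f - diag x) s = 0 := (hp _).1 (by rw [map_sub, sub_eq_zero]; exact hfx)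
      show ∀ᶠ s in U, x ∈ V s
      filter_upwards [hf, h0] with s h h'
      rw [← (P s).hι]
      show (P s).ι x ∈ (P s).W
      rwa [← show f s = (P s).ι x from sub_eq_zero.1 h']
    · filter_upwards [(mem_ultraLim U V).1 hx] with s h
      rw [← (P s).hι] at h
      exact h
  have hcomp : (π.comp incl).comp T.ψ = (π.comp diag).comp ψ := by
    rw [RingHom.comp_assoc, hincl, RingHom.comp_assoc]
  obtain ⟨a', ha'⟩ := exists_agrees cu hx₀ T (π.comp diag) (π.comp incl) hcomp
  obtain rfl : a' = a := Val.unique cu hx₀ (centred_ultraLim U V ψ hV)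
    ⟨T, R ⧸ p, inferInstance, π.comp diag, π.comp incl, V', hV',
      fun z => ⟨incl z, Filter.Eventually.of_forall fun s => (z s).2, rfl⟩, ha'⟩ ha
  let δ := Spec.map (CommRingCat.ofHom diag)
  let η := Spec.map (CommRingCat.ofHom incl)
  have hy : (δ ≫ x₀) ≫ g = (η ≫ T.m) ≫ g := by
    rw [Category.assoc, Category.assoc, hx₀, T.hm, ← Spec.map_comp, ← Spec.map_comp, ← CommRingCat.ofHom_comp,
      ← CommRingCat.ofHom_comp, hincl]
  let v := E.φ (i := PUnit.unit) (j := PUnit.unit) (δ ≫ x₀) (η ≫ T.m) hy ⟨δ ≫ a'.1, by rw [Category.assoc, a'.2]⟩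
  have key : ∀ {L : Type u} [Field L] (κ : R →+* L),
      Agrees cu hx₀ a' T (κ.comp diag) (κ.comp incl) ↔
        Spec.map (CommRingCat.ofHom κ) ≫ v.1 = Spec.map (CommRingCat.ofHom κ) ≫ η ≫ sec cu T := by
    intro L _ κ
    have e : Spec.map (CommRingCat.ofHom κ) ≫ η = Spec.map (CommRingCat.ofHom (κ.comp incl)) := by
      rw [CommRingCat.ofHom_comp, Spec.map_comp]
    have e' : Spec.map (CommRingCat.ofHom κ) ≫ δ = Spec.map (CommRingCat.ofHom (κ.comp diag)) := by
      rw [CommRingCat.ofHom_comp, Spec.map_comp]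
    have hn : ∀ h', (E.φ (i := PUnit.unit) (j := PUnit.unit) (Spec.map (CommRingCat.ofHom (κ.comp diag)) ≫ x₀)
        (Spec.map (CommRingCat.ofHom (κ.comp incl)) ≫ T.m) h'
        ⟨Spec.map (CommRingCat.ofHom (κ.comp diag)) ≫ a'.1, by rw [Category.assoc, a'.2]⟩).1 =
        Spec.map (CommRingCat.ofHom κ) ≫ v.1 := fun h' =>
      E.φ_natural _ _ _ hy _ _ (by rw [← Category.assoc, e']) (by rw [← Category.assoc, e]) h' _ _
        (by show _ ≫ a'.1 = _; rw [← e', Category.assoc])
    rw [reassoc_of% e]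
    exact ⟨fun ⟨_, h⟩ => (hn _).symm.trans h,
      fun h => ⟨by rw [RingHom.comp_assoc, hincl, RingHom.comp_assoc], (hn _).trans h⟩⟩
  let w := Spec.map (CommRingCat.ofHom π)
  have hopen := isOpen_agree (q := (E.obj ⟨⟩).hom) v.1 (η ≫ sec cu T)
    (by rw [v.2, Category.assoc, (isSec_sec cu T).1])
  obtain ⟨_, ⟨f, rfl⟩, hf, hsub⟩ := PrimeSpectrum.isTopologicalBasis_basic_opens.exists_subset_of_mem_open
    ((agreeAt_iff_of_field v.1 (η ≫ sec cu T) w _ rfl).1 ((key π).1 ha')) hopen
  obtain ⟨s, hs⟩ : ∃ s, f s ≠ 0 := by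
    by_contra h
    push Not at h
    refine hf ?_
    show π f ∈ (closedPoint (R ⧸ p)).asIdeal
    rw [show f = 0 from funext h, map_zero]
    exact zero_mem _
  let ev : R →+* (P s).L := Pi.evalRingHom (fun s => (P s).L) s
  have hmem : Spec.map (CommRingCat.ofHom ev) (closedPoint (P s).L) ∈ {z | AgreeAt v.1 (η ≫ sec cu T) z} :=
    hsub (by
      show ev f ∉ (closedPoint (P s).L).asIdeal
      intro hmem
      exact hs (by_contra fun h0 => (IsLocalRing.maximalIdeal.isMaximal (P s).L).ne_top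
        (Ideal.eq_top_of_isUnit_mem _ hmem (isUnit_iff_ne_zero.2 h0))))
  have hA := (key ev).2 ((agreeAt_iff_of_field _ _ _ _ rfl).2 hmem)
  refine ⟨s, T, (P s).L, inferInstance, ev.comp diag, ev.comp incl, (P s).W, (P s).hι, fun z => (z s).2, hA⟩

include hg in
/-- Values do not depend on the centred valuation subring. -/
theorem exists_value [IsAlgClosed K] : ∃ a, ∀ V, Centred ψ V → Val cu hx₀ V a := by
  classical
  choose av hav using fun V : {V // Centred ψ V} => exists_val hg cu hx₀ V.2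
  have huniq : ∀ V a, Val cu hx₀ V.1 a → a = av V := fun V a h => Val.unique cu hx₀ V.2 h (hav V)
  have hnb : ∀ V : {V // Centred ψ V}, ∃ t : Finset K, (∀ x ∈ t, x ∈ V.1) ∧
      ∀ V' : {V // Centred ψ V}, (∀ x ∈ t, x ∈ V'.1) → av V' = av V := by
    intro V
    by_contra hc
    push Not at hc
    choose Vs hVs hne using fun t : Finset V.1 => hc (t.image Subtype.val) (fun x hx => by
      obtain ⟨y, -, rfl⟩ := Finset.mem_image.1 hx
      exact y.2)
    let U : Ultrafilter (Finset V.1) := Ultrafilter.of Filter.atTop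
    have hle : V.1 ≤ ultraLim U fun t => (Vs t).1 := fun x hx =>
      Ultrafilter.of_le (Filter.atTop : Filter (Finset V.1)) (Filter.eventually_atTop.2 ⟨{⟨x, hx⟩}, fun t ht =>
        hVs t x (Finset.mem_image.2 ⟨⟨x, hx⟩, ht (Finset.mem_singleton_self _), rfl⟩)⟩)
    obtain ⟨t, ht⟩ := exists_val_of_ultraLim hg cu hx₀ U _ (fun t => (Vs t).2) (Val.mono cu hx₀ hle (hav V))
    exact hne t (huniq (Vs t) _ ht).symm
  choose t ht htV using hnb
  obtain ⟨Φ, hΦ⟩ : ∃ Φ : Finset {V // Centred ψ V}, ∀ V' : {V // Centred ψ V}, ∃ V ∈ Φ, ∀ x ∈ t V, x ∈ V'.1 := by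
    by_contra hc
    push Not at hc
    choose Vs hVs using hc
    let U : Ultrafilter (Finset {V // Centred ψ V}) := Ultrafilter.of Filter.atTop
    let V₀ : {V // Centred ψ V} := ⟨_, centred_ultraLim U (fun Φ => (Vs Φ).1) ψ fun Φ => (Vs Φ).2⟩
    have h1 : ∀ᶠ Φ in U, ∀ x ∈ t V₀, x ∈ (Vs Φ).1 :=
      (Finset.eventually_all (t V₀)).2 fun x hx => (mem_ultraLim U _).1 (ht V₀ x hx)
    have h2 : ∀ᶠ Φ : Finset {V // Centred ψ V} in (U : Filter _), V₀ ∈ Φ :=
      Ultrafilter.of_le (Filter.atTop : Filter (Finset {V // Centred ψ V}))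
        (Filter.eventually_atTop.2 ⟨{V₀}, fun Φ h => h (Finset.mem_singleton_self _)⟩)
    obtain ⟨Φ, hΦ₁, hΦ₂⟩ := (h1.and h2).exists
    obtain ⟨x, hx, hx'⟩ := hVs Φ V₀ hΦ₂
    exact hx' (hΦ₁ x hx)
  obtain ⟨W₀, hW₀, hW₀m⟩ := exists_valuationSubring_dominate ψ (maximalIdeal B)
    (le_maximalIdeal (RingHom.ker_ne_top ψ))
  let V₀ : {V // Centred ψ V} := ⟨W₀, hW₀, hW₀m⟩
  refine ⟨av V₀, fun V hV => ?_⟩
  suffices h : av ⟨V, hV⟩ = av V₀ from h ▸ hav ⟨V, hV⟩
  by_contra hne
  let f : Φ → Finset K := fun V => insert 1 ((t V.1).filter (· ≠ 0))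
  let σ := ∀ V : Φ, f V
  let c : σ → K := fun i => ∏ V, (i V : K)
  have hf0 : ∀ V, ∀ x ∈ f V, x ≠ 0 := fun V x hx => by
    rcases Finset.mem_insert.1 hx with rfl | hx
    · exact one_ne_zero
    · exact (Finset.mem_filter.1 hx).2
  have hc0 : ∀ i, c i ≠ 0 := fun i => Finset.prod_ne_zero_iff.2 fun V _ => hf0 V _ (i V).2
  let upd : σ → ∀ V : Φ, f V → σ := fun i V x => Function.update i V x
  have hupd : ∀ i V x, c (upd i V x) * (i V : K) = c i * (x : K) := by
    intro i V x
    have e1 := Finset.prod_eq_mul_prod_sdiff_singleton_of_mem (f := fun W => (i W : K)) (Finset.mem_univ V)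
    have e2 := Finset.prod_eq_mul_prod_sdiff_singleton_of_mem (f := fun W => (upd i V x W : K)) (Finset.mem_univ V)
    have e3 : ∏ W ∈ Finset.univ \ {V}, (upd i V x W : K) = ∏ W ∈ Finset.univ \ {V}, (i W : K) :=
      Finset.prod_congr rfl fun W hW => by
        rw [show upd i V x W = i W from Function.update_of_ne (by simpa using hW) _ _]
    rw [show c (upd i V x) = _ from e2, show c i = _ from e1, e3,
      show upd i V x V = x from Function.update_self V x i]
    ring
  have htop1 : ∀ (W : {V // Centred ψ V}) (i : σ) (V : Φ), (i V : K) = 1 → ValConnect.IsTop c W.1 i →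
      av W = av V.1 := by
    intro W i V hiV hi
    refine htV V.1 W fun x hx => ?_
    by_cases hx0 : x = 0
    · exact hx0 ▸ W.1.zero_mem
    have := hi (upd i V ⟨x, Finset.mem_insert_of_mem (Finset.mem_filter.2 ⟨hx, hx0⟩)⟩)
    have e := hupd i V ⟨x, Finset.mem_insert_of_mem (Finset.mem_filter.2 ⟨hx, hx0⟩)⟩
    rw [hiV, mul_one] at e
    rwa [e, mul_div_cancel_left₀ _ (hc0 i)] at this
  have hexists : ∀ W : {V // Centred ψ V}, ∃ (V : Φ) (i : σ),
      (i V : K) = 1 ∧ ValConnect.IsTop c W.1 i ∧ av W = av V.1 := by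
    intro W
    obtain ⟨V, hVΦ, hV⟩ := hΦ W
    haveI : Nonempty σ := ⟨fun V => ⟨1, Finset.mem_insert_self _ _⟩⟩
    obtain ⟨i, -, hi⟩ := Finset.exists_max_image (Finset.univ : Finset σ) (fun i => W.1.valuation (c i))
      Finset.univ_nonempty
    have hi' : ValConnect.IsTop c W.1 i := fun j => by
      rw [← ValuationSubring.valuation_le_one_iff, map_div₀]
      exact div_le_one_of_le₀ (hi j (Finset.mem_univ j)) zero_le
    let one : f ⟨V, hVΦ⟩ := ⟨1, Finset.mem_insert_self _ _⟩
    let i' := upd i ⟨V, hVΦ⟩ one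
    have hi₁ : (i' ⟨V, hVΦ⟩ : K) = 1 := by rw [show i' ⟨V, hVΦ⟩ = one from Function.update_self _ _ _]
    have hi'' : ValConnect.IsTop c W.1 i' := fun j => by
      have e := hupd i ⟨V, hVΦ⟩ one
      rw [show ((one : f ⟨V, hVΦ⟩) : K) = 1 from rfl, mul_one] at e
      have hm : (i ⟨V, hVΦ⟩ : K) ∈ W.1 := by
        rcases Finset.mem_insert.1 (i ⟨V, hVΦ⟩).2 with h | h
        · rw [h]; exact one_mem _
        · exact hV _ (Finset.mem_filter.1 h).1
      have : c j / c i' = c j / c i * (i ⟨V, hVΦ⟩ : K) := by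
        rw [show c i = c i' * (i ⟨V, hVΦ⟩ : K) from e.symm]
        field_simp [hc0 i', hf0 _ _ (i ⟨V, hVΦ⟩).2]
      rw [this]
      exact mul_mem (hi' j) hm
    exact ⟨⟨V, hVΦ⟩, i', hi₁, hi'', htop1 W i' ⟨V, hVΦ⟩ hi₁ hi''⟩
  let P : σ → Prop := fun i => ∃ V : Φ, (i V : K) = 1 ∧ av V.1 = av V₀
  let Q : σ → Prop := fun i => ∃ V : Φ, (i V : K) = 1 ∧ av V.1 ≠ av V₀
  obtain ⟨Va, ia, ha₁, ha₂, ha₃⟩ := hexists V₀
  obtain ⟨Vb, ib, hb₁, hb₂, hb₃⟩ := hexists ⟨V, hV⟩
  refine ValConnect.not_both ψ c hc0 P Q (fun W hW => ?_) (fun W hW i j hi hj hti htj => ?_)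
    V₀.2 hV (i₀ := ia) (i₁ := ib) ⟨Va, ha₁, ha₃.symm⟩ ⟨Vb, hb₁, hb₃ ▸ hne⟩ ha₂ hb₂
  · obtain ⟨V', i, h₁, h₂, h₃⟩ := hexists ⟨W, hW⟩
    exact ⟨i, (em (av V'.1 = av V₀)).imp (fun h => ⟨V', h₁, h⟩) (fun h => ⟨V', h₁, h⟩), h₂⟩
  · obtain ⟨V', h₁, h₂⟩ := hi
    obtain ⟨V'', h₁', h₂'⟩ := hj
    exact h₂' ((htop1 ⟨W, hW⟩ j V'' h₁' htj).symm.trans ((htop1 ⟨W, hW⟩ i V' h₁ hti).trans h₂))

end values

end Groth.Agent.DescLib.ValExt
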