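import Mathlib.AlgebraicGeometry.Morphisms.Etale
import Mathlib.AlgebraicGeometry.Morphisms.FormallyUnramified
import Mathlib.AlgebraicGeometry.Fiber
import Mathlib.RingTheory.Etale.Field
import Mathlib.RingTheory.Unramified.Finite

/-!
# Fibres of étale squares
-/

universe u

set_option autoImplicit false
set_option backward.isDefEq.respectTransparency false
set_option backward.isDefEq.respectTransparency.types false

open CategoryTheory CategoryTheory.Limits AlgebraicGeometry

namespace Groth.Agent.DescLib

theorem etale_SpecMap_residueFieldMap {V' V : Scheme.{u}} (b : V' ⟶ V) [Etale b] (v' : V') :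
    Etale (Spec.map (b.residueFieldMap v')) := by
  rw [HasRingHomProperty.Spec_iff (P := @Etale)]
  letI := (b.residueFieldMap v').hom.toAlgebra
  have hsep : Algebra.IsSeparable (V.residueField (b v')) (V'.residueField v') :=
    inferInstanceAs (letI : Algebra (V.residueField (b.base v')) (V'.residueField v') :=
      (b.residueFieldMap v').hom.toAlgebra; Algebra.IsSeparable (V.residueField (b.base v')) (V'.residueField v'))
  have : Algebra.EssFiniteType (V.residueField (b v')) (V'.residueField v') := by
    rw [← RingHom.essFiniteType_algebraMap, RingHom.algebraMap_toAlgebra]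
    refine RingHom.EssFiniteType.of_comp (f := (V.residue (b v')).hom) ?_
    rw [← CommRingCat.hom_comp, Scheme.residue_residueFieldMap, CommRingCat.hom_comp]
    exact (LocallyOfFiniteType.stalkMap b v').comp
      (RingHom.FiniteType.essFiniteType (RingHom.FiniteType.of_surjective _ (V'.residue_surjective v')))
  have : Algebra.FormallyUnramified (V.residueField (b v')) (V'.residueField v') :=
    (Algebra.FormallyUnramified.iff_isSeparable _ _).2 hsep
  have : Module.Finite (V.residueField (b v')) (V'.residueField v') := Algebra.FormallyUnramified.finite_of_free _ _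
  have : Algebra.FormallyEtale (V.residueField (b v')) (V'.residueField v') :=
    Algebra.FormallyEtale.of_isSeparable _ _
  exact (⟨inferInstance, Algebra.FinitePresentation.of_finiteType.1 inferInstance⟩ :
    Algebra.Etale (V.residueField (b v')) (V'.residueField v'))

theorem etale_fiberMap {U U' V V' : Scheme.{u}} (h : U ⟶ V) (h' : U' ⟶ V') (a : U' ⟶ U)
    (b : V' ⟶ V) [Etale a] [Etale b] (comm : h' ≫ b = a ≫ h) (v' : V')
    (φ : h'.fiber v' ⟶ h.fiber (b v')) (hφ1 : φ ≫ h.fiberι (b v') = h'.fiberι v' ≫ a)
    (hφ2 : φ ≫ h.fiberToSpecResidueField (b v') = h'.fiberToSpecResidueField v' ≫ Spec.map (b.residueFieldMap v')) :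
    Etale φ := by
  haveI := etale_SpecMap_residueFieldMap b v'
  let t : U' ⟶ pullback h b := pullback.lift a h' comm.symm
  haveI : Etale t := by
    haveI : Etale (t ≫ pullback.fst h b) := by rw [pullback.lift_fst]; infer_instance
    exact Etale.of_comp t (pullback.fst h b)
  let k := pullback (h.fiberToSpecResidueField (b v')) (Spec.map (b.residueFieldMap v'))
  let l : h'.fiber v' ⟶ k := pullback.lift φ (h'.fiberToSpecResidueField v') hφ2
  have hl : φ = l ≫ pullback.fst _ _ := (pullback.lift_fst _ _ _).symm
  have s1 : IsPullback (pullback.fst (h.fiberToSpecResidueField (b v')) (Spec.map (b.residueFieldMap v')) ≫ h.fiberι (b v'))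
      (pullback.snd _ _) h (Spec.map (b.residueFieldMap v') ≫ V.fromSpecResidueField (b v')) :=
    (IsPullback.of_hasPullback _ _).paste_horiz (IsPullback.of_hasPullback h (V.fromSpecResidueField (b v')))
  let m : k ⟶ pullback h b := pullback.lift (pullback.fst _ _ ≫ h.fiberι (b v'))
    (pullback.snd _ _ ≫ V'.fromSpecResidueField v')
    (by rw [s1.w, Category.assoc, Scheme.Hom.SpecMap_residueFieldMap_fromSpecResidueField])
  have s2 : IsPullback m (pullback.snd _ _) (pullback.snd h b) (V'.fromSpecResidueField v') := by
    refine IsPullback.of_right ?_ (pullback.lift_snd _ _ _) (IsPullback.of_hasPullback h b)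
    rw [pullback.lift_fst, ← Scheme.Hom.SpecMap_residueFieldMap_fromSpecResidueField b v']
    exact s1
  have s3 : IsPullback (h'.fiberι v') l t m := by
    refine IsPullback.of_bot ?_ ?_ s2.flip.flip
    · rw [pullback.lift_snd, pullback.lift_snd]
      exact IsPullback.of_hasPullback h' (V'.fromSpecResidueField v')
    · apply pullback.hom_ext
      · simp [t, m, l, reassoc_of% hφ1, hφ1]
      · simp only [Category.assoc, t, m, l, pullback.lift_snd, pullback.lift_snd_assoc]
        exact (IsPullback.of_hasPullback h' (V'.fromSpecResidueField v')).w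
  haveI : Etale l := MorphismProperty.of_isPullback s3 ‹Etale t›
  rw [hl]
  infer_instance

end Groth.Agent.DescLib
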