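import Groth.Agent.S2938
import Groth.Agent.Hensel.DepthFlat
import Mathlib.RingTheory.Unramified.LocalRing
import Mathlib.RingTheory.Ideal.KrullsHeightTheorem
import Mathlib.RingTheory.Etale.Basic

/-!
# Étale local homomorphisms preserve depth and dimension
-/

universe u

set_option autoImplicit false
set_option backward.isDefEq.respectTransparency false
set_option backward.isDefEq.respectTransparency.types false

open IsLocalRing TensorProduct

namespace Groth.Agent.DescLib

variable (A B : Type u) [CommRing A] [CommRing B] [IsLocalRing A] [IsLocalRing B]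
  [IsNoetherianRing A] [IsNoetherianRing B] [Algebra A B] [IsLocalHom (algebraMap A B)]

theorem depth_eq_of_flat_unramified [Module.Flat A B] [Algebra.FormallyUnramified A B] [Algebra.EssFiniteType A B] :
    LocCoh.depth A A = LocCoh.depth B B := by
  haveI : Module.FaithfullyFlat A B := Module.FaithfullyFlat.of_flat_of_isLocalHom
  have h := (Groth.Agent.S2938.result A B (maximalIdeal A) A).2 ‹_›
  rw [Algebra.FormallyUnramified.map_maximalIdeal] at h
  exact h.symm.trans (Groth.Agent.Hensel.depth_congr (TensorProduct.AlgebraTensorModule.rid A B B))

theorem ringKrullDim_eq_of_flat_unramified [Module.Flat A B] [Algebra.FormallyUnramified A B]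
    [Algebra.EssFiniteType A B] : ringKrullDim B = ringKrullDim A := by
  haveI : (maximalIdeal B).LiesOver (maximalIdeal A) := ⟨(maximalIdeal_comap (algebraMap A B)).symm⟩
  have key := Ideal.height_eq_height_add_of_liesOver_of_hasGoingDown (maximalIdeal A) (maximalIdeal B)
  rw [← maximalIdeal_height_eq_ringKrullDim, ← maximalIdeal_height_eq_ringKrullDim]
  congr 1
  rw [key, Algebra.FormallyUnramified.map_maximalIdeal, Ideal.map_quotient_self]
  haveI : IsDomain (B ⧸ maximalIdeal B) := Ideal.Quotient.isDomain _
  rw [Ideal.height_bot, add_zero]

theorem etaleLocal_instances (E : Type u) [CommRing E] [Algebra A E] [Algebra.Etale A E] (P : Ideal E)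
    [P.IsPrime] [Algebra E B] [IsScalarTower A E B] [IsLocalization.AtPrime B P] :
    Module.Flat A B ∧ Algebra.FormallyUnramified A B ∧ Algebra.EssFiniteType A B := by
  have := IsLocalization.flat B P.primeCompl
  have : Algebra.FormallyUnramified E B := Algebra.FormallyUnramified.of_isLocalization P.primeCompl
  have : Algebra.EssFiniteType E B := Algebra.EssFiniteType.of_isLocalization B P.primeCompl
  exact ⟨Module.Flat.trans A E B, Algebra.FormallyUnramified.comp A E B, Algebra.EssFiniteType.comp A E B⟩

end Groth.Agent.DescLib
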