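import Mathlib.AlgebraicGeometry.Morphisms.Flat
import Mathlib.RingTheory.Flat.FaithfullyFlat.Algebra

/-!
# Flatness descends along universally injective maps
-/

universe u

set_option autoImplicit false
set_option backward.isDefEq.respectTransparency false
set_option backward.isDefEq.respectTransparency.types false

open CategoryTheory AlgebraicGeometry TensorProduct

namespace Groth.Agent.DescLib

lemma flat_of_universallyInjective {R : Type u} [CommRing R] {M L : Type u} [AddCommGroup M] [Module R M]
    [AddCommGroup L] [Module R L] [Module.Flat R L] (ι : M →ₗ[R] L)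
    (h : ∀ (N : Type u) [AddCommGroup N] [Module R N], Function.Injective (ι.lTensor N)) : Module.Flat R M := by
  rw [Module.Flat.iff_rTensor_preserves_injective_linearMap]
  intro N N' _ _ _ _ g hg
  have e : Function.Injective (ι.lTensor N' ∘ₗ g.rTensor M) := by
    rw [LinearMap.lTensor_comp_rTensor, ← LinearMap.rTensor_comp_lTensor, LinearMap.coe_comp]
    exact (Module.Flat.rTensor_preserves_injective_linearMap g hg).comp (h N)
  rw [LinearMap.coe_comp] at e
  exact e.of_comp

lemma lTensor_injective_of_faithfullyFlat (R S T : Type u) [CommRing R] [CommRing S] [CommRing T] [Algebra R S]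
    [Algebra S T] [Algebra R T] [IsScalarTower R S T] [Module.FaithfullyFlat S T] (N : Type u) [AddCommGroup N]
    [Module R N] : Function.Injective ((IsScalarTower.toAlgHom R S T).toLinearMap.lTensor N) := by
  have h : Function.Injective ((IsScalarTower.toAlgHom R S T).toLinearMap.rTensor N) := by
    have e : ((IsScalarTower.toAlgHom R S T).toLinearMap.rTensor N : S ⊗[R] N → T ⊗[R] N) =
        (TensorProduct.AlgebraTensorModule.cancelBaseChange R S S T N) ∘ TensorProduct.mk S T (S ⊗[R] N) 1 := by
      funext z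
      induction z using TensorProduct.induction_on with
      | zero => simp only [map_zero, Function.comp_apply]
      | tmul s n => simp [Algebra.smul_def]
      | add x y hx hy => simp only [Function.comp_apply, map_add] at hx hy ⊢; rw [hx, hy]
    rw [e]
    exact (LinearEquiv.injective _).comp (Module.FaithfullyFlat.tensorProduct_mk_injective _)
  exact (LinearMap.lTensor_inj_iff_rTensor_inj _ _).2 h

/-- If `R → S → S₁ → T` has `R → S₁` flat and `S → T` faithfully flat then `R → S` is flat. -/
lemma flat_of_factor {R S S₁ T : CommRingCat.{u}} (a : R ⟶ S) (b : S ⟶ S₁) (c : S₁ ⟶ T)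
    (h₁ : (a ≫ b).hom.Flat) (h₂ : (b ≫ c).hom.FaithfullyFlat) : a.hom.Flat := by
  letI := a.hom.toAlgebra
  letI := b.hom.toAlgebra
  letI := c.hom.toAlgebra
  letI : Algebra R S₁ := (a ≫ b).hom.toAlgebra
  letI : Algebra S T := (b ≫ c).hom.toAlgebra
  letI : Algebra R T := (a ≫ b ≫ c).hom.toAlgebra
  haveI : IsScalarTower R S S₁ := IsScalarTower.of_algebraMap_eq' rfl
  haveI : IsScalarTower R S T := IsScalarTower.of_algebraMap_eq' rfl
  haveI : IsScalarTower R S₁ T := IsScalarTower.of_algebraMap_eq' rfl
  haveI : Module.Flat R S₁ := h₁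
  haveI : Module.FaithfullyFlat S T := h₂
  refine (flat_of_universallyInjective (IsScalarTower.toAlgHom R S S₁).toLinearMap fun N _ _ => ?_ : Module.Flat R S)
  have e : (IsScalarTower.toAlgHom R S T).toLinearMap.lTensor N =
      (IsScalarTower.toAlgHom R S₁ T).toLinearMap.lTensor N ∘ₗ
        (IsScalarTower.toAlgHom R S S₁).toLinearMap.lTensor N := by
    rw [← LinearMap.lTensor_comp]
    rfl
  have hi := lTensor_injective_of_faithfullyFlat R S T N
  rw [e, LinearMap.coe_comp] at hi
  exact hi.of_comp

lemma faithfullyFlat_stalkMap {X Y : Scheme.{u}} (f : X ⟶ Y) [Flat f] (x : X) :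
    (f.stalkMap x).hom.FaithfullyFlat := by
  algebraize [(f.stalkMap x).hom]
  exact @Module.FaithfullyFlat.of_flat_of_isLocalHom _ _ _ _ _ _ _ (Flat.stalkMap f x) (f.toLRSHom.prop x)

theorem flat_of_flat_comp_refined {X Y Z Y' : Scheme.{u}} (f : X ⟶ Y) (q : Y ⟶ Z) (l : Y' ⟶ X)
    [Flat (l ≫ f)] [Surjective (l ≫ f)] [Flat (f ≫ q)] : Flat q := by
  refine Flat.of_stalkMap q fun y => ?_
  obtain ⟨y', hy⟩ := (l ≫ f).surjective y
  rw [Scheme.Hom.comp_apply] at hy
  subst hy
  refine flat_of_factor (q.stalkMap (f (l y'))) (f.stalkMap (l y')) (l.stalkMap y') ?_ ?_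
  · have h := Flat.stalkMap (f ≫ q) (l y')
    rwa [Scheme.Hom.stalkMap_comp] at h
  · have h := faithfullyFlat_stalkMap (l ≫ f) y'
    rwa [Scheme.Hom.stalkMap_comp] at h

end Groth.Agent.DescLib
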