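import Mathlib.RingTheory.FormalGroup.Basic

/-!
# Inverse series of one dimensional formal group laws
-/

set_option autoImplicit false
set_option backward.isDefEq.respectTransparency false
set_option backward.isDefEq.respectTransparency.types false
universe u

open Finsupp

namespace Groth.Agent.DescLib

variable {R : Type u} [CommRing R]

/-- The argument with `a` in slot `e` and `X` in the other one. -/
noncomputable def slot (e : Fin 2) (a : PowerSeries R) : Fin 2 → PowerSeries R :=
  Function.update (fun _ => PowerSeries.X) e a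

lemma slot_one (a : PowerSeries R) : slot 1 a = ![PowerSeries.X, a] := by
  ext i : 1; fin_cases i <;> simp [slot]

lemma slot_zero (a : PowerSeries R) : slot 0 a = ![a, PowerSeries.X] := by
  ext i : 1; fin_cases i <;> simp [slot]

lemma hasSubst_slot (e : Fin 2) {a : PowerSeries R} (ha : a.constantCoeff = 0) :
    MvPowerSeries.HasSubst (slot e a) := by
  refine MvPowerSeries.hasSubst_of_constantCoeff_zero fun i => ?_
  by_cases h : i = e
  · subst h; simp only [slot, Function.update_self]; exact ha
  · simp only [slot, Function.update_of_ne h]; exact PowerSeries.constantCoeff_X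

lemma dvd_monomial_sub (e : Fin 2) {a b : PowerSeries R} {n : ℕ} (ha : a.constantCoeff = 0)
    (hb : b.constantCoeff = 0) (h : PowerSeries.X ^ n ∣ a - b) (d : Fin 2 →₀ ℕ) (hd : d ≠ single e 1) :
    PowerSeries.X ^ (n + 1) ∣ (d.prod fun i m => slot e a i ^ m) - (d.prod fun i m => slot e b i ^ m) := by
  obtain ⟨o, ho, huniv⟩ : ∃ o, o ≠ e ∧ ∀ i, i = e ∨ i = o := by
    fin_cases e
    · exact ⟨1, by decide, by intro i; fin_cases i <;> simp⟩
    · exact ⟨0, by decide, by intro i; fin_cases i <;> simp⟩
  have hp : ∀ c : PowerSeries R, (d.prod fun i m => slot e c i ^ m) = c ^ d e * PowerSeries.X ^ d o := fun c => by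
    rw [Finsupp.prod_fintype _ _ (fun _ => pow_zero _), Fin.prod_univ_two]
    rcases huniv 0 with h0 | h0 <;> rcases huniv 1 with h1 | h1
    · exact absurd (h0.trans h1.symm) (by decide)
    · subst h0; subst h1; simp [slot_zero]
    · subst h0; subst h1; simp [slot_one, mul_comm]
    · exact absurd (h0.trans h1.symm) (by decide)
  rw [hp, hp, ← sub_mul]
  rcases Nat.eq_zero_or_pos (d o) with hi | hi
  · rw [hi, pow_zero, mul_one]
    rcases hj : d e with _ | _ | j
    · simp
    · refine absurd (Finsupp.ext fun i => ?_) hd
      rcases huniv i with rfl | rfl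
      · simp [hj]
      · simp [hi, Finsupp.single_apply, ho.symm]
    · have e1 : a ^ (j + 2) - b ^ (j + 2) = (a - b) * a ^ (j + 1) + b * (a ^ (j + 1) - b ^ (j + 1)) := by ring
      rw [e1, pow_succ (PowerSeries.X : PowerSeries R) n]
      refine dvd_add (mul_dvd_mul h ((PowerSeries.X_dvd_iff.2 ha).trans (dvd_pow_self a (by omega)))) ?_
      rw [mul_comm b]
      exact mul_dvd_mul (h.trans (sub_dvd_pow_sub_pow a b _)) (PowerSeries.X_dvd_iff.2 hb)
  · rw [pow_succ (PowerSeries.X : PowerSeries R) n]
    exact mul_dvd_mul (h.trans (sub_dvd_pow_sub_pow a b _)) (dvd_pow_self _ (by omega))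

/-- Changing `a` from degree `n` on changes the degree `n` coefficient of `F` linearly. -/
lemma coeff_subst_sub (f : MvPowerSeries (Fin 2) R) (e : Fin 2) (hf : MvPowerSeries.coeff (single e 1) f = 1)
    {a b : PowerSeries R} (ha : a.constantCoeff = 0) (hb : b.constantCoeff = 0) {n : ℕ}
    (h : ∀ i < n, a.coeff i = b.coeff i) :
    PowerSeries.coeff n (f.subst (slot e a) : PowerSeries R) - PowerSeries.coeff n (f.subst (slot e b) : PowerSeries R) =
      a.coeff n - b.coeff n := by
  have hdvd : PowerSeries.X ^ n ∣ a - b :=
    PowerSeries.X_pow_dvd_iff.2 fun i hi => by rw [map_sub, h i hi, sub_self]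
  have key : ∀ d : Fin 2 →₀ ℕ, d ≠ single e 1 →
      MvPowerSeries.coeff (single () n) (d.prod fun i m => slot e a i ^ m) =
        MvPowerSeries.coeff (single () n) (d.prod fun i m => slot e b i ^ m) := fun d hd => by
    have := PowerSeries.X_pow_dvd_iff.1 (dvd_monomial_sub e ha hb hdvd d hd) n (Nat.lt_succ_self n)
    rw [map_sub, sub_eq_zero] at this
    simpa [PowerSeries.coeff_def (s := single () n) (n := n) (by simp)] using this
  simp only [PowerSeries.coeff_def (s := single () n) (n := n) (by simp)]
  rw [MvPowerSeries.coeff_subst (hasSubst_slot e ha), MvPowerSeries.coeff_subst (hasSubst_slot e hb),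
    ← finsum_sub_distrib (MvPowerSeries.coeff_subst_finite (hasSubst_slot e ha) f _)
      (MvPowerSeries.coeff_subst_finite (hasSubst_slot e hb) f _),
    finsum_eq_single _ (single e 1) (fun d hd => by rw [key d hd, sub_self]), hf]
  simp [slot, Finsupp.prod_single_index]

/-- Existence and uniqueness of a series with zero constant term killing `f` in slot `e`. -/
theorem existsUnique_inverse (f : MvPowerSeries (Fin 2) R) (h0 : MvPowerSeries.constantCoeff f = 0) (e : Fin 2)
    (hf : MvPowerSeries.coeff (single e 1) f = 1) :
    ∃ g : PowerSeries R, g.constantCoeff = 0 ∧ f.subst (slot e g) = (0 : PowerSeries R) ∧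
      ∀ k : PowerSeries R, k.constantCoeff = 0 → f.subst (slot e k) = (0 : PowerSeries R) → k = g := by
  classical
  let T : (n : ℕ) → ((m : ℕ) → m < n → R) → PowerSeries R := fun n ih =>
    PowerSeries.mk fun i => if h : i < n then (if i = 0 then 0 else ih i h) else 0
  let G : ℕ → R := fun n => Nat.strongRecOn n fun n ih =>
    if n = 0 then 0 else -PowerSeries.coeff n (f.subst (slot e (T n ih)) : PowerSeries R)
  have hG : ∀ n, G n = if n = 0 then 0 else -PowerSeries.coeff n (f.subst (slot e (T n fun m _ => G m)) : PowerSeries R) :=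
    fun n => Nat.strongRecOn_eq _ n
  let g : PowerSeries R := PowerSeries.mk G
  have hg0 : g.constantCoeff = 0 := by
    rw [← PowerSeries.coeff_zero_eq_constantCoeff_apply, PowerSeries.coeff_mk, hG]; simp
  have hg : f.subst (slot e g) = (0 : PowerSeries R) := by
    refine PowerSeries.ext fun n => ?_
    rw [map_zero]
    rcases Nat.eq_zero_or_pos n with rfl | hn
    · rw [PowerSeries.coeff_zero_eq_constantCoeff_apply]
      exact MvPowerSeries.constantCoeff_subst_eq_zero (hasSubst_slot e hg0)
        (fun i => by
          by_cases h : i = e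
          · subst h; simp only [slot, Function.update_self]; exact hg0
          · simp only [slot, Function.update_of_ne h]; exact PowerSeries.constantCoeff_X) h0
    let t := T n fun m _ => G m
    have ht0 : t.constantCoeff = 0 := by
      rw [← PowerSeries.coeff_zero_eq_constantCoeff_apply]; simp [t, T]
    have := coeff_subst_sub f e hf hg0 ht0 (n := n) fun i hi => by
      rcases Nat.eq_zero_or_pos i with rfl | h0i
      · rw [PowerSeries.coeff_zero_eq_constantCoeff_apply, PowerSeries.coeff_zero_eq_constantCoeff_apply, hg0, ht0]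
      · simp [g, t, T, hi, Nat.pos_iff_ne_zero.1 h0i]
    simp only [g, PowerSeries.coeff_mk] at this
    rw [show t.coeff n = 0 by simp [t, T], sub_zero, hG n, if_neg (by omega)] at this
    exact sub_eq_neg_self.1 this
  refine ⟨g, hg0, hg, fun k hk0 hk => PowerSeries.ext fun n => ?_⟩
  induction n using Nat.strong_induction_on with
  | _ n ih =>
    have := coeff_subst_sub f e hf hk0 hg0 ih
    rwa [hk, hg, sub_self, eq_comm, sub_eq_zero] at this

end Groth.Agent.DescLib
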