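import Groth.Agent.DescLib.TrivFib
import Mathlib.AlgebraicTopology.SimplicialSet.Homotopy
import Mathlib.AlgebraicTopology.SimplicialObject.ChainHomotopy
import Mathlib.AlgebraicTopology.DoldKan.HomotopyEquivalence
import Mathlib.Algebra.Category.Grp.Adjunctions

/-!
# Homotopy equivalences of the underlying simplicial sets give quasi-isomorphisms
-/

universe u

set_option autoImplicit false
set_option backward.isDefEq.respectTransparency false
set_option backward.isDefEq.respectTransparency.types false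

open CategoryTheory Simplicial Opposite AlgebraicTopology

namespace Groth.Agent.DescLib.HomotopyInv

/-- The alternating face map complex. -/
noncomputable abbrev K (X : SimplicialObject AddCommGrpCat.{u}) : ChainComplex AddCommGrpCat.{u} ℕ :=
  (alternatingFaceMapComplex AddCommGrpCat.{u}).obj X

/-- Free simplicial abelian groups. -/
noncomputable abbrev fr : SSet.{u} ⥤ SimplicialObject AddCommGrpCat.{u} :=
  (SimplicialObject.whiskering (Type u) AddCommGrpCat.{u}).obj AddCommGrpCat.free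

/-- The counit. -/
noncomputable def ev (X : SimplicialObject AddCommGrpCat.{u}) :
    fr.obj (X ⋙ forget AddCommGrpCat.{u}) ⟶ X where
  app n := AddCommGrpCat.ofHom (FreeAbelianGroup.lift fun x : X.obj n => x)
  naturality {a b} g := by
    refine AddCommGrpCat.hom_ext (FreeAbelianGroup.lift_ext _ _ fun (x : X.obj a) => ?_)
    show FreeAbelianGroup.lift _ (FreeAbelianGroup.map _ (FreeAbelianGroup.of x)) =
      X.map g (FreeAbelianGroup.lift _ (FreeAbelianGroup.of x))
    simp

variable {X : SimplicialObject AddCommGrpCat.{u}}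

/-- All faces vanish. -/
def Norm : ∀ (n : ℕ), X _⦋n⦌ → Prop
  | 0, _ => True
  | m + 1, x => ∀ k : Fin (m + 2), X.δ k x = 0

/-- The reduced generator. -/
noncomputable def gen {n : ℕ} (x : X _⦋n⦌) : (K (fr.obj (X ⋙ forget AddCommGrpCat.{u}))).X n :=
  (FreeAbelianGroup.of x - FreeAbelianGroup.of (0 : X _⦋n⦌) : FreeAbelianGroup (X _⦋n⦌))

lemma ev_gen {n : ℕ} (x : X _⦋n⦌) :
    ((alternatingFaceMapComplex AddCommGrpCat.{u}).map (ev X)).f n (gen x) = x := by
  show FreeAbelianGroup.lift (fun y : X _⦋n⦌ => y) (FreeAbelianGroup.of x - FreeAbelianGroup.of (0 : X _⦋n⦌)) = x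
  simp

lemma d_eq_sum (Z : SimplicialObject AddCommGrpCat.{u}) (m : ℕ) (x : Z _⦋m + 1⦌) :
    (K Z).d (m + 1) m x = ∑ i : Fin (m + 2), (-1 : ℤ) ^ (i : ℕ) • Z.δ i x := by
  show (AlternatingFaceMapComplex.obj Z).d (m + 1) m x = _
  rw [AlternatingFaceMapComplex.obj_d_eq]
  let e : (Z _⦋m + 1⦌ ⟶ Z _⦋m⦌) →+ Z _⦋m⦌ := AddMonoidHom.mk' (fun ψ => ψ x) fun a b => rfl
  show e (∑ i : Fin (m + 2), (-1 : ℤ) ^ (i : ℕ) • Z.δ i) = _
  rw [map_sum]
  exact Finset.sum_congr rfl fun i _ => map_zsmul e _ _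

lemma δ_gen {m : ℕ} (k : Fin (m + 2)) (x : X _⦋m + 1⦌) :
    (fr.obj (X ⋙ forget AddCommGrpCat.{u})).δ k (gen x) = gen (X.δ k x) := by
  show FreeAbelianGroup.map _ (FreeAbelianGroup.of x - FreeAbelianGroup.of (0 : X _⦋m + 1⦌)) = _
  rw [map_sub, FreeAbelianGroup.map_of_apply, FreeAbelianGroup.map_of_apply]
  show FreeAbelianGroup.of (X.δ k x) - FreeAbelianGroup.of (X.δ k 0) = gen (X.δ k x)
  rw [map_zero]
  rfl

lemma gen_zero {n : ℕ} : gen (0 : X _⦋n⦌) = 0 := sub_self _

lemma gen_cycle (n : ℕ) (x : X _⦋n⦌) (hx : Norm n x) :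
    (K (fr.obj (X ⋙ forget AddCommGrpCat.{u}))).d n ((ComplexShape.down ℕ).next n) (gen x) = 0 := by
  rcases n with _ | m
  · rw [HomologicalComplex.shape _ _ _ (by simp)]; rfl
  · rw [ChainComplex.next_nat_succ, d_eq_sum]
    exact Finset.sum_eq_zero fun k _ => by rw [δ_gen, hx k, gen_zero, smul_zero]

lemma d_gen_of_faces (n : ℕ) (w : X _⦋n + 1⦌) (hw : ∀ j : Fin (n + 1), X.δ j.succ w = 0) :
    (K (fr.obj (X ⋙ forget AddCommGrpCat.{u}))).d (n + 1) n (gen w) = gen ((K X).d (n + 1) n w) := by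
  rw [d_eq_sum, d_eq_sum, Fintype.sum_eq_single (0 : Fin (n + 2)), Fintype.sum_eq_single (0 : Fin (n + 2)),
    Fin.val_zero, pow_zero, one_zsmul, one_zsmul, δ_gen]
  · intro j hj
    obtain ⟨k, rfl⟩ := Fin.exists_succ_eq.2 hj
    rw [hw k, smul_zero]
  · intro j hj
    obtain ⟨k, rfl⟩ := Fin.exists_succ_eq.2 hj
    rw [δ_gen, hw k, gen_zero, smul_zero]

/-- The projection to normalized chains. -/
noncomputable abbrev P (n : ℕ) (x : X _⦋n⦌) : X _⦋n⦌ := (DoldKan.PInfty (X := X)).f n x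

lemma P_faces (n : ℕ) (x : X _⦋n + 1⦌) (j : Fin (n + 1)) : X.δ j.succ (P (n + 1) x) = 0 :=
  ConcreteCategory.congr_hom (DoldKan.HigherFacesVanish.of_P (n + 1) n j (by omega)) x

lemma P_d (i j : ℕ) (x : X _⦋i⦌) : (K X).d i j (P i x) = P j ((K X).d i j x) :=
  ConcreteCategory.congr_hom ((DoldKan.PInfty (X := X)).comm i j) x

lemma P_norm (n : ℕ) (x : X _⦋n⦌) (hx : (K X).d n ((ComplexShape.down ℕ).next n) x = 0) : Norm n (P n x) := by
  rcases n with _ | m
  · trivial
  intro k
  induction k using Fin.cases with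
  | succ j => exact P_faces m x j
  | zero =>
    rw [ChainComplex.next_nat_succ] at hx
    have h := P_d (m + 1) m x
    rw [hx, show P m (0 : X _⦋m⦌) = 0 from map_zero _, d_eq_sum, Fin.sum_univ_succ,
      Finset.sum_eq_zero (fun j _ => by rw [P_faces m x j, smul_zero]), add_zero, Fin.val_zero, pow_zero,
      one_zsmul] at h
    exact h

lemma P_homologous (n : ℕ) (x : X _⦋n⦌) (hx : (K X).d n ((ComplexShape.down ℕ).next n) x = 0) :
    ∃ e : (K X).X (n + 1), (K X).d (n + 1) n e = x - P n x := by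
  haveI : Mono (HomologicalComplex.homologyMap (DoldKan.PInfty : K X ⟶ K X) n) := by
    rw [(DoldKan.homotopyPInftyToId X).homologyMap_eq n, HomologicalComplex.homologyMap_id]
    infer_instance
  refine TrivFib.exists_eq_d_of_mono (DoldKan.PInfty : K X ⟶ K X) (n + 1) n _ (ChainComplex.prev ℕ n) rfl _ ?_ 0 ?_
  · show (K X).d n _ (x - P n x) = 0
    rw [map_sub, hx, P_d, hx, show P _ (0 : (K X).X _) = 0 from map_zero _, sub_zero]
  · rw [map_sub, map_zero, sub_eq_zero]
    exact (ConcreteCategory.congr_hom (DoldKan.PInfty_f_idem n) x).symm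

variable {Y : SimplicialObject AddCommGrpCat.{u}} (f : X ⟶ Y)

lemma free_map_gen {n : ℕ} (x : X _⦋n⦌) :
    ((alternatingFaceMapComplex AddCommGrpCat.{u}).map (fr.map (Functor.whiskerRight f (forget AddCommGrpCat.{u})))).f n
      (gen x) = gen (f.app _ x) := by
  show FreeAbelianGroup.map _ (FreeAbelianGroup.of x - FreeAbelianGroup.of (0 : X _⦋n⦌)) = _
  rw [map_sub, FreeAbelianGroup.map_of_apply, FreeAbelianGroup.map_of_apply]
  show FreeAbelianGroup.of (f.app _ x) - FreeAbelianGroup.of (f.app _ 0) = gen (f.app _ x)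
  rw [map_zero]
  rfl

lemma ev_naturality : fr.map (Functor.whiskerRight f (forget AddCommGrpCat.{u})) ≫ ev Y = ev X ≫ f := by
  refine NatTrans.ext (funext fun n => AddCommGrpCat.hom_ext (FreeAbelianGroup.lift_ext _ _ fun (x : X.obj n) => ?_))
  show FreeAbelianGroup.lift _ (FreeAbelianGroup.map _ (FreeAbelianGroup.of x)) =
    f.app n (FreeAbelianGroup.lift _ (FreeAbelianGroup.of x))
  simp

/-- A map `h` of abelian groups with a set-theoretic lift along `d`. -/
lemma exists_free_lift {A B C : AddCommGrpCat.{u}} (x : A ⟶ C) (d : B ⟶ C) (h : ∀ a, ∃ b, d b = x a) :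
    ∃ (A' : AddCommGrpCat.{u}) (π : A' ⟶ A) (_ : Epi π) (l : A' ⟶ B), π ≫ x = l ≫ d := by
  choose b hb using h
  refine ⟨AddCommGrpCat.of (FreeAbelianGroup A), AddCommGrpCat.ofHom (FreeAbelianGroup.lift id), ?_,
    AddCommGrpCat.ofHom (FreeAbelianGroup.lift b), ?_⟩
  · exact (AddCommGrpCat.epi_iff_surjective _).2 fun a => ⟨FreeAbelianGroup.of a, FreeAbelianGroup.lift_apply_of id a⟩
  · refine AddCommGrpCat.hom_ext (FreeAbelianGroup.lift_ext _ _ fun a => ?_)
    show x (FreeAbelianGroup.lift id (FreeAbelianGroup.of a)) = d (FreeAbelianGroup.lift b (FreeAbelianGroup.of a))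
    simp [hb]

theorem quasiIso (g : (Y ⋙ forget AddCommGrpCat.{u} : SSet.{u}) ⟶ (X ⋙ forget AddCommGrpCat.{u} : SSet.{u}))
    (hX : Nonempty (SSet.Homotopy (Functor.whiskerRight f (forget AddCommGrpCat.{u}) ≫ g) (𝟙 _)) ∨
      Nonempty (SSet.Homotopy (𝟙 _) (Functor.whiskerRight f (forget AddCommGrpCat.{u}) ≫ g)))
    (hY : Nonempty (SSet.Homotopy (g ≫ Functor.whiskerRight f (forget AddCommGrpCat.{u})) (𝟙 _)) ∨
      Nonempty (SSet.Homotopy (𝟙 _) (g ≫ Functor.whiskerRight f (forget AddCommGrpCat.{u})))) :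
    QuasiIso ((alternatingFaceMapComplex AddCommGrpCat.{u}).map f) := by
  let Uf : (X ⋙ forget AddCommGrpCat.{u} : SSet.{u}) ⟶ (Y ⋙ forget AddCommGrpCat.{u} : SSet.{u}) :=
    Functor.whiskerRight f (forget AddCommGrpCat.{u})
  let A := alternatingFaceMapComplex AddCommGrpCat.{u}
  refine ⟨fun n => ?_⟩
  rw [quasiIsoAt_iff_isIso_homologyMap]
  have hh : ∀ {Z : SSet.{u}} (a : Z ⟶ Z), Nonempty (SSet.Homotopy a (𝟙 _)) ∨ Nonempty (SSet.Homotopy (𝟙 _) a) →
      HomologicalComplex.homologyMap (A.map (fr.map a)) n = 𝟙 _ := by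
    intro Z a h
    have h1 : HomologicalComplex.homologyMap (A.map (fr.map a)) n =
        HomologicalComplex.homologyMap (A.map (fr.map (𝟙 Z))) n := by
      rcases h with ⟨⟨H⟩⟩ | ⟨⟨H⟩⟩
      · exact ((H.toSimplicialObjectHomotopy.whiskerRight AddCommGrpCat.free).toChainHomotopy).homologyMap_eq n
      · exact (((H.toSimplicialObjectHomotopy.whiskerRight AddCommGrpCat.free).toChainHomotopy).homologyMap_eq n).symm
    rw [h1, CategoryTheory.Functor.map_id, CategoryTheory.Functor.map_id, HomologicalComplex.homologyMap_id]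
  haveI hFiso : IsIso (HomologicalComplex.homologyMap (A.map (fr.map Uf)) n) :=
    ⟨⟨HomologicalComplex.homologyMap (A.map (fr.map g)) n,
      by rw [← HomologicalComplex.homologyMap_comp, ← Functor.map_comp, ← Functor.map_comp]; exact hh _ hX,
      by rw [← HomologicalComplex.homologyMap_comp, ← Functor.map_comp, ← Functor.map_comp]; exact hh _ hY⟩⟩
  have hnat : A.map (fr.map Uf) ≫ A.map (ev Y) = A.map (ev X) ≫ A.map f := by
    rw [← Functor.map_comp, ← Functor.map_comp, ev_naturality]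
  have hnat' : ∀ x : X _⦋n⦌, (A.map f).f n (P n x) = P n (f.app _ x) := fun x =>
    (ConcreteCategory.congr_hom (DoldKan.PInfty_f_naturality n f) x).symm
  haveI : Mono (HomologicalComplex.homologyMap (A.map f) n) := by
    rw [HomologicalComplex.mono_homologyMap_iff_up_to_refinements _ (n + 1) n _ (ChainComplex.prev ℕ n) rfl]
    intro B x₂ hx₂ y₁ hy₁
    refine exists_free_lift x₂ _ fun b => ?_
    have hx : (K X).d n ((ComplexShape.down ℕ).next n) (x₂ b) = 0 := by
      rw [← ConcreteCategory.comp_apply, hx₂]; rfl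
    have hy : f.app _ (x₂ b) = (K Y).d (n + 1) n (y₁ b) := ConcreteCategory.congr_hom hy₁ b
    have hfP : f.app _ (P n (x₂ b)) = (K Y).d (n + 1) n (P (n + 1) (y₁ b)) := by
      rw [P_d, ← hy]
      exact hnat' (x₂ b)
    obtain ⟨c, hc⟩ := TrivFib.exists_eq_d_of_mono (A.map (fr.map Uf)) (n + 1) n _ (ChainComplex.prev ℕ n) rfl
      (gen (P n (x₂ b))) (gen_cycle n _ (P_norm n _ hx)) (gen (P (n + 1) (y₁ b))) (by
        rw [free_map_gen, hfP]
        exact (d_gen_of_faces n _ fun j => P_faces n _ j).symm)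
    obtain ⟨e, he⟩ := P_homologous n _ hx
    refine ⟨(A.map (ev X)).f (n + 1) c + e, ?_⟩
    have h1 : (K X).d (n + 1) n ((A.map (ev X)).f (n + 1) c) = P n (x₂ b) := by
      rw [← ConcreteCategory.comp_apply, (A.map (ev X)).comm, ConcreteCategory.comp_apply, hc]
      exact ev_gen _
    show (K X).d (n + 1) n ((A.map (ev X)).f (n + 1) c + e) = x₂ b
    rw [map_add, h1, he]
    exact add_sub_cancel _ _
  haveI : Epi (HomologicalComplex.homologyMap (A.map f) n) := by
    rw [HomologicalComplex.epi_homologyMap_iff_up_to_refinements _ (n + 1) n _ (ChainComplex.prev ℕ n) rfl]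
    intro B y₂ hy₂
    have key : ∀ b : B, ∃ p : (K X).X n × (K Y).X (n + 1),
        (K X).d n ((ComplexShape.down ℕ).next n) p.1 = 0 ∧ y₂ b = (A.map f).f n p.1 + (K Y).d (n + 1) n p.2 := by
      intro b
      have hy : (K Y).d n ((ComplexShape.down ℕ).next n) (y₂ b) = 0 := by
        rw [← ConcreteCategory.comp_apply, hy₂]; rfl
      obtain ⟨c, hc, e₁, he₁⟩ := TrivFib.exists_decomp_of_epi (A.map (fr.map Uf)) (n + 1) n _ (ChainComplex.prev ℕ n) rfl
        (gen (P n (y₂ b))) (gen_cycle n _ (P_norm n _ hy))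
      obtain ⟨e, he⟩ := P_homologous n _ hy
      have h1 := congrArg ((A.map (ev Y)).f n) he₁
      rw [ev_gen, map_add, ← ConcreteCategory.comp_apply, ← HomologicalComplex.comp_f, hnat,
        ← ConcreteCategory.comp_apply ((K (fr.obj _)).d _ _), ← (A.map (ev Y)).comm] at h1
      refine ⟨((A.map (ev X)).f n c, (A.map (ev Y)).f (n + 1) e₁ + e), ?_, ?_⟩
      · rw [← ConcreteCategory.comp_apply, (A.map (ev X)).comm, ConcreteCategory.comp_apply, hc]
        exact map_zero _
      · show y₂ b = _ + (K Y).d (n + 1) n ((A.map (ev Y)).f (n + 1) e₁ + e)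
        rw [map_add, he, ← add_assoc]
        simp only [HomologicalComplex.comp_f, ConcreteCategory.comp_apply] at h1 ⊢
        rw [← h1]
        exact (add_sub_cancel _ _).symm
    choose p hp hp' using key
    refine ⟨AddCommGrpCat.of (FreeAbelianGroup B), AddCommGrpCat.ofHom (FreeAbelianGroup.lift id),
      (AddCommGrpCat.epi_iff_surjective _).2 fun a => ⟨FreeAbelianGroup.of a, FreeAbelianGroup.lift_apply_of id a⟩,
      AddCommGrpCat.ofHom (FreeAbelianGroup.lift fun b => (p b).1), ?_,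
      AddCommGrpCat.ofHom (FreeAbelianGroup.lift fun b => (p b).2), ?_⟩
    · refine AddCommGrpCat.hom_ext (FreeAbelianGroup.lift_ext _ _ fun a => ?_)
      show (K X).d n _ (FreeAbelianGroup.lift (fun b => (p b).1) (FreeAbelianGroup.of a)) = 0
      simp only [FreeAbelianGroup.lift_apply_of]
      exact hp a
    · refine AddCommGrpCat.hom_ext (FreeAbelianGroup.lift_ext _ _ fun a => ?_)
      show y₂ (FreeAbelianGroup.lift id (FreeAbelianGroup.of a)) =
        (A.map f).f n (FreeAbelianGroup.lift (fun b => (p b).1) (FreeAbelianGroup.of a)) +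
          (K Y).d (n + 1) n (FreeAbelianGroup.lift (fun b => (p b).2) (FreeAbelianGroup.of a))
      simp only [FreeAbelianGroup.lift_apply_of, id_eq]
      exact hp' a
  exact isIso_of_mono_of_epi _

end Groth.Agent.DescLib.HomotopyInv
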