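import Groth.Agent.S4666
import Groth.Agent.S4667
import Mathlib.AlgebraicGeometry.Sites.Fpqc

/-!
# fpqc descent of ideal sheaves
-/

set_option autoImplicit false
set_option backward.isDefEq.respectTransparency false
set_option backward.isDefEq.respectTransparency.types false
universe u

open CategoryTheory CategoryTheory.Limits AlgebraicGeometry Opposite TopologicalSpace

namespace Groth.Agent.DescLib

variable {X Y : Scheme.{u}}

/-- The value of an ideal sheaf on an affine open in the range of an open immersion. -/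
theorem ideal_eq_of_comap_eq {J K : X.IdealSheafData} (f : Y ⟶ X) [IsOpenImmersion f]
    (h : J.comap f = K.comap f) (U : Y.affineOpens) :
    J.ideal ⟨f ''ᵁ U, U.2.image_of_isOpenImmersion f⟩ = K.ideal ⟨f ''ᵁ U, U.2.image_of_isOpenImmersion f⟩ := by
  have e := congrArg (fun I : Y.IdealSheafData => I.ideal U) h
  simp only [Scheme.IdealSheafData.ideal_comap_of_isOpenImmersion] at e
  exact Ideal.comap_injective_of_surjective _
    (ConcreteCategory.bijective_of_isIso (f.appIso U).inv).2 e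

/-- Equality of ideal sheaves is local. -/
theorem eq_of_cover {J K : X.IdealSheafData} (𝒰 : X.OpenCover) (h : ∀ i, J.comap (𝒰.f i) = K.comap (𝒰.f i)) :
    J = K := by
  let V : (Σ i, (𝒰.X i).affineOpens) → X.affineOpens := fun p =>
    ⟨𝒰.f p.1 ''ᵁ p.2, p.2.2.image_of_isOpenImmersion (𝒰.f p.1)⟩
  have hV : ⨆ p, (V p).1 = ⊤ := top_le_iff.1 fun x _ => by
    obtain ⟨i, y, rfl⟩ := 𝒰.exists_eq x
    obtain ⟨W, hW, hyW, -⟩ := exists_isAffineOpen_mem_and_subset (x := y) (U := ⊤) trivial
    exact Opens.mem_iSup.2 ⟨⟨i, ⟨W, hW⟩⟩, ⟨y, hyW, rfl⟩⟩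
  exact le_antisymm
    (Scheme.IdealSheafData.le_of_iSup_eq_top V hV fun p => (ideal_eq_of_comap_eq (𝒰.f p.1) (h p.1) p.2).le)
    (Scheme.IdealSheafData.le_of_iSup_eq_top V hV fun p => (ideal_eq_of_comap_eq (𝒰.f p.1) (h p.1) p.2).ge)

/-- Ideal sheaves are determined by a jointly surjective family of flat morphisms. -/
theorem eq_of_flat_family {κ : Type u} {W : κ → Scheme.{u}} (w : ∀ k, W k ⟶ X) [∀ k, Flat (w k)]
    (hs : ∀ x, ∃ k y, w k y = x) {J K : X.IdealSheafData} (h : ∀ k, J.comap (w k) = K.comap (w k)) : J = K := by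
  haveI : Flat (Sigma.desc w) := IsZariskiLocalAtSource.sigmaDesc inferInstance
  haveI : Surjective (Sigma.desc w) := ⟨fun x => by
    obtain ⟨k, y, rfl⟩ := hs x
    exact ⟨Sigma.ι W k y, by rw [← Scheme.Hom.comp_apply, Sigma.ι_desc]⟩⟩
  refine Groth.Agent.S4666.result (Sigma.desc w) ?_
  show J.comap (Sigma.desc w) = K.comap (Sigma.desc w)
  refine eq_of_cover (sigmaOpenCover W) fun k => ?_
  rw [← Scheme.IdealSheafData.comap_comp, ← Scheme.IdealSheafData.comap_comp]
  show J.comap (Sigma.ι W k ≫ Sigma.desc w) = K.comap (Sigma.ι W k ≫ Sigma.desc w)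
  rw [Sigma.ι_desc]
  exact h k

theorem comap_subschemeι (K : X.IdealSheafData) : K.comap K.subschemeι = ⊥ := by
  rw [eq_bot_iff, ← Scheme.IdealSheafData.le_map_iff_comap_le, Scheme.IdealSheafData.map_bot,
    Scheme.IdealSheafData.ker_subschemeι]

/-- Descent of ideal sheaves along a finite flat family of affines over an affine. -/
theorem exists_descend {V : Scheme.{u}} [IsAffine V] {κ : Type u} [Finite κ] {W : κ → Scheme.{u}}
    [∀ k, IsAffine (W k)] (w : ∀ k, W k ⟶ V) [∀ k, Flat (w k)] (K : ∀ k, (W k).IdealSheafData)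
    (hK : ∀ k l, (K k).comap (pullback.fst (w k) (w l)) = (K l).comap (pullback.snd (w k) (w l))) :
    ∃ J : V.IdealSheafData, ∀ k, J.comap (w k) = K k := by
  haveI : ∀ k, IsAffine (K k).subscheme := fun k => isAffine_of_isAffineHom (K k).subschemeι
  let Z : κ → Scheme.{u} := fun k => (K k).subscheme
  let q : (∐ Z) ⟶ V := Sigma.desc fun k => (K k).subschemeι ≫ w k
  haveI : CompactSpace ↥(∐ Z) := by
    refine ⟨?_⟩
    rw [show (Set.univ : Set ↥(∐ Z)) = ⋃ k, Set.range (Sigma.ι Z k) from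
      Set.eq_univ_of_forall (fun z => by
        obtain ⟨k, y, rfl⟩ := (sigmaOpenCover Z).exists_eq z
        exact Set.mem_iUnion.2 ⟨k, y, rfl⟩) |>.symm]
    exact isCompact_iUnion fun k => isCompact_range (Sigma.ι Z k).continuous
  haveI : QuasiCompact q := (quasiCompact_iff_compactSpace q).2 inferInstance
  refine ⟨q.ker, fun l => le_antisymm ?_ ?_⟩
  · rw [← Scheme.IdealSheafData.le_map_iff_comap_le]
    show q.ker ≤ ((K l).subschemeι ≫ w l).ker
    rw [show (K l).subschemeι ≫ w l = Sigma.ι Z l ≫ q from (Sigma.ι_desc (fun k => (K k).subschemeι ≫ w k) l).symm]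
    exact Scheme.Hom.le_ker_comp _ _
  · rw [← Groth.Agent.S4667.result q (w l), ← Scheme.IdealSheafData.map_bot,
      Scheme.IdealSheafData.le_map_iff_comap_le, le_bot_iff]
    refine eq_of_cover ((sigmaOpenCover Z).pullback₁ (pullback.fst q (w l))) fun k => ?_
    rw [← Scheme.IdealSheafData.comap_comp, Scheme.IdealSheafData.comap_bot]
    let a := pullback.snd (pullback.fst q (w l)) (Sigma.ι Z k)
    let m := pullback.fst (pullback.fst q (w l)) (Sigma.ι Z k)
    show (K l).comap (m ≫ pullback.snd q (w l)) = ⊥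
    have e : (a ≫ (K k).subschemeι) ≫ w k = (m ≫ pullback.snd q (w l)) ≫ w l := by
      rw [Category.assoc, Category.assoc, show (K k).subschemeι ≫ w k = Sigma.ι Z k ≫ q from (Sigma.ι_desc (fun k => (K k).subschemeι ≫ w k) k).symm,
        ← Category.assoc a, ← pullback.condition, Category.assoc, pullback.condition]
    have := congrArg (fun I => I.comap (pullback.lift _ _ e)) (hK k l)
    simp only [← Scheme.IdealSheafData.comap_comp, pullback.lift_fst, pullback.lift_snd] at this
    rw [← this, Scheme.IdealSheafData.comap_comp, comap_subschemeι, Scheme.IdealSheafData.comap_bot]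

theorem comap_ideal_top_of_isAffine {A B : Scheme.{u}} [IsAffine A] [IsAffine B] (f : A ⟶ B) (K : B.IdealSheafData) :
    (K.comap f).ideal ⟨⊤, isAffineOpen_top A⟩ = (K.ideal ⟨⊤, isAffineOpen_top B⟩).map f.appTop.hom := by
  apply le_antisymm
  · have h : K.comap f ≤ Scheme.IdealSheafData.equivOfIsAffine.symm ((K.ideal ⟨⊤, isAffineOpen_top B⟩).map f.appTop.hom) := by
      rw [← Scheme.IdealSheafData.le_map_iff_comap_le]
      refine Scheme.IdealSheafData.le_of_isAffine ?_
      rw [Scheme.IdealSheafData.ideal_map_of_isAffineHom]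
      refine Ideal.map_le_iff_le_comap.1 (le_of_eq ?_)
      exact (Scheme.IdealSheafData.equivOfIsAffine.apply_symm_apply _).symm
    exact (h ⟨⊤, isAffineOpen_top A⟩).trans
      (le_of_eq (Scheme.IdealSheafData.equivOfIsAffine.apply_symm_apply _))
  · rw [Ideal.map_le_iff_le_comap]
    have h := Scheme.IdealSheafData.le_map_comap K f ⟨⊤, isAffineOpen_top B⟩
    rw [Scheme.IdealSheafData.ideal_map_of_isAffineHom] at h
    exact h

/-- fpqc descent of ideal sheaves. -/
theorem existsUnique_descend_fpqc {P : Scheme.{u}} {ι : Type u} {Q : ι → Scheme.{u}} (g : ∀ i, Q i ⟶ P)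
    (hg : Presieve.ofArrows Q g ∈ Scheme.fpqcPrecoverage P) (I : ∀ i, (Q i).IdealSheafData)
    (h : ∀ i j, (I i).comap (pullback.fst (g i) (g j)) = (I j).comap (pullback.snd (g i) (g j))) :
    ∃! J : P.IdealSheafData, ∀ i, J.comap (g i) = I i := by
  have hflat : ∀ i, Flat (g i) := ((Scheme.ofArrows_mem_precoverage_iff _).1 hg.2).2
  have hsurj : ∀ x, ∃ i y, g i y = x := fun x => by
    obtain ⟨i, y, hy⟩ := ((Scheme.ofArrows_mem_precoverage_iff _).1 hg.2).1 x
    exact ⟨i, y, hy⟩
  haveI : ∀ i, Flat (g i) := hflat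
  haveI : QuasiCompactCover (⟨ι, Q, g⟩ : PreZeroHypercover.{u} P) :=
    Scheme.presieve₀_mem_qcPrecoverage_iff.1 hg.1
  have hx : ∀ {T : Scheme.{u}} {i j : ι} (a : T ⟶ Q i) (b : T ⟶ Q j), a ≫ g i = b ≫ g j →
      (I i).comap a = (I j).comap b := fun a b e => by
    have := congrArg (fun I => I.comap (pullback.lift a b e)) (h _ _)
    simpa only [← Scheme.IdealSheafData.comap_comp, pullback.lift_fst, pullback.lift_snd] using this
  have hloc : ∀ U : P.affineOpens, ∃ J : (U.1 : Scheme).IdealSheafData, ∀ {T : Scheme.{u}} (t : T ⟶ U.1) (i : ι)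
      (x : T ⟶ Q i), x ≫ g i = t ≫ U.1.ι → J.comap t = (I i).comap x := by
    intro U
    obtain ⟨n, f, V, hV, hUV⟩ := QuasiCompactCover.exists_isAffineOpen_of_isCompact
      (⟨ι, Q, g⟩ : PreZeroHypercover.{u} P) U.2.isCompact
    haveI : IsAffine (U.1 : Scheme) := U.2
    let κ := ULift.{u} (Fin n)
    let W : κ → Scheme.{u} := fun k => (V k.down : Scheme.{u})
    haveI : ∀ k, IsAffine (W k) := fun k => hV k.down
    have hle : ∀ k : κ, V k.down ≤ g (f k.down) ⁻¹ᵁ U.1 := fun k z hz =>
      hUV.le (Set.mem_iUnion.2 ⟨k.down, z, hz, rfl⟩)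
    let w : ∀ k, W k ⟶ (U.1 : Scheme) := fun k => (g (f k.down)).resLE U.1 (V k.down) (hle k)
    have hw : ∀ k, w k ≫ U.1.ι = (V k.down).ι ≫ g (f k.down) := fun k => Scheme.Hom.resLE_comp_ι _ _
    haveI : ∀ k, Flat (w k) := fun k => IsZariskiLocalAtSource.resLE _ (hflat _)
    have hws : ∀ z, ∃ k y, w k y = z := fun z => by
      obtain ⟨k, hk⟩ := Set.mem_iUnion.1 (hUV.ge z.2)
      obtain ⟨y, hy, e⟩ := hk
      refine ⟨⟨k⟩, ⟨y, hy⟩, U.1.ι.isOpenEmbedding.injective ?_⟩
      rw [← Scheme.Hom.comp_apply, hw]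
      exact e
    obtain ⟨J, hJ⟩ := exists_descend w (fun k => (I (f k.down)).comap (V k.down).ι) (fun k l => by
      rw [← Scheme.IdealSheafData.comap_comp, ← Scheme.IdealSheafData.comap_comp]
      refine hx _ _ ?_
      rw [Category.assoc, Category.assoc, ← hw, ← hw, pullback.condition_assoc])
    refine ⟨J, fun {T} t i x e => ?_⟩
    refine eq_of_flat_family (fun k => pullback.fst t (w k)) (fun z => ?_) fun k => ?_
    · obtain ⟨k, y, hy⟩ := hws (t z)
      obtain ⟨p, hp, -⟩ := Scheme.Pullback.exists_preimage_pullback (f := t) (g := w k) z y hy.symm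
      exact ⟨k, p, hp⟩
    · rw [← Scheme.IdealSheafData.comap_comp, pullback.condition, Scheme.IdealSheafData.comap_comp, hJ,
        ← Scheme.IdealSheafData.comap_comp, ← Scheme.IdealSheafData.comap_comp]
      refine hx _ _ ?_
      rw [Category.assoc, ← hw, ← pullback.condition_assoc, Category.assoc, e]
  choose JU hJU using hloc
  -- the ideals on affine opens
  let top : ∀ U : P.affineOpens, (U.1 : Scheme).affineOpens := fun U =>
    haveI : IsAffine (U.1 : Scheme) := U.2
    ⟨⊤, isAffineOpen_top _⟩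
  -- compatibility with restriction
  have hres : ∀ (U V : P.affineOpens) (e : U ≤ V), (JU V).comap (P.homOfLE e) = JU U := by
    intro U V e
    refine eq_of_flat_family (fun i => pullback.fst U.1.ι (g i)) (fun z => ?_) fun i => ?_
    · obtain ⟨i, y, hy⟩ := hsurj (U.1.ι z)
      obtain ⟨p, hp, -⟩ := Scheme.Pullback.exists_preimage_pullback (f := U.1.ι) (g := g i) z y hy.symm
      exact ⟨i, p, hp⟩
    · rw [← Scheme.IdealSheafData.comap_comp, hJU V _ i (pullback.snd _ _), hJU U _ i (pullback.snd _ _)]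
      · exact pullback.condition.symm
      · rw [Category.assoc, Scheme.homOfLE_ι]
        exact pullback.condition.symm
  suffices hex : ∃ J : P.IdealSheafData, ∀ U : P.affineOpens, J.comap U.1.ι = JU U by
    obtain ⟨J, hJ⟩ := hex
    refine ⟨J, fun i => ?_, fun K hK => eq_of_flat_family g hsurj fun i => ?_⟩
    · refine eq_of_flat_family (fun U : P.affineOpens => (g i ⁻¹ᵁ U.1).ι) (fun z => ?_) fun U => ?_
      · obtain ⟨U, hU, hzU, -⟩ := exists_isAffineOpen_mem_and_subset (x := g i z) (U := ⊤) trivial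
        exact ⟨⟨U, hU⟩, ⟨z, hzU⟩, rfl⟩
      · rw [← Scheme.IdealSheafData.comap_comp, ← morphismRestrict_ι, Scheme.IdealSheafData.comap_comp, hJ]
        exact hJU U _ i _ (morphismRestrict_ι _ _).symm
    · refine (hK i).trans (Eq.symm ?_)
      refine eq_of_flat_family (fun U : P.affineOpens => (g i ⁻¹ᵁ U.1).ι) (fun z => ?_) fun U => ?_
      · obtain ⟨U, hU, hzU, -⟩ := exists_isAffineOpen_mem_and_subset (x := g i z) (U := ⊤) trivial
        exact ⟨⟨U, hU⟩, ⟨z, hzU⟩, rfl⟩
      · rw [← Scheme.IdealSheafData.comap_comp, ← morphismRestrict_ι, Scheme.IdealSheafData.comap_comp, hJ]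
        exact hJU U _ i _ (morphismRestrict_ι _ _).symm
  have haff : ∀ U : P.affineOpens, IsAffine (U.1 : Scheme) := fun U => U.2
  let F : ∀ U : P.affineOpens, Ideal Γ(P, U.1) := fun U =>
    ((JU U).ideal (top U)).map U.1.topIso.hom.hom
  let J : P.IdealSheafData :=
    { ideal := F
      map_ideal_basicOpen := fun U f => by
        let V := P.affineBasicOpen f
        haveI := haff U
        haveI := haff V
        haveI : IsAffine (P.basicOpen f : Scheme) := haff V
        have e := comap_ideal_top_of_isAffine (P.homOfLE (P.basicOpen_le f : V.1 ≤ U.1)) (JU U)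
        rw [hres V U (P.basicOpen_le f)] at e
        show (F U).map _ = F V
        simp only [F, top]
        rw [e, Ideal.map_map, Ideal.map_map, ← CommRingCat.hom_comp, ← CommRingCat.hom_comp]
        refine congrArg (fun φ : Γ((U.1 : Scheme), ⊤) ⟶ Γ(P, V.1) => Ideal.map φ.hom ((JU U).ideal ⟨⊤, isAffineOpen_top _⟩)) ?_
        simp [Scheme.Opens.topIso_hom, Scheme.homOfLE_appTop, ← Functor.map_comp, V] }
  refine ⟨J, fun U => ?_⟩
  haveI := haff U
  refine Scheme.IdealSheafData.ext_of_isAffine ?_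
  rw [Scheme.IdealSheafData.ideal_comap_of_isOpenImmersion]
  let W : P.affineOpens := ⟨U.1.ι ''ᵁ ⊤, (isAffineOpen_top (U.1 : Scheme)).image_of_isOpenImmersion U.1.ι⟩
  have hWU : W ≤ U := show U.1.ι ''ᵁ ⊤ ≤ U.1 by simp
  show (J.ideal W).comap _ = _
  rw [← J.map_ideal hWU]
  show Ideal.comap _ ((((JU U).ideal (top U)).map _).map _) = _
  rw [Ideal.map_map, ← CommRingCat.hom_comp]
  have e : U.1.topIso.hom ≫ P.presheaf.map (homOfLE hWU).op = (U.1.ι.appIso ⊤).inv := by
    simp [Scheme.Opens.topIso_hom, ← Functor.map_comp]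
    exact P.presheaf.map_id _
  erw [e]
  exact Ideal.comap_map_of_bijective _ (ConcreteCategory.bijective_of_isIso (U.1.ι.appIso ⊤).inv)

end Groth.Agent.DescLib
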