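import Groth.Agent.DescLib.IndQATop

/-!
# Descent data whose scheme is ind-quasi-affine are effective (affine case)
-/

universe u

set_option autoImplicit false
set_option backward.isDefEq.respectTransparency false
set_option backward.isDefEq.respectTransparency.types false

open CategoryTheory CategoryTheory.Limits AlgebraicGeometry Opposite Desc TopologicalSpace

namespace Groth.Agent.DescLib.IndQA

variable {X S : Scheme.{u}} (p : X ⟶ S) [IsAffine X] [IsAffine S] [Flat p] [Surjective p] (D : SchDD p)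

/-- The quasi-compact opens between a set and an ambient open. -/
abbrev Idx (E : Set D.obj.left) (W₂ : D.obj.left.Opens) : Type u :=
  {W' : D.obj.left.Opens // IsCompact (W' : Set D.obj.left) ∧ E ⊆ W' ∧ W' ≤ W₂}

variable {E : Set D.obj.left} {W₂ : D.obj.left.Opens}

/-- The affine hull of an open. -/
noncomputable abbrev hull (W' : Idx p D E W₂) : Scheme.{u} := Spec Γ(W'.1.toScheme, ⊤)

/-- The map to the affine hull. -/
noncomputable abbrev jmap (W' : Idx p D E W₂) : W'.1.toScheme ⟶ hull p D W' := W'.1.toScheme.toSpecΓ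

/-- The transition maps between affine hulls. -/
noncomputable abbrev trans {W' W'' : Idx p D E W₂} (h : W' ≤ W'') : hull p D W' ⟶ hull p D W'' :=
  Spec.map (D.obj.left.homOfLE h).appTop

/-- The structure map of an affine hull. -/
noncomputable def vmap (W' : Idx p D E W₂) : hull p D W' ⟶ X :=
  Spec.map (W'.1.ι ≫ D.obj.hom).appTop ≫ X.isoSpec.inv

instance isIso_jmap (W' : Idx p D E W₂) : IsIso (jmap p D W').appTop := by
  rw [Scheme.toSpecΓ_appTop]; infer_instance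

lemma jmap_trans {W' W'' : Idx p D E W₂} (h : W' ≤ W'') :
    jmap p D W' ≫ trans p D h = D.obj.left.homOfLE h ≫ jmap p D W'' :=
  (Scheme.toSpecΓ_naturality _).symm

lemma jmap_vmap (W' : Idx p D E W₂) : jmap p D W' ≫ vmap p D W' = W'.1.ι ≫ D.obj.hom := by
  show W'.1.toScheme.toSpecΓ ≫ _ ≫ _ = _
  rw [← Scheme.toSpecΓ_naturality_assoc]
  exact (congrArg (_ ≫ ·) X.isoSpec.hom_inv_id).trans (Category.comp_id _)

lemma trans_vmap {W' W'' : Idx p D E W₂} (h : W' ≤ W'') : trans p D h ≫ vmap p D W'' = vmap p D W' := by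
  refine hom_ext_of_isIso_appTop (jmap p D W') ?_
  rw [reassoc_of% jmap_trans p D h, jmap_vmap, jmap_vmap, Scheme.homOfLE_ι_assoc]

lemma trans_refl (W' : Idx p D E W₂) : trans p D (le_refl W') = 𝟙 (hull p D W') := by
  refine hom_ext_of_isIso_appTop (jmap p D W') ?_
  rw [jmap_trans, Scheme.homOfLE_rfl]
  exact (Category.id_comp _).trans (Category.comp_id _).symm

variable (E W₂) in
/-- The system of affine hulls. -/
noncomputable def sys : Idx p D E W₂ ⥤ CommRingCat.{u}ᵒᵖ where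
  obj W' := op Γ(W'.1.toScheme, ⊤)
  map h := (D.obj.left.homOfLE (leOfHom h)).appTop.op
  map_id W' := by simp
  map_comp {A B C} f g := by
    rw [← op_comp, ← Scheme.Hom.comp_appTop, Scheme.homOfLE_homOfLE]

variable (E W₂) in
/-- The limit of the affine hulls. -/
noncomputable abbrev lim : Scheme.{u} := Spec (limit (sys p D E W₂)).unop

/-- The projections of the limit of the affine hulls. -/
noncomputable def proj (W' : Idx p D E W₂) : lim p D E W₂ ⟶ hull p D W' :=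
  Spec.map (limit.π (sys p D E W₂) W').unop

lemma proj_trans {W' W'' : Idx p D E W₂} (h : W' ≤ W'') : proj p D W' ≫ trans p D h = proj p D W'' := by
  rw [proj, trans, proj, ← Spec.map_comp]
  congr 1
  exact congrArg Quiver.Hom.unop (limit.w (sys p D E W₂) (homOfLE h))

lemma lim_hom_ext {T : Scheme.{u}} {a b : T ⟶ lim p D E W₂} (h : ∀ W', a ≫ proj p D W' = b ≫ proj p D W') :
    a = b :=
  (isLimitOfPreserves Scheme.Spec (limit.isLimit (sys p D E W₂))).hom_ext fun W' => h W'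

lemma exists_lim_lift {T : Scheme.{u}} (a : ∀ W' : Idx p D E W₂, T ⟶ hull p D W')
    (h : ∀ {W' W'' : Idx p D E W₂} (e : W' ≤ W''), a W' ≫ trans p D e = a W'') :
    ∃ b : T ⟶ lim p D E W₂, ∀ W', b ≫ proj p D W' = a W' := by
  let c : Cone (sys p D E W₂ ⋙ Scheme.Spec) :=
    { pt := T
      π := { app := a, naturality := fun W' W'' e => (Category.id_comp _).trans (h (leOfHom e)).symm } }
  exact ⟨(isLimitOfPreserves Scheme.Spec (limit.isLimit (sys p D E W₂))).lift c,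
    fun W' => (isLimitOfPreserves Scheme.Spec (limit.isLimit (sys p D E W₂))).fac c W'⟩

/-- An open subscheme datum containing a given point with effective descent. -/
theorem exists_sub (hV : MoreMor.IsIndQuasiAffine D.obj.left) (x₀ : D.obj.left) :
    ∃ (D' : SchDD p) (j : D' ⟶ D), IsOpenImmersion j.hom.left ∧
      x₀ ∈ Set.range j.hom.left.base ∧ ∃ U' : Over S, Nonempty ((toDD p).obj U' ≅ D') := by
  haveI := quasiSeparatedSpace_of_indQA hV
  obtain ⟨f₁, f₂, f₃, f₄⟩ := flat_and_qc p D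
  haveI : QuasiCompact (groupoid p D).s := f₄
  haveI : Flat (groupoid p D).s := f₃
  haveI : QuasiCompact (groupoid p D).t := f₂
  haveI : Flat (groupoid p D).t := f₁
  obtain ⟨_, ⟨W, hW', rfl⟩, hxW, -⟩ :=
    D.obj.left.isBasis_affineOpens.exists_subset_of_mem_open (Set.mem_univ x₀) isOpen_univ
  have hW : IsCompact (W : Set D.obj.left) := IsAffineOpen.isCompact hW'
  obtain ⟨O, W₁, hOst, hW₁, hWO, hOW₁⟩ : ∃ O W₁ : D.obj.left.Opens,
      pullback.fst (sv p D) p ⁻¹ᵁ O = d₁ p D ⁻¹ᵁ O ∧ IsCompact (W₁ : Set D.obj.left) ∧ W ≤ O ∧ O ≤ W₁ :=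
    GrpdLib.exists_invariant_open_between (groupoid p D) W hW
  let E : Set D.obj.left := GrpdLib.sat (groupoid p D) (SetLike.coe W₁)
  obtain ⟨hEc, hgen⟩ := sat_props p D W₁ hW₁
  have hW₁E : (W₁ : Set D.obj.left) ⊆ E := GrpdLib.subset_sat (groupoid p D) _
  obtain ⟨W₂, hW₂, hEW₂, -⟩ := MorLib.IQA.exists_compact_between (U := (⊤ : D.obj.left.Opens)) hEc (Set.subset_univ _)
  let top : Idx p D E W₂ := ⟨W₂, hW₂, hEW₂, le_rfl⟩
  haveI hqa : ∀ W' : Idx p D E W₂, (W'.1 : Scheme.{u}).IsQuasiAffine := fun W' => hV _ W'.2.1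
  let meet : Idx p D E W₂ → Idx p D E W₂ → Idx p D E W₂ := fun A B =>
    ⟨A.1 ⊓ B.1, QuasiSeparatedSpace.inter_isCompact _ _ A.1.isOpen A.2.1 B.1.isOpen B.2.1,
      Set.subset_inter A.2.2.1 B.2.2.1, (inf_le_left : A.1 ⊓ B.1 ≤ A.1).trans A.2.2.2⟩
  have hml : ∀ A B, meet A B ≤ A := fun A B => inf_le_left (a := A.1) (b := B.1)
  have hmr : ∀ A B, meet A B ≤ B := fun A B => inf_le_right (a := A.1) (b := B.1)
  let Step : Idx p D E W₂ → Idx p D E W₂ → Prop := fun A B =>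
    pullback.fst (sv p D) p ⁻¹ᵁ A.1 ≤ d₁ p D ⁻¹ᵁ B.1
  have hstep : ∀ B : Idx p D E W₂, ∃ A, Step A B := fun B => by
    obtain ⟨A, h₁, h₂, h₃, h₄⟩ := exists_step p D hEc hgen
      (fun r hr => (GrpdLib.mem_sat_iff (groupoid p D) _ r).1 hr) W₂ B.1 hEW₂ B.2.2.1
    exact ⟨⟨A, h₁, h₂, h₃⟩, h₄⟩
  choose stp hstp using hstep
  have stepMono : ∀ {A' A B B' : Idx p D E W₂}, A' ≤ A → Step A B → B ≤ B' → Step A' B' :=
    fun {A' A B B'} h₁ h h₂ => ((pullback.fst (sv p D) p).preimage_mono h₁).trans (h.trans ((d₁ p D).preimage_mono h₂))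
  -- transport on an open
  have hRqa : ∀ A : Idx p D E W₂, (pullback (A.1.ι ≫ sv p D) p).IsQuasiAffine := fun A => by
    haveI : IsAffineHom (pullback.fst (A.1.ι ≫ sv p D) p) :=
      MorphismProperty.pullback_fst (P := @IsAffineHom) _ _ inferInstance
    exact Scheme.IsQuasiAffine.of_isAffineHom (pullback.fst (A.1.ι ≫ sv p D) p)
  have eA : ∀ A : Idx p D E W₂, (pullback.fst (A.1.ι ≫ sv p D) p ≫ A.1.ι) ≫ sv p D =
      pullback.snd (A.1.ι ≫ sv p D) p ≫ p := fun A => (Category.assoc _ _ _).trans pullback.condition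
  let sh : Idx p D E W₂ → (hull p D top ⟶ S) := fun _ => vmap p D top ≫ p
  have hjs : ∀ A : Idx p D E W₂, jmap p D A ≫ vmap p D A ≫ p = A.1.ι ≫ sv p D := fun A => by
    rw [← Category.assoc, jmap_vmap, Category.assoc]
  let jR : ∀ A : Idx p D E W₂, pullback (A.1.ι ≫ sv p D) p ⟶ pullback (vmap p D A ≫ p) p := fun A =>
    pullback.map _ _ _ _ (jmap p D A) (𝟙 X) (𝟙 S) (by rw [Category.comp_id, hjs]) (by simp)
  haveI hjR : ∀ A, IsIso (jR A).appTop := fun A =>
    isIso_appTop_baseChange p (jmap p D A) (A.1.ι ≫ sv p D) (vmap p D A ≫ p) (hjs A)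
  have hg : ∀ {A B : Idx p D E W₂}, Step A B → ∃ g : pullback (A.1.ι ≫ sv p D) p ⟶ B.1.toScheme,
      g ≫ B.1.ι = tr p D (pullback.fst _ _ ≫ A.1.ι) (pullback.snd _ _) (eA A) := fun {A B} h => by
    refine ⟨IsOpenImmersion.lift B.1.ι _ ?_, IsOpenImmersion.lift_fac _ _ _⟩
    rintro _ ⟨z, rfl⟩
    rw [B.1.range_ι, ← lift_d₁ p D _ _ (eA A)]
    refine h ?_
    show pullback.fst (sv p D) p (pullback.lift _ _ (eA A) z) ∈ A.1
    rw [← Scheme.Hom.comp_apply, pullback.lift_fst, Scheme.Hom.comp_apply]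
    exact (pullback.fst (A.1.ι ≫ sv p D) p z).2
  choose g hg using @hg
  have hr : ∀ {A B : Idx p D E W₂} (h : Step A B), ∃ r : pullback (vmap p D A ≫ p) p ⟶ hull p D B,
      jR A ≫ r = g h ≫ jmap p D B := fun {A B} h => exists_extend_of_isIso_appTop (jR A) _
  choose r hr using @hr
  have hrv : ∀ {A B : Idx p D E W₂} (h : Step A B), r h ≫ vmap p D B = pullback.snd _ _ := fun {A B} h => by
    refine hom_ext_of_isIso_appTop (jR A) ?_
    rw [reassoc_of% hr h, jmap_vmap, reassoc_of% hg h, tr_hom, pullback.lift_snd, Category.comp_id]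
  let tmap : ∀ {A' A : Idx p D E W₂}, A' ≤ A → (pullback (vmap p D A' ≫ p) p ⟶ pullback (vmap p D A ≫ p) p) :=
    fun {A' A} h => pullback.map _ _ _ _ (trans p D h) (𝟙 X) (𝟙 S)
      (by rw [Category.comp_id, ← Category.assoc, trans_vmap p D h]) (by simp)
  have hres : ∀ {A' A B B' : Idx p D E W₂} (h₁ : A' ≤ A) (h : Step A B) (h₂ : B ≤ B'),
      tmap h₁ ≫ r h ≫ trans p D h₂ = r (stepMono h₁ h h₂) := fun {A' A B B'} h₁ h h₂ => by
    refine hom_ext_of_isIso_appTop (jR A') ?_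
    let t0 : pullback (A'.1.ι ≫ sv p D) p ⟶ pullback (A.1.ι ≫ sv p D) p :=
      pullback.map _ _ _ _ (D.obj.left.homOfLE h₁) (𝟙 X) (𝟙 S)
        (by rw [Category.comp_id, Scheme.homOfLE_ι_assoc]) (by simp)
    have ht : jR A' ≫ tmap h₁ = t0 ≫ jR A := by
      apply pullback.hom_ext
      · simp [jR, tmap, t0, jmap_trans p D h₁]
      · simp [jR, tmap, t0]
    rw [reassoc_of% ht, reassoc_of% hr h, jmap_trans p D h₂, hr (stepMono h₁ h h₂), ← Category.assoc (g h),
      ← Category.assoc t0]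
    congr 1
    rw [← cancel_mono B'.1.ι, Category.assoc, Category.assoc, Scheme.homOfLE_ι, hg h, hg (stepMono h₁ h h₂)]
    exact tr_nat p D t0 _ _ _ _ _ (by simp [t0]) (by simp [t0]) _
  -- points of the limit
  let Z : Scheme.{u} := lim p D E W₂
  let vZ : Z ⟶ X := proj p D top ≫ vmap p D top
  have hvZ : ∀ A, proj p D A ≫ vmap p D A = vZ := fun A => by
    show _ = proj p D top ≫ vmap p D top
    rw [← proj_trans p D (show A ≤ top from A.2.2.2), Category.assoc, trans_vmap]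
  have hpt : ∀ {T : Scheme.{u}} {x₀ : T ⟶ X} (a : Lifts (Over.mk vZ) x₀) (A : Idx p D E W₂) (x₁ : T ⟶ X),
      x₀ ≫ p = x₁ ≫ p → (a.1 ≫ proj p D A) ≫ vmap p D A ≫ p = x₁ ≫ p := fun {T x₀} a A x₁ h => by
    rw [Category.assoc, ← Category.assoc (proj p D A), hvZ A, ← Category.assoc, show a.1 ≫ vZ = x₀ from a.2, h]
  let val : ∀ {T : Scheme.{u}} {x₀ : T ⟶ X} (x₁ : T ⟶ X), x₀ ≫ p = x₁ ≫ p → Lifts (Over.mk vZ) x₀ →
      ∀ {A B : Idx p D E W₂}, Step A B → (T ⟶ hull p D B) := fun {T x₀} x₁ h a {A B} hs =>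
    pullback.lift (a.1 ≫ proj p D A) x₁ (hpt a A x₁ h) ≫ r hs
  have hval : ∀ {T : Scheme.{u}} {x₀ : T ⟶ X} (x₁ : T ⟶ X) (h : x₀ ≫ p = x₁ ≫ p) (a : Lifts (Over.mk vZ) x₀)
      {A A' B B' : Idx p D E W₂} (hs : Step A B) (hB : B ≤ B') (hs' : Step A' B'),
      val x₁ h a hs ≫ trans p D hB = val x₁ h a hs' := by
    intro T x₀ x₁ h a A A' B B' hs hB hs'
    have hA : meet A A' ≤ A := hml _ _
    have hA' : meet A A' ≤ A' := hmr _ _
    have hl : ∀ {A₀ : Idx p D E W₂} (h₀ : meet A A' ≤ A₀), pullback.lift (a.1 ≫ proj p D A₀) x₁ (hpt a A₀ x₁ h) =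
        pullback.lift (a.1 ≫ proj p D (meet A A')) x₁ (hpt a _ x₁ h) ≫ tmap h₀ := fun h₀ =>
      pullback.hom_ext (by simp [tmap, proj_trans p D h₀]) (by simp [tmap])
    show (_ ≫ r hs) ≫ _ = _ ≫ r hs'
    rw [hl hA, hl hA', Category.assoc, Category.assoc, Category.assoc, hres hA hs hB]
    congr 1
    have := hres hA' hs' (le_refl B')
    rw [trans_refl, Category.comp_id] at this
    exact this.symm
  have hτ : ∀ {T : Scheme.{u}} {x₀ : T ⟶ X} (x₁ : T ⟶ X) (h : x₀ ≫ p = x₁ ≫ p) (a : Lifts (Over.mk vZ) x₀),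
      ∃ b : Lifts (Over.mk vZ) x₁, ∀ {A B : Idx p D E W₂} (hs : Step A B), b.1 ≫ proj p D B = val x₁ h a hs := by
    intro T x₀ x₁ h a
    obtain ⟨b, hb⟩ := exists_lim_lift p D (fun B => val x₁ h a (hstp B))
      fun {B B'} e => hval x₁ h a (hstp B) e (hstp B')
    have hb' : ∀ {A B : Idx p D E W₂} (hs : Step A B), b ≫ proj p D B = val x₁ h a hs := fun {A B} hs => by
      rw [hb, ← hval x₁ h a hs le_rfl (hstp B), trans_refl, Category.comp_id]
    refine ⟨⟨b, ?_⟩, hb'⟩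
    show b ≫ proj p D top ≫ vmap p D top = x₁
    rw [← Category.assoc, hb top, Category.assoc, hrv, pullback.lift_snd]
  choose τ hτ using @hτ
  have τ_self : ∀ {T : Scheme.{u}} {x₀ : T ⟶ X} (h : x₀ ≫ p = x₀ ≫ p) (a : Lifts (Over.mk vZ) x₀),
      τ x₀ h a = a := by
    intro T x₀ h a
    refine Subtype.ext (lim_hom_ext p D fun B => ?_)
    let A := meet (stp B) B
    have hs : Step A B := stepMono (hml _ _) (hstp B) le_rfl
    rw [hτ _ _ a hs]
    let σ : hull p D A ⟶ pullback (vmap p D A ≫ p) p := pullback.lift (𝟙 _) (vmap p D A) (by simp)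
    have hσ : σ ≫ r hs = trans p D (show A ≤ B from hmr _ _) := by
      haveI := isIso_jmap p D A
      refine hom_ext_of_isIso_appTop (jmap p D A) ?_
      let σ0 : A.1.toScheme ⟶ pullback (A.1.ι ≫ sv p D) p :=
        pullback.lift (𝟙 _) (A.1.ι ≫ D.obj.hom) (by simp)
      have h0 : jmap p D A ≫ σ = σ0 ≫ jR A := by
        apply pullback.hom_ext
        · simp [σ, σ0, jR] <;> exact (Category.id_comp _).symm
        · simp [σ, σ0, jR, jmap_vmap]
      rw [reassoc_of% h0, hr hs, jmap_trans, ← Category.assoc]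
      congr 1
      rw [← cancel_mono B.1.ι, Category.assoc, hg hs, Scheme.homOfLE_ι]
      exact (tr_nat p D σ0 _ _ _ A.1.ι (A.1.ι ≫ D.obj.hom) (by simp [σ0] <;> exact Category.id_comp _) (by simp [σ0]) (by simp)).trans
        (tr_self p D _ _ rfl _)
    have hl : pullback.lift (a.1 ≫ proj p D A) x₀ (hpt a A x₀ h) = (a.1 ≫ proj p D A) ≫ σ := by
      apply pullback.hom_ext
      · simp [σ]
      · rw [pullback.lift_snd, Category.assoc, pullback.lift_snd, Category.assoc, hvZ]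
        exact a.2.symm
    show pullback.lift _ _ _ ≫ r hs = _
    rw [hl, Category.assoc, hσ, Category.assoc, proj_trans]
  have τ_comp : ∀ {T : Scheme.{u}} {x₀ : T ⟶ X} (x₁ x₂ : T ⟶ X) (h : x₀ ≫ p = x₁ ≫ p) (h' : x₁ ≫ p = x₂ ≫ p)
      (a : Lifts (Over.mk vZ) x₀), τ x₂ h' (τ x₁ h a) = τ x₂ (h.trans h') a := by
    intro T x₀ x₁ x₂ h h' a
    refine Subtype.ext (lim_hom_ext p D fun B => ?_)
    let M := stp B
    let A := meet (stp M) (stp B)
    have hAM : Step A M := stepMono (hml _ _) (hstp M) le_rfl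
    have hAB : Step A B := stepMono (hmr _ _) (hstp B) le_rfl
    have hMB : Step M B := hstp B
    rw [hτ _ _ _ hMB, hτ _ _ _ hAB]
    show pullback.lift _ _ _ ≫ r hMB = pullback.lift _ _ _ ≫ r hAB
    let sA : pullback (vmap p D A ≫ p) p ⟶ S := pullback.fst _ _ ≫ vmap p D A ≫ p
    have hrs : r hAM ≫ vmap p D M ≫ p = sA := by
      rw [reassoc_of% hrv hAM]; exact pullback.condition.symm
    let F₀ : pullback sA p ⟶ pullback (vmap p D A ≫ p) p :=
      pullback.map _ _ _ _ (pullback.fst _ _) (𝟙 X) (𝟙 S) (by simp [sA]) (by simp)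
    let F₁ : pullback sA p ⟶ pullback (vmap p D M ≫ p) p :=
      pullback.map _ _ _ _ (r hAM) (𝟙 X) (𝟙 S) (by simp [hrs]) (by simp)
    have key : F₁ ≫ r hMB = F₀ ≫ r hAB := by
      let s0 : pullback (A.1.ι ≫ sv p D) p ⟶ S := pullback.fst _ _ ≫ A.1.ι ≫ sv p D
      have hm : jR A ≫ sA = s0 := by simp [jR, sA, s0, hjs]
      let J : pullback s0 p ⟶ pullback sA p :=
        pullback.map _ _ _ _ (jR A) (𝟙 X) (𝟙 S) (by rw [Category.comp_id, hm]) (by simp)
      haveI := hRqa A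
      haveI : IsIso J.appTop := isIso_appTop_baseChange p (jR A) s0 sA hm
      refine hom_ext_of_isIso_appTop J ?_
      have hgs : g hAM ≫ M.1.ι ≫ sv p D = s0 := by
        rw [reassoc_of% hg hAM, tr_sv]; exact pullback.condition.symm
      let G₀ : pullback s0 p ⟶ pullback (A.1.ι ≫ sv p D) p :=
        pullback.map _ _ _ _ (pullback.fst _ _) (𝟙 X) (𝟙 S) (by simp [s0]) (by simp)
      let G₁ : pullback s0 p ⟶ pullback (M.1.ι ≫ sv p D) p :=
        pullback.map _ _ _ _ (g hAM) (𝟙 X) (𝟙 S) (by simp [hgs]) (by simp)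
      have h0 : J ≫ F₀ = G₀ ≫ jR A := by
        apply pullback.hom_ext <;> simp [J, F₀, G₀, jR]
      have h1 : J ≫ F₁ = G₁ ≫ jR M := by
        apply pullback.hom_ext
        · simp [J, F₁, G₁, jR, hr hAM]
        · simp [J, F₁, G₁, jR]
      rw [reassoc_of% h1, reassoc_of% h0, hr hMB, hr hAB, ← Category.assoc G₁ (g hMB), ← Category.assoc G₀ (g hAB)]
      congr 1
      rw [← cancel_mono B.1.ι, Category.assoc, Category.assoc, hg hMB, hg hAB]
      let a₀ : pullback s0 p ⟶ D.obj.left := pullback.fst _ _ ≫ pullback.fst _ _ ≫ A.1.ι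
      let y₁ : pullback s0 p ⟶ X := pullback.fst _ _ ≫ pullback.snd _ _
      let y₂ : pullback s0 p ⟶ X := pullback.snd s0 p
      have e₁ : a₀ ≫ sv p D = y₁ ≫ p := by
        simp only [a₀, y₁, Category.assoc]
        exact congrArg (pullback.fst s0 p ≫ ·) pullback.condition
      have e₂ : a₀ ≫ sv p D = y₂ ≫ p := by
        simp only [a₀, y₂, Category.assoc]
        exact pullback.condition
      have hb : pullback.fst s0 p ≫ g hAM ≫ M.1.ι = tr p D a₀ y₁ e₁ := by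
        rw [hg hAM]
        exact tr_nat p D _ _ _ _ _ _ rfl rfl _
      have e₃ : tr p D a₀ y₁ e₁ ≫ sv p D = y₂ ≫ p := by rw [tr_sv, ← e₁, e₂]
      rw [tr_nat p D G₁ _ _ _ (tr p D a₀ y₁ e₁) y₂ (by rw [← hb]; simp [G₁]) (by simp [G₁, y₂]) e₃,
        tr_comp p D a₀ y₁ y₂ e₁ e₃ e₂]
      exact (tr_nat p D G₀ _ _ _ _ _ (by simp [G₀, a₀]) (by simp [G₀, y₂]) _).symm
    let q : T ⟶ pullback sA p := pullback.lift (pullback.lift (a.1 ≫ proj p D A) x₁ (hpt a A x₁ h)) x₂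
      (by simp only [sA, pullback.lift_fst_assoc]; exact hpt a A x₂ (h.trans h'))
    have h0 : pullback.lift (a.1 ≫ proj p D A) x₂ (hpt a A x₂ (h.trans h')) = q ≫ F₀ := by
      apply pullback.hom_ext <;> simp [q, F₀]
    have h1 : pullback.lift ((τ x₁ h a).1 ≫ proj p D M) x₂ (hpt (τ x₁ h a) M x₂ h') = q ≫ F₁ := by
      apply pullback.hom_ext
      · simp only [pullback.lift_fst, Category.assoc, q, F₁, hτ x₁ h a hAM, pullback.lift_fst_assoc]
        rfl
      · simp [q, F₁]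
    rw [h0, h1, Category.assoc, Category.assoc, key]
  have τ_nat : ∀ {T T' : Scheme.{u}} (q : T' ⟶ T) {x₀ x₁ : T ⟶ X} (h : x₀ ≫ p = x₁ ≫ p)
      (h' : (q ≫ x₀) ≫ p = (q ≫ x₁) ≫ p) (a : Lifts (Over.mk vZ) x₀) (a' : Lifts (Over.mk vZ) (q ≫ x₀)),
      a'.1 = q ≫ a.1 → (τ (q ≫ x₁) h' a').1 = q ≫ (τ x₁ h a).1 := by
    intro T T' q x₀ x₁ h h' a a' ha
    refine lim_hom_ext p D fun B => ?_
    rw [Category.assoc, hτ _ _ _ (hstp B), hτ _ _ _ (hstp B)]
    show _ = q ≫ _ ≫ _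
    rw [← Category.assoc q]
    show pullback.lift _ _ _ ≫ _ = _
    congr 1
    apply pullback.hom_ext <;> simp [ha]
  let DZ : SchDD p :=
    { obj := Over.mk vZ
      φ := fun T x₀ x₁ h =>
        { toFun := τ x₁ h
          invFun := τ x₀ h.symm
          left_inv := fun a => (τ_comp x₁ x₀ h h.symm a).trans (τ_self rfl a)
          right_inv := fun a => (τ_comp x₀ x₁ h.symm h a).trans (τ_self rfl a) }
      φ_natural := fun T T' q x₀ x₁ h h' a a' ha => τ_nat q h h' a a' ha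
      φ_self := fun T x a => τ_self rfl a
      φ_comp := fun T x₀ x₁ x₂ h h' a => τ_comp x₁ x₂ h h' a }
  -- the open immersion of `W₁`
  have hW₁le : ∀ A : Idx p D E W₂, W₁ ≤ A.1 := fun A x hx => A.2.2.1 (hW₁E hx)
  obtain ⟨j₁, hj₁⟩ := exists_lim_lift p D (fun A => D.obj.left.homOfLE (hW₁le A) ≫ jmap p D A)
    fun {A A'} e => by rw [Category.assoc, jmap_trans, Scheme.homOfLE_homOfLE_assoc]
  haveI : IsOpenImmersion j₁ := by
    let k : W₁.toScheme ⟶ hull p D top := D.obj.left.homOfLE (hW₁le top) ≫ jmap p D top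
    let T₁ : Z.Opens := proj p D top ⁻¹ᵁ k.opensRange
    let l : W₁.toScheme ⟶ T₁.toScheme := IsOpenImmersion.lift T₁.ι j₁ (by
      rintro _ ⟨w, rfl⟩
      rw [T₁.range_ι]
      exact ⟨w, by rw [← Scheme.Hom.comp_apply, hj₁]⟩)
    have hl : l ≫ T₁.ι = j₁ := IsOpenImmersion.lift_fac _ _ _
    let g₁ : T₁.toScheme ⟶ W₁.toScheme := IsOpenImmersion.lift k (T₁.ι ≫ proj p D top) (by
      rintro _ ⟨z, rfl⟩
      exact z.2)
    have hg₁ : g₁ ≫ k = T₁.ι ≫ proj p D top := IsOpenImmersion.lift_fac _ _ _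
    have hlg : l ≫ g₁ = 𝟙 _ := by
      rw [← cancel_mono k, Category.assoc, hg₁, reassoc_of% hl, hj₁, Category.id_comp]
    have hgj : g₁ ≫ j₁ = T₁.ι := lim_hom_ext p D fun A => by
      rw [Category.assoc, hj₁]
      have hA : A ≤ top := A.2.2.2
      have e : (g₁ ≫ D.obj.left.homOfLE (hW₁le A) ≫ jmap p D A) ≫ trans p D hA =
          (T₁.ι ≫ proj p D A) ≫ trans p D hA := by
        rw [Category.assoc, Category.assoc, Category.assoc, jmap_trans, proj_trans, Scheme.homOfLE_homOfLE_assoc]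
        exact hg₁
      have hloc : ∀ z : T₁.toScheme, ∃ f : Γ(W₂.toScheme, ⊤), (g₁ ≫ k) z ∈ PrimeSpectrum.basicOpen f ∧
          W₂.toScheme.basicOpen f ≤ (D.obj.left.homOfLE (show A.1 ≤ W₂ from hA)).opensRange := fun z => by
        obtain ⟨_, ⟨f, rfl⟩, hf, hfle⟩ := PrimeSpectrum.isTopologicalBasis_basic_opens.exists_subset_of_mem_open
          (show (g₁ ≫ k) z ∈ k.opensRange from ⟨g₁ z, rfl⟩) k.opensRange.isOpen
        refine ⟨f, hf, fun w hw => ?_⟩
        rw [← Scheme.toSpecΓ_preimage_basicOpen] at hw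
        obtain ⟨w₁, hw₁⟩ := hfle hw
        refine ⟨D.obj.left.homOfLE (hW₁le A) w₁, ?_⟩
        apply (jmap p D top).isOpenEmbedding.injective
        refine Eq.trans ?_ hw₁
        rw [← Scheme.Hom.comp_apply, ← Scheme.Hom.comp_apply, Scheme.homOfLE_homOfLE_assoc]
      choose f hf hfle using hloc
      haveI : (W₂ : Scheme.{u}).IsQuasiAffine := hqa top
      haveI := hqa A
      let 𝒰 : T₁.toScheme.OpenCover := Scheme.Cover.mkOfCovers T₁.toScheme
        (fun z => ((g₁ ≫ k) ⁻¹ᵁ PrimeSpectrum.basicOpen (f z)).toScheme) (fun z => Scheme.Opens.ι _)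
        fun z => ⟨z, ⟨z, hf z⟩, rfl⟩
      refine 𝒰.hom_ext _ _ fun z => ?_
      refine ext_over_basicOpen (D.obj.left.homOfLE (show A.1 ≤ W₂ from hA)) (f z) (hfle z) _ _
        ((Category.assoc _ _ _).trans ((congrArg _ e).trans (Category.assoc _ _ _).symm)) fun t => ?_
      have e' : (𝒰.f z ≫ g₁ ≫ D.obj.left.homOfLE (hW₁le A) ≫ jmap p D A) ≫ trans p D hA =
          𝒰.f z ≫ g₁ ≫ k := by
        simp only [Category.assoc, jmap_trans, Scheme.homOfLE_homOfLE_assoc, k]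
      show ((𝒰.f z ≫ _) ≫ trans p D hA) t ∈ _
      rw [e']
      exact t.2
    have hgl : g₁ ≫ l = 𝟙 _ := by
      rw [← cancel_mono T₁.ι, Category.assoc, hl, hgj, Category.id_comp]
    haveI : IsIso l := ⟨g₁, hlg, hgl⟩
    rw [← hl]; infer_instance
  -- the stable open
  have hOst' : ∀ {T : Scheme.{u}} (a : T ⟶ D.obj.left) (x : T ⟶ X) (e : a ≫ sv p D = x ≫ p) (t : T),
      a t ∈ O → tr p D a x e t ∈ O := fun a x e t ht => by
    rw [← lift_d₁ p D a x e, Scheme.Hom.comp_apply]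
    show pullback.lift a x e t ∈ d₁ p D ⁻¹ᵁ O
    rw [← hOst]
    show pullback.fst (sv p D) p (pullback.lift a x e t) ∈ O
    rw [← Scheme.Hom.comp_apply, pullback.lift_fst]
    exact ht
  let vO : O.toScheme ⟶ X := O.ι ≫ D.obj.hom
  have hptO : ∀ {T : Scheme.{u}} {x₀ : T ⟶ X} (a : Lifts (Over.mk vO) x₀) (x₁ : T ⟶ X), x₀ ≫ p = x₁ ≫ p →
      (a.1 ≫ O.ι) ≫ sv p D = x₁ ≫ p := fun {T x₀} a x₁ h => by
    rw [← Category.assoc, Category.assoc a.1, show a.1 ≫ O.ι ≫ D.obj.hom = x₀ from a.2, h]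
  have hτO : ∀ {T : Scheme.{u}} {x₀ : T ⟶ X} (x₁ : T ⟶ X) (h : x₀ ≫ p = x₁ ≫ p) (a : Lifts (Over.mk vO) x₀),
      ∃ b : Lifts (Over.mk vO) x₁, b.1 ≫ O.ι = tr p D (a.1 ≫ O.ι) x₁ (hptO a x₁ h) := fun {T x₀} x₁ h a => by
    have hs : Set.range (tr p D (a.1 ≫ O.ι) x₁ (hptO a x₁ h)) ⊆ Set.range O.ι := by
      rintro _ ⟨t, rfl⟩
      rw [O.range_ι]
      exact hOst' _ _ _ t (a.1 t).2
    refine ⟨⟨IsOpenImmersion.lift O.ι _ hs, ?_⟩, IsOpenImmersion.lift_fac _ _ _⟩
    show _ ≫ O.ι ≫ D.obj.hom = x₁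
    rw [IsOpenImmersion.lift_fac_assoc, tr_hom]
  choose σ hσ using @hτO
  have σ_comp : ∀ {T : Scheme.{u}} {x₀ : T ⟶ X} (x₁ x₂ : T ⟶ X) (h : x₀ ≫ p = x₁ ≫ p) (h' : x₁ ≫ p = x₂ ≫ p)
      (a : Lifts (Over.mk vO) x₀), σ x₂ h' (σ x₁ h a) = σ x₂ (h.trans h') a := fun x₁ x₂ h h' a => by
    refine Subtype.ext ((cancel_mono O.ι).1 ?_)
    rw [hσ x₂ (h.trans h') a]
    refine (hσ x₂ h' _).trans ((tr_congr p D (hσ x₁ h a) rfl _ ((tr_sv p D _ _ _).trans h')).trans ?_)
    exact tr_comp p D _ _ _ _ _ _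
  have σ_self : ∀ {T : Scheme.{u}} {x₀ : T ⟶ X} (h : x₀ ≫ p = x₀ ≫ p) (a : Lifts (Over.mk vO) x₀),
      σ x₀ h a = a := fun h a => by
    refine Subtype.ext ((cancel_mono O.ι).1 ?_)
    rw [hσ]
    exact tr_self p D _ _ ((Category.assoc _ _ _).trans a.2) _
  let DO : SchDD p :=
    { obj := Over.mk vO
      φ := fun T x₀ x₁ h =>
        { toFun := σ x₁ h
          invFun := σ x₀ h.symm
          left_inv := fun a => (σ_comp x₁ x₀ h h.symm a).trans (σ_self rfl a)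
          right_inv := fun a => (σ_comp x₀ x₁ h.symm h a).trans (σ_self rfl a) }
      φ_natural := fun T T' q x₀ x₁ h h' a a' ha => by
        show (σ (q ≫ x₁) h' a').1 = q ≫ (σ x₁ h a).1
        rw [← cancel_mono O.ι, Category.assoc, hσ, hσ]
        exact (tr_nat p D q _ _ _ _ _ (by rw [ha, Category.assoc]) rfl _).symm
      φ_self := fun T x a => σ_self rfl a
      φ_comp := fun T x₀ x₁ x₂ h h' a => σ_comp x₁ x₂ h h' a }
  -- the two maps
  let jD : DO ⟶ D := ⟨Over.homMk O.ι rfl, fun T x₀ x₁ h a b hb => by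
    show (D.φ x₀ x₁ h b).1 = (σ x₁ h a).1 ≫ O.ι
    rw [hσ]
    have e : b.1 ≫ sv p D = x₁ ≫ p := by rw [hb]; exact hptO a x₁ h
    exact (GlueFam.φ_val ((SchDDFam.ofSchDD.{u} p).obj D) (i := PUnit.unit) (k := PUnit.unit) h b e).trans
      (tr_congr p D hb rfl _ _)⟩
  let kO : O.toScheme ⟶ Z := D.obj.left.homOfLE hOW₁ ≫ j₁
  have hkO : ∀ A, kO ≫ proj p D A = D.obj.left.homOfLE (hOW₁.trans (hW₁le A)) ≫ jmap p D A := fun A => by
    rw [Category.assoc, hj₁, Scheme.homOfLE_homOfLE_assoc]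
  have hkv : kO ≫ vZ = vO := by
    show kO ≫ proj p D top ≫ vmap p D top = _
    rw [reassoc_of% hkO, jmap_vmap, Scheme.homOfLE_ι_assoc]
  let jZ : DO ⟶ DZ := ⟨Over.homMk kO hkv, fun T x₀ x₁ h a b hb => by
    show (τ x₁ h b).1 = (σ x₁ h a).1 ≫ kO
    refine lim_hom_ext p D fun B => ?_
    let A := stp B
    rw [hτ _ _ _ (hstp B), Category.assoc, hkO]
    show pullback.lift _ _ _ ≫ r _ = _
    let aA : T ⟶ A.1.toScheme := a.1 ≫ D.obj.left.homOfLE (hOW₁.trans (hW₁le A))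
    have ea : aA ≫ A.1.ι ≫ sv p D = x₁ ≫ p := by
      simp only [aA, Category.assoc, Scheme.homOfLE_ι_assoc]
      rw [← Category.assoc]; exact hptO a x₁ h
    have hl : pullback.lift (b.1 ≫ proj p D A) x₁ (hpt b A x₁ h) = pullback.lift aA x₁ ea ≫ jR A := by
      apply pullback.hom_ext
      · rw [pullback.lift_fst, Category.assoc, hb, pullback.lift_fst, pullback.lift_fst_assoc, Category.assoc]
        exact (congrArg (a.1 ≫ ·) (hkO A)).trans (Category.assoc _ _ _).symm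
      · simp [jR]
    rw [hl, Category.assoc, hr, ← Category.assoc, ← Category.assoc ((σ x₁ h a).1)]
    congr 1
    rw [← cancel_mono B.1.ι, Category.assoc, Category.assoc, Scheme.homOfLE_ι, hg, hσ]
    exact tr_nat p D _ _ _ _ _ _ (by simp [aA]) (by simp) _⟩
  haveI : IsAffine DZ.obj.left := inferInstanceAs (IsAffine (Spec _))
  haveI : IsOpenImmersion (((SchDDFam.ofSchDD.{u} p).map jZ).hom ⟨⟩).left :=
    inferInstanceAs (IsOpenImmersion (D.obj.left.homOfLE hOW₁ ≫ j₁))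
  haveI : QuasiCompact p := inferInstance
  exact ⟨DO, jD, inferInstanceAs (IsOpenImmersion O.ι), ⟨⟨x₀, hWO hxW⟩, rfl⟩,
    exists_of_rep p DO (rep_of_openSub ((SchDDFam.ofSchDD.{u} p).map jZ) (rep_of_exists p DZ (effective_affine p DZ)))⟩

/-- A descent datum between affine schemes with ind-quasi-affine underlying scheme is effective. -/
theorem effective_indQA (hV : MoreMor.IsIndQuasiAffine D.obj.left) :
    ∃ U : Over S, Nonempty ((toDD p).obj U ≅ D) :=
  effective_of_locally_effective p D fun v => exists_sub p D hV v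

end Groth.Agent.DescLib.IndQA
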