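import Groth.Agent.DescLib.QAffineDesc
import Groth.Agent.GrpdLib.OrbitTop
import Groth.Agent.MorLib.IndQA
import Groth.Prelude.Def_MoreMor

/-!
# The groupoid of a descent datum, and affine hulls of quasi-compact opens
-/

universe u

set_option autoImplicit false
set_option backward.isDefEq.respectTransparency false
set_option backward.isDefEq.respectTransparency.types false

open CategoryTheory CategoryTheory.Limits AlgebraicGeometry Opposite Desc

namespace Groth.Agent.DescLib.IndQA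

/-- Two maps into the affine hull of an open agree over a basic open of the ambient hull inside it. -/
lemma ext_over_basicOpen {W' W : Scheme.{u}} [CompactSpace W] [QuasiSeparatedSpace W] [CompactSpace W']
    [QuasiSeparatedSpace W'] (i : W' ⟶ W) [IsOpenImmersion i] (f : Γ(W, ⊤))
    (hle : W.basicOpen f ≤ i.opensRange) {T : Scheme.{u}} (g h : T ⟶ Spec Γ(W', ⊤))
    (e : g ≫ Spec.map i.appTop = h ≫ Spec.map i.appTop)
    (hr : ∀ t, (g ≫ Spec.map i.appTop) t ∈ PrimeSpectrum.basicOpen f) : g = h := by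
  let f' := i.appTop f
  have hU : W'.basicOpen f' = i ⁻¹ᵁ W.basicOpen f := (Scheme.preimage_basicOpen_top i f).symm
  haveI hl : IsLocalization.Away f' Γ(W', W'.basicOpen f') :=
    isLocalization_basicOpen_of_qcqs isCompact_univ isQuasiSeparated_univ f'
  haveI : IsLocalization.Away f Γ(W, W.basicOpen f) :=
    isLocalization_basicOpen_of_qcqs isCompact_univ isQuasiSeparated_univ f
  let r' : Γ(W', ⊤) ⟶ Γ(W', W'.basicOpen f') := W'.presheaf.map (homOfLE le_top).op
  let r : Γ(W, ⊤) ⟶ Γ(W, W.basicOpen f) := W.presheaf.map (homOfLE le_top).op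
  haveI : IsOpenImmersion (Spec.map r) := IsOpenImmersion.of_isLocalization f
  haveI : IsOpenImmersion (Spec.map r') := IsOpenImmersion.of_isLocalization f'
  have hrange : Set.range (Spec.map r') = (PrimeSpectrum.basicOpen f' : Set (PrimeSpectrum Γ(W', ⊤))) :=
    PrimeSpectrum.localization_away_comap_range _ f'
  have hg : Set.range g ⊆ Set.range (Spec.map r') := by
    rintro _ ⟨t, rfl⟩
    rw [hrange]
    exact hr t
  have hh : Set.range h ⊆ Set.range (Spec.map r') := by
    rintro _ ⟨t, rfl⟩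
    rw [hrange]
    have := hr t
    rw [e] at this
    exact this
  haveI : IsIso (i.app (W.basicOpen f)) := i.isIso_app _ hle
  have hsq : i.appTop ≫ r' = r ≫ i.app (W.basicOpen f) ≫ W'.presheaf.map (eqToHom hU).op := by
    simp only [r, r', Scheme.Hom.naturality_assoc, ← Functor.map_comp]
    rfl
  haveI : Mono (Spec.map r' ≫ Spec.map i.appTop) := by
    rw [← Spec.map_comp, hsq, Spec.map_comp]
    infer_instance
  rw [← IsOpenImmersion.lift_fac _ g hg, ← IsOpenImmersion.lift_fac _ h hh]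
  congr 1
  rw [← cancel_mono (Spec.map r' ≫ Spec.map i.appTop), IsOpenImmersion.lift_fac_assoc,
    IsOpenImmersion.lift_fac_assoc, e]

variable {X S : Scheme.{u}} (p : X ⟶ S) (D : SchDD p)

/-- The structure map of the datum to the base. -/
abbrev sv : D.obj.left ⟶ S := D.obj.hom ≫ p

lemma cond {T : Scheme.{u}} {a : T ⟶ D.obj.left} {x : T ⟶ X} (e : a ≫ sv p D = x ≫ p) :
    a ≫ ((((SchDDFam.ofSchDD.{u} p).obj D).obj ⟨⟩)).hom ≫ p = x ≫ p := e

/-- Transport of a point. -/
noncomputable def tr {T : Scheme.{u}} (a : T ⟶ D.obj.left) (x : T ⟶ X) (e : a ≫ sv p D = x ≫ p) :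
    T ⟶ D.obj.left :=
  GlueFam.tr ((SchDDFam.ofSchDD.{u} p).obj D) (i := PUnit.unit) (k := PUnit.unit) a x e

lemma tr_hom {T : Scheme.{u}} (a : T ⟶ D.obj.left) (x : T ⟶ X) (e : a ≫ sv p D = x ≫ p) :
    tr p D a x e ≫ D.obj.hom = x :=
  GlueFam.tr_hom ((SchDDFam.ofSchDD.{u} p).obj D) (i := PUnit.unit) (k := PUnit.unit) a x e

lemma tr_sv {T : Scheme.{u}} (a : T ⟶ D.obj.left) (x : T ⟶ X) (e : a ≫ sv p D = x ≫ p) :
    tr p D a x e ≫ sv p D = x ≫ p := by rw [← Category.assoc, tr_hom]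

lemma tr_nat {T T' : Scheme.{u}} (q : T' ⟶ T) (a : T ⟶ D.obj.left) (x : T ⟶ X) (e : a ≫ sv p D = x ≫ p)
    (a' : T' ⟶ D.obj.left) (x' : T' ⟶ X) (ha : q ≫ a = a') (hx : q ≫ x = x') (e' : a' ≫ sv p D = x' ≫ p) :
    q ≫ tr p D a x e = tr p D a' x' e' :=
  GlueFam.tr_nat ((SchDDFam.ofSchDD.{u} p).obj D) (i := PUnit.unit) (k := PUnit.unit) q a x e a' x' ha hx e'

lemma tr_comp {T : Scheme.{u}} (a : T ⟶ D.obj.left) (x z : T ⟶ X) (e : a ≫ sv p D = x ≫ p)
    (e₁ : tr p D a x e ≫ sv p D = z ≫ p) (e₂ : a ≫ sv p D = z ≫ p) :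
    tr p D (tr p D a x e) z e₁ = tr p D a z e₂ :=
  GlueFam.tr_comp ((SchDDFam.ofSchDD.{u} p).obj D) (i := PUnit.unit) (k := PUnit.unit) (l := PUnit.unit)
    a x z e e₁ e₂

lemma tr_self {T : Scheme.{u}} (a : T ⟶ D.obj.left) (x : T ⟶ X) (hx : a ≫ D.obj.hom = x)
    (e : a ≫ sv p D = x ≫ p) : tr p D a x e = a :=
  GlueFam.tr_self ((SchDDFam.ofSchDD.{u} p).obj D) (i := PUnit.unit) a x hx e

lemma tr_congr {T : Scheme.{u}} {a a' : T ⟶ D.obj.left} (ha : a = a') {x x' : T ⟶ X} (hx : x = x')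
    (e : a ≫ sv p D = x ≫ p) (e' : a' ≫ sv p D = x' ≫ p) : tr p D a x e = tr p D a' x' e' := by
  subst ha hx; rfl

/-- The target of the groupoid. -/
noncomputable def d₁ : pullback (sv p D) p ⟶ D.obj.left :=
  tr p D (pullback.fst _ _) (pullback.snd _ _) pullback.condition

lemma lift_d₁ {T : Scheme.{u}} (a : T ⟶ D.obj.left) (x : T ⟶ X) (e : a ≫ sv p D = x ≫ p) :
    pullback.lift a x e ≫ d₁ p D = tr p D a x e :=
  tr_nat p D _ _ _ _ _ _ (pullback.lift_fst _ _ _) (pullback.lift_snd _ _ _) e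

lemma d₁_hom : d₁ p D ≫ D.obj.hom = pullback.snd (sv p D) p := tr_hom p D _ _ _

lemma d₁_sv : d₁ p D ≫ sv p D = pullback.fst (sv p D) p ≫ sv p D := by
  rw [d₁, tr_sv]; exact pullback.condition.symm

/-- The groupoid of a descent datum. -/
noncomputable def groupoid : Grpd.GroupoidScheme S where
  U := D.obj.left
  R := pullback (sv p D) p
  pU := sv p D
  pR := pullback.fst (sv p D) p ≫ sv p D
  s := pullback.fst (sv p D) p
  t := d₁ p D
  e := pullback.lift (𝟙 _) D.obj.hom (Category.id_comp _)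
  i := pullback.lift (d₁ p D) (pullback.fst (sv p D) p ≫ D.obj.hom) (by rw [d₁_sv, Category.assoc])
  c := pullback.lift (pullback.snd (pullback.fst (sv p D) p) (d₁ p D) ≫ pullback.fst (sv p D) p)
    (pullback.fst (pullback.fst (sv p D) p) (d₁ p D) ≫ pullback.snd (sv p D) p) (by
      rw [Category.assoc, Category.assoc, ← d₁_sv p D, ← pullback.condition_assoc, ← pullback.condition])
  s_over := rfl
  t_over := d₁_sv p D
  comp_s α β h := by simp
  comp_t {T} α β h := by
    have e : (β ≫ pullback.fst (sv p D) p) ≫ sv p D = (β ≫ pullback.snd (sv p D) p) ≫ p := by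
      simp only [Category.assoc, pullback.condition]
    have eα : (α ≫ pullback.fst (sv p D) p) ≫ sv p D = (α ≫ pullback.snd (sv p D) p) ≫ p := by
      simp only [Category.assoc, pullback.condition]
    have hb : β ≫ d₁ p D = tr p D (β ≫ pullback.fst _ _) (β ≫ pullback.snd _ _) e :=
      tr_nat p D β _ _ _ _ _ rfl rfl _
    have e1 : tr p D (β ≫ pullback.fst _ _) (β ≫ pullback.snd _ _) e ≫ sv p D =
        (α ≫ pullback.snd (sv p D) p) ≫ p := by rw [← hb, ← h]; exact eα
    have e2 : (β ≫ pullback.fst (sv p D) p) ≫ sv p D = (α ≫ pullback.snd (sv p D) p) ≫ p :=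
      e.trans ((tr_sv p D _ _ e).symm.trans e1)
    rw [show α ≫ d₁ p D = tr p D (α ≫ pullback.fst _ _) (α ≫ pullback.snd _ _) eα from tr_nat p D α _ _ _ _ _ rfl rfl _,
      tr_congr p D (h.trans hb) rfl eα e1, tr_comp p D _ _ _ e e1 e2]
    exact tr_nat p D _ _ _ _ _ _ (by simp) (by simp) _
  assoc α β γ h₁ h₂ := by apply pullback.hom_ext <;> simp
  e_s := pullback.lift_fst _ _ _
  e_t := (lift_d₁ p D _ _ _).trans (tr_self p D _ _ (Category.id_comp _) _)
  comp_e {T} α := by
    apply pullback.hom_ext <;> simp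
  e_comp {T} α := by
    apply pullback.hom_ext
    · simp
    · simp [d₁_hom]
  i_s := pullback.lift_fst _ _ _
  i_t := by
    rw [lift_d₁]
    have e : d₁ p D ≫ sv p D = (pullback.fst (sv p D) p ≫ D.obj.hom) ≫ p := by rw [d₁_sv, Category.assoc]
    have e2 : pullback.fst (sv p D) p ≫ sv p D = (pullback.fst (sv p D) p ≫ D.obj.hom) ≫ p :=
      (Category.assoc _ _ _).symm
    exact (tr_comp p D _ _ _ pullback.condition e e2).trans (tr_self p D _ _ rfl _)
  comp_i {T} α := by
    apply pullback.hom_ext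
    · simp
    · simp [d₁_hom]
  i_comp {T} α := by
    apply pullback.hom_ext
    · simp
    · simp

end Groth.Agent.DescLib.IndQA
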