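import Groth.Agent.DescLib.IndQAHull

/-!
# Opens of a descent datum adapted to a saturated set; affine hulls of quasi-compact opens
-/

universe u

set_option autoImplicit false
set_option backward.isDefEq.respectTransparency false
set_option backward.isDefEq.respectTransparency.types false

open CategoryTheory CategoryTheory.Limits AlgebraicGeometry Opposite Desc TopologicalSpace

namespace Groth.Agent.DescLib.IndQA

variable {X S : Scheme.{u}}

lemma quasiSeparatedSpace_of_indQA {V : Scheme.{u}} (hV : MoreMor.IsIndQuasiAffine V) : QuasiSeparatedSpace V := by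
  refine ⟨fun U U' hU hUc hU' hU'c => ?_⟩
  let W : V.Opens := ⟨U ∪ U', hU.union hU'⟩
  have hW : IsCompact (W : Set V) := hUc.union hU'c
  haveI : (W : Scheme.{u}).IsQuasiAffine := hV W hW
  have hq : IsQuasiSeparated (W : Set V) :=
    (isQuasiSeparated_iff_quasiSeparatedSpace _ W.isOpen).2 (inferInstanceAs (QuasiSeparatedSpace (W : Scheme.{u})))
  exact hq U U' Set.subset_union_left hU hUc Set.subset_union_right hU' hU'c

variable (p : X ⟶ S) [IsAffine X] [IsAffine S] [Flat p] [Surjective p] (D : SchDD p)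

lemma flat_and_qc :
    Flat (d₁ p D) ∧ QuasiCompact (d₁ p D) ∧ Flat (pullback.fst (sv p D) p) ∧
      QuasiCompact (pullback.fst (sv p D) p) := by
  let i : pullback (sv p D) p ⟶ pullback (sv p D) p :=
    pullback.lift (d₁ p D) (pullback.fst (sv p D) p ≫ D.obj.hom) (by rw [d₁_sv, Category.assoc])
  have hit : i ≫ d₁ p D = pullback.fst (sv p D) p := (groupoid p D).i_t
  have hs : i ≫ pullback.fst (sv p D) p = d₁ p D := pullback.lift_fst _ _ _
  have hii : i ≫ i = 𝟙 _ := by
    apply pullback.hom_ext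
    · rw [Category.assoc, hs, hit, Category.id_comp]
    · rw [Category.assoc, pullback.lift_snd, ← Category.assoc, hs, d₁_hom, Category.id_comp]
  haveI : IsIso i := ⟨i, hii, hii⟩
  rw [← hs]
  exact ⟨inferInstance, inferInstance, inferInstance, inferInstance⟩

/-- The saturation of a quasi-compact open is quasi-compact and closed under generalization. -/
lemma sat_props (W : D.obj.left.Opens) (hW : IsCompact (W : Set D.obj.left)) :
    IsCompact (GrpdLib.sat (groupoid p D) (W : Set D.obj.left)) ∧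
    ∀ x y, y ∈ GrpdLib.sat (groupoid p D) (W : Set D.obj.left) → x ⤳ y →
      x ∈ GrpdLib.sat (groupoid p D) (W : Set D.obj.left) := by
  obtain ⟨h₁, -, -, h₄⟩ := flat_and_qc p D
  haveI : QuasiCompact (groupoid p D).s := h₄
  haveI : Flat (groupoid p D).t := h₁
  refine ⟨((groupoid p D).s.isCompact_preimage hW).image (groupoid p D).t.continuous, ?_⟩
  rintro x _ ⟨r, hr, rfl⟩ hxy
  obtain ⟨r', hr', e⟩ := Flat.generalizingMap (groupoid p D).t hxy
  exact ⟨r', hr'.mem_open (W.isOpen.preimage (groupoid p D).s.continuous) hr, e⟩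

/-- Shrinking an open around a stable set so that transport lands in a given open. -/
lemma exists_step {E : Set D.obj.left} (hEc : IsCompact E) (hgen : ∀ x y, y ∈ E → x ⤳ y → x ∈ E)
    (hst : ∀ r, pullback.fst (sv p D) p r ∈ E → d₁ p D r ∈ E) (W₂ W' : D.obj.left.Opens) (h₂ : E ⊆ W₂)
    (h' : E ⊆ W') :
    ∃ W'' : D.obj.left.Opens, IsCompact (W'' : Set D.obj.left) ∧ E ⊆ W'' ∧ W'' ≤ W₂ ∧
      pullback.fst (sv p D) p ⁻¹ᵁ W'' ≤ d₁ p D ⁻¹ᵁ W' := by
  haveI : QuasiCompact (pullback.fst (sv p D) p) := (flat_and_qc p D).2.2.2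
  let d₀ := pullback.fst (sv p D) p
  let Z : Set (pullback (sv p D) p : Scheme.{u}) := d₁ p D ⁻¹' (W' : Set D.obj.left)ᶜ
  have hZ : ProCons.IsProConstructible Z :=
    GrpdLib.isProConstructible_of_isClosed (W'.isOpen.isClosed_compl.preimage (d₁ p D).continuous)
  have hdisj : ∀ e ∈ E, e ∉ closure (d₀ '' Z) := by
    intro e he hcl
    obtain ⟨r, hr, h⟩ := ProConsLib.exists_specializes_of_mem_closure_image_scheme hZ d₀ hcl
    exact hr (h' (hst r (hgen _ _ he h)))
  let N : D.obj.left.Opens := ⟨(closure (d₀ '' Z))ᶜ ∩ W₂, isClosed_closure.isOpen_compl.inter W₂.isOpen⟩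
  obtain ⟨W'', hc, hE, hle⟩ := MorLib.IQA.exists_compact_between (U := N) hEc fun e he => ⟨hdisj e he, h₂ he⟩
  refine ⟨W'', hc, hE, fun x hx => (hle hx).2, fun r hr => ?_⟩
  by_contra hr'
  exact (hle hr).1 (subset_closure ⟨r, hr', rfl⟩)

end Groth.Agent.DescLib.IndQA
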