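import Groth.Agent.DescLib.Sieve

/-!
# Natural isomorphisms between pullback functors of descent data
-/

universe w'' w' w u

set_option autoImplicit false
set_option backward.isDefEq.respectTransparency false
set_option backward.isDefEq.respectTransparency.types false

open CategoryTheory CategoryTheory.Limits AlgebraicGeometry Opposite Desc

namespace Groth.Agent.DescLib

/-- Natural bijections on points give a morphism over the base inducing them. -/
lemma exists_hom_of_points {Y : Scheme.{u}} {A B : Over Y}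
    (e : ∀ ⦃T : Scheme.{u}⦄ (x : T ⟶ Y), Lifts A x → Lifts B x)
    (he : ∀ ⦃T T' : Scheme.{u}⦄ (g : T' ⟶ T) (x : T ⟶ Y) (y : T' ⟶ Y) (_ : g ≫ x = y) (v : Lifts A x)
      (v' : Lifts A y), v'.1 = g ≫ v.1 → (e y v').1 = g ≫ (e x v).1) :
    ∃ h : A ⟶ B, ∀ ⦃T : Scheme.{u}⦄ (x : T ⟶ Y) (v : Lifts A x), v.1 ≫ h.left = (e x v).1 :=
  ⟨Over.homMk (e A.hom ⟨𝟙 _, Category.id_comp _⟩).1 (e A.hom ⟨𝟙 _, Category.id_comp _⟩).2, fun T x v =>
    (he v.1 A.hom x v.2 ⟨𝟙 _, Category.id_comp _⟩ v (Category.comp_id _).symm).symm⟩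

section

variable {S : Scheme.{u}} {ι : Type w} {X : ι → Scheme.{u}} {f : ∀ i, X i ⟶ S} {A B : SchDDFam f}

/-- Natural bijections on points compatible with the gluing give an isomorphism of descent data. -/
lemma exists_iso_of_points (e : ∀ (j : ι) ⦃T : Scheme.{u}⦄ (x : T ⟶ X j), Lifts (A.obj j) x ≃ Lifts (B.obj j) x)
    (he : ∀ (j : ι) ⦃T T' : Scheme.{u}⦄ (g : T' ⟶ T) (x : T ⟶ X j) (y : T' ⟶ X j) (_ : g ≫ x = y)
      (v : Lifts (A.obj j) x) (v' : Lifts (A.obj j) y), v'.1 = g ≫ v.1 → (e j y v').1 = g ≫ (e j x v).1)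
    (hc : ∀ ⦃T : Scheme.{u}⦄ ⦃i j : ι⦄ (x₀ : T ⟶ X i) (x₁ : T ⟶ X j) (h : x₀ ≫ f i = x₁ ≫ f j)
      (v : Lifts (A.obj i) x₀), B.φ x₀ x₁ h (e i x₀ v) = e j x₁ (A.φ x₀ x₁ h v)) :
    ∃ I : A ≅ B, ∀ (j : ι) ⦃T : Scheme.{u}⦄ (x : T ⟶ X j) (v : Lifts (A.obj j) x),
      v.1 ≫ (I.hom.hom j).left = (e j x v).1 := by
  have he' : ∀ (j : ι) ⦃T T' : Scheme.{u}⦄ (g : T' ⟶ T) (x : T ⟶ X j) (y : T' ⟶ X j) (_ : g ≫ x = y)
      (v : Lifts (B.obj j) x) (v' : Lifts (B.obj j) y), v'.1 = g ≫ v.1 →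
      ((e j y).symm v').1 = g ≫ ((e j x).symm v).1 := by
    intro j T T' g x y hy v v' hv
    subst hy
    let z : Lifts (A.obj j) (g ≫ x) := ⟨g ≫ ((e j x).symm v).1, by rw [Category.assoc, ((e j x).symm v).2]⟩
    have : e j _ z = v' := Subtype.ext (by
      rw [he j g x _ rfl ((e j x).symm v) z rfl, Equiv.apply_symm_apply, hv])
    rw [← this, Equiv.symm_apply_apply]
  choose h hh using fun j => exists_hom_of_points (fun T x => e j x) (he j)
  choose k hk using fun j => exists_hom_of_points (fun T x => (e j x).symm) (he' j)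
  let H : A ⟶ B := ⟨h, fun T i j x₀ x₁ hx v u hu => by
    rw [show u = e i x₀ v from Subtype.ext (hu.trans (hh i x₀ v)), hc, hh]⟩
  let K : B ⟶ A := ⟨k, fun T i j x₀ x₁ hx v u hu => by
    rw [show u = (e i x₀).symm v from Subtype.ext (hu.trans (hk i x₀ v)), hk]
    congr 1
    rw [Equiv.eq_symm_apply, ← hc, Equiv.apply_symm_apply]⟩
  have hhk : H ≫ K = 𝟙 A := SchDDFam.hom_ext (funext fun j => Over.OverMorphism.ext (by
    show (h j).left ≫ (k j).left = 𝟙 _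
    have a := hh j (A.obj j).hom ⟨𝟙 _, Category.id_comp _⟩
    rw [Category.id_comp] at a
    rw [a, hk, Equiv.symm_apply_apply]))
  have hkh : K ≫ H = 𝟙 B := SchDDFam.hom_ext (funext fun j => Over.OverMorphism.ext (by
    show (k j).left ≫ (h j).left = 𝟙 _
    have a := hk j (B.obj j).hom ⟨𝟙 _, Category.id_comp _⟩
    rw [Category.id_comp] at a
    rw [a, hh, Equiv.apply_symm_apply]))
  exact ⟨⟨H, K, hhk, hkh⟩, hh⟩

end

section

variable {S : Scheme.{u}} {ι : Type w} {X : ι → Scheme.{u}} {f : ∀ i, X i ⟶ S}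
  {ι' : Type w'} {X' : ι' → Scheme.{u}} {f' : ∀ j, X' j ⟶ S}
  {ι'' : Type w''} {X'' : ι'' → Scheme.{u}} {f'' : ∀ j, X'' j ⟶ S}

lemma lpe_natural {Y Y' : Scheme.{u}} (V : Over Y) (q : Y' ⟶ Y) {T T' : Scheme.{u}} (g : T' ⟶ T)
    (x : T ⟶ Y') (y : T' ⟶ Y') (v : Lifts (Over.mk (pullback.snd V.hom q)) x)
    (v' : Lifts (Over.mk (pullback.snd V.hom q)) y) (hv : v'.1 = g ≫ v.1) :
    (liftsPullbackEquiv V q y v').1 = g ≫ (liftsPullbackEquiv V q x v).1 := by
  simp [liftsPullbackEquiv, hv]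

lemma lpe_symm_natural {Y Y' : Scheme.{u}} (V : Over Y) (q : Y' ⟶ Y) {T T' : Scheme.{u}} (g : T' ⟶ T)
    (x : T ⟶ Y') (y : T' ⟶ Y') (hy : g ≫ x = y) (v : Lifts V (x ≫ q))
    (v' : Lifts V (y ≫ q)) (hv : v'.1 = g ≫ v.1) :
    ((liftsPullbackEquiv V q y).symm v').1 = g ≫ ((liftsPullbackEquiv V q x).symm v).1 := by
  apply pullback.hom_ext <;> simp [liftsPullbackEquiv, hv, hy]

/-- Pullback along a self-map over the base of a family is isomorphic to the identity. -/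
theorem nonempty_pull_iso_id {α : ι → ι} {p' : ∀ j, X j ⟶ X (α j)}
    (w : ∀ j, p' j ≫ f (α j) = f j ≫ 𝟙 S) : Nonempty (pullDDFam w ≅ 𝟭 (SchDDFam f)) := by
  have hw : ∀ {T : Scheme.{u}} (j : ι) (x : T ⟶ X j), (x ≫ p' j) ≫ f (α j) = x ≫ f j := fun j x => by
    rw [Category.assoc, w, Category.comp_id]
  have key : ∀ D : SchDDFam f, ∃ I : (pullDDFam w).obj D ≅ D, ∀ (j : ι) ⦃T : Scheme.{u}⦄ (x : T ⟶ X j)
      (v : Lifts (((pullDDFam w).obj D).obj j) x), v.1 ≫ (I.hom.hom j).left =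
        (D.φ (x ≫ p' j) x (hw j x) (liftsPullbackEquiv (D.obj (α j)) (p' j) x v)).1 := by
    intro D
    refine exists_iso_of_points (A := (pullDDFam w).obj D) (B := D)
      (fun j T x => (liftsPullbackEquiv (D.obj (α j)) (p' j) x).trans (D.φ (x ≫ p' j) x (hw j x))) ?_ ?_
    · intro j T T' g x y hy v v' hv
      exact D.φ_natural g (x ≫ p' j) x _ (y ≫ p' j) y (by rw [← hy, Category.assoc]) hy _ _ _
        (lpe_natural _ _ g x y v v' hv)
    · intro T i j x₀ x₁ h v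
      simp only [pullDDFam, pullDDFamObj, Equiv.trans_apply, Equiv.apply_symm_apply, D.φ_comp]
  choose I hI using key
  refine ⟨NatIso.ofComponents I fun {D D'} a => SchDDFam.hom_ext (funext fun j => Over.OverMorphism.ext ?_)⟩
  let v : Lifts (((pullDDFam w).obj D).obj j) (((pullDDFam w).obj D).obj j).hom := ⟨𝟙 _, Category.id_comp _⟩
  show (((pullDDFam w).map a).hom j).left ≫ ((I D').hom.hom j).left = ((I D).hom.hom j).left ≫ (a.hom j).left
  have h1 := hI D j _ v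
  have h2 := hI D' j _ (((pullDDFam w).map a).push v)
  simp only [v, SchDDFam.Hom.push, Category.id_comp] at h1 h2
  rw [h1, h2]
  exact a.comm _ _ _ _ _ (by simp [v, liftsPullbackEquiv, pullDDFam, pullDDFamObj])

/-- A composite of two pullback functors is isomorphic to any pullback functor between the same families. -/
theorem nonempty_pull_comp_iso {α : ι' → ι} {p' : ∀ j, X' j ⟶ X (α j)}
    (w : ∀ j, p' j ≫ f (α j) = f' j ≫ 𝟙 S) {β : ι'' → ι'} {q : ∀ k, X'' k ⟶ X' (β k)}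
    (w₂ : ∀ k, q k ≫ f' (β k) = f'' k ≫ 𝟙 S) {γ : ι'' → ι} {r : ∀ k, X'' k ⟶ X (γ k)}
    (w₃ : ∀ k, r k ≫ f (γ k) = f'' k ≫ 𝟙 S) :
    Nonempty (pullDDFam w ⋙ pullDDFam w₂ ≅ pullDDFam w₃) := by
  have hw : ∀ {T : Scheme.{u}} (k : ι'') (x : T ⟶ X'' k),
      ((x ≫ q k) ≫ p' (β k)) ≫ f (α (β k)) = (x ≫ r k) ≫ f (γ k) := fun k x => by
    simp only [Category.assoc, w, w₂, w₃, Category.comp_id]
  have key : ∀ D : SchDDFam f, ∃ I : (pullDDFam w ⋙ pullDDFam w₂).obj D ≅ (pullDDFam w₃).obj D,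
      ∀ (k : ι'') ⦃T : Scheme.{u}⦄ (x : T ⟶ X'' k)
      (v : Lifts (((pullDDFam w ⋙ pullDDFam w₂).obj D).obj k) x), v.1 ≫ (I.hom.hom k).left =
        ((liftsPullbackEquiv (D.obj (γ k)) (r k) x).symm (D.φ _ _ (hw k x)
          (liftsPullbackEquiv (D.obj (α (β k))) (p' (β k)) (x ≫ q k)
            (liftsPullbackEquiv (((pullDDFam w).obj D).obj (β k)) (q k) x v)))).1 := by
    intro D
    refine exists_iso_of_points (A := (pullDDFam w ⋙ pullDDFam w₂).obj D) (B := (pullDDFam w₃).obj D)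
      (fun k T x => (liftsPullbackEquiv (((pullDDFam w).obj D).obj (β k)) (q k) x).trans
        ((liftsPullbackEquiv (D.obj (α (β k))) (p' (β k)) (x ≫ q k)).trans
          ((D.φ _ _ (hw k x)).trans (liftsPullbackEquiv (D.obj (γ k)) (r k) x).symm))) ?_ ?_
    · intro k T T' g x y hy v v' hv
      refine lpe_symm_natural _ _ g x y hy _ _ ?_
      refine D.φ_natural g _ _ _ _ _ (by rw [← hy]; simp) (by rw [← hy]; simp) _ _ _ ?_
      exact lpe_natural _ _ g _ _ _ _ (lpe_natural _ _ g x y v v' hv)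
    · intro T i j x₀ x₁ h v
      simp only [pullDDFam, pullDDFamObj, Functor.comp_obj, Equiv.trans_apply, Equiv.apply_symm_apply,
        D.φ_comp]
  choose I hI using key
  refine ⟨NatIso.ofComponents I fun {D D'} a => SchDDFam.hom_ext (funext fun k => Over.OverMorphism.ext ?_)⟩
  let F := pullDDFam w ⋙ pullDDFam w₂
  let v : Lifts ((F.obj D).obj k) ((F.obj D).obj k).hom := ⟨𝟙 _, Category.id_comp _⟩
  show ((F.map a).hom k).left ≫ ((I D').hom.hom k).left =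
    ((I D).hom.hom k).left ≫ (((pullDDFam w₃).map a).hom k).left
  have h1 := hI D k _ v
  have h2 := hI D' k _ ((F.map a).push v)
  simp only [v, SchDDFam.Hom.push, Category.id_comp] at h1 h2
  rw [h1, h2]
  have hc := a.comm _ _ (hw k ((F.obj D).obj k).hom) (liftsPullbackEquiv (D.obj (α (β k))) (p' (β k)) _
      (liftsPullbackEquiv (((pullDDFam w).obj D).obj (β k)) (q k) _ v))
    (liftsPullbackEquiv (D'.obj (α (β k))) (p' (β k)) _
      (liftsPullbackEquiv (((pullDDFam w).obj D').obj (β k)) (q k) _ ((F.map a).push v)))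
    (by simp [v, F, SchDDFam.Hom.push, liftsPullbackEquiv, pullDDFam, pullDDFamObj])
  refine pullback.hom_ext ?_ ?_
  · simpa [v, F, SchDDFam.Hom.push, liftsPullbackEquiv, pullDDFam, pullDDFamObj] using hc
  · simp [liftsPullbackEquiv, pullDDFam, pullDDFamObj]

/-- If there are morphisms of families in both directions, pullback is an equivalence. -/
theorem pullDDFam_isEquivalence {α : ι' → ι} {p' : ∀ j, X' j ⟶ X (α j)}
    (w : ∀ j, p' j ≫ f (α j) = f' j ≫ 𝟙 S) {β : ι → ι'} {q : ∀ i, X i ⟶ X' (β i)}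
    (w₂ : ∀ i, q i ≫ f' (β i) = f i ≫ 𝟙 S) : (pullDDFam w).IsEquivalence := by
  have e₀ : ∀ i, 𝟙 (X i) ≫ f (id i) = f i ≫ 𝟙 S := fun i => by simp
  have e₀' : ∀ i, 𝟙 (X' i) ≫ f' (id i) = f' i ≫ 𝟙 S := fun i => by simp
  obtain ⟨u⟩ := nonempty_pull_comp_iso w w₂ e₀
  obtain ⟨u'⟩ := nonempty_pull_iso_id e₀
  obtain ⟨c⟩ := nonempty_pull_comp_iso w₂ w e₀'
  obtain ⟨c'⟩ := nonempty_pull_iso_id e₀'
  exact (CategoryTheory.Equivalence.mk (pullDDFam w) (pullDDFam w₂) (u ≪≫ u').symm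
    (c ≪≫ c')).isEquivalence_functor

end

end Groth.Agent.DescLib
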