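import Groth.Agent.DescLib.DescFinite
import Mathlib.AlgebraicGeometry.AlgClosed.Basic

/-!
# Orbits of a descent datum along a finite morphism are bounded by the geometric fibres
-/

universe u

set_option autoImplicit false
set_option backward.isDefEq.respectTransparency false
set_option backward.isDefEq.respectTransparency.types false

open CategoryTheory CategoryTheory.Limits AlgebraicGeometry Opposite Desc TopologicalSpace
open Groth.Agent.DescLib.IndQA

namespace Groth.Agent.DescLib

/-- A finite scheme over an algebraically closed field has a rational point at each point. -/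
lemma exists_point_over {T : Scheme.{u}} {k : Type u} [Field k] [IsAlgClosed k] (f : T ⟶ Spec (CommRingCat.of k))
    [IsFinite f] (z : T) :
    ∃ q : Spec (CommRingCat.of k) ⟶ T, q ≫ f = 𝟙 _ ∧ ∀ a, q a = z := by
  have hd : _root_.IsDiscrete (Set.univ : Set T) := by
    have h := f.isDiscrete_preimage_singleton (IsLocalRing.closedPoint k)
    rwa [Set.eq_univ_of_forall fun t : T => show t ∈ f ⁻¹' {IsLocalRing.closedPoint k} from
      Set.mem_preimage.2 (Subsingleton.elim _ _)] at h
  haveI : DiscreteTopology T := isDiscrete_univ_iff.1 hd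
  exact ⟨pointOfClosedPoint f z (isClosed_discrete _), pointOfClosedPoint_comp f z _,
    fun a => pointOfClosedPoint_apply f z _ a⟩

variable {X S : Scheme.{u}} (p : X ⟶ S) (D : SchDD p) [IsFinite p]

/-- Each orbit is the image of a geometric fibre. -/
theorem exists_orbit_cover (v : D.obj.left) :
    ∃ (k : Type u) (_ : Field k) (_ : IsAlgClosed k) (y : Spec (CommRingCat.of k) ⟶ S)
      (F : {x : Spec (CommRingCat.of k) ⟶ X // x ≫ p = y} → D.obj.left),
      (∀ x, p (D.obj.hom (F x)) = p (D.obj.hom v)) ∧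
      ∀ r, pullback.fst (sv p D) p r = v → ∃ x, F x = d₁ p D r := by
  let k : Type u := AlgebraicClosure (D.obj.left.residueField v)
  let a : Spec (CommRingCat.of k) ⟶ D.obj.left :=
    Spec.map (CommRingCat.ofHom (algebraMap (D.obj.left.residueField v) k)) ≫ D.obj.left.fromSpecResidueField v
  have ha : ∀ t, a t = v := fun t => by
    rw [Scheme.Hom.comp_apply]
    exact Scheme.fromSpecResidueField_apply _ _
  refine ⟨k, inferInstance, inferInstance, a ≫ sv p D,
    fun x => IndQA.tr p D a x.1 x.2.symm (IsLocalRing.closedPoint k), fun x => ?_, fun r hr => ?_⟩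
  · rw [← Scheme.Hom.comp_apply, ← Scheme.Hom.comp_apply, ← Category.assoc, IndQA.tr_hom, x.2,
      Scheme.Hom.comp_apply, ha]
    rfl
  · haveI : IsFinite (pullback.fst (sv p D) p) := MorphismProperty.pullback_fst _ _ inferInstance
    haveI : IsFinite (pullback.fst a (pullback.fst (sv p D) p)) := MorphismProperty.pullback_fst _ _ inferInstance
    obtain ⟨z, -, hz⟩ := Scheme.Pullback.exists_preimage_pullback (f := a) (g := pullback.fst (sv p D) p)
      (IsLocalRing.closedPoint k) r ((ha _).trans hr.symm)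
    obtain ⟨q, hq, hqz⟩ := exists_point_over (pullback.fst a (pullback.fst (sv p D) p)) z
    let ρ := q ≫ pullback.snd a (pullback.fst (sv p D) p)
    have hρ : ρ ≫ pullback.fst (sv p D) p = a := by
      rw [Category.assoc, ← pullback.condition, ← Category.assoc, hq, Category.id_comp]
    have hx : (ρ ≫ pullback.snd (sv p D) p) ≫ p = a ≫ sv p D := by
      rw [Category.assoc, ← pullback.condition, ← Category.assoc, hρ]
    refine ⟨⟨_, hx⟩, ?_⟩
    show IndQA.tr p D a _ _ _ = _
    have e : ρ ≫ d₁ p D = IndQA.tr p D a (ρ ≫ pullback.snd (sv p D) p) hx.symm :=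
      IndQA.tr_nat p D ρ _ _ _ _ _ hρ rfl _
    rw [← e, Scheme.Hom.comp_apply]
    exact congrArg (d₁ p D) ((congrArg (pullback.snd a (pullback.fst (sv p D) p)) (hqz _)).trans hz)

/-- Effectivity when any `d` points over one point lie in an affine open. -/
theorem effective_of_bounded_fibres [Surjective p] [Flat p] [LocallyOfFinitePresentation p] (d : ℕ)
    (hfib : ∀ (k : Type u) [Field k] [IsAlgClosed k] (y : Spec (CommRingCat.of k) ⟶ S),
      Set.encard {x : Spec (CommRingCat.of k) ⟶ X | x ≫ p = y} ≤ d)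
    (hV : ∀ (y : S) (v : Fin d → D.obj.left), (∀ i, p (D.obj.hom (v i)) = y) →
      ∃ U : D.obj.left.Opens, IsAffineOpen U ∧ ∀ i, v i ∈ U) :
    ∃ W : Over S, Nonempty ((toDD p).obj W ≅ D) := by
  refine effective_of_orbits p D fun v => ?_
  obtain ⟨k, _, _, y, F, hF, hcov⟩ := exists_orbit_cover p D v
  have hle := hfib k y
  have hfin : {x : Spec (CommRingCat.of k) ⟶ X | x ≫ p = y}.Finite := Set.finite_of_encard_le_coe hle
  haveI : Fintype {x : Spec (CommRingCat.of k) ⟶ X // x ≫ p = y} := hfin.fintype
  have hcard : Fintype.card {x : Spec (CommRingCat.of k) ⟶ X // x ≫ p = y} ≤ Fintype.card (Fin d) := by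
    rw [Fintype.card_fin, ← Nat.card_eq_fintype_card, ← Nat.cast_le (α := ℕ∞)]
    rw [← hfin.cast_ncard_eq] at hle
    exact hle
  obtain ⟨ι⟩ := Function.Embedding.nonempty_of_card_le hcard
  obtain ⟨x₀, -⟩ := hcov (pullback.lift (𝟙 _) D.obj.hom (Category.id_comp (sv p D)) v) (by
    rw [← Scheme.Hom.comp_apply, pullback.lift_fst]
    rfl)
  haveI : Nonempty {x : Spec (CommRingCat.of k) ⟶ X // x ≫ p = y} := ⟨x₀⟩
  obtain ⟨U, hU, h⟩ := hV (p (D.obj.hom v)) (fun i => F (Function.invFun ι i)) fun i => hF _
  refine ⟨U, hU, fun r hr => ?_⟩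
  obtain ⟨x, hx⟩ := hcov r hr
  obtain ⟨i, hi⟩ := Function.invFun_surjective ι.injective x
  rw [← hx, ← hi]
  exact h i

end Groth.Agent.DescLib
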