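import Groth.Agent.DescLib.SigmaLocal
import Mathlib.AlgebraicGeometry.QuasiAffine

/-!
# Descent data whose scheme is quasi-affine are effective (affine case)
-/

universe u

set_option autoImplicit false
set_option backward.isDefEq.respectTransparency false
set_option backward.isDefEq.respectTransparency.types false

open CategoryTheory CategoryTheory.Limits AlgebraicGeometry Opposite Desc

namespace Groth.Agent.DescLib

variable {X S : Scheme.{u}}

lemma isPushout_appTop_of_flat [IsAffine X] [IsAffine S] (p : X ⟶ S) [Flat p] {W : Scheme.{u}} (s : W ⟶ S)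
    [CompactSpace W] [QuasiSeparatedSpace W] :
    IsPushout s.appTop p.appTop (pullback.fst s p).appTop (pullback.snd s p).appTop := by
  have h := isIso_pushoutSection_of_isQuasiSeparated_of_flat_right (IsPullback.of_hasPullback s p)
    (US := ⊤) (UT := ⊤) (UX := ⊤) (UY := ⊤) (by simp) (by simp) (by simp) (isAffineOpen_top _) (isAffineOpen_top _)
    isCompact_univ isQuasiSeparated_univ
  have := (isIso_pushoutSection_iff ..).1 h
  simpa [Scheme.Hom.appLE] using this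

lemma isIso_appTop_baseChange [IsAffine X] [IsAffine S] (p : X ⟶ S) [Flat p] {W W' : Scheme.{u}} (m : W ⟶ W')
    (s : W ⟶ S) (s' : W' ⟶ S) (hm : m ≫ s' = s) [CompactSpace W] [QuasiSeparatedSpace W] [IsAffine W']
    [IsIso m.appTop] :
    IsIso (pullback.map s p s' p m (𝟙 X) (𝟙 S) (by simp [hm]) (by simp)).appTop := by
  have h₁ : IsPushout s.appTop p.appTop (pullback.fst s p).appTop (pullback.snd s p).appTop :=
    isPushout_appTop_of_flat p s
  have h₂ : IsPushout s'.appTop p.appTop (pullback.fst s' p).appTop (pullback.snd s' p).appTop :=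
    isPushout_appTop_of_isPullback (IsPullback.of_hasPullback s' p)
  have h₃ : IsPushout s.appTop p.appTop (inv m.appTop ≫ (pullback.fst s' p).appTop)
      (pullback.snd s' p).appTop :=
    h₂.of_iso (Iso.refl _) (asIso m.appTop) (Iso.refl _) (Iso.refl _) (by simp [← hm])
      (by simp) (by simp) (by simp)
  rw [show (pullback.map s p s' p m (𝟙 X) (𝟙 S) (by simp [hm]) (by simp)).appTop =
    (h₃.isoIsPushout _ _ h₁).hom from h₃.hom_ext ?_ ?_]
  · infer_instance
  · rw [IsPushout.inl_isoIsPushout_hom, Category.assoc, IsIso.inv_comp_eq, ← Scheme.Hom.comp_appTop,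
      ← Scheme.Hom.comp_appTop, pullback.lift_fst]
  · rw [IsPushout.inr_isoIsPushout_hom, ← Scheme.Hom.comp_appTop, pullback.lift_snd, Category.comp_id]

lemma hom_ext_of_isIso_appTop {W W' Z : Scheme.{u}} (m : W ⟶ W') [IsIso m.appTop] [IsAffine Z] {g g' : W' ⟶ Z}
    (h : m ≫ g = m ≫ g') : g = g' :=
  ext_of_isAffine ((cancel_mono m.appTop).1 (by rw [← Scheme.Hom.comp_appTop, h, Scheme.Hom.comp_appTop]))

lemma exists_extend_of_isIso_appTop {W W' Z : Scheme.{u}} (m : W ⟶ W') [IsIso m.appTop] [IsAffine Z]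
    (h : W ⟶ Z) : ∃ g : W' ⟶ Z, m ≫ g = h := by
  refine ⟨W'.toSpecΓ ≫ Spec.map (h.appTop ≫ inv m.appTop) ≫ Z.isoSpec.inv, ?_⟩
  rw [Scheme.toSpecΓ_naturality_assoc, ← Spec.map_comp_assoc, Category.assoc, IsIso.inv_hom_id,
    Category.comp_id, ← Scheme.toSpecΓ_naturality_assoc]
  exact (congrArg (h ≫ ·) Z.isoSpec.hom_inv_id).trans (Category.comp_id h)

/-- A descent datum between affine schemes with quasi-affine underlying scheme is effective. -/
theorem effective_quasiAffine (p : X ⟶ S) [IsAffine X] [IsAffine S] [Flat p] [Surjective p]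
    (D : SchDD p) [D.obj.left.IsQuasiAffine] : ∃ U : Over S, Nonempty ((toDD p).obj U ≅ D) := by
  let D₁ := (SchDDFam.ofSchDD.{u} p).obj D
  let V := D.obj.left
  let v : V ⟶ X := D.obj.hom
  let C : Scheme.{u} := Spec Γ(V, ⊤)
  let j : V ⟶ C := V.toSpecΓ
  let vC : C ⟶ X := Spec.map v.appTop ≫ X.isoSpec.inv
  have hjv : j ≫ vC = v := by
    show V.toSpecΓ ≫ _ ≫ _ = v
    rw [← Scheme.toSpecΓ_naturality_assoc]
    exact (congrArg (v ≫ ·) X.isoSpec.hom_inv_id).trans (Category.comp_id v)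
  haveI : IsIso j.appTop := by
    show IsIso V.toSpecΓ.appTop
    rw [Scheme.toSpecΓ_appTop]; infer_instance
  haveI : IsOpenImmersion j := inferInstanceAs (IsOpenImmersion V.toSpecΓ)
  let s : V ⟶ S := v ≫ p
  let sC : C ⟶ S := vC ≫ p
  have hsC : j ≫ sC = s := by show j ≫ vC ≫ p = v ≫ p; rw [reassoc_of% hjv]
  let d₀ := pullback.fst s p
  have eR : d₀ ≫ v ≫ p = pullback.snd s p ≫ p := pullback.condition
  let d₁ := GlueFam.tr D₁ (i := PUnit.unit) (k := PUnit.unit) d₀ (pullback.snd s p) eR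
  have hd₁ : d₁ ≫ v = pullback.snd s p := GlueFam.tr_hom D₁ (i := PUnit.unit) (k := PUnit.unit) _ _ eR
  have hd₁s : d₁ ≫ s = d₀ ≫ s := by rw [← Category.assoc, hd₁]; exact eR.symm
  haveI : IsAffineHom d₀ := MorphismProperty.pullback_fst (P := @IsAffineHom) s p inferInstance
  haveI : (pullback s p).IsQuasiAffine := Scheme.IsQuasiAffine.of_isAffineHom d₀
  let jR : pullback s p ⟶ pullback sC p :=
    pullback.map s p sC p j (𝟙 X) (𝟙 S) (by simp [hsC]) (by simp)
  haveI : IsIso jR.appTop := isIso_appTop_baseChange p j s sC hsC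
  obtain ⟨r, hr⟩ := exists_extend_of_isIso_appTop jR (d₁ ≫ j)
  have hrv : r ≫ vC = pullback.snd sC p := hom_ext_of_isIso_appTop jR (by
    rw [reassoc_of% hr, hjv, hd₁]
    exact ((pullback.lift_snd _ _ _).trans (Category.comp_id _)).symm)
  have hrs : r ≫ sC = pullback.fst sC p ≫ sC := by
    show r ≫ vC ≫ p = _
    rw [reassoc_of% hrv]; exact pullback.condition.symm
  have hself : pullback.lift (𝟙 C) vC (Category.id_comp _) ≫ r = 𝟙 C := hom_ext_of_isIso_appTop j (by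
    let σ : V ⟶ pullback s p := pullback.lift (𝟙 V) v (Category.id_comp _)
    have hσ : j ≫ pullback.lift (𝟙 C) vC (Category.id_comp _) = σ ≫ jR := by
      refine pullback.hom_ext ?_ ?_
      · refine (Category.assoc _ _ _).trans (Eq.trans ?_ (Category.assoc _ _ _).symm)
        refine ((congrArg (j ≫ ·) (pullback.lift_fst _ _ _)).trans (Category.comp_id j)).trans ?_
        refine Eq.trans ?_ (congrArg (σ ≫ ·) (pullback.lift_fst _ _ _).symm)
        exact ((Category.assoc _ _ _).symm.trans ((congrArg (· ≫ j) (pullback.lift_fst _ _ _)).trans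
          (Category.id_comp j))).symm
      · refine (Category.assoc _ _ _).trans (Eq.trans ?_ (Category.assoc _ _ _).symm)
        refine ((congrArg (j ≫ ·) (pullback.lift_snd _ _ _)).trans hjv).trans ?_
        refine Eq.trans ?_ (congrArg (σ ≫ ·) ((pullback.lift_snd _ _ _).trans (Category.comp_id _)).symm)
        exact (pullback.lift_snd _ _ _).symm
    rw [reassoc_of% hσ, hr, Category.comp_id]
    refine (Category.assoc _ _ _).symm.trans ((congrArg (· ≫ j) ?_).trans (Category.id_comp j))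
    exact (GlueFam.tr_nat D₁ σ _ _ _ (𝟙 V) v (pullback.lift_fst _ _ _) (pullback.lift_snd _ _ _)
      (Category.id_comp _)).trans (GlueFam.tr_self D₁ (𝟙 V) v (Category.id_comp _) _))
  -- the two maps from the triple product
  let E₀ : pullback (d₀ ≫ s) p ⟶ pullback s p :=
    pullback.map _ _ _ _ d₀ (𝟙 X) (𝟙 S) (by simp) (by simp)
  let E₁ : pullback (d₀ ≫ s) p ⟶ pullback s p :=
    pullback.map _ _ _ _ d₁ (𝟙 X) (𝟙 S) (by simp [hd₁s]) (by simp)
  let F₀ : pullback (pullback.fst sC p ≫ sC) p ⟶ pullback sC p :=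
    pullback.map _ _ _ _ (pullback.fst sC p) (𝟙 X) (𝟙 S) (by simp) (by simp)
  let F₁ : pullback (pullback.fst sC p ≫ sC) p ⟶ pullback sC p :=
    pullback.map _ _ _ _ r (𝟙 X) (𝟙 S) (by simp [hrs]) (by simp)
  have hE : E₀ ≫ d₁ = E₁ ≫ d₁ := by
    let x₁ := pullback.fst (d₀ ≫ s) p ≫ pullback.snd s p
    let x₂ := pullback.snd (d₀ ≫ s) p
    let a := pullback.fst (d₀ ≫ s) p ≫ d₀
    have h₁ : a ≫ v ≫ p = x₁ ≫ p := by simp only [a, x₁, Category.assoc, eR]
    have h₂ : a ≫ v ≫ p = x₂ ≫ p := by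
      simp only [a, x₂, Category.assoc]; exact pullback.condition
    have hb : pullback.fst (d₀ ≫ s) p ≫ d₁ = GlueFam.tr D₁ (i := PUnit.unit) (k := PUnit.unit) a x₁ h₁ :=
      GlueFam.tr_nat D₁ _ _ _ _ _ _ rfl rfl _
    have h₃ : (pullback.fst (d₀ ≫ s) p ≫ d₁) ≫ v ≫ p = x₂ ≫ p := by
      rw [Category.assoc, show d₁ ≫ v ≫ p = d₀ ≫ s from hd₁s]; exact pullback.condition
    have hl : E₀ ≫ d₁ = GlueFam.tr D₁ (i := PUnit.unit) (k := PUnit.unit) a x₂ h₂ :=
      GlueFam.tr_nat D₁ _ _ _ _ _ _ (pullback.lift_fst _ _ _)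
        ((pullback.lift_snd _ _ _).trans (Category.comp_id _)) _
    have hl' : E₁ ≫ d₁ = GlueFam.tr D₁ (i := PUnit.unit) (k := PUnit.unit) (pullback.fst (d₀ ≫ s) p ≫ d₁) x₂ h₃ :=
      GlueFam.tr_nat D₁ _ _ _ _ _ _ (pullback.lift_fst _ _ _)
        ((pullback.lift_snd _ _ _).trans (Category.comp_id _)) _
    rw [hl, hl']
    refine (GlueFam.tr_comp D₁ a x₁ x₂ h₁ (hb ▸ h₃) h₂).symm.trans ?_
    simp only [← hb]
  have hjR : jR ≫ pullback.fst sC p ≫ sC = d₀ ≫ s := by simp [jR, hsC, d₀]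
  let jR2 : pullback (d₀ ≫ s) p ⟶ pullback (pullback.fst sC p ≫ sC) p :=
    pullback.map _ _ _ _ jR (𝟙 X) (𝟙 S) (by simp [hjR]) (by simp)
  haveI : IsIso jR2.appTop := isIso_appTop_baseChange p jR (d₀ ≫ s) (pullback.fst sC p ≫ sC) hjR
  have hcomp : F₀ ≫ r = F₁ ≫ r := hom_ext_of_isIso_appTop jR2 (by
    have h0 : jR2 ≫ F₀ = E₀ ≫ jR := pullback.hom_ext (by simp [jR2, F₀, E₀, jR, d₀]) (by simp [jR2, F₀, E₀, jR])
    have h1 : jR2 ≫ F₁ = E₁ ≫ jR := pullback.hom_ext (by simp [jR2, F₁, E₁, jR, hr]) (by simp [jR2, F₁, E₁, jR])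
    rw [reassoc_of% h0, reassoc_of% h1, hr, reassoc_of% hE])
  -- the datum on the affine hull
  have hlift : ∀ {T : Scheme.{u}} (a : T ⟶ C) (x₀ x₁ : T ⟶ X), a ≫ vC = x₀ → x₀ ≫ p = x₁ ≫ p →
      a ≫ sC = x₁ ≫ p := by
    rintro T a _ x₁ rfl h; rw [← h]; exact (Category.assoc _ _ _).symm
  let τ : ∀ {T : Scheme.{u}} {x₀ : T ⟶ X} (x₁ : T ⟶ X), x₀ ≫ p = x₁ ≫ p → Lifts (Over.mk vC) x₀ →
      Lifts (Over.mk vC) x₁ := fun {T x₀} x₁ h a => ⟨pullback.lift a.1 x₁ (hlift a.1 _ _ a.2 h) ≫ r, by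
    show (_ ≫ r) ≫ vC = x₁
    rw [Category.assoc, hrv, pullback.lift_snd]⟩
  have τ_self : ∀ {T : Scheme.{u}} {x₀ : T ⟶ X} (h : x₀ ≫ p = x₀ ≫ p) (a : Lifts (Over.mk vC) x₀),
      τ x₀ h a = a := by
    intro T x₀ h a
    refine Subtype.ext ?_
    have : pullback.lift a.1 x₀ (hlift a.1 _ _ a.2 h) = a.1 ≫ pullback.lift (𝟙 C) vC (Category.id_comp _) :=
      pullback.hom_ext ((pullback.lift_fst _ _ _).trans ((Category.comp_id a.1).symm.trans
          ((congrArg (a.1 ≫ ·) (pullback.lift_fst _ _ _).symm).trans (Category.assoc _ _ _).symm)))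
        ((pullback.lift_snd _ _ _).trans (a.2.symm.trans
          ((congrArg (a.1 ≫ ·) (pullback.lift_snd _ _ _).symm).trans (Category.assoc _ _ _).symm)))
    show pullback.lift _ _ _ ≫ r = a.1
    rw [this, Category.assoc, hself]
    exact Category.comp_id _
  have τ_comp : ∀ {T : Scheme.{u}} {x₀ : T ⟶ X} (x₁ x₂ : T ⟶ X) (h : x₀ ≫ p = x₁ ≫ p) (h' : x₁ ≫ p = x₂ ≫ p)
      (a : Lifts (Over.mk vC) x₀), τ x₂ h' (τ x₁ h a) = τ x₂ (h.trans h') a := by
    intro T x₀ x₁ x₂ h h' a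
    refine Subtype.ext ?_
    let q : T ⟶ pullback (pullback.fst sC p ≫ sC) p :=
      pullback.lift (pullback.lift a.1 x₁ (hlift a.1 _ _ a.2 h)) x₂
        (by rw [pullback.lift_fst_assoc]; exact hlift a.1 _ _ a.2 (h.trans h'))
    have h0 : pullback.lift a.1 x₂ (hlift a.1 _ _ a.2 (h.trans h')) = q ≫ F₀ :=
      pullback.hom_ext (by simp [q, F₀]) (by simp [q, F₀])
    have h1 : pullback.lift (τ x₁ h a).1 x₂ (hlift _ _ _ (τ x₁ h a).2 h') = q ≫ F₁ :=
      pullback.hom_ext (by simp [q, F₁, τ]) (by simp [q, F₁])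
    show pullback.lift (τ x₁ h a).1 x₂ _ ≫ r = pullback.lift a.1 x₂ _ ≫ r
    rw [h0, h1, Category.assoc, Category.assoc, hcomp]
  let DC : SchDD p :=
    { obj := Over.mk vC
      φ := fun T x₀ x₁ h =>
        { toFun := τ x₁ h
          invFun := τ x₀ h.symm
          left_inv := fun a => (τ_comp x₁ x₀ h h.symm a).trans (τ_self rfl a)
          right_inv := fun a => (τ_comp x₀ x₁ h.symm h a).trans (τ_self rfl a) }
      φ_natural := fun T T' g x₀ x₁ h h' a a' ha => by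
        show pullback.lift a'.1 (g ≫ x₁) _ ≫ r = g ≫ pullback.lift a.1 x₁ _ ≫ r
        rw [← Category.assoc g]
        congr 1
        exact pullback.hom_ext (by simp [ha]) (by simp)
      φ_self := fun T x a => τ_self rfl a
      φ_comp := fun T x₀ x₁ x₂ h h' a => τ_comp x₁ x₂ h h' a }
  let α : D ⟶ DC := ⟨Over.homMk j hjv, fun T x₀ x₁ h a b hb => by
    have ha : a.1 ≫ s = x₁ ≫ p := by
      show a.1 ≫ v ≫ p = _
      rw [← Category.assoc, show a.1 ≫ v = x₀ from a.2, h]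
    show pullback.lift b.1 x₁ _ ≫ r = (D₁.φ (i := PUnit.unit) (j := PUnit.unit) x₀ x₁ h a).1 ≫ j
    rw [GlueFam.φ_val D₁ (i := PUnit.unit) (k := PUnit.unit) h a ha,
      ← GlueFam.tr_nat D₁ (i := PUnit.unit) (k := PUnit.unit) (pullback.lift a.1 x₁ ha) d₀ (pullback.snd s p) eR a.1 x₁
        (pullback.lift_fst _ _ _) (pullback.lift_snd _ _ _) ha]
    have : pullback.lift b.1 x₁ (hlift _ _ _ b.2 h) = pullback.lift a.1 x₁ ha ≫ jR :=
      pullback.hom_ext (by simp [jR, hb]) (by simp [jR])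
    refine (congrArg (· ≫ r) this).trans ((Category.assoc _ _ _).trans ?_)
    rw [hr]
    exact (Category.assoc _ _ _).symm⟩
  haveI : IsAffine DC.obj.left := inferInstanceAs (IsAffine (Spec Γ(V, ⊤)))
  haveI : IsOpenImmersion (((SchDDFam.ofSchDD.{u} p).map α).hom ⟨⟩).left := inferInstanceAs (IsOpenImmersion j)
  exact exists_of_rep p D (rep_of_openSub ((SchDDFam.ofSchDD.{u} p).map α)
    (rep_of_exists p DC (effective_affine p DC)))

end Groth.Agent.DescLib
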