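import Groth.Agent.FlatLoc6.Regular
import Groth.Agent.FlatModel.Local
import Mathlib.RingTheory.Localization.BaseChange
import Mathlib.RingTheory.Flat.Equalizer
import Mathlib.RingTheory.Flat.Localization
import Mathlib.RingTheory.Localization.Finiteness
import Mathlib.RingTheory.LocalRing.ResidueField.Ideal
import Mathlib.RingTheory.Localization.AtPrime.Basic

/-!
# Elements regular on all fibres of a flat module are regular, over a model with noetherian base
-/

universe u

set_option autoImplicit false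
set_option linter.style.haveILetI false
set_option backward.isDefEq.respectTransparency false
set_option backward.isDefEq.respectTransparency.types false

open TensorProduct IsLocalRing

namespace Groth.Agent.DescLib.RelS1

variable {R₁ P₁ R : Type u} [CommRing R₁] [IsNoetherianRing R₁] [CommRing P₁] [IsNoetherianRing P₁]
  [Algebra R₁ P₁] [CommRing R] [Algebra R₁ R]
  {M₁ : Type u} [AddCommGroup M₁] [Module P₁ M₁] [Module R₁ M₁] [IsScalarTower R₁ P₁ M₁]
  [Module.Finite P₁ M₁] [Module.Flat R₁ M₁]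

omit [IsNoetherianRing R₁] [IsNoetherianRing P₁] [Module.Finite P₁ M₁] in
lemma tmul_eq_zero_iff (p₁ : Ideal R₁) (K : Type u) [CommRing K] [Algebra R₁ K]
    (hK : RingHom.ker (algebraMap R₁ K) = p₁) (m : M₁) :
    (1 : K) ⊗ₜ[R₁] m = 0 ↔ m ∈ p₁.map (algebraMap R₁ P₁) • (⊤ : Submodule P₁ M₁) := by
  let j : (R₁ ⧸ p₁) →ₗ[R₁] K :=
    (Ideal.Quotient.liftₐ p₁ (Algebra.ofId R₁ K) fun r hr => by rwa [← hK] at hr).toLinearMap
  have hj : Function.Injective j := by
    intro x y h
    obtain ⟨x, rfl⟩ := Ideal.Quotient.mk_surjective x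
    obtain ⟨y, rfl⟩ := Ideal.Quotient.mk_surjective y
    rw [Ideal.Quotient.eq, ← hK, RingHom.mem_ker, map_sub, sub_eq_zero]
    exact h
  have h1 : (1 : K) ⊗ₜ[R₁] m = 0 ↔ m ∈ (p₁ • ⊤ : Submodule R₁ M₁) := by
    rw [show (1 : K) ⊗ₜ[R₁] m = j.rTensor M₁ ((1 : R₁ ⧸ p₁) ⊗ₜ[R₁] m) by simp [j],
      map_eq_zero_iff _ (Module.Flat.rTensor_preserves_injective_linearMap j hj),
      ← (TensorProduct.quotTensorEquivQuotSMul M₁ p₁).map_eq_zero_iff,
      ← Submodule.Quotient.mk_eq_zero]
    exact Iff.of_eq (congrArg (· = 0) (TensorProduct.quotTensorEquivQuotSMul_mk_one_tmul p₁ m))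
  rw [h1, ← Submodule.restrictScalars_top R₁ P₁ M₁, ← Ideal.smul_restrictScalars]
  rfl

theorem exists_smul_eq_zero (Q : Ideal P₁) [Q.IsPrime] (p : Ideal R) [p.IsPrime]
    (hQ : Q.comap (algebraMap R₁ P₁) = p.comap (algebraMap R₁ R)) (a : P₁)
    (hfib : ∀ m : M₁, (1 : p.ResidueField) ⊗ₜ[R₁] (a • m) = 0 → (1 : p.ResidueField) ⊗ₜ[R₁] m = 0)
    (z : M₁ ⊗[R₁] R) (hz : a • z = 0) : ∃ s ∉ Q, s • z = 0 := by
  classical
  let p₁ : Ideal R₁ := p.comap (algebraMap R₁ R)
  haveI : Q.LiesOver p₁ := ⟨hQ.symm⟩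
  let A := Localization.AtPrime p₁
  let B := Localization.AtPrime Q
  let := Localization.AtPrime.algebraOfLiesOver p₁ Q
  have : IsLocalHom (algebraMap A B) :=
    Localization.isLocalHom_localRingHom p₁ Q (algebraMap R₁ P₁) Ideal.LiesOver.over
  let N := LocalizedModule Q.primeCompl M₁
  let mk : M₁ →ₗ[P₁] N := LocalizedModule.mkLinearMap Q.primeCompl M₁
  let := Module.compHom N (algebraMap A B)
  have : IsScalarTower A B N := IsScalarTower.of_algebraMap_smul fun _ _ => rfl
  have : IsScalarTower R₁ A N := IsScalarTower.of_algebraMap_smul fun r x => by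
    show algebraMap A B (algebraMap R₁ A r) • x = r • x
    rw [← IsScalarTower.algebraMap_apply, algebraMap_smul]
  have hNflat₁ : Module.Flat R₁ N := (FlatModel.flat_localized_iff Q.primeCompl mk).2 fun I y hy =>
    ⟨1, one_mem _, (one_smul _ y).trans (Module.Flat.lTensor_preserves_injective_linearMap (M := M₁) I.subtype I.subtype_injective
      (hy.trans (map_zero _).symm))⟩
  haveI hNflat : Module.Flat A N := (Module.flat_iff_of_isLocalization A p₁.primeCompl N).2 hNflat₁
  haveI : Module.Finite B N := Module.Finite.of_isLocalizedModule Q.primeCompl mk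
  let J : Submodule P₁ M₁ := p₁.map (algebraMap R₁ P₁) • ⊤
  have hmN : FlatLoc6.mN A B N = J.localized' B Q.primeCompl mk := by
    rw [Submodule.localized'_smul, Submodule.localized'_top, Ideal.localized'_eq_map B Q.primeCompl,
      FlatLoc6.mN]
    congr 1
    rw [← IsLocalization.AtPrime.map_eq_maximalIdeal p₁ A, Ideal.map_map, Ideal.map_map,
      ← IsScalarTower.algebraMap_eq, ← IsScalarTower.algebraMap_eq]
  have hker : RingHom.ker (algebraMap R₁ p.ResidueField) = p₁ := by
    rw [IsScalarTower.algebraMap_eq R₁ R p.ResidueField, ← RingHom.comap_ker, Ideal.ker_algebraMap_residueField]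
  have hreg : FlatLoc6.RegFib A N (algebraMap P₁ B a) := by
    intro n hn
    rw [hmN, Submodule.mem_localized'] at hn ⊢
    rw [algebraMap_smul] at hn
    obtain ⟨j, hj, t, ht⟩ := hn
    obtain ⟨⟨m, s⟩, rfl⟩ := IsLocalizedModule.mk'_surjective Q.primeCompl mk n
    rw [Function.uncurry_apply_pair] at ht ⊢
    rw [← IsLocalizedModule.mk'_smul] at ht
    obtain ⟨c, hc⟩ := (IsLocalizedModule.mk'_eq_mk'_iff mk _ _ _ _).1 ht
    -- `a` times a multiple of `m` lies in `J`
    have h1 : a • (((c : Q.primeCompl) * t : Q.primeCompl) • m) ∈ J := by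
      have h2 : c • t • a • m ∈ J := by
        rw [hc]; exact J.smul_mem _ (J.smul_mem _ hj)
      rw [Submonoid.smul_def, Submonoid.coe_mul, smul_comm, mul_smul]
      exact h2
    have h2 : ((c * t : Q.primeCompl) • m) ∈ J :=
      (tmul_eq_zero_iff p₁ p.ResidueField hker _).1 (hfib _ ((tmul_eq_zero_iff p₁ p.ResidueField hker _).2 h1))
    exact ⟨_, h2, (c * t) * s, IsLocalizedModule.mk'_cancel_left mk m _ _⟩
  have hinj := FlatLoc6.regular_self hreg
  haveI : Module.Flat A (QuotSMulTop (algebraMap P₁ B a) N) := FlatLoc6.flat_quotSMulTop hreg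
  haveI : Module.Flat R₁ A := IsLocalization.flat A p₁.primeCompl
  haveI : Module.Flat R₁ (QuotSMulTop (algebraMap P₁ B a) N) := Module.Flat.trans R₁ A _
  let μ : N →ₗ[R₁] N := ((LinearMap.lsmul B N (algebraMap P₁ B a))).restrictScalars R₁
  let π : N →ₗ[R₁] QuotSMulTop (algebraMap P₁ B a) N := (Submodule.mkQ _).restrictScalars R₁
  have hex : Function.Exact μ π := fun x => by
    show Submodule.Quotient.mk x = 0 ↔ _
    rw [Submodule.Quotient.mk_eq_zero, Submodule.mem_smul_pointwise_iff_exists]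
    exact ⟨fun ⟨k, _, hk⟩ => ⟨k, hk⟩, fun ⟨k, hk⟩ => ⟨k, Submodule.mem_top, hk⟩⟩
  have hμR : Function.Injective (μ.rTensor R) := by
    rw [← LinearMap.lTensor_inj_iff_rTensor_inj]
    exact LinearMap.lTensor_injective_of_exact_of_flat π (Submodule.mkQ_surjective _) μ hinj hex R
  let φ : M₁ ⊗[R₁] R →ₗ[P₁] N ⊗[R₁] R := AlgebraTensorModule.rTensor R₁ R mk
  have hcomm : ∀ y, φ (a • y) = μ.rTensor R (φ y) := by
    intro y
    induction y using TensorProduct.induction_on with
    | zero => simp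
    | tmul m r => simp [φ, μ, TensorProduct.smul_tmul']
    | add y w hy hw => simp only [smul_add, map_add, hy, hw]
  have h0 : φ z = 0 := hμR (by rw [← hcomm, hz, map_zero, map_zero])
  obtain ⟨⟨s, hs⟩, hsz⟩ := (IsLocalizedModule.eq_zero_iff Q.primeCompl φ).1 h0
  exact ⟨s, hs, hsz⟩

omit [Module.Finite P₁ M₁] [Module.Flat R₁ M₁] in
lemma residueField_ker (p : Ideal R) [p.IsPrime] :
    RingHom.ker (algebraMap R₁ p.ResidueField) = p.comap (algebraMap R₁ R) := by
  rw [IsScalarTower.algebraMap_eq R₁ R p.ResidueField, ← RingHom.comap_ker, Ideal.ker_algebraMap_residueField]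

/-- An element regular on all the fibres of a flat module with a model over a noetherian base is regular. -/
theorem isSMulRegular {P M : Type u} [CommRing P] [Algebra R P] [AddCommGroup M] [Module P M] [Module R M]
    [IsScalarTower R P M] [Module R₁ M] [IsScalarTower R₁ R M] (g : P₁ →+* P)
    (hg : g.comp (algebraMap R₁ P₁) = (algebraMap R P).comp (algebraMap R₁ R))
    (j : M₁ →ₗ[R₁] M) (hj : IsBaseChange R j) (hjs : ∀ (x : P₁) (m : M₁), j (x • m) = g x • j m) (a : P₁)
    (hfib : ∀ (p : Ideal R) [p.IsPrime] (m : M₁),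
      (1 : p.ResidueField) ⊗ₜ[R₁] (a • m) = 0 → (1 : p.ResidueField) ⊗ₜ[R₁] m = 0) :
    IsSMulRegular M (g a) := by
  rw [isSMulRegular_iff_right_eq_zero_of_smul]
  intro x hx
  let θ : M₁ ⊗[R₁] R ≃+ M := (TensorProduct.comm R₁ M₁ R).toAddEquiv.trans hj.equiv.toAddEquiv
  have hθ : ∀ (b : P₁) y, θ (b • y) = g b • θ y := by
    intro b y
    induction y using TensorProduct.induction_on with
    | zero => simp
    | tmul m r =>
      show hj.equiv (r ⊗ₜ[R₁] (b • m)) = g b • hj.equiv (r ⊗ₜ[R₁] m)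
      rw [hj.equiv_tmul, hj.equiv_tmul, hjs, smul_comm]
    | add y w hy hw => simp only [smul_add, map_add, hy, hw]
  obtain ⟨z, rfl⟩ := θ.surjective x
  have hz : a • z = 0 := θ.injective (by rw [hθ, hx, map_zero])
  by_contra h
  obtain ⟨q, hq, hle⟩ := Ideal.exists_le_maximal (Module.annihilator P (Submodule.span P {θ z})) (fun htop => h (by
    have h1 : (1 : P) ∈ Module.annihilator P (Submodule.span P {θ z}) := htop ▸ Submodule.mem_top
    have h2 := congrArg Subtype.val (Module.mem_annihilator.1 h1 ⟨θ z, Submodule.mem_span_singleton_self _⟩)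
    simpa using h2))
  haveI := hq.isPrime
  obtain ⟨s, hs, hsz⟩ := exists_smul_eq_zero (q.comap g) (q.comap (algebraMap R P))
    (by rw [Ideal.comap_comap, Ideal.comap_comap, hg]) a (hfib _) z hz
  refine hs (Ideal.mem_comap.2 (hle (Module.mem_annihilator.2 fun y => Subtype.ext ?_)))
  obtain ⟨c, hc⟩ := Submodule.mem_span_singleton.1 y.2
  show g s • (y : M) = 0
  rw [← hc, smul_comm, ← hθ, hsz, map_zero, smul_zero]

end Groth.Agent.DescLib.RelS1
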