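import Groth.Prelude.Def_DescFam
import Mathlib.AlgebraicGeometry.Sites.Fpqc

/-!
# Points factoring through a family, and gluing of morphisms for the fpqc topology
-/

universe w' w u

set_option autoImplicit false
set_option backward.isDefEq.respectTransparency false
set_option backward.isDefEq.respectTransparency.types false

open CategoryTheory CategoryTheory.Limits AlgebraicGeometry Opposite

namespace Groth.Agent.DescLib

variable {S : Scheme.{u}} {ι : Type w} {X : ι → Scheme.{u}} (f : ∀ i, X i ⟶ S)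

/-- The sieve on `T` of morphisms whose composite to `S` factors through some member of the family. -/
def factorSieve {T : Scheme.{u}} (x : T ⟶ S) : Sieve T where
  arrows T' t := ∃ (i : ι) (x' : T' ⟶ X i), x' ≫ f i = t ≫ x
  downward_closed := by
    rintro T' T'' t ⟨i, x', h⟩ g
    exact ⟨i, g ≫ x', by rw [Category.assoc, h, Category.assoc]⟩

lemma factorSieve_pullback {T T' : Scheme.{u}} (x : T ⟶ S) (g : T' ⟶ T) :
    (factorSieve f x).pullback g = factorSieve f (g ≫ x) := by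
  ext T'' t
  show (∃ i x', x' ≫ f i = (t ≫ g) ≫ x) ↔ ∃ i x', x' ≫ f i = t ≫ g ≫ x
  simp only [Category.assoc]

lemma factorSieve_mem_comp {J : GrothendieckTopology Scheme.{u}} {T T' : Scheme.{u}} {x : T ⟶ S}
    (h : factorSieve f x ∈ J T) (g : T' ⟶ T) : factorSieve f (g ≫ x) ∈ J T' :=
  factorSieve_pullback f x g ▸ J.pullback_stable g h

/-- A covering family of `S` gives covering sieves on all schemes over `S`. -/
lemma factorSieve_mem_of_cover {ι : Type u} {X : ι → Scheme.{u}} (f : ∀ i, X i ⟶ S)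
    (hf : Presieve.ofArrows X f ∈ Scheme.fpqcPrecoverage S) {T : Scheme.{u}} (x : T ⟶ S) :
    factorSieve f x ∈ Scheme.fpqcTopology T := by
  refine Scheme.fpqcTopology.superset_covering ?_
    (Scheme.fpqcTopology.pullback_stable x (Precoverage.generate_mem_toGrothendieck hf))
  rintro T' t ⟨Y, a, b, ⟨i⟩, e⟩
  exact ⟨i, a, e⟩

/-- Morphisms into a scheme are determined on an fpqc covering sieve. -/
lemma hom_ext_of_covering {V Z : Scheme.{u}} (R : Sieve V) (hR : R ∈ Scheme.fpqcTopology V)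
    (a b : V ⟶ Z) (h : ∀ ⦃T : Scheme.{u}⦄ (t : T ⟶ V), R t → t ≫ a = t ≫ b) : a = b :=
  ((GrothendieckTopology.Subcanonical.isSheaf_of_isRepresentable (J := Scheme.fpqcTopology)
    (yoneda.obj Z)) R hR).isSeparatedFor.ext h

/-- Morphisms into a scheme glue on an fpqc covering sieve. -/
lemma exists_glue {V Z : Scheme.{u}} (R : Sieve V) (hR : R ∈ Scheme.fpqcTopology V)
    (φ : ∀ ⦃T : Scheme.{u}⦄ (t : T ⟶ V), R t → (T ⟶ Z))
    (hφ : ∀ ⦃T T' : Scheme.{u}⦄ (g : T' ⟶ T) (t : T ⟶ V) (ht : R t) (t' : T' ⟶ V) (ht' : R t'),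
      t' = g ≫ t → φ t' ht' = g ≫ φ t ht) :
    ∃ a : V ⟶ Z, ∀ ⦃T : Scheme.{u}⦄ (t : T ⟶ V) (ht : R t), t ≫ a = φ t ht := by
  have hs := (GrothendieckTopology.Subcanonical.isSheaf_of_isRepresentable (J := Scheme.fpqcTopology)
    (yoneda.obj Z)) R hR
  let x : Presieve.FamilyOfElements (yoneda.obj Z) R.arrows := fun T t ht => φ t ht
  have hx : x.Compatible := by
    intro Y₁ Y₂ W g₁ g₂ f₁ f₂ h₁ h₂ e
    show g₁ ≫ φ f₁ h₁ = g₂ ≫ φ f₂ h₂
    rw [← hφ g₁ f₁ h₁ _ (R.downward_closed h₁ g₁) rfl, ← hφ g₂ f₂ h₂ _ (R.downward_closed h₁ g₁) e]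
  exact ⟨hs.amalgamate x hx, fun T t ht => hs.valid_glue hx t ht⟩

end Groth.Agent.DescLib
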