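import Groth.Agent.MorLib.LimPro
import Groth.Agent.MorLib.LimSpace
import Groth.Agent.MorLib.BaseChangeLim
import Groth.Agent.ProConsLib.Image

/-!
# Generalisations of a point and specialisations in limits
-/

set_option autoImplicit false
set_option backward.isDefEq.respectTransparency false
set_option backward.isDefEq.respectTransparency.types false
universe u

open AlgebraicGeometry CategoryTheory Limits TopologicalSpace Topology

namespace Groth.Agent.DescLib

/-- The generalisations of a point of an affine scheme form a pro-constructible set. -/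
theorem isProConstructible_gen {X : Scheme.{u}} [IsAffine X] (x : X) :
    ProCons.IsProConstructible {z : X | z ⤳ x} := by
  refine Groth.Agent.ProConsLib.isProConstructible_of_affine fun p => ⟨⊤, isAffineOpen_top X, trivial, ?_⟩
  obtain ⟨_, _, _, _⟩ := Groth.Agent.ProConsLib.spectral_opens (isAffineOpen_top X)
  refine ⟨{U | IsOpen U ∧ IsCompact U ∧ (⟨x, trivial⟩ : ((⊤ : X.Opens) : Set X)) ∈ U},
    fun U hU => hU.2.1.isConstructible hU.1, ?_⟩
  ext z
  simp only [Set.mem_preimage, Set.mem_setOf_eq, Set.mem_sInter]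
  constructor
  · intro hz U hU
    exact (IsInducing.subtypeVal.specializes_iff.1 (show ((z : ((⊤ : X.Opens) : Set X)) : X) ⤳
      ((⟨x, trivial⟩ : ((⊤ : X.Opens) : Set X)) : X) from hz)).mem_open hU.1 hU.2.2
  · intro h
    refine Specializes.map (specializes_iff_forall_open.2 fun O hO hxO => ?_) continuous_subtype_val
      (x := z) (y := (⟨x, trivial⟩ : ((⊤ : X.Opens) : Set X)))
    obtain ⟨U, ⟨hU, hU'⟩, hxU, hUO⟩ := PrespectralSpace.isTopologicalBasis.exists_subset_of_mem_open hxO hO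
    exact hUO (h U ⟨hU, hU', hxU⟩)

variable {I : Type u} [SmallCategory I] [IsCofiltered I] {D : I ⥤ Scheme.{u}} {c : Cone D}
  (hc : IsLimit c) [∀ {i j : I} (f : i ⟶ j), IsAffineHom (D.map f)]
include hc

/-- Specialisation in a limit is tested at every stage. -/
theorem specializes_of_forall_π {a b : c.pt} (h : ∀ j, c.π.app j a ⤳ c.π.app j b) : a ⤳ b := by
  refine specializes_iff_forall_open.2 fun O hO hbO => ?_
  obtain ⟨_, ⟨j, V, hV, rfl⟩, hbV, hVO⟩ :=
    Opens.isBasis_iff_nbhd.1 (isBasis_preimage_isAffineOpen D c hc) (U := ⟨O, hO⟩) hbO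
  exact hVO ((h j).mem_open V.isOpen hbV)

/-- A pair of points of the limit lifts along the limit of the maps `q`, if it lifts at every stage
below some stage. -/
theorem exists_lift_pair [∀ j, IsAffine (D.obj j)] (j₀ : I) {Y : I → Scheme.{u}}
    (q : ∀ j, D.obj j ⟶ Y j) (t : ∀ (i j : I) (_ : i ⟶ j), Y i ⟶ Y j)
    (hq : ∀ (i j : I) (φ : i ⟶ j), D.map φ ≫ q j = q i ≫ t i j φ)
    (y y' : ∀ j, Y j) (hy : ∀ (i j : I) (φ : i ⟶ j), t i j φ (y i) = y j)
    (hy' : ∀ (i j : I) (φ : i ⟶ j), t i j φ (y' i) = y' j)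
    (h : ∀ (j : I) (_ : j ⟶ j₀), ∃ x x' : D.obj j, x' ⤳ x ∧ q j x = y j ∧ q j x' = y' j) :
    ∃ s s' : c.pt, s' ⤳ s ∧ (∀ j, q j (c.π.app j s) = y j) ∧ ∀ j, q j (c.π.app j s') = y' j := by
  have hpro : ∀ j (p : Y j), ProCons.IsProConstructible (q j ⁻¹' {p}) := fun j p =>
    Groth.Agent.ProConsLib.preimage (Groth.Agent.MorLib.LimSpace.pro_singleton p) (q j)
  have hcl : ∀ j, ProCons.IsProConstructible (closure (q j ⁻¹' {y' j})) := fun j =>
    Groth.Agent.ProConsLib.isProConstructible_of_isLocallyClosed isClosed_closure.isLocallyClosed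
      fun V hV => hV.isCompact.inter_left isClosed_closure
  have hmap : ∀ (i j : I) (φ : i ⟶ j) (p : ∀ j, Y j), (∀ (i j : I) (φ : i ⟶ j), t i j φ (p i) = p j) →
      ∀ z, q i z = p i → q j (D.map φ z) = p j := fun i j φ p hp z hz => by
    rw [← Scheme.Hom.comp_apply, hq, Scheme.Hom.comp_apply, hz, hp]
  obtain ⟨s, hs⟩ := Groth.Agent.MorLib.LimPro.exists_mem hc j₀
    (fun j => q j ⁻¹' {y j} ∩ closure (q j ⁻¹' {y' j}))
    (fun j _ => Groth.Agent.MorLib.LimPro.isProConstructible_inter (hpro j _) (hcl j))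
    (fun i j φ z hz => ⟨hmap i j φ y hy z hz.1, map_mem_closure (D.map φ).continuous hz.2
      fun w hw => hmap i j φ y' hy' w hw⟩)
    (fun j φ => by
      obtain ⟨x, x', hx, e, e'⟩ := h j φ
      exact ⟨x, e, hx.mem_closed isClosed_closure (subset_closure e')⟩)
  obtain ⟨s', hs'⟩ := Groth.Agent.MorLib.LimPro.exists_mem hc j₀
    (fun j => q j ⁻¹' {y' j} ∩ {z | z ⤳ c.π.app j s})
    (fun j _ => Groth.Agent.MorLib.LimPro.isProConstructible_inter (hpro j _) (isProConstructible_gen _))
    (fun i j φ z hz => ⟨hmap i j φ y' hy' z hz.1, by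
      show D.map φ z ⤳ c.π.app j s
      rw [← c.w φ, Scheme.Hom.comp_apply]
      exact hz.2.map (D.map φ).continuous⟩)
    (fun j _ => Groth.Agent.ProConsLib.exists_specializes_of_mem_closure (hpro j _) (hs j).2)
  exact ⟨s, s', specializes_of_forall_π hc fun j => (hs' j).2, fun j => (hs j).1, fun j => (hs' j).1⟩

end Groth.Agent.DescLib
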