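import Mathlib.RepresentationTheory.Irreducible
import Mathlib.RepresentationTheory.Semisimple
import Mathlib.RepresentationTheory.Invariants
import Mathlib.RepresentationTheory.FDRep
import Mathlib.GroupTheory.Index
import Mathlib.GroupTheory.Abelianization.Defs
import Mathlib.FieldTheory.IsAlgClosed.Basic
import Mathlib.LinearAlgebra.Dual.Lemmas
import Mathlib.Algebra.CharP.Lemmas
import Mathlib.LinearAlgebra.LinearIndependent.Lemmas
import Mathlib.RingTheory.Artinian.Module

/-!
# Weight one representations of theta groups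
-/

universe u

set_option autoImplicit false

open Module

namespace Groth.Agent.DescLib.Theta

variable {k : Type u} [Field k] {Γ : Type u} [Group Γ] {ι : kˣ →* Γ}

/-- The hypotheses on a theta group. -/
structure IsTheta (ι : kˣ →* Γ) : Prop where
  inj : Function.Injective ι
  center : ι.range = Subgroup.center Γ
  comm : commutator Γ ≤ ι.range

variable (hθ : IsTheta ι)

include hθ in
lemma central (z : kˣ) (g : Γ) : g * ι z = ι z * g :=
  Subgroup.mem_center_iff.1 (hθ.center ▸ (⟨z, rfl⟩ : ι z ∈ ι.range)) g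

include hθ in
lemma normal : ι.range.Normal := hθ.center ▸ inferInstance

include hθ in
lemma exists_comm (g h : Γ) : ∃ z : kˣ, ι z = g * h * g⁻¹ * h⁻¹ :=
  hθ.comm (Subgroup.commutator_mem_commutator (Subgroup.mem_top g) (Subgroup.mem_top h))

/-- The commutator pairing. -/
noncomputable def c (g h : Γ) : kˣ := (exists_comm hθ g h).choose

lemma ι_c (g h : Γ) : ι (c hθ g h) = g * h * g⁻¹ * h⁻¹ := (exists_comm hθ g h).choose_spec

lemma swap (g h : Γ) : g * h = ι (c hθ g h) * (h * g) := by rw [ι_c]; group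

lemma c_mul_left (g g' h : Γ) : c hθ (g * g') h = c hθ g h * c hθ g' h := by
  apply hθ.inj
  calc ι (c hθ (g * g') h) = g * ι (c hθ g' h) * (h * g⁻¹ * h⁻¹) := by rw [ι_c, ι_c]; group
    _ = ι (c hθ g' h) * (g * h * g⁻¹ * h⁻¹) := by rw [central hθ]; group
    _ = _ := by rw [← ι_c hθ g h, ← map_mul, mul_comm]

lemma c_symm (g h : Γ) : c hθ g h = (c hθ h g)⁻¹ := by
  apply hθ.inj
  rw [map_inv, ι_c, ι_c]
  group

lemma c_mul_right (g h h' : Γ) : c hθ g (h * h') = c hθ g h * c hθ g h' := by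
  rw [c_symm hθ g, c_mul_left, mul_inv, ← c_symm, ← c_symm]

lemma c_one_left (h : Γ) : c hθ 1 h = 1 := by
  have := c_mul_left hθ 1 1 h
  rwa [one_mul, eq_comm, mul_eq_left] at this

lemma c_range_right (g : Γ) (z : kˣ) : c hθ g (ι z) = 1 := by
  apply hθ.inj
  rw [ι_c, central hθ, map_one]
  group

lemma c_range_left (z : kˣ) (h : Γ) : c hθ (ι z) h = 1 := by
  rw [c_symm, c_range_right, inv_one]

/-- The character attached to an element. -/
noncomputable def chi (h : Γ) : Γ →* k where
  toFun g := c hθ g h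
  map_one' := by rw [c_one_left]; rfl
  map_mul' g g' := by rw [c_mul_left]; rfl

lemma chi_apply (g h : Γ) : chi hθ h g = (c hθ g h : k) := rfl

include hθ in
lemma mem_range_of_c_eq_one (h : Γ) (hc : ∀ g, c hθ g h = 1) : h ∈ ι.range := by
  rw [hθ.center, Subgroup.mem_center_iff]
  intro g
  rw [swap hθ g h, hc g, map_one, one_mul]

lemma chi_injective_out {q q' : Γ ⧸ ι.range} (h : chi hθ q.out = chi hθ q'.out) : q = q' := by
  rw [← q.out_eq, ← q'.out_eq, QuotientGroup.eq]
  refine mem_range_of_c_eq_one hθ _ fun g => ?_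
  have h1 : c hθ g q.out = c hθ g q'.out := Units.ext (DFunLike.congr_fun h g)
  have h2 := c_mul_right hθ g q.out (q.out⁻¹ * q'.out)
  rw [mul_inv_cancel_left, ← h1, eq_comm, mul_eq_left] at h2
  exact h2

section Rep

variable {V : Type u} [AddCommGroup V] [Module k V] (ρ : Representation k Γ V)

/-- Weight one. -/
def WeightOne (ι : kˣ →* Γ) (ρ : Representation k Γ V) : Prop := ∀ (z : kˣ) (v : V), ρ (ι z) v = (z : k) • v

variable {ρ} (hρ : WeightOne ι ρ)

include hρ in
lemma rho_swap (g h : Γ) (v : V) : ρ g (ρ h v) = (c hθ g h : k) • ρ h (ρ g v) := by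
  rw [← Module.End.mul_apply, ← map_mul, swap hθ g h, map_mul, Module.End.mul_apply, hρ, map_mul, Module.End.mul_apply]

lemma rho_inv_self (g : Γ) (v : V) : ρ g⁻¹ (ρ g v) = v := by
  rw [← Module.End.mul_apply, ← map_mul, inv_mul_cancel, map_one, Module.End.one_apply]

lemma rho_self_inv (g : Γ) (v : V) : ρ g (ρ g⁻¹ v) = v := by
  rw [← Module.End.mul_apply, ← map_mul, mul_inv_cancel, map_one, Module.End.one_apply]

include hθ hρ in
/-- The operators of a set of representatives are linearly independent. -/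
lemma indep [Nontrivial V] [Fintype (Γ ⧸ ι.range)] (a : Γ ⧸ ι.range → k)
    (ha : ∀ v, ∑ q, a q • ρ q.out v = 0) : a = 0 := by
  funext q₀
  obtain ⟨v₀, hv₀⟩ := exists_ne (0 : V)
  obtain ⟨φ, hφ⟩ : ∃ φ : V →ₗ[k] k, φ (ρ q₀.out v₀) ≠ 0 :=
    Module.Projective.exists_dual_ne_zero k fun h => hv₀ (by simpa [rho_inv_self] using congrArg (ρ q₀.out⁻¹) h)
  have hdis : Function.Injective fun q : Γ ⧸ ι.range => chi hθ q.out := fun q q' h => chi_injective_out hθ h
  have hind := (linearIndependent_monoidHom Γ k).comp _ hdis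
  have h := Fintype.linearIndependent_iff.1 hind (fun q => a q * φ (ρ q.out v₀)) (funext fun y => ?_) q₀
  · simpa [hφ] using h
  have h1 := congrArg φ (congrArg (ρ y) (ha (ρ y⁻¹ v₀)))
  simp only [map_sum, map_smul, map_zero, smul_eq_mul] at h1
  rw [Finset.sum_apply, Pi.zero_apply]
  refine (Finset.sum_congr rfl fun q _ => ?_).trans h1
  rw [rho_swap hθ hρ, map_smul, rho_self_inv, smul_eq_mul, Pi.smul_apply, smul_eq_mul, Function.comp_apply]
  show a q * φ _ * (c hθ y q.out : k) = _
  ring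

lemma nontrivial_of_irreducible (hV : ρ.IsIrreducible) : Nontrivial V := by
  haveI := hV
  by_contra h
  rw [not_nontrivial_iff_subsingleton] at h
  obtain ⟨P, P', hne⟩ := exists_pair_ne (Subrepresentation ρ)
  exact hne (Subrepresentation.toSubmodule_injective (Subsingleton.elim _ _))

variable {W : Type u} [AddCommGroup W] [Module k W] {σ : Representation k Γ W} (hσ : WeightOne ι σ)

/-- Averaging of a linear map. -/
noncomputable def avg [Fintype (Γ ⧸ ι.range)] (ρ : Representation k Γ V) (σ : Representation k Γ W)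
    (T : V →ₗ[k] W) : V →ₗ[k] W :=
  ∑ q : Γ ⧸ ι.range, σ q.out ∘ₗ T ∘ₗ ρ q.out⁻¹

include hρ hσ in
/-- The averaged map is intertwining. -/
lemma avg_intertwines [Fintype (Γ ⧸ ι.range)] (T : V →ₗ[k] W) (y : Γ) (v : V) :
    avg (ι := ι) ρ σ T (ρ y v) = σ y (avg (ι := ι) ρ σ T v) := by
  have hF : ∀ g g' : Γ, (g : Γ ⧸ ι.range) = g' → ∀ x, σ g (T (ρ g⁻¹ x)) = σ g' (T (ρ g'⁻¹ x)) := by
    intro g g' h x
    obtain ⟨z, hz⟩ := QuotientGroup.eq.1 h
    obtain rfl : g' = g * ι z := by rw [hz, mul_inv_cancel_left]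
    rw [map_mul, Module.End.mul_apply, hσ, mul_inv_rev, map_mul, Module.End.mul_apply, ← map_inv, hρ]
    simp only [map_smul, smul_smul, ← Units.val_mul, mul_inv_cancel, Units.val_one, one_smul]
  simp only [avg, LinearMap.sum_apply, LinearMap.comp_apply, map_sum]
  rw [← Equiv.sum_comp (MulAction.toPerm y) fun q : Γ ⧸ ι.range => σ q.out (T (ρ q.out⁻¹ (ρ y v)))]
  refine Finset.sum_congr rfl fun q _ => ?_
  rw [hF (MulAction.toPerm y q).out (y * q.out)
    ((QuotientGroup.out_eq' _).trans (congrArg (fun x : Γ ⧸ ι.range => y • x) q.out_eq.symm))]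
  rw [map_mul, Module.End.mul_apply, mul_inv_rev, map_mul, Module.End.mul_apply, rho_inv_self]

lemma avg_smulRight [Fintype (Γ ⧸ ι.range)] (f : V →ₗ[k] k) (w : W) (x : V) :
    avg (ι := ι) ρ σ (f.smulRight w) x = ∑ q : Γ ⧸ ι.range, f (ρ q.out⁻¹ x) • σ q.out w := by
  simp [avg]

include hθ hσ in
lemma exists_avg_ne_zero [Fintype (Γ ⧸ ι.range)] [Nontrivial W] (f : V →ₗ[k] k) (hf : f ≠ 0) :
    ∃ w : W, avg (ι := ι) ρ σ (f.smulRight w) ≠ 0 := by
  by_contra h
  push_neg at h
  apply hf
  refine LinearMap.ext fun x => ?_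
  let q₁ : Γ ⧸ ι.range := ((1 : Γ) : Γ ⧸ ι.range)
  have h1 := indep hθ hσ (fun q => f (ρ q.out⁻¹ (ρ q₁.out x))) fun w => by
    rw [← avg_smulRight, h w]; rfl
  simpa [rho_inv_self] using congrFun h1 q₁

include hθ hρ hσ in
/-- Uniqueness. -/
lemma nonempty_equiv [Finite (Γ ⧸ ι.range)] (hV : ρ.IsIrreducible) (hW : σ.IsIrreducible) :
    Nonempty (ρ.Equiv σ) := by
  cases nonempty_fintype (Γ ⧸ ι.range)
  haveI := hV
  haveI := hW
  haveI : Nontrivial V := nontrivial_of_irreducible hV
  haveI : Nontrivial W := nontrivial_of_irreducible hW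
  obtain ⟨v, hv⟩ := exists_ne (0 : V)
  obtain ⟨f, hf⟩ := Module.Projective.exists_dual_ne_zero k hv
  obtain ⟨w, hw⟩ := exists_avg_ne_zero hθ hσ (ρ := ρ) f fun h => hf (by rw [h]; rfl)
  let φ : ρ.IntertwiningMap σ :=
    ⟨avg (ι := ι) ρ σ (f.smulRight w), fun g => LinearMap.ext fun x => avg_intertwines hρ hσ _ g x⟩
  exact ⟨φ.ofBijective ((Representation.IsIrreducible.bijective_or_eq_zero φ).resolve_right fun h =>
    hw (congrArg Representation.IntertwiningMap.toLinearMap h))⟩

include hρ in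
lemma exists_scalar [IsAlgClosed k] [FiniteDimensional k V] [Fintype (Γ ⧸ ι.range)]
    (hV : ρ.IsIrreducible) (T : V →ₗ[k] V) : ∃ a : k, ∀ v, avg (ι := ι) ρ ρ T v = a • v := by
  haveI := hV
  let φ : ρ.IntertwiningMap ρ :=
    ⟨avg (ι := ι) ρ ρ T, fun g => LinearMap.ext fun x => avg_intertwines hρ hρ _ g x⟩
  obtain ⟨a, ha⟩ := (Representation.IsIrreducible.algebraMap_intertwiningMap_bijective_of_isAlgClosed (ρ := ρ)).2 φ
  refine ⟨a, fun v => ?_⟩
  have := congrArg (fun ψ : ρ.IntertwiningMap ρ => ψ v) ha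
  exact this.symm

include hθ hρ in
/-- The operators of representatives span all endomorphisms. -/
lemma span_eq_top [IsAlgClosed k] [FiniteDimensional k V] [Fintype (Γ ⧸ ι.range)] (hV : ρ.IsIrreducible) :
    Submodule.span k (Set.range fun q : Γ ⧸ ι.range => ρ q.out) = ⊤ := by
  classical
  haveI := hV
  haveI : Nontrivial V := nontrivial_of_irreducible hV
  obtain ⟨w, hw⟩ := exists_ne (0 : V)
  obtain ⟨φ, hφ⟩ : ∃ φ : V →ₗ[k] k, φ w = 1 := by
    obtain ⟨φ, hφ⟩ := Module.Projective.exists_dual_ne_zero k hw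
    exact ⟨(φ w)⁻¹ • φ, by simp [hφ]⟩
  -- `Θ w f` is `v ↦ avg (f ⊗ v) w`
  let Θ : V → Dual k V →ₗ[k] (V →ₗ[k] V) := fun x =>
    { toFun := fun f => ∑ q : Γ ⧸ ι.range, f (ρ q.out⁻¹ x) • ρ q.out
      map_add' := fun f g => by simp [add_smul, Finset.sum_add_distrib]
      map_smul' := fun a f => by simp [Finset.smul_sum, smul_smul] }
  have hΘ : ∀ x f v, Θ x f v = avg (ι := ι) ρ ρ (f.smulRight v) x := fun x f v => by simp [Θ, avg_smulRight]
  let L : Dual k V →ₗ[k] Dual k V := (LinearMap.llcomp k V V k φ).comp (Θ w)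
  have hLw : ∀ f v x, Θ x f v = L f v • x := by
    intro f v x
    obtain ⟨a, ha⟩ := exists_scalar hρ hV (f.smulRight v)
    rw [hΘ, ha, show L f v = φ (Θ w f v) from rfl, hΘ, ha, map_smul, hφ, smul_eq_mul, mul_one]
  have hLinj : Function.Injective L := by
    rw [injective_iff_map_eq_zero]
    intro f hf
    by_contra hne
    obtain ⟨v, hv⟩ := exists_avg_ne_zero hθ hρ (ρ := ρ) f hne
    exact hv (LinearMap.ext fun x => by rw [← hΘ, hLw, hf, LinearMap.zero_apply, zero_smul]; rfl)
  have hsurj : Function.Surjective L := LinearMap.injective_iff_surjective.1 hLinj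
  rw [eq_top_iff]
  intro T _
  let bas := Module.finBasis k V
  have hT : T = ∑ i, (bas.coord i).smulRight (T (bas i)) := bas.ext fun j => by
    simp [Finsupp.single_apply]
  rw [hT]
  refine Submodule.sum_mem _ fun i _ => ?_
  obtain ⟨f, hf⟩ := hsurj (bas.coord i)
  have : (bas.coord i).smulRight (T (bas i)) = Θ (T (bas i)) f := LinearMap.ext fun v => by
    rw [hLw, hf]; rfl
  rw [this]
  exact Submodule.sum_mem _ fun q _ => Submodule.smul_mem _ _ (Submodule.subset_span ⟨q, rfl⟩)

include hθ hρ in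
lemma finrank_sq [IsAlgClosed k] [FiniteDimensional k V] [Finite (Γ ⧸ ι.range)] (hV : ρ.IsIrreducible) :
    finrank k V ^ 2 = Nat.card (Γ ⧸ ι.range) := by
  cases nonempty_fintype (Γ ⧸ ι.range)
  haveI := hV
  haveI : Nontrivial V := nontrivial_of_irreducible hV
  have hli : LinearIndependent k (fun q : Γ ⧸ ι.range => ρ q.out) :=
    Fintype.linearIndependent_iff.2 fun a ha q =>
      congrFun (indep hθ hρ a fun v => by simpa using LinearMap.congr_fun ha v) q
  have := Module.finrank_eq_card_basis (Basis.mk hli (span_eq_top hθ hρ hV).ge)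
  rw [Nat.card_eq_fintype_card, ← this, Module.finrank_linearMap, sq]

end Rep

section Existence

/-- Weight one functions. -/
def funSub (ι : kˣ →* Γ) : Submodule k (Γ → k) where
  carrier := {f | ∀ (z : kˣ) (g : Γ), f (ι z * g) = (z : k) * f g}
  add_mem' := fun {f g} hf hg z x => by simp only [Pi.add_apply, hf z x, hg z x, mul_add]
  zero_mem' := fun z x => by simp
  smul_mem' := fun a f hf z x => by simp only [Pi.smul_apply, smul_eq_mul, hf z x]; ring

/-- Right translations. -/
def funRep (ι : kˣ →* Γ) : Representation k Γ (funSub ι) where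
  toFun g := LinearMap.restrict (LinearMap.funLeft k k (· * g))
    (p := funSub ι) (q := funSub ι) fun f hf z x => by
      show f (ι z * x * g) = _
      rw [mul_assoc, hf z (x * g)]; rfl
  map_one' := LinearMap.ext fun f => Subtype.ext (funext fun x => congrArg f.1 (mul_one x))
  map_mul' g h := LinearMap.ext fun f => Subtype.ext (funext fun x => congrArg f.1 (mul_assoc x g h).symm)

include hθ in
lemma funRep_weightOne : WeightOne ι (funRep (k := k) ι) := fun z f => Subtype.ext <| funext fun x => by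
  show f.1 (x * ι z) = _
  rw [central hθ, f.2 z x]
  rfl

include hθ in
lemma finite_funSub [Finite (Γ ⧸ ι.range)] : FiniteDimensional k (funSub (k := k) ι) := by
  haveI := normal hθ
  refine FiniteDimensional.of_injective
    ((LinearMap.funLeft k k fun q : Γ ⧸ ι.range => q.out).comp (funSub (k := k) ι).subtype) ?_
  intro f g h
  refine Subtype.ext (funext fun x => ?_)
  obtain ⟨z, hz⟩ := (QuotientGroup.eq_iff_div_mem (N := ι.range) (x := x) (y := (x : Γ ⧸ ι.range).out)).1
    (QuotientGroup.out_eq' (x : Γ ⧸ ι.range)).symm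
  rw [show x = ι z * (x : Γ ⧸ ι.range).out by rw [hz, div_mul_cancel], f.2, g.2]
  exact congrArg _ (congrFun h _)

include hθ in
lemma nontrivial_funSub : Nontrivial (funSub (k := k) ι) := by
  classical
  let f₀ : Γ → k := Function.extend ι (fun z => (z : k)) 0
  have hf₀ : f₀ ∈ funSub ι := by
    intro z g
    by_cases hg : g ∈ ι.range
    · obtain ⟨w, rfl⟩ := hg
      simp [f₀, ← map_mul, hθ.inj.extend_apply]
    · have : ι z * g ∉ ι.range := fun h => hg ((Subgroup.mul_mem_cancel_left ι.range (x := ι z) ⟨z, rfl⟩).1 h)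
      simp only [f₀]
      rw [Function.extend_apply' _ _ _ (fun ⟨w, hw⟩ => this ⟨w, hw⟩),
        Function.extend_apply' _ _ _ (fun ⟨w, hw⟩ => hg ⟨w, hw⟩)]
      simp
  refine ⟨⟨⟨f₀, hf₀⟩, 0, fun h => ?_⟩⟩
  have h1 : f₀ (ι 1) = 0 := congrFun (congrArg Subtype.val h) (ι 1)
  simp only [f₀, hθ.inj.extend_apply, Units.val_one] at h1
  exact one_ne_zero h1

include hθ in
lemma exists_irreducible [Finite (Γ ⧸ ι.range)] :
    ∃ V : FDRep k Γ, Representation.IsIrreducible V.ρ ∧ ∀ (z : kˣ) (v : V), V.ρ (ι z) v = (z : k) • v := by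
  classical
  haveI := finite_funSub hθ
  haveI := nontrivial_funSub hθ
  let ρ₀ := funRep (k := k) ι
  have hex : ∃ d, ∃ U : Subrepresentation ρ₀, U.toSubmodule ≠ ⊥ ∧ finrank k U.toSubmodule = d :=
    ⟨_, ⟨⊤, fun _ _ _ => trivial⟩, top_ne_bot, rfl⟩
  obtain ⟨U, hU0, hUd⟩ := Nat.find_spec hex
  haveI : Nontrivial U.toSubmodule := Submodule.nontrivial_iff_ne_bot.2 hU0
  refine ⟨FDRep.of (V := ↥U.toSubmodule) U.toRepresentation, ?_, ?_⟩
  swap
  · exact fun z v => Subtype.ext (funRep_weightOne hθ z v.1)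
  show Representation.IsIrreducible (V := ↥U.toSubmodule) U.toRepresentation
  haveI : Nontrivial (Subrepresentation U.toRepresentation) :=
    ⟨⊥, ⊤, fun h => bot_ne_top (congrArg Subrepresentation.toSubmodule h)⟩
  refine ⟨fun P => ?_⟩
  by_cases hP : P.toSubmodule = ⊥
  · exact Or.inl (Subrepresentation.toSubmodule_injective hP)
  refine Or.inr (Subrepresentation.toSubmodule_injective ?_)
  let P' : Subrepresentation ρ₀ :=
    ⟨P.toSubmodule.map U.toSubmodule.subtype, fun g v hv => by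
      obtain ⟨v, hv, rfl⟩ := hv
      exact ⟨_, P.apply_mem_toSubmodule g hv, rfl⟩⟩
  have hP' : P'.toSubmodule ≠ ⊥ := fun h => hP (Submodule.map_injective_of_injective U.toSubmodule.subtype_injective (h.trans (Submodule.map_bot _).symm))
  have h1 := Nat.find_min' hex ⟨P', hP', rfl⟩
  rw [← hUd, Submodule.finrank_map_subtype_eq] at h1
  exact Submodule.eq_top_of_finrank_eq (K := k) (V := ↥U.toSubmodule) (S := P.toSubmodule) (le_antisymm (Submodule.finrank_le (R := k) (M := ↥U.toSubmodule) P.toSubmodule) h1)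

end Existence

end Groth.Agent.DescLib.Theta
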