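import Groth.Agent.DescLib.Theta

/-!
# Level subgroups of theta groups
-/

universe u

set_option autoImplicit false

open Module

namespace Groth.Agent.DescLib.Theta

variable {k : Type u} [Field k] {Γ : Type u} [Group Γ] {ι : kˣ →* Γ} (hθ : IsTheta ι)
variable {V : Type u} [AddCommGroup V] [Module k V] {ρ : Representation k Γ V} (hρ : WeightOne ι ρ)

include hθ in
lemma card_ne_zero [Finite (Γ ⧸ ι.range)] (hcop : (Nat.card (Γ ⧸ ι.range)).Coprime (ringExpChar k)) :
    (Nat.card (Γ ⧸ ι.range) : k) ≠ 0 := by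
  intro h
  obtain ⟨q, hq⟩ := CharP.exists k
  haveI := hq
  rcases CharP.char_is_prime_or_zero k q with hp | hp
  · have hdvd := (CharP.cast_eq_zero_iff k q _).1 h
    haveI : ExpChar k q := ExpChar.prime hp
    rw [ringExpChar.eq k q] at hcop
    exact hp.ne_one (Nat.dvd_one.1 (hcop ▸ Nat.dvd_gcd hdvd dvd_rfl))
  · subst hp
    haveI := CharP.charP_to_charZero k
    exact Nat.card_pos.ne' (Nat.cast_eq_zero.1 h)

lemma cast_ne_zero_of_dvd {a b : ℕ} (hb : (b : k) ≠ 0) (h : a ∣ b) : (a : k) ≠ 0 := by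
  obtain ⟨c, rfl⟩ := h
  rw [Nat.cast_mul] at hb
  exact left_ne_zero_of_mul hb

include hθ hρ in
lemma isSemisimple [Finite (Γ ⧸ ι.range)] (hn : (Nat.card (Γ ⧸ ι.range) : k) ≠ 0) :
    ρ.IsSemisimpleRepresentation := by
  cases nonempty_fintype (Γ ⧸ ι.range)
  refine ⟨fun U => ?_⟩
  obtain ⟨T, hT⟩ := U.toSubmodule.subtype.exists_leftInverse_of_injective U.toSubmodule.ker_subtype
  let T' : V →ₗ[k] V := U.toSubmodule.subtype ∘ₗ T
  let P : V →ₗ[k] V := (Nat.card (Γ ⧸ ι.range) : k)⁻¹ • avg (ι := ι) ρ ρ T'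
  have hP : ∀ v, P v ∈ U.toSubmodule := fun v => by
    simp only [P, avg, LinearMap.smul_apply, LinearMap.sum_apply, LinearMap.comp_apply]
    exact Submodule.smul_mem _ _ (Submodule.sum_mem _ fun q _ => U.apply_mem_toSubmodule _ (T _).2)
  have hPU : ∀ v ∈ U.toSubmodule, P v = v := fun v hv => by
    have h1 : ∀ q : Γ ⧸ ι.range, ρ q.out (T' (ρ q.out⁻¹ v)) = v := fun q => by
      have := LinearMap.congr_fun hT ⟨_, U.apply_mem_toSubmodule q.out⁻¹ hv⟩
      simp only [LinearMap.comp_apply, Submodule.subtype_apply, LinearMap.id_apply] at this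
      simp only [T', LinearMap.comp_apply, this, Submodule.subtype_apply, rho_self_inv]
    simp only [P, avg, LinearMap.smul_apply, LinearMap.sum_apply, LinearMap.comp_apply, h1, Finset.sum_const,
      Finset.card_univ, ← Nat.card_eq_fintype_card, ← Nat.cast_smul_eq_nsmul k, smul_smul, inv_mul_cancel₀ hn, one_smul]
  refine ⟨⟨LinearMap.ker P, fun g v hv => ?_⟩, ?_, ?_⟩
  · rw [LinearMap.mem_ker] at hv ⊢
    simp only [P, LinearMap.smul_apply] at hv ⊢
    rw [avg_intertwines hρ hρ, ← map_smul, hv, map_zero]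
  · rw [disjoint_iff_inf_le]
    intro v hv
    exact (hPU v hv.1).symm.trans hv.2
  · rw [codisjoint_iff_le_sup]
    intro v _
    refine Submodule.mem_sup.2 ⟨P v, hP v, v - P v, ?_, add_sub_cancel _ _⟩
    show P (v - P v) = 0
    rw [map_sub, hPU _ (hP v), sub_self]

/-- A maximal subgroup meeting the centre trivially is its own centraliser modulo the centre. -/
lemma mem_sup_of_commutes [IsAlgClosed k] [Finite (Γ ⧸ ι.range)] {H : Subgroup Γ} (hH : H ⊓ ι.range = ⊥)
    (hmax : ∀ H' : Subgroup Γ, H' ⊓ ι.range = ⊥ → H ≤ H' → H' = H) (g : Γ)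
    (hg : ∀ h ∈ H, c hθ g h = 1) : g ∈ H ⊔ ι.range := by
  classical
  haveI := normal hθ
  have hex : ∃ m, 0 < m ∧ g ^ m ∈ H ⊔ ι.range :=
    ⟨_, Nat.card_pos, SetLike.le_def.1 le_sup_right ((QuotientGroup.eq_one_iff (N := ι.range) _).1
      (by rw [QuotientGroup.mk_pow, pow_card_eq_one']))⟩
  obtain ⟨hmpos, hmem⟩ := Nat.find_spec hex
  obtain ⟨h₀, hh₀, _, ⟨w, rfl⟩, hw⟩ := Subgroup.mem_sup_of_normal_right.1 hmem
  obtain ⟨z, hz⟩ := IsAlgClosed.exists_pow_nat_eq ((w⁻¹ : kˣ) : k) hmpos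
  have hz0 : z ≠ 0 := fun h => (w⁻¹ : kˣ).ne_zero (by rw [← hz, h, zero_pow hmpos.ne'])
  let zu : kˣ := Units.mk0 z hz0
  have hzu : zu ^ Nat.find hex = w⁻¹ := Units.ext (by simpa [zu] using hz)
  let g' := g * ι zu
  have hg' : g' ^ (Nat.find hex) = h₀ := by
    rw [Commute.mul_pow (central hθ zu g), ← hw, ← map_pow, hzu, map_inv, mul_inv_cancel_right]
  have hcomm : ∀ h ∈ H, Commute g' h := fun h hh => by
    show g' * h = h * g'
    rw [swap hθ g' h, c_mul_left, c_range_left, hg h hh, one_mul, map_one, one_mul]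
  let H' : Subgroup Γ :=
    { carrier := {x | ∃ h ∈ H, ∃ i : ℤ, x = h * g' ^ i}
      one_mem' := ⟨1, one_mem _, 0, by simp⟩
      mul_mem' := by
        rintro _ _ ⟨a, ha, i, rfl⟩ ⟨b, hb, j, rfl⟩
        refine ⟨a * b, mul_mem ha hb, i + j, ?_⟩
        rw [mul_assoc a, ← mul_assoc (g' ^ i), ((hcomm b hb).zpow_left i).eq, zpow_add]
        group
      inv_mem' := by
        rintro _ ⟨a, ha, i, rfl⟩
        refine ⟨a⁻¹, inv_mem ha, -i, ?_⟩
        rw [mul_inv_rev, ← zpow_neg, ((hcomm a⁻¹ (inv_mem ha)).zpow_left (-i)).eq] }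
  have hle : H ≤ H' := fun h hh => ⟨h, hh, 0, by simp⟩
  have hbot : H' ⊓ ι.range = ⊥ := by
    rw [eq_bot_iff]
    rintro _ ⟨⟨h, hh, i, rfl⟩, hZ⟩
    have h1 : g' ^ i ∈ H ⊔ ι.range := by
      rw [← inv_mul_cancel_left h (g' ^ i)]
      exact mul_mem (SetLike.le_def.1 le_sup_left (inv_mem hh)) (SetLike.le_def.1 le_sup_right hZ)
    have hmd : ((Nat.find hex : ℕ) : ℤ) ∣ i := by
      by_contra hnd
      have hlt := Int.emod_lt_of_pos i (by exact_mod_cast hmpos : (0 : ℤ) < (Nat.find hex : ℕ))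
      have hnn := Int.emod_nonneg i (by exact_mod_cast hmpos.ne' : ((Nat.find hex : ℕ) : ℤ) ≠ 0)
      obtain ⟨r, hr⟩ := Int.eq_ofNat_of_zero_le hnn
      rw [hr] at hlt
      refine Nat.find_min hex (by exact_mod_cast hlt : r < Nat.find hex) ⟨Nat.pos_of_ne_zero fun h0 => hnd (Int.dvd_of_emod_eq_zero (by rw [hr, h0]; rfl)), ?_⟩
      have e : g' ^ (r : ℤ) ∈ H ⊔ ι.range := by
        rw [← hr, Int.emod_def, zpow_sub, zpow_mul, zpow_natCast, hg']
        exact mul_mem h1 (inv_mem (zpow_mem (SetLike.le_def.1 le_sup_left hh₀) _))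
      rw [zpow_natCast, Commute.mul_pow (central hθ zu g), ← map_pow] at e
      exact (Subgroup.mul_mem_cancel_right _ ((le_sup_right : ι.range ≤ H ⊔ ι.range) ⟨_, rfl⟩)).1 e
    obtain ⟨t, rfl⟩ := hmd
    rw [zpow_mul, zpow_natCast, hg'] at hZ ⊢
    exact hH.le ⟨mul_mem hh (zpow_mem hh₀ t), hZ⟩
  have : g' ∈ H := hmax H' hbot hle ▸ ⟨1, one_mem _, 1, by simp⟩
  rw [show g = g' * (ι zu)⁻¹ by simp [g']]
  exact mul_mem (SetLike.le_def.1 le_sup_left this) (inv_mem (SetLike.le_def.1 le_sup_right ⟨zu, rfl⟩))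

section Decomp

variable {H : Subgroup Γ}

/-- Averaging over a finite subgroup. -/
noncomputable def proj (ρ : Representation k Γ V) (H : Subgroup Γ) [Fintype H] : V →ₗ[k] V :=
  (Nat.card H : k)⁻¹ • ∑ h : H, ρ h

lemma proj_mem [Fintype H] (v : V) :
    proj ρ H v ∈ Representation.invariants (ρ.comp H.subtype) := by
  intro h
  show ρ h (proj ρ H v) = _
  simp only [proj, LinearMap.smul_apply, LinearMap.sum_apply, map_smul, map_sum]
  congr 1
  exact Fintype.sum_equiv (Equiv.mulLeft h) _ _ fun x => by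
    simp [← Module.End.mul_apply, ← map_mul]

lemma proj_fix [Fintype H] (hc : (Nat.card H : k) ≠ 0) {v : V}
    (hv : v ∈ Representation.invariants (ρ.comp H.subtype)) : proj ρ H v = v := by
  simp only [proj, LinearMap.smul_apply, LinearMap.sum_apply]
  rw [Finset.sum_congr rfl fun (h : H) _ => (show ρ (h : Γ) v = v from hv h), Finset.sum_const, Finset.card_univ, ← Nat.cast_smul_eq_nsmul k,
    smul_smul, ← Nat.card_eq_fintype_card, inv_mul_cancel₀ hc, one_smul]

include hρ in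
/-- `ρ g` moves the invariants to an eigenspace. -/
lemma proj_rho [Fintype H] (hH : ∀ g, (∀ h ∈ H, c hθ g h = 1) → g ∈ H ⊔ ι.range) {g : Γ}
    (hg : g ∉ H ⊔ ι.range) {v : V} (hv : v ∈ Representation.invariants (ρ.comp H.subtype)) :
    proj ρ H (ρ g v) = 0 := by
  have h1 : ∀ h : H, ρ h (ρ g v) = (c hθ h g : k) • ρ g v := fun h => by
    rw [rho_swap hθ hρ]
    exact congrArg _ (congrArg _ (hv h))
  simp only [proj, LinearMap.smul_apply, LinearMap.sum_apply, h1, ← Finset.sum_smul]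
  obtain ⟨h₁, hh₁, hne⟩ : ∃ h ∈ H, c hθ g h ≠ 1 := by
    by_contra hcon
    push_neg at hcon
    exact hg (hH g hcon)
  let f : H →* k := (chi hθ g).comp H.subtype
  have hf : f ≠ 1 := fun h => hne (by
    have := DFunLike.congr_fun h ⟨h₁, hh₁⟩
    rw [c_symm, inv_eq_one]
    exact Units.ext this)
  rw [show ∑ h : H, (c hθ (h : Γ) g : k) = 0 from sum_hom_units_eq_zero f hf, zero_smul, smul_zero]

include hρ in
lemma finrank_eq_index_mul [FiniteDimensional k V] [Finite (Γ ⧸ ι.range)] (hn : (Nat.card (Γ ⧸ ι.range) : k) ≠ 0)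
    (hH : H ⊓ ι.range = ⊥) (hC : ∀ g, (∀ h ∈ H, c hθ g h = 1) → g ∈ H ⊔ ι.range) :
    finrank k V = (H ⊔ ι.range).index * finrank k (Representation.invariants (ρ.comp H.subtype)) := by
  classical
  haveI := normal hθ
  have hinj : Function.Injective ((QuotientGroup.mk' ι.range).comp H.subtype) := by
    rw [injective_iff_map_eq_one]
    intro h hh
    exact Subtype.ext ((Subgroup.mem_bot).1 (hH.le ⟨h.2, (QuotientGroup.eq_one_iff _).1 hh⟩))
  haveI : Finite H := Finite.of_injective _ hinj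
  cases nonempty_fintype H
  have hc : (Nat.card H : k) ≠ 0 := cast_ne_zero_of_dvd hn (Subgroup.card_dvd_of_injective _ hinj)
  let L := H ⊔ ι.range
  have hi : L.index ∣ Nat.card (Γ ⧸ ι.range) := Subgroup.index_dvd_of_le le_sup_right
  have hi' : (L.index : k) ≠ 0 := cast_ne_zero_of_dvd hn hi
  haveI : L.FiniteIndex := ⟨fun h => hi' (by rw [h, Nat.cast_zero])⟩
  haveI : L.Normal := ⟨fun x hx g => by
    rw [show g * x * g⁻¹ = ι (c hθ g x) * x by rw [ι_c]; group]
    exact mul_mem (SetLike.le_def.1 le_sup_right ⟨_, rfl⟩) hx⟩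
  cases nonempty_fintype (Γ ⧸ L)
  let W := Representation.invariants (ρ.comp H.subtype)
  let Φ : (Γ ⧸ L → W) →ₗ[k] V := ∑ r : Γ ⧸ L, ρ r.out ∘ₗ W.subtype ∘ₗ LinearMap.proj r
  have hΦinj : Function.Injective Φ := by
    rw [injective_iff_map_eq_zero]
    intro f hf
    funext r₀
    have h1 := congrArg (fun v => proj ρ H (ρ r₀.out⁻¹ v)) hf
    simp only [Φ, LinearMap.sum_apply, LinearMap.comp_apply, LinearMap.proj_apply, Submodule.subtype_apply,
      map_sum, map_zero] at h1
    rw [Finset.sum_eq_single r₀, rho_inv_self, proj_fix hc (f r₀).2] at h1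
    · exact Subtype.ext h1
    · intro r _ hr
      rw [← Module.End.mul_apply (ρ r₀.out⁻¹), ← map_mul]
      exact proj_rho hθ hρ hC (fun h => hr (by
        rw [← r.out_eq, ← r₀.out_eq]; exact (QuotientGroup.eq.2 h).symm)) (f r).2
    · simp
  have hΦsurj : Function.Surjective Φ := by
    intro w
    refine ⟨((Nat.card H : k) * (L.index : k)⁻¹) • fun r => (⟨proj ρ H (ρ r.out⁻¹ w), proj_mem _⟩ : W), ?_⟩
    rw [map_smul]
    have h1 : ∀ r : Γ ⧸ L, ∀ h : H, ρ r.out (ρ h (ρ r.out⁻¹ w)) = (c hθ r.out h : k) • ρ h w := fun r h => by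
      rw [rho_swap hθ hρ, rho_self_inv]
    have h2 : ∀ h : H, (h : Γ) ≠ 1 → ∑ r : Γ ⧸ L, (c hθ r.out h : k) = 0 := by
      intro h hne
      have hker : L ≤ (chi hθ (h : Γ)).ker := by
        rw [sup_le_iff]
        refine ⟨fun x hx => ?_, ?_⟩
        · show (c hθ x h : k) = 1
          have : c hθ x h = 1 := hθ.inj (by
            rw [map_one, ι_c]
            exact (Subgroup.mem_bot).1 (hH.le (Subgroup.mem_inf.2
              ⟨mul_mem (mul_mem (mul_mem hx h.2) (inv_mem hx)) (inv_mem h.2), ι_c hθ x h ▸ ⟨_, rfl⟩⟩)))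
          rw [this, Units.val_one]
        · rintro _ ⟨z, rfl⟩
          show (c hθ (ι z) h : k) = 1
          rw [c_range_left, Units.val_one]
      let f : Γ ⧸ L →* k := QuotientGroup.lift L (chi hθ (h : Γ)) hker
      have hfq : ∀ r, f r = (c hθ r.out h : k) := fun r => by
        conv_lhs => rw [← r.out_eq]
        rfl
      have hf : f ≠ 1 := fun hf1 => hne ((Subgroup.mem_bot).1 (hH.le ⟨h.2, mem_range_of_c_eq_one hθ _ fun g =>
        Units.ext (DFunLike.congr_fun hf1 (g : Γ ⧸ L))⟩))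
      simp only [← hfq]
      exact sum_hom_units_eq_zero f hf
    simp only [Φ, LinearMap.sum_apply, LinearMap.comp_apply, LinearMap.proj_apply, Submodule.subtype_apply, proj,
      LinearMap.smul_apply, map_smul, map_sum, h1]
    rw [← Finset.smul_sum, Finset.sum_comm]
    simp only [← Finset.sum_smul]
    rw [Finset.sum_eq_single (1 : H)]
    · simp only [Subgroup.coe_one, map_one, Module.End.one_apply, smul_smul]
      have h3 : ∀ r : Γ ⧸ L, c hθ r.out (1 : Γ) = 1 := fun r => by rw [c_symm, c_one_left, inv_one]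
      simp only [h3, Units.val_one, Finset.sum_const, Finset.card_univ, nsmul_eq_mul, mul_one]
      rw [← Nat.card_eq_fintype_card, ← Subgroup.index_eq_card]
      rw [show (Nat.card H : k) * (L.index : k)⁻¹ * ((Nat.card H : k)⁻¹ * (L.index : k)) = 1 by field_simp, one_smul]
    · intro h _ hne
      rw [h2 h fun h1 => hne (Subtype.ext h1), zero_smul]
    · simp
  rw [← LinearEquiv.finrank_eq (LinearEquiv.ofBijective Φ ⟨hΦinj, hΦsurj⟩), Module.finrank_pi_fintype, Finset.sum_const, Finset.card_univ, smul_eq_mul, ← Nat.card_eq_fintype_card, ← Subgroup.index_eq_card]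

include hθ hρ in
/-- An irreducible representation has a line of invariants. -/
lemma finrank_invariants_eq_one [IsAlgClosed k] [FiniteDimensional k V] [Finite (Γ ⧸ ι.range)]
    (hn : (Nat.card (Γ ⧸ ι.range) : k) ≠ 0) (hH : H ⊓ ι.range = ⊥)
    (hC : ∀ g, (∀ h ∈ H, c hθ g h = 1) → g ∈ H ⊔ ι.range) (hV : ρ.IsIrreducible) :
    finrank k (Representation.invariants (ρ.comp H.subtype)) = 1 := by
  classical
  haveI := normal hθ
  cases nonempty_fintype (Γ ⧸ ι.range)
  have hinj : Function.Injective ((QuotientGroup.mk' ι.range).comp H.subtype) := by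
    rw [injective_iff_map_eq_one]
    intro h hh
    exact Subtype.ext ((Subgroup.mem_bot).1 (hH.le ⟨h.2, (QuotientGroup.eq_one_iff _).1 hh⟩))
  haveI : Finite H := Finite.of_injective _ hinj
  cases nonempty_fintype H
  have hc : (Nat.card H : k) ≠ 0 := cast_ne_zero_of_dvd hn (Subgroup.card_dvd_of_injective _ hinj)
  haveI : Nontrivial V := nontrivial_of_irreducible hV
  set W := Representation.invariants (ρ.comp H.subtype) with hW
  have hne : W ≠ ⊥ := fun h => by
    have := finrank_eq_index_mul hθ hρ hn hH hC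
    rw [← hW, h, finrank_bot, mul_zero] at this
    exact (Module.finrank_pos (R := k) (M := V)).ne' this
  obtain ⟨x, hx, hx0⟩ := (Submodule.ne_bot_iff W).1 hne
  refine finrank_eq_one (⟨x, hx⟩ : W) (fun h => hx0 (congrArg Subtype.val h)) fun y => ?_
  obtain ⟨φ, hφ⟩ : ∃ φ : V →ₗ[k] k, φ x = 1 := by
    obtain ⟨φ, hφ⟩ := Module.Projective.exists_dual_ne_zero k hx0
    exact ⟨(φ x)⁻¹ • φ, by simp [hφ]⟩
  -- every endomorphism maps `x` into the line of `x` after projection
  have key : ∀ T : V →ₗ[k] V, proj ρ H (T x) ∈ Submodule.span k {x} := by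
    intro T
    have hT : T ∈ Submodule.span k (Set.range fun q : Γ ⧸ ι.range => ρ q.out) :=
      span_eq_top hθ hρ hV ▸ Submodule.mem_top
    induction hT using Submodule.span_induction with
    | mem T hT =>
      obtain ⟨q, rfl⟩ := hT
      beta_reduce
      by_cases hq : q.out ∈ H ⊔ ι.range
      · obtain ⟨h, hh, _, ⟨z, rfl⟩, he⟩ := Subgroup.mem_sup_of_normal_right.1 hq
        rw [← he, map_mul, Module.End.mul_apply, hρ, map_smul, show ρ h x = x from hx ⟨h, hh⟩, map_smul,
          proj_fix hc hx]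
        exact Submodule.smul_mem _ _ (Submodule.mem_span_singleton_self x)
      · rw [proj_rho hθ hρ hC hq hx]
        exact zero_mem _
    | zero => simp
    | add a b _ _ ha hb => simpa using add_mem ha hb
    | smul a b _ hb => simpa using Submodule.smul_mem _ a hb
  obtain ⟨c, hc'⟩ := Submodule.mem_span_singleton.1 (key (φ.smulRight (y : V)))
  rw [LinearMap.smulRight_apply, hφ, one_smul, proj_fix hc y.2] at hc'
  exact ⟨c, Subtype.ext hc'⟩

end Decomp

end Groth.Agent.DescLib.Theta
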