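import Groth.Agent.SimpGrp.Identities
import Mathlib.AlgebraicTopology.SimplicialSet.Boundary
import Mathlib.AlgebraicTopology.DoldKan.PInfty
import Mathlib.Algebra.Homology.Refinements
import Mathlib.Algebra.Category.Grp.Abelian
import Mathlib.Algebra.Category.Grp.EpiMono
import Mathlib.Algebra.Homology.QuasiIso
import Mathlib.Algebra.Category.Grp.Ulift

/-!
# Surjective quasi-isomorphisms of simplicial abelian groups
-/

universe u

set_option autoImplicit false
set_option backward.isDefEq.respectTransparency false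
set_option backward.isDefEq.respectTransparency.types false

open CategoryTheory Simplicial Opposite AlgebraicTopology

namespace Groth.Agent.DescLib.TrivFib

/-- The map out of the integers with value `x`. -/
def pt {A : AddCommGrpCat.{u}} (x : A) : AddCommGrpCat.of (ULift.{u} ℤ) ⟶ A :=
  AddCommGrpCat.ofHom ((zmultiplesHom A x).comp AddEquiv.ulift.toAddMonoidHom)

lemma pt_one {A : AddCommGrpCat.{u}} (x : A) : pt x (ULift.up 1) = x := one_zsmul x

lemma pt_ext {A : AddCommGrpCat.{u}} {a b : AddCommGrpCat.of (ULift.{u} ℤ) ⟶ A}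
    (h : a (ULift.up 1) = b (ULift.up 1)) : a = b := by
  refine AddCommGrpCat.hom_ext (AddMonoidHom.ext fun n => ?_)
  rw [show n = n.down • (ULift.up.{u} (1 : ℤ)) by ext; simp, map_zsmul, map_zsmul]
  exact congrArg (n.down • ·) h

section Complex

variable {ι : Type*} {c : ComplexShape ι} {K L : HomologicalComplex AddCommGrpCat.{u} c} (φ : K ⟶ L)

lemma exists_eq_d_of_mono (i j k : ι) (hi : c.prev j = i) (hk : c.next j = k)
    [Mono (HomologicalComplex.homologyMap φ j)] (x : K.X j) (hx : K.d j k x = 0) (y : L.X i)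
    (hy : φ.f j x = L.d i j y) : ∃ a : K.X i, K.d i j a = x := by
  obtain ⟨A', π, hπ, a, ha⟩ := (HomologicalComplex.mono_homologyMap_iff_up_to_refinements φ i j k hi hk).1
    inferInstance (pt x) (pt_ext (by rw [ConcreteCategory.comp_apply, pt_one, hx]; rfl)) (pt y)
    (pt_ext (by rw [ConcreteCategory.comp_apply, ConcreteCategory.comp_apply, pt_one, pt_one, hy]))
  obtain ⟨t, ht⟩ := (AddCommGrpCat.epi_iff_surjective π).1 hπ (ULift.up 1)
  exact ⟨a t, by rw [← ConcreteCategory.comp_apply, ← ha, ConcreteCategory.comp_apply, ht, pt_one]⟩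

lemma exists_decomp_of_epi (i j k : ι) (hi : c.prev j = i) (hk : c.next j = k)
    [Epi (HomologicalComplex.homologyMap φ j)] (y : L.X j) (hy : L.d j k y = 0) :
    ∃ x : K.X j, K.d j k x = 0 ∧ ∃ b : L.X i, y = φ.f j x + L.d i j b := by
  obtain ⟨A', π, hπ, a, ha, b, hb⟩ := (HomologicalComplex.epi_homologyMap_iff_up_to_refinements φ i j k hi hk).1
    inferInstance (pt y) (pt_ext (by rw [ConcreteCategory.comp_apply, pt_one, hy]; rfl))
  obtain ⟨t, ht⟩ := (AddCommGrpCat.epi_iff_surjective π).1 hπ (ULift.up 1)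
  refine ⟨a t, ?_, b t, ?_⟩
  · rw [← ConcreteCategory.comp_apply, ha]; rfl
  · have h := ConcreteCategory.congr_hom hb t
    rw [ConcreteCategory.comp_apply, ht, pt_one] at h
    exact h

end Complex

variable {X Y : SimplicialObject AddCommGrpCat.{u}} (f : X ⟶ Y)

/-- A cycle killed by `f` is the boundary of a normalized chain killed by `f`. -/
lemma exists_normalized [QuasiIso ((alternatingFaceMapComplex AddCommGrpCat.{u}).map f)]
    (hf : ∀ n, Function.Surjective (f.app n)) (n : ℕ) (r : X _⦋n⦌) (hr : f.app _ r = 0)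
    (hcyc : ∀ m (h : n = m + 1) (k : Fin (m + 2)), X.δ k (h ▸ r : X _⦋m + 1⦌) = 0) :
    ∃ w : X _⦋n + 1⦌, f.app _ w = 0 ∧ X.δ 0 w = r ∧ ∀ j : Fin (n + 1), X.δ j.succ w = 0 := by
  let KX := (alternatingFaceMapComplex AddCommGrpCat.{u}).obj X
  let KY := (alternatingFaceMapComplex AddCommGrpCat.{u}).obj Y
  let φ : KX ⟶ KY := (alternatingFaceMapComplex AddCommGrpCat.{u}).map f
  have hiso : ∀ j, IsIso (HomologicalComplex.homologyMap φ j) := fun j =>
    (quasiIsoAt_iff_isIso_homologyMap φ j).1 inferInstance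
  have hsum : ∀ m (x : X _⦋m + 1⦌), AlternatingFaceMapComplex.objD X m x =
      ∑ i : Fin (m + 2), (-1 : ℤ) ^ (i : ℕ) • X.δ i x := by
    intro m x
    let ev : (X _⦋m + 1⦌ ⟶ X _⦋m⦌) →+ X _⦋m⦌ := AddMonoidHom.mk' (fun ψ => ψ x) fun a b => rfl
    show ev (∑ i : Fin (m + 2), (-1 : ℤ) ^ (i : ℕ) • X.δ i) = _
    rw [map_sum]
    exact Finset.sum_congr rfl fun i _ => map_zsmul ev _ _
  have hd : ∀ m (x : X _⦋m + 1⦌), KX.d (m + 1) m x = AlternatingFaceMapComplex.objD X m x := fun m x => by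
    show (AlternatingFaceMapComplex.obj X).d (m + 1) m x = _
    rw [AlternatingFaceMapComplex.obj_d_eq]
    rfl
  have hcyc' : KX.d n ((ComplexShape.down ℕ).next n) r = 0 := by
    rcases n with _ | m
    · rw [KX.shape _ _ (by simp)]; rfl
    · rw [ChainComplex.next_nat_succ, hd, hsum]
      exact Finset.sum_eq_zero fun k _ => by rw [hcyc m rfl k, smul_zero]
  have hnat : ∀ m (x : X _⦋m⦌), φ.f m x = f.app _ x := fun m x => rfl
  obtain ⟨a, ha⟩ := exists_eq_d_of_mono φ (n + 1) n _ (ChainComplex.prev ℕ n) rfl r hcyc' 0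
    (by rw [hnat, hr, map_zero])
  have hfa : KY.d (n + 1) n (φ.f (n + 1) a) = 0 := by
    rw [← ConcreteCategory.comp_apply, φ.comm, ConcreteCategory.comp_apply, ha, hnat, hr]
  obtain ⟨c, hc, b, hb⟩ := exists_decomp_of_epi φ (n + 1 + 1) (n + 1) n (ChainComplex.prev ℕ (n + 1))
    (ChainComplex.next_nat_succ n) (φ.f (n + 1) a) hfa
  obtain ⟨b', hb'⟩ := hf (op ⦋n + 1 + 1⦌) b
  let a' : X _⦋n + 1⦌ := a - c - KX.d (n + 1 + 1) (n + 1) b'
  have ha' : KX.d (n + 1) n a' = r := by
    show KX.d (n + 1) n (a - c - KX.d (n + 1 + 1) (n + 1) b') = r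
    rw [map_sub, map_sub, ha, hc, sub_zero, ← ConcreteCategory.comp_apply, KX.d_comp_d]
    exact sub_zero r
  have hfa' : φ.f (n + 1) a' = 0 := by
    show φ.f (n + 1) (a - c - KX.d (n + 1 + 1) (n + 1) b') = 0
    rw [map_sub, map_sub, ← ConcreteCategory.comp_apply (KX.d _ _), ← φ.comm, ConcreteCategory.comp_apply,
      show φ.f (n + 1 + 1) b' = b from hb', hb]
    abel
  -- project to the normalized complex
  let w : X _⦋n + 1⦌ := (DoldKan.PInfty (X := X)).f (n + 1) a'
  have hfaces : ∀ j : Fin (n + 1), X.δ j.succ w = 0 := fun j =>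
    ConcreteCategory.congr_hom (DoldKan.HigherFacesVanish.of_P (n + 1) n j (by omega)) a'
  refine ⟨w, ?_, ?_, hfaces⟩
  · have h := ConcreteCategory.congr_hom (DoldKan.PInfty_f_naturality (n + 1) f) a'
    rw [ConcreteCategory.comp_apply, ConcreteCategory.comp_apply, show f.app _ a' = 0 from hfa', map_zero] at h
    exact h.symm
  · have h1 : KX.d (n + 1) n w = X.δ 0 w := by
      rw [hd, hsum, Fin.sum_univ_succ, Fin.val_zero, pow_zero, one_zsmul,
        Finset.sum_eq_zero fun j _ => by rw [hfaces j, smul_zero], add_zero]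
    rw [← h1]
    have h2 : KX.d (n + 1) n w = (DoldKan.PInfty (X := X)).f n (KX.d (n + 1) n a') :=
      (ConcreteCategory.congr_hom ((DoldKan.PInfty (X := X)).comm (n + 1) n) a')
    rw [h2, ha']
    rcases n with _ | m
    · rfl
    · have hv : DoldKan.HigherFacesVanish (m + 1) (pt r : _ ⟶ X _⦋m + 1⦌) := fun j _ =>
        pt_ext (by rw [ConcreteCategory.comp_apply, pt_one, hcyc m rfl j.succ]; rfl)
      have h3 := ConcreteCategory.congr_hom hv.comp_P_eq_self (ULift.up 1)
      rw [ConcreteCategory.comp_apply, pt_one] at h3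
      exact h3.trans (pt_one r)

theorem rlp_I {A B : SimplicialObject AddCommGrpCat.{u}} (f : A ⟶ B) [QuasiIso ((alternatingFaceMapComplex AddCommGrpCat.{u}).map f)]
    (hf : ∀ n, Function.Surjective (f.app n)) :
    SSet.modelCategoryQuillen.I.rlp (X := A ⋙ forget AddCommGrpCat.{u}) (Y := B ⋙ forget AddCommGrpCat.{u})
      (Functor.whiskerRight f (forget AddCommGrpCat.{u})) := by
  let X' : SSet.{u} := A ⋙ forget AddCommGrpCat.{u}
  let Y' : SSet.{u} := B ⋙ forget AddCommGrpCat.{u}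
  let f' : X' ⟶ Y' := Functor.whiskerRight f (forget AddCommGrpCat.{u})
  intro P Q g hg
  obtain ⟨n⟩ := hg
  refine ⟨fun {t b} sq => ?_⟩
  rcases n with _ | n
  · obtain ⟨x, hx⟩ := hf (op ⦋0⦌) (SSet.yonedaEquiv b)
    refine ⟨⟨{ l := SSet.yonedaEquiv.symm x, fac_left := SSet.boundary.hom_ext₀, fac_right := ?_ }⟩⟩
    rw [SSet.yonedaEquiv_symm_comp]
    exact (congrArg SSet.yonedaEquiv.symm hx).trans (Equiv.symm_apply_apply _ _)
  let x : Fin (n + 2) → A _⦋n⦌ := fun i => SSet.yonedaEquiv (SSet.boundary.ι i ≫ t)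
  let y : B _⦋n + 1⦌ := SSet.yonedaEquiv b
  have hxy : ∀ i, f.app _ (x i) = B.δ i y := fun i => by
    have h : (SSet.boundary.ι i ≫ t) ≫ f' = SSet.stdSimplex.δ i ≫ b := by
      rw [Category.assoc, show t ≫ f' = _ ≫ b from sq.w, SSet.boundary.ι_ι_assoc]
    exact (congrArg SSet.yonedaEquiv h).trans (SimpGrp.yonedaEquiv_δ_comp (X := Y') i b)
  -- fill the horn missing the zeroth face
  have hle : SSet.horn.{u} (n + 1) 0 ≤ SSet.boundary (n + 1) := by
    rw [SSet.horn_eq_iSup, SSet.boundary_eq_iSup]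
    exact iSup_le fun i => le_iSup (fun i : Fin (n + 2) => SSet.stdSimplex.face {i}ᶜ) i.1
  have hsq : CommSq (SSet.Subcomplex.homOfLE hle ≫ t) (SSet.horn.{u} (n + 1) 0).ι f' b :=
    ⟨by rw [Category.assoc, show t ≫ f' = _ ≫ b from sq.w, SSet.Subcomplex.homOfLE_ι_assoc]⟩
  have hJ := SimpGrp.rlp_J_addGrp f hf (SSet.horn.{u} (n + 1) 0).ι
    (SSet.modelCategoryQuillen.horn_ι_mem_J (n + 1) 0)
  haveI := hJ.sq_hasLift hsq
  let z : A _⦋n + 1⦌ := SSet.yonedaEquiv hsq.lift
  have hfz : f.app _ z = y := by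
    refine Eq.trans ?_ (congrArg SSet.yonedaEquiv hsq.fac_right)
    exact (SSet.yonedaEquiv_comp hsq.lift f').symm
  have hz : ∀ j : Fin (n + 1), A.δ j.succ z = x j.succ := by
    intro j
    refine ((SimpGrp.yonedaEquiv_δ_comp (X := X') j.succ hsq.lift).symm.trans (congrArg SSet.yonedaEquiv ?_))
    rw [← SSet.horn.ι_ι 0 j.succ (Fin.succ_ne_zero j), Category.assoc, hsq.fac_left, ← Category.assoc]
    congr 1
  -- the defect on the zeroth face
  let r : A _⦋n⦌ := x 0 - A.δ 0 z
  have hr : f.app _ r = 0 := by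
    show f.app _ (x 0 - A.δ 0 z) = 0
    rw [map_sub, hxy, sub_eq_zero, ← hfz]
    exact (SimpGrp.app_δ f' 0 z).symm
  have hcyc : ∀ m (h : n = m + 1) (k : Fin (m + 2)), A.δ k (h ▸ r : A _⦋m + 1⦌) = 0 := by
    rintro m rfl k
    show A.δ k (x 0 - A.δ 0 z) = 0
    rw [map_sub, sub_eq_zero]
    have h1 : A.δ k (x 0) = A.δ 0 (x k.succ) := by
      have h : SSet.stdSimplex.{u}.δ k ≫ SSet.boundary.ι (0 : Fin (m + 3)) =
          SSet.stdSimplex.δ 0 ≫ SSet.boundary.ι k.succ := by
        rw [← cancel_mono (SSet.boundary (m + 2)).ι, Category.assoc, Category.assoc, SSet.boundary.ι_ι,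
          SSet.boundary.ι_ι]
        exact (CosimplicialObject.δ_comp_δ SSet.stdSimplex (Fin.zero_le k)).symm
      have h' := congrArg SSet.yonedaEquiv (congrArg (· ≫ t) h)
      simp only [Category.assoc, SimpGrp.yonedaEquiv_δ_comp] at h'
      exact h'
    rw [h1, ← hz k]
    exact ConcreteCategory.congr_hom (A.δ_comp_δ (Fin.zero_le k)) z
  obtain ⟨w, hfw, hw0, hws⟩ := exists_normalized f hf n r hr hcyc
  refine ⟨⟨{ l := SSet.yonedaEquiv.symm (z + w : A _⦋n + 1⦌), fac_left := ?_, fac_right := ?_ }⟩⟩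
  · refine SSet.boundary.hom_ext fun i => SSet.yonedaEquiv.injective ?_
    rw [SSet.boundary.ι_ι_assoc, SimpGrp.yonedaEquiv_δ_comp, Equiv.apply_symm_apply]
    show A.δ i (z + w) = x i
    rw [map_add]
    induction i using Fin.cases with
    | zero => rw [hw0]; exact add_sub_cancel _ _
    | succ j => rw [hz j, hws j, add_zero]
  · rw [SSet.yonedaEquiv_symm_comp]
    refine (congrArg SSet.yonedaEquiv.symm ?_).trans (Equiv.symm_apply_apply _ _)
    show f.app _ (z + w) = y
    rw [map_add, hfz, hfw, add_zero]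

end Groth.Agent.DescLib.TrivFib
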