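import Groth.Agent.MorLib.UnivHomeo
import Mathlib.RingTheory.Spectrum.Prime.RingHom
import Mathlib.AlgebraicGeometry.Morphisms.Integral
import Mathlib.RingTheory.IntegralClosure.IsIntegralClosure.Basic
import Mathlib.AlgebraicGeometry.Pullbacks

/-!
# Radicial ring maps and the diagonal kernel
-/

universe u

set_option autoImplicit false
set_option backward.isDefEq.respectTransparency false
set_option backward.isDefEq.respectTransparency.types false

open CategoryTheory CategoryTheory.Limits AlgebraicGeometry TensorProduct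

namespace Groth.Agent.DescLib

variable (A D : Type u) [CommRing A] [CommRing D] [Algebra A D]

theorem universallyInjective_Spec_iff :
    UniversallyInjective (Spec.map (CommRingCat.ofHom (algebraMap A D))) ↔
      RingHom.ker (Algebra.TensorProduct.lmul' A : D ⊗[A] D →ₐ[A] D) ≤ nilradical (D ⊗[A] D) := by
  have hsurj : Function.Surjective (Algebra.TensorProduct.lmul' A : D ⊗[A] D →ₐ[A] D) :=
    fun d => ⟨d ⊗ₜ 1, by simp⟩
  rw [UniversallyInjective.iff_diagonal, diagonal_SpecMap,
    MorphismProperty.cancel_right_of_respectsIso (P := @Surjective), surjective_iff]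
  constructor
  · intro h
    rw [nilradical_eq_sInf]
    refine le_sInf fun P hP => ?_
    obtain ⟨Q, hQ⟩ := h (⟨P, hP⟩ : PrimeSpectrum (D ⊗[A] D))
    intro x hx
    have : x ∈ (PrimeSpectrum.comap (Algebra.TensorProduct.lmul' A : D ⊗[A] D →ₐ[A] D).toRingHom Q).asIdeal := by
      show (Algebra.TensorProduct.lmul' A) x ∈ (Q : PrimeSpectrum D).asIdeal
      rw [RingHom.mem_ker.1 hx]
      exact Submodule.zero_mem _
    rwa [show PrimeSpectrum.comap (Algebra.TensorProduct.lmul' A : D ⊗[A] D →ₐ[A] D).toRingHom Q = ⟨P, hP⟩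
      from hQ] at this
  · intro h P
    have hr := range_comap_of_surjective _
      (Algebra.TensorProduct.lmul' A : D ⊗[A] D →ₐ[A] D).toRingHom hsurj
    have hP : (P : PrimeSpectrum (D ⊗[A] D)) ∈ PrimeSpectrum.zeroLocus
        (RingHom.ker (Algebra.TensorProduct.lmul' A : D ⊗[A] D →ₐ[A] D).toRingHom : Set (D ⊗[A] D)) :=
      fun x hx => nilradical_le_prime (P : PrimeSpectrum (D ⊗[A] D)).asIdeal (h hx)
    rw [← hr] at hP
    exact hP

variable {A D}

/-- Elements with nilpotent `d ⊗ 1 - 1 ⊗ d` form a subalgebra. -/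
noncomputable def radicialSubalgebra (A D : Type u) [CommRing A] [CommRing D] [Algebra A D] :
    Subalgebra A D where
  carrier := {d | IsNilpotent (d ⊗ₜ[A] (1 : D) - (1 : D) ⊗ₜ[A] d)}
  mul_mem' {a b} ha hb := by
    show IsNilpotent _
    have e : (a * b) ⊗ₜ[A] (1 : D) - (1 : D) ⊗ₜ[A] (a * b) =
        (a ⊗ₜ[A] (1 : D) - (1 : D) ⊗ₜ[A] a) * (b ⊗ₜ[A] (1 : D)) +
          ((1 : D) ⊗ₜ[A] a) * (b ⊗ₜ[A] (1 : D) - (1 : D) ⊗ₜ[A] b) := by
      simp only [sub_mul, mul_sub, Algebra.TensorProduct.tmul_mul_tmul, one_mul, mul_one]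
      abel
    rw [e]
    exact (Commute.all _ _).isNilpotent_add ((Commute.all _ _).isNilpotent_mul_right ha)
      ((Commute.all _ _).isNilpotent_mul_left hb)
  add_mem' {a b} ha hb := by
    show IsNilpotent _
    rw [TensorProduct.add_tmul, TensorProduct.tmul_add, add_sub_add_comm]
    exact (Commute.all _ _).isNilpotent_add ha hb
  algebraMap_mem' a := by
    show IsNilpotent _
    rw [Algebra.algebraMap_eq_smul_one, TensorProduct.smul_tmul, sub_self]
    exact IsNilpotent.zero

theorem ker_lmul_le_of_forall (h : ∀ d : D, IsNilpotent (d ⊗ₜ[A] (1 : D) - (1 : D) ⊗ₜ[A] d)) :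
    RingHom.ker (Algebra.TensorProduct.lmul' A : D ⊗[A] D →ₐ[A] D) ≤ nilradical (D ⊗[A] D) := by
  intro z hz
  have key : ∀ z : D ⊗[A] D, z - (Algebra.TensorProduct.lmul' A z) ⊗ₜ[A] (1 : D) ∈ nilradical (D ⊗[A] D) := by
    intro z
    induction z using TensorProduct.induction_on with
    | zero => simp
    | tmul a b =>
      rw [Algebra.TensorProduct.lmul'_apply_tmul,
        show a ⊗ₜ[A] b - (a * b) ⊗ₜ[A] (1 : D) = (a ⊗ₜ[A] (1 : D)) * (-(b ⊗ₜ[A] (1 : D) - (1 : D) ⊗ₜ[A] b)) by
          simp [mul_sub]]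
      exact Ideal.mul_mem_left _ _ ((h b).neg)
    | add p q hp hq =>
      rw [map_add, TensorProduct.add_tmul, add_sub_add_comm]
      exact Ideal.add_mem _ hp hq
  have := key z
  rwa [show Algebra.TensorProduct.lmul' A z = 0 from RingHom.mem_ker.1 hz, TensorProduct.zero_tmul, sub_zero] at this

end Groth.Agent.DescLib
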